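import Groth.Agent.Lib.EtSite.FppfSource
import Groth.Agent.Lib.SourceDescent.Scheme
import Mathlib.RingTheory.RingHom.FinitePresentation
import Mathlib.RingTheory.RingHom.Smooth

/-!
# Descent along fppf morphisms on the source
-/

universe u

open CategoryTheory CategoryTheory.Limits AlgebraicGeometry MorphismProperty

namespace Groth.Agent.Lib.EtSite.FppfSourceScheme

theorem of_comp_fppf_surjective {P : MorphismProperty Scheme.{u}}
    {Q : ∀ {R S : Type u} [CommRing R] [CommRing S], (R →+* S) → Prop}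
    [HasRingHomProperty P Q] (hQ : ∀ ⦃R S T : Type u⦄ [CommRing R] [CommRing S] [CommRing T] (f : R →+* S) (g : S →+* T),
      g.FaithfullyFlat → g.FinitePresentation → Q (g.comp f) → Q f)
    (hcomp : ∀ {X Y Z : Scheme.{u}} (f : X ⟶ Y) (g : Y ⟶ Z), Etale f → P g → P (f ≫ g))
    {X X' Y : Scheme.{u}} (e : X' ⟶ X) (f : X ⟶ Y) [Flat e] [LocallyOfFinitePresentation e] [Surjective e] (h : P (e ≫ f)) :
    P f := by
  rw [HasRingHomProperty.iff_appLE (P := P)]
  intro U V i
  -- an affine scheme, etale surjective over `V`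
  obtain ⟨T, t, _, ⟨_, _⟩, _, hT⟩ : ∃ (T : Scheme.{u}) (t : T ⟶ (V : X.Opens)) (_ : IsAffine T)
      (_ : Flat t ∧ LocallyOfFinitePresentation t) (_ : Surjective t), P (t ≫ (V : X.Opens).ι ≫ f) := by
    let e' := e ∣_ (V : X.Opens)
    have : Flat e' := IsZariskiLocalAtTarget.restrict ‹Flat e› _
    have : LocallyOfFinitePresentation e' := IsZariskiLocalAtTarget.restrict ‹LocallyOfFinitePresentation e› _
    have : Surjective e' := IsZariskiLocalAtTarget.restrict ‹Surjective e› _
    have hopen : IsOpenMap e' := e'.isOpenMap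
    -- finitely many affine opens of the preimage cover `V`
    let W := (e ⁻¹ᵁ (V : X.Opens) : Scheme.{u})
    have hV : IsCompact (Set.univ : Set ↥((V : X.Opens) : Scheme.{u})) := by
      have : IsAffine (V : X.Opens) := V.2
      exact isCompact_univ
    obtain ⟨s, hs⟩ := hV.elim_finite_subcover (fun w : W.affineOpens ↦ e' '' (w : W.Opens))
      (fun w ↦ hopen _ w.1.2) (by
        intro v _
        obtain ⟨x, rfl⟩ := e'.surjective v
        obtain ⟨_, ⟨w, hw, rfl⟩, hx, -⟩ :=
          W.isBasis_affineOpens.exists_subset_of_mem_open (Set.mem_univ x) isOpen_univ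
        exact Set.mem_iUnion.mpr ⟨⟨w, hw⟩, x, hx, rfl⟩)
    let T₀ : Scheme.{u} := ∐ fun w : s ↦ ((w.1 : W.Opens) : Scheme.{u})
    let t₀ : T₀ ⟶ W := Sigma.desc fun w ↦ (w.1 : W.Opens).ι
    have hw : ∀ w : s, IsAffine ((w.1 : W.Opens) : Scheme.{u}) := fun w ↦ w.1.2
    have hr : HasRingHomProperty (@Etale : MorphismProperty Scheme.{u}) RingHom.Etale :=
      inferInstance
    have : IsZariskiLocalAtSource (@Etale : MorphismProperty Scheme.{u}) :=
      @HasRingHomProperty.instIsZariskiLocalAtSource _ _ hr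
    have : Etale t₀ := IsZariskiLocalAtSource.sigmaDesc (P := @Etale) fun w ↦ inferInstance
    refine ⟨T₀, t₀ ≫ e', inferInstance, ⟨inferInstance, inferInstance⟩, ⟨fun v ↦ ?_⟩, ?_⟩
    · obtain ⟨w, hws, x, hx, rfl⟩ := Set.mem_iUnion₂.mp (hs (Set.mem_univ v))
      refine ⟨Sigma.ι (fun w : s ↦ ((w.1 : W.Opens) : Scheme.{u})) ⟨w, hws⟩ ⟨x, hx⟩, ?_⟩
      have key : Sigma.ι (fun w : s ↦ ((w.1 : W.Opens) : Scheme.{u})) ⟨w, hws⟩ ≫ t₀ ≫ e' =
          (w : W.Opens).ι ≫ e' := by simp [t₀]
      exact congr($key ⟨x, hx⟩)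
    · have := hcomp (t₀ ≫ (e ⁻¹ᵁ (V : X.Opens)).ι) (e ≫ f) inferInstance h
      simpa [e', morphismRestrict_ι_assoc] using this
  have : IsAffine (V : X.Opens) := V.2
  have : IsAffine (U : Y.Opens) := U.2
  have hT' : P (t ≫ f.resLE U V i) := by
    have sq : IsPullback (𝟙 T) (t ≫ f.resLE U V i) ((t ≫ f.resLE U V i) ≫ (U : Y.Opens).ι)
        (U : Y.Opens).ι :=
      ⟨⟨by simp⟩, ⟨PullbackCone.IsLimit.mk _ (fun s ↦ s.fst) (fun s ↦ by simp)
        (fun s ↦ by
          refine (cancel_mono (U : Y.Opens).ι).mp ?_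
          simpa only [Category.assoc] using s.condition)
        (fun s m h₁ _ ↦ by simpa using h₁)⟩⟩
    refine IsZariskiLocalAtTarget.of_isPullback sq ?_
    rwa [Category.assoc, Scheme.Hom.resLE_comp_ι]
  have hq : P (f.resLE U V i) := by
    rw [HasRingHomProperty.iff_of_isAffine (P := P)] at hT' ⊢
    rw [Scheme.Hom.comp_appTop, CommRingCat.hom_comp] at hT'
    refine hQ _ t.appTop.hom ?_ ?_ hT'
    · exact (Flat.flat_and_surjective_iff_faithfullyFlat_of_isAffine (f := t)).mp ⟨inferInstance, inferInstance⟩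
    · exact HasRingHomProperty.appTop @LocallyOfFinitePresentation t inferInstance
  have hiso := (HasRingHomProperty.isLocal_ringHomProperty P).respectsIso
  rw [HasRingHomProperty.iff_of_isAffine (P := P), Scheme.Hom.appTop, Scheme.Hom.resLE_app_top,
    CommRingCat.hom_comp, hiso.cancel_left_isIso, CommRingCat.hom_comp,
    hiso.cancel_right_isIso] at hq
  exact hq

theorem finitePresentation_descent ⦃R S T : Type u⦄ [CommRing R] [CommRing S] [CommRing T]
    (f : R →+* S) (g : S →+* T) (hg : g.FaithfullyFlat) (hg' : g.FinitePresentation)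
    (h : (g.comp f).FinitePresentation) : f.FinitePresentation := by
  algebraize [f, g, g.comp f]
  exact FppfSource.finitePresentation_of_comp R S T

theorem locallyOfFinitePresentation {X Y S : Scheme.{u}} (f : X ⟶ Y) (q : Y ⟶ S) [Surjective f] [Flat f]
    [LocallyOfFinitePresentation f] [LocallyOfFinitePresentation (f ≫ q)] :
    LocallyOfFinitePresentation q :=
  of_comp_fppf_surjective (P := @LocallyOfFinitePresentation) (fun _ _ _ _ _ _ f g => finitePresentation_descent f g)
    (fun f g hf hg => by have := hf; have := hg; infer_instance) f q inferInstance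

end Groth.Agent.Lib.EtSite.FppfSourceScheme
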