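import Mathlib.AlgebraicGeometry.Morphisms.FlatDescent
import Mathlib.AlgebraicGeometry.Morphisms.QuasiFinite
import Mathlib.RingTheory.Finiteness.Descent

/-!
# Local quasi-finiteness descends along faithfully flat quasi-compact morphisms
-/

universe u

open CategoryTheory CategoryTheory.Limits AlgebraicGeometry TensorProduct

namespace Groth.Agent.Lib.EtSite.QuasiFiniteDescent

theorem of_quasiFinite_tensorProduct {R S : Type u} [CommRing R] [CommRing S] [Algebra R S]
    (T : Type u) [CommRing T] [Algebra R T] [Module.FaithfullyFlat R T]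
    [Algebra.QuasiFinite T (T ⊗[R] S)] : Algebra.QuasiFinite R S := by
  refine ⟨fun P _ => ?_⟩
  obtain ⟨⟨Q, hQ⟩, hQP⟩ := PrimeSpectrum.comap_surjective_of_faithfullyFlat (A := R) (B := T)
    ⟨P, inferInstance⟩
  have : Q.LiesOver P := ⟨(congrArg PrimeSpectrum.asIdeal hQP).symm⟩
  let := Localization.AtPrime.algebraOfLiesOver P Q
  let e : Q.Fiber (T ⊗[R] S) ≃ₐ[Q.ResidueField] Q.ResidueField ⊗[P.ResidueField] (P.Fiber S) :=
    (Algebra.TensorProduct.cancelBaseChange _ _ _ _ _).trans
      (Algebra.TensorProduct.cancelBaseChange _ _ _ _ _).symm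
  have : Module.Finite Q.ResidueField (Q.ResidueField ⊗[P.ResidueField] (P.Fiber S)) :=
    .of_surjective e.toLinearMap e.surjective
  exact Module.Finite.of_finite_tensorProduct_of_faithfullyFlat Q.ResidueField

theorem codescendsAlong_faithfullyFlat :
    RingHom.CodescendsAlong RingHom.QuasiFinite RingHom.FaithfullyFlat := by
  refine .mk _ RingHom.QuasiFinite.respectsIso fun R S T _ _ _ _ _ h h' => ?_
  rw [RingHom.quasiFinite_algebraMap] at h' ⊢
  rw [RingHom.faithfullyFlat_algebraMap_iff] at h
  exact of_quasiFinite_tensorProduct S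

theorem descendsAlong_locallyQuasiFinite :
    MorphismProperty.DescendsAlong @LocallyQuasiFinite.{u} (@Surjective ⊓ @Flat ⊓ @QuasiCompact) :=
  have : MorphismProperty.IsStableUnderBaseChange @LocallyQuasiFinite.{u} :=
    HasRingHomProperty.isStableUnderBaseChange RingHom.QuasiFinite.isStableUnderBaseChange
  HasRingHomProperty.descendsAlong_flat codescendsAlong_faithfullyFlat

end Groth.Agent.Lib.EtSite.QuasiFiniteDescent
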