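import Groth.Agent.Lib.EtSite.FppfSourceScheme
import Groth.Agent.Lib.JacCrit.GeomRegular
import Groth.Agent.Lib.Flat55.FlatDescend
import Groth.Agent.S9406
import Mathlib.RingTheory.Smooth.Fiber

/-!
# Smoothness descends along fppf morphisms on the source
-/

universe u

open CategoryTheory CategoryTheory.Limits AlgebraicGeometry
open scoped TensorProduct

namespace Groth.Agent.Lib.EtSite.FppfSourceSmooth

attribute [local instance] Algebra.TensorProduct.rightAlgebra in
theorem isRegularRing_baseChange (R S T k : Type u) [CommRing R] [CommRing S] [CommRing T] [Field k]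
    [Algebra R S] [Algebra S T] [Algebra R T] [IsScalarTower R S T] [Algebra R k]
    [Module.FaithfullyFlat S T] [Algebra.Smooth R T] : IsRegularRing (k ⊗[R] S) := by
  let D := k ⊗[R] S
  let E := D ⊗[S] T
  let _ : Algebra k E := inferInstance
  let _ : Algebra R E := inferInstance
  have : IsScalarTower R k E := inferInstance
  have : IsScalarTower R T E := .of_algebraMap_eq fun r => by
    show (algebraMap R D r) ⊗ₜ[S] (1 : T) = (1 : D) ⊗ₜ[S] (algebraMap R T r)
    rw [IsScalarTower.algebraMap_apply R S D, IsScalarTower.algebraMap_apply R S T,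
      Algebra.algebraMap_eq_smul_one, TensorProduct.smul_tmul, ← Algebra.algebraMap_eq_smul_one]
  have hp : Algebra.IsPushout R T k E :=
    (Algebra.IsPushout.comp_iff (R := R) (S := S) (R' := k) (S' := D) (T := T) (T' := E)).2 inferInstance
  have : Algebra.IsPushout R k T E := hp.symm
  have : Algebra.Smooth k E :=
    Algebra.Smooth.of_equiv (Algebra.IsPushout.equiv R k T E)
  have : Algebra.FiniteType k E := inferInstance
  have h := (Groth.Agent.Lib.JacCrit.GeomRegular.smooth_iff_isGeometricallyRegular (F := E) k).1 ‹_› k inferInstance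
  have : IsRegularRing E := IsRegularRing.of_ringEquiv (R := k ⊗[k] E) (Algebra.TensorProduct.lid k E).toRingEquiv
  exact Groth.Agent.S9406.result D E

theorem smooth_of_comp (R S T : Type u) [CommRing R] [CommRing S] [CommRing T]
    [Algebra R S] [Algebra S T] [Algebra R T] [IsScalarTower R S T]
    [Module.FaithfullyFlat S T] [Algebra.FinitePresentation S T] [Algebra.Smooth R T] :
    Algebra.Smooth R S := by
  have : Algebra.FinitePresentation R S := FppfSource.finitePresentation_of_comp R S T
  have : Module.Flat R S := Groth.Agent.Lib.Flat55.FlatDescend.module_flat_of_tower R S T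
  refine Algebra.Smooth.of_formallySmooth_fiber fun p _ => ?_
  have hg : CAlg.IsGeometricallyRegular p.ResidueField (p.Fiber S) := fun k' _ _ _ => by
    let _ : Algebra R k' := ((algebraMap p.ResidueField k').comp (algebraMap R p.ResidueField)).toAlgebra
    have : IsScalarTower R p.ResidueField k' := .of_algebraMap_eq' rfl
    have := isRegularRing_baseChange R S T k'
    exact IsRegularRing.of_ringEquiv (R := k' ⊗[R] S)
      (Algebra.TensorProduct.cancelBaseChange R p.ResidueField k' k' S).symm.toRingEquiv
  have h := (Groth.Agent.Lib.JacCrit.GeomRegular.smooth_iff_isGeometricallyRegular p.ResidueField).2 hg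
  exact h.formallySmooth

theorem smooth_descent ⦃R S T : Type u⦄ [CommRing R] [CommRing S] [CommRing T]
    (f : R →+* S) (g : S →+* T) (hg : g.FaithfullyFlat) (hg' : g.FinitePresentation)
    (h : (g.comp f).Smooth) : f.Smooth := by
  algebraize [f, g, g.comp f]
  exact smooth_of_comp R S T

theorem smooth {X Y S : Scheme.{u}} (f : X ⟶ Y) (q : Y ⟶ S) [Surjective f] [Flat f]
    [LocallyOfFinitePresentation f] [Smooth (f ≫ q)] : Smooth q :=
  FppfSourceScheme.of_comp_fppf_surjective (P := @Smooth) (fun _ _ _ _ _ _ f g => smooth_descent f g)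
    (fun f g hf hg => by have := hf; have := hg; infer_instance) f q inferInstance

end Groth.Agent.Lib.EtSite.FppfSourceSmooth
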