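import Groth.Agent.Lib.EtSite.Pull
import Mathlib.AlgebraicGeometry.Morphisms.QuasiFinite
import Mathlib.AlgebraicGeometry.Morphisms.Integral
import Mathlib.RingTheory.Unramified.LocalStructure

/-!
# Small étale site: sections over field points, extensions of separably closed fields
-/

universe u

open CategoryTheory CategoryTheory.Limits AlgebraicGeometry Opposite

namespace Groth.Agent.Lib.EtSite.FieldExt

open Groth.Agent.Lib.EtSite.Basic

/-- A field point through the image point of a section factors through that section. -/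
theorem eq_comp_section {Ω : Type u} [Field Ω] {P : Scheme.{u}} {h : P ⟶ Spec (CommRingCat.of Ω)}
    {s : Spec (CommRingCat.of Ω) ⟶ P} (hs : s ≫ h = 𝟙 _) {Ω' : Type u} [Field Ω']
    (l : Spec (CommRingCat.of Ω') ⟶ P) (hl : l.base default = s.base default) :
    l = (l ≫ h) ≫ s := by
  set z := s.base default
  obtain ⟨⟨z₁, a⟩, rfl⟩ := (Scheme.SpecToEquivOfField Ω P).symm.surjective s
  obtain ⟨⟨z₂, b⟩, rfl⟩ := (Scheme.SpecToEquivOfField Ω' P).symm.surjective l
  simp only [Scheme.SpecToEquivOfField, Equiv.coe_fn_symm_mk, Scheme.Hom.comp_apply,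
    Scheme.fromSpecResidueField_apply] at hl hs ⊢
  have hz : z = z₁ := by simp [z, Scheme.SpecToEquivOfField]
  obtain rfl : z₂ = z₁ := hl.trans hz
  obtain ⟨κ, hκ⟩ := Spec.map_surjective (P.fromSpecResidueField z₂ ≫ h)
  rw [Category.assoc, ← hκ, ← Spec.map_comp, ← Spec.map_id] at hs
  have hκa := Spec.map_injective hs
  have hbij : Function.Bijective κ.hom := by
    refine ⟨κ.hom.injective, fun x => ⟨a.hom x, a.hom.injective ?_⟩⟩
    exact congrArg (fun m : CommRingCat.of Ω ⟶ CommRingCat.of Ω => m.hom (a.hom x)) hκa
  have hκiso : IsIso κ := (ConcreteCategory.isIso_iff_bijective κ).2 hbij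
  have hb : a ≫ κ ≫ b = b := by
    rw [← Category.assoc, ← cancel_epi κ, ← Category.assoc, ← Category.assoc, hκa, Category.id_comp]
  conv_lhs => rw [← hb]
  rw [Spec.map_comp, Spec.map_comp, Category.assoc, Category.assoc, Category.assoc]
  rw [reassoc_of% hκ]
  simp only [Category.assoc]

/-- An integral scheme over an algebraically closed field has a section through every point. -/
theorem exists_section_of_isIntegralHom {Ω : Type u} [Field Ω] [IsAlgClosed Ω] {P : Scheme.{u}}
    (h : P ⟶ Spec (CommRingCat.of Ω)) [IsIntegralHom h] (z : P) :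
    ∃ s : Spec (CommRingCat.of Ω) ⟶ P, s ≫ h = 𝟙 _ ∧ s.base default = z := by
  have : IsAffine P := isAffine_of_isAffineHom h
  obtain ⟨κ, hκ⟩ := Spec.map_surjective (P.isoSpec.inv ≫ h)
  have hint : κ.hom.IsIntegral := IsIntegralHom.SpecMap_iff.1 (hκ ▸ inferInstance)
  let q : PrimeSpectrum Γ(P, ⊤) := P.isoSpec.hom.base z
  let D := Γ(P, ⊤) ⧸ q.asIdeal
  algebraize [κ.hom]
  have : Algebra.IsIntegral Ω D :=
    Algebra.IsIntegral.of_surjective (Ideal.Quotient.mkₐ Ω q.asIdeal) Ideal.Quotient.mk_surjective
  have hbij : Function.Bijective (algebraMap Ω D) := IsAlgClosed.algebraMap_bijective_of_isIntegral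
  let e := (RingEquiv.ofBijective _ hbij).symm
  let σ : Γ(P, ⊤) ⟶ CommRingCat.of Ω :=
    CommRingCat.ofHom (e.toRingHom.comp (Ideal.Quotient.mk q.asIdeal))
  refine ⟨Spec.map σ ≫ P.isoSpec.inv, ?_, ?_⟩
  · rw [Category.assoc, ← hκ, ← Spec.map_comp, ← Spec.map_id]
    congr 1
    ext x
    exact (RingEquiv.ofBijective _ hbij).symm_apply_apply x
  · rw [Scheme.Hom.comp_apply]
    have : (Spec.map σ).base default = P.isoSpec.hom.base z := by
      refine PrimeSpectrum.ext (Ideal.ext fun x => ?_)
      rw [show (Spec.map σ).base default = PrimeSpectrum.comap σ.hom (⊥ : PrimeSpectrum Ω) from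
        congrArg _ (Subsingleton.elim _ _), PrimeSpectrum.comap_asIdeal, Ideal.mem_comap]
      change e (Ideal.Quotient.mk q.asIdeal x) ∈ (⊥ : Ideal Ω) ↔ x ∈ q.asIdeal
      rw [Ideal.mem_bot, map_eq_zero_iff e e.injective, Ideal.Quotient.eq_zero_iff_mem]
    rw [this, ← Scheme.Hom.comp_apply, P.isoSpec.hom_inv_id]
    rfl

theorem locallyQuasiFinite_of_etale {X Y : Scheme.{u}} (f : X ⟶ Y) [Etale f] : LocallyQuasiFinite f := by
  have h := ‹Etale f›
  rw [HasRingHomProperty.eq_affineLocally @Etale] at h
  rw [HasRingHomProperty.eq_affineLocally @LocallyQuasiFinite]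
  have key : ∀ {R S : Type u} [CommRing R] [CommRing S] (φ : R →+* S), φ.Etale → φ.QuasiFinite := by
    intro R S _ _ φ hφ
    algebraize [φ]
    exact (inferInstance : Algebra.QuasiFinite R S)
  intro U V
  exact key _ (h U V)

/-- Schemes quasi-finite over a field are discrete. -/
theorem discreteTopology_of_locallyQuasiFinite {Ω : Type u} [Field Ω] {P : Scheme.{u}}
    (h : P ⟶ Spec (CommRingCat.of Ω)) [LocallyQuasiFinite h] : DiscreteTopology P := by
  have : IsLocallyArtinian (Spec (CommRingCat.of Ω)) :=
    Scheme.isLocallyArtinianScheme_Spec.2 inferInstance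
  have := IsLocallyArtinian.of_locallyQuasiFinite h
  exact IsLocallyArtinian.discreteTopology

section

variable {X : Scheme.{u}} {Ω : Type u} [Field Ω] [IsSepClosed Ω] (ξ : Spec (CommRingCat.of Ω) ⟶ X)
  (Ω' : Type u) [Field Ω'] [IsSepClosed Ω'] [Algebra Ω Ω']

/-- The geometric point obtained by extending the separably closed field. -/
noncomputable abbrev extPoint : Spec (CommRingCat.of Ω') ⟶ X :=
  Spec.map (CommRingCat.ofHom (algebraMap Ω Ω')) ≫ ξ

/-- Extending the field does not change the fibres of étale schemes. -/
noncomputable def fiberExtIso :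
    (Scheme.pointSmallEtale ξ).fiber ≅ (Scheme.pointSmallEtale (extPoint ξ Ω')).fiber :=
  NatIso.ofComponents (fun U =>
    (Equiv.ofBijective
      (fun p => mkFiber (extPoint ξ Ω') U
        (Spec.map (CommRingCat.ofHom (algebraMap Ω Ω')) ≫ fiberHom p)
        (by rw [Category.assoc]; exact congrArg (_ ≫ ·) (fiberHom_comp p)))
      ⟨fun p q hpq => by
        have h : Spec.map (CommRingCat.ofHom (algebraMap Ω Ω')) ≫ fiberHom p =
            Spec.map (CommRingCat.ofHom (algebraMap Ω Ω')) ≫ fiberHom q :=
          congrArg (fun m => fiberHom m) hpq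
        have : Etale U.hom := U.prop
        let sp : Spec (CommRingCat.of Ω) ⟶ pullback U.hom ξ :=
          pullback.lift (fiberHom p) (𝟙 _) (by rw [Category.id_comp]; exact fiberHom_comp p)
        let sq : Spec (CommRingCat.of Ω) ⟶ pullback U.hom ξ :=
          pullback.lift (fiberHom q) (𝟙 _) (by rw [Category.id_comp]; exact fiberHom_comp q)
        have hpt : sp.base default = sq.base default := by
          have h' : Spec.map (CommRingCat.ofHom (algebraMap Ω Ω')) ≫ sp =
              Spec.map (CommRingCat.ofHom (algebraMap Ω Ω')) ≫ sq := by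
            apply pullback.hom_ext
            · simp only [Category.assoc]
              erw [pullback.lift_fst, pullback.lift_fst]
              exact h
            · simp only [Category.assoc]
              erw [pullback.lift_snd, pullback.lift_snd]
          have h2 := congrArg (fun m => m.base default) h'
          simp only [Scheme.Hom.comp_apply] at h2
          rwa [Subsingleton.elim ((Spec.map (CommRingCat.ofHom (algebraMap Ω Ω'))).base default)
            default] at h2
        have h3 := eq_comp_section (h := pullback.snd U.hom ξ) (s := sq) (pullback.lift_snd _ _ _) sp hpt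
        rw [pullback.lift_snd, Category.id_comp] at h3
        apply Over.OverMorphism.ext
        have h4 := congrArg (· ≫ pullback.fst U.hom ξ) h3
        simp only [sp, sq, pullback.lift_fst] at h4
        exact h4,
      fun p' => by
        have : Etale U.hom := U.prop
        let l : Spec (CommRingCat.of Ω') ⟶ pullback U.hom ξ :=
          pullback.lift (fiberHom p') (Spec.map (CommRingCat.ofHom (algebraMap Ω Ω')))
            (fiberHom_comp p')
        obtain ⟨s, hs, hs'⟩ := Scheme.exists_fac_of_etale_of_isSepClosed (pullback.snd U.hom ξ)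
          (𝟙 (Spec (CommRingCat.of Ω))) (l.base default) (Subsingleton.elim _ _)
        have h3 := eq_comp_section hs l hs'.symm
        refine ⟨mkFiber ξ U (s ≫ pullback.fst _ _) (by
          rw [Category.assoc, pullback.condition, reassoc_of% hs]), Over.OverMorphism.ext ?_⟩
        have h4 := congrArg (· ≫ pullback.fst U.hom ξ) h3
        simp only [l, pullback.lift_fst, pullback.lift_snd, Category.assoc] at h4
        exact h4.symm⟩).toIso)
    (fun {U V} g => by
      ext p
      apply Over.OverMorphism.ext
      exact (Category.assoc _ _ _).symm)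

variable (A : Type (u + 2)) [Category.{u + 1} A] [HasProducts.{u} A] [HasColimitsOfSize.{u, u} A]

/-- Extending the field does not change the stalks. -/
noncomputable def sheafFiberExtIso :
    (Scheme.pointSmallEtale ξ).sheafFiber (A := A) ≅
      (Scheme.pointSmallEtale (extPoint ξ Ω')).sheafFiber :=
  Adjunction.leftAdjointUniq (Scheme.pointSmallEtale ξ).skyscraperSheafAdjunction
    ((Scheme.pointSmallEtale (extPoint ξ Ω')).skyscraperSheafAdjunction.ofNatIsoRight
      (NatIso.ofComponents (fun M => (fullyFaithfulSheafToPresheaf _ _).preimageIso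
          (Functor.isoWhiskerRight (NatIso.op (fiberExtIso ξ Ω'))
            (piFunctor.{u}.obj M)))
        (fun {M N} g => by
          ext : 1
          ext V : 2
          exact ((piFunctor.{u}.map g).naturality ((fiberExtIso ξ Ω').hom.app V.unop).op).symm)))

end

end Groth.Agent.Lib.EtSite.FieldExt
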