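import Groth.Agent.Lib.Henselian.Etale
import Mathlib.RingTheory.Etale.Field
import Mathlib.RingTheory.Spectrum.Prime.Topology
import Mathlib.FieldTheory.IsSepClosed
import Mathlib.RingTheory.KrullDimension.Zero
import Mathlib.RingTheory.LocalRing.ResidueField.Ideal

/-!
# Sections of étale algebras over zero-dimensional rings with separably closed residue fields
-/

universe u

open TensorProduct

namespace Groth.Agent.Lib.EtSite.ZeroDim

attribute [local instance] Localization.AtPrime.algebraOfLiesOver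

/-- Homomorphisms from a finitely presented algebra to `S/J` lift to `S/J'` for some finitely
generated `J' ≤ J`. -/
theorem exists_fg_lift {S : Type u} [CommRing S] {C : Type u} [CommRing C] [Algebra S C]
    [Algebra.FinitePresentation S C] (J : Ideal S) (h : C →ₐ[S] S ⧸ J) :
    ∃ (J' : Ideal S), J'.FG ∧ J' ≤ J ∧ Nonempty (C →ₐ[S] S ⧸ J') := by
  classical
  obtain ⟨n, π, hπ, hker⟩ := Algebra.FinitePresentation.out (R := S) (A := C)
  choose v hv using fun j => Ideal.Quotient.mk_surjective (h (π (MvPolynomial.X j)))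
  have key : ∀ p : MvPolynomial (Fin n) S,
      Ideal.Quotient.mk J (MvPolynomial.eval v p) = h (π p) := fun p => by
    have e : (Ideal.Quotient.mkₐ S J).comp (MvPolynomial.aeval v) = h.comp π :=
      MvPolynomial.algHom_ext fun j => by simp [hv]
    simpa [MvPolynomial.aeval_def] using AlgHom.congr_fun e p
  obtain ⟨s, hs⟩ := hker
  refine ⟨Ideal.span ((MvPolynomial.eval v) '' (s : Set (MvPolynomial (Fin n) S))),
    Submodule.fg_span (s.finite_toSet.image _), ?_, ?_⟩
  · rw [Ideal.span_le]
    rintro _ ⟨p, hp, rfl⟩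
    have hp' : π p = 0 := RingHom.mem_ker.1 (hs.le (Submodule.subset_span hp))
    rw [SetLike.mem_coe, ← Ideal.Quotient.eq_zero_iff_mem, key, hp', map_zero]
  · set J' := Ideal.span ((MvPolynomial.eval v) '' (s : Set (MvPolynomial (Fin n) S)))
    let e := Ideal.quotientKerAlgEquivOfSurjective hπ
    refine ⟨(Ideal.Quotient.liftₐ _ ((Ideal.Quotient.mkₐ S J').comp (MvPolynomial.aeval v))
      ?_).comp e.symm.toAlgHom⟩
    intro p hp
    have hle : RingHom.ker π.toRingHom ≤
        RingHom.ker ((Ideal.Quotient.mkₐ S J').comp (MvPolynomial.aeval v)).toRingHom := by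
      rw [← hs, Ideal.span_le]
      intro q hq
      rw [SetLike.mem_coe, RingHom.mem_ker]
      have : MvPolynomial.eval v q ∈ J' := Ideal.subset_span ⟨q, hq, rfl⟩
      simpa [MvPolynomial.aeval_def, Ideal.Quotient.eq_zero_iff_mem] using this
    exact hle hp

theorem eq_maximalIdeal_atPrime {S : Type u} [CommRing S] [Ring.KrullDimLE 0 S] (q : Ideal S)
    [q.IsPrime] (P : Ideal (Localization.AtPrime q)) (hP : P.IsPrime) :
    P = IsLocalRing.maximalIdeal (Localization.AtPrime q) := by
  have h := (IsLocalization.isPrime_iff_isPrime_disjoint q.primeCompl _ P).1 hP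
  have := h.1
  have hmax : (P.comap (algebraMap S (Localization.AtPrime q))).IsMaximal :=
    Ideal.IsPrime.isMaximal' this
  have heq : P.comap (algebraMap S (Localization.AtPrime q)) = q :=
    hmax.eq_of_le Ideal.IsPrime.ne_top' fun x hx => by
      by_contra hxq
      exact Set.disjoint_left.1 h.2 hxq hx
  rw [← Localization.AtPrime.map_eq_maximalIdeal]
  exact (IsLocalization.map_comap q.primeCompl _ P).symm.trans
    (congrArg (Ideal.map (algebraMap S (Localization.AtPrime q))) heq)

theorem isNilpotent_atPrime {S : Type u} [CommRing S] [Ring.KrullDimLE 0 S] (q : Ideal S)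
    [q.IsPrime] {x : Localization.AtPrime q} (hx : x ∈ IsLocalRing.maximalIdeal _) :
    IsNilpotent x := by
  rw [← mem_nilradical, nilradical_eq_sInf, Submodule.mem_sInf]
  intro P hP
  rwa [eq_maximalIdeal_atPrime q P hP]

/-- In a zero-dimensional ring every basic open is cut out by an idempotent divisible by the element. -/
theorem exists_idempotent {S : Type u} [CommRing S] [Ring.KrullDimLE 0 S] (f : S) :
    ∃ e : S, IsIdempotentElem e ∧ f ∣ e ∧ ∀ q : Ideal S, q.IsPrime → f ∉ q → e ∉ q := by
  let K : Ideal S := ⨆ n : ℕ, (Submodule.torsionBy S S (f ^ n))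
  have hK : ∀ x, x ∈ K → ∃ n : ℕ, f ^ n * x = 0 := fun x hx => by
    induction hx using Submodule.iSup_induction' with
    | mem n x hx => exact ⟨n, by simpa using hx⟩
    | zero => exact ⟨0, mul_zero _⟩
    | add x y _ _ hx hy =>
      obtain ⟨a, ha⟩ := hx
      obtain ⟨b, hb⟩ := hy
      exact ⟨a + b, by rw [pow_add]; linear_combination f ^ b * ha + f ^ a * hb⟩
  have htop : Ideal.span {f} ⊔ K = ⊤ := by
    by_contra hne
    obtain ⟨q, hq, hle⟩ := Ideal.exists_le_maximal _ hne
    have hf : f ∈ q := hle (Ideal.mem_sup_left (Ideal.mem_span_singleton_self f))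
    obtain ⟨n, hn⟩ := isNilpotent_atPrime q (x := algebraMap S _ f) (by
      rw [← Localization.AtPrime.map_eq_maximalIdeal]; exact Ideal.mem_map_of_mem _ hf)
    rw [← map_pow, IsLocalization.map_eq_zero_iff q.primeCompl] at hn
    obtain ⟨s, hs⟩ := hn
    refine s.2 (hle (Ideal.mem_sup_right (Submodule.mem_iSup_of_mem n ?_)))
    rw [Submodule.mem_torsionBy_iff, smul_eq_mul, mul_comm]
    exact hs
  obtain ⟨y, hy, x, hx, hxy⟩ := Submodule.mem_sup.1 ((Ideal.eq_top_iff_one _).1 htop)
  obtain ⟨a, rfl⟩ := Ideal.mem_span_singleton.1 hy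
  obtain ⟨n, hn⟩ := hK x hx
  have hn1 : f ^ (n + 1) * x = 0 := by rw [pow_succ]; linear_combination f * hn
  set m := n + 1 with hm
  have h1 : f ^ m = f ^ (m + 1) * a := by linear_combination hn1 - f ^ m * hxy
  have h2 : ∀ k : ℕ, f ^ m = f ^ (m + k) * a ^ k := by
    intro k
    induction k with
    | zero => simp
    | succ k ih =>
      conv_lhs => rw [ih, pow_add, mul_comm (f ^ m), mul_assoc, h1]
      ring
  refine ⟨(f * a) ^ m, ?_, Dvd.dvd.pow ⟨a, rfl⟩ (by omega), fun q hq hf he => ?_⟩
  · rw [IsIdempotentElem]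
    linear_combination (-(a ^ m)) * h2 m
  · have : f ^ m ∈ q := by
      have e : f ^ m = f ^ m * (f * a) ^ m := by linear_combination h2 m
      rw [e]; exact Ideal.mul_mem_left _ _ he
    exact hf (hq.mem_of_pow_mem _ this)

/-- A surjective étale algebra over a zero-dimensional ring with separably closed residue fields has a
section. -/
theorem exists_section {S : Type u} [CommRing S] [Ring.KrullDimLE 0 S]
    (hsep : ∀ (q : Ideal S) [q.IsPrime], IsSepClosed q.ResidueField)
    {C : Type u} [CommRing C] [Algebra S C] [Algebra.Etale S C]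
    (hC : ∀ (q : Ideal S) [q.IsPrime], ∃ c : Ideal C, c.IsPrime ∧ c.LiesOver q) :
    Nonempty (C →ₐ[S] S) := by
  classical
  let good : Set S := {e | IsIdempotentElem e ∧ ∃ σ : C →ₐ[S] S ⧸ Ideal.span {1 - e}, True}
  suffices h1 : (1 : S) ∈ good by
    obtain ⟨-, σ, -⟩ := h1
    rw [sub_self, Ideal.span_singleton_eq_bot.2 rfl] at σ
    exact ⟨(AlgEquiv.quotientBot S S).toAlgHom.comp σ⟩
  -- step 1: every prime avoids a good idempotent
  have step1 : Ideal.span good = ⊤ := by
    by_contra hne
    obtain ⟨q, hq, hle⟩ := Ideal.exists_le_maximal _ hne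
    have := hsep q
    obtain ⟨c, hc, hcq⟩ := hC q
    -- a point of `C` with values in the residue field
    have : Algebra.FormallyUnramified q.ResidueField (q.ResidueField ⊗[S] C) := inferInstance
    let γ : C →ₐ[S] c.ResidueField := IsScalarTower.toAlgHom S C c.ResidueField
    have : Algebra.IsUnramifiedAt S c := inferInstance
    let b : c.ResidueField →ₐ[q.ResidueField] q.ResidueField := IsSepClosed.lift
    let σ₀ : C →ₐ[S] q.ResidueField := (b.restrictScalars S).comp γ
    -- lift through the local ring `S ⧸ J`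
    let J : Ideal S := RingHom.ker (algebraMap S (Localization.AtPrime q))
    have hsurj : Function.Surjective (algebraMap S (Localization.AtPrime q)) := by
      intro z
      obtain ⟨a, s, rfl⟩ := IsLocalization.exists_mk'_eq q.primeCompl z
      obtain ⟨e, he, ⟨y, hy⟩, heq⟩ := exists_idempotent (s : S)
      have hu : IsUnit (algebraMap S (Localization.AtPrime q) e) :=
        IsLocalization.map_units (Localization.AtPrime q) (⟨e, heq q hq.isPrime s.2⟩ : q.primeCompl)
      have h1 : algebraMap S (Localization.AtPrime q) e = 1 := by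
        refine hu.mul_left_cancel ?_
        rw [mul_one, ← map_mul, he.eq]
      refine ⟨a * y, ?_⟩
      rw [IsLocalization.eq_mk'_iff_mul_eq, ← map_mul]
      rw [show a * y * (s : S) = a * e by rw [hy]; ring, map_mul, h1, mul_one]
    have hmax : ∀ x ∈ IsLocalRing.maximalIdeal (Localization.AtPrime q), IsNilpotent x :=
      fun x hx => isNilpotent_atPrime q hx
    have := Groth.Agent.Lib.Henselian.Basic.henselianRing_of_nil hmax
    obtain ⟨τ, -⟩ := Groth.Agent.Lib.Henselian.Etale.exists_algHom_lift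
      (IsLocalRing.maximalIdeal (Localization.AtPrime q)) (R := S) σ₀
    let eJ : (S ⧸ J) ≃ₐ[S] Localization.AtPrime q :=
      Ideal.quotientKerAlgEquivOfSurjective (f := Algebra.ofId S _) hsurj
    obtain ⟨J', hJ'fg, hJ'J, ⟨σ'⟩⟩ := exists_fg_lift J (eJ.symm.toAlgHom.comp τ)
    obtain ⟨t, ht⟩ := hJ'fg
    have hann : ∀ x ∈ t, ∃ s : S, s ∉ q ∧ s * x = 0 := fun x hx => by
      have hx' : x ∈ J := hJ'J (ht ▸ Submodule.subset_span hx)
      obtain ⟨s, hs⟩ := (IsLocalization.map_eq_zero_iff q.primeCompl _ x).1 hx'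
      exact ⟨s, s.2, hs⟩
    choose! s hs hs' using hann
    let f := ∏ x ∈ t, s x
    have hf : f ∉ q := fun hfq => by
      obtain ⟨x, hx, hxq⟩ := (Ideal.IsPrime.prod_mem_iff).1 hfq
      exact hs x hx hxq
    obtain ⟨e, he, ⟨c', hc'⟩, heq⟩ := exists_idempotent f
    refine heq q hq.isPrime hf (hle (Ideal.subset_span ⟨he, ?_⟩))
    refine ⟨(Ideal.Quotient.factorₐ S (?_ : J' ≤ Ideal.span {1 - e})).comp σ', trivial⟩
    rw [← ht, Submodule.span_le]
    intro x hx
    rw [SetLike.mem_coe, Ideal.mem_span_singleton]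
    refine ⟨x, ?_⟩
    have hfx : f * x = 0 := by
      obtain ⟨d, hd⟩ := Finset.dvd_prod_of_mem s hx
      change (∏ x ∈ t, s x) * x = 0
      rw [hd, mul_comm (s x), mul_assoc, hs' x hx, mul_zero]
    linear_combination x * hc' + c' * hfx
  -- step 2: gluing
  have hglue : ∀ e₁ ∈ good, ∀ e₂ ∈ good, e₁ + e₂ - e₁ * e₂ ∈ good := by
    rintro e₁ ⟨h₁, σ₁, -⟩ e₂ ⟨h₂, σ₂, -⟩
    set e := e₁ + e₂ - e₁ * e₂ with he_def
    have he : IsIdempotentElem e := by
      simp only [IsIdempotentElem, he_def] at h₁ h₂ ⊢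
      linear_combination (1 - e₂) ^ 2 * h₁ + (1 - e₁) * h₂
    refine ⟨he, ?_⟩
    let d := e₂ * (1 - e₁)
    have hm₁ : ∀ x, x ∈ Ideal.span {1 - e₁} → e₁ * x = 0 := fun x hx => by
      obtain ⟨y, rfl⟩ := Ideal.mem_span_singleton.1 hx
      linear_combination -y * h₁.eq
    have hm₂ : ∀ x, x ∈ Ideal.span {1 - e₂} → d * x = 0 := fun x hx => by
      obtain ⟨y, rfl⟩ := Ideal.mem_span_singleton.1 hx
      linear_combination -y * (1 - e₁) * h₂.eq
    choose p₁ hp₁ using fun c => Ideal.Quotient.mk_surjective (σ₁ c)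
    choose p₂ hp₂ using fun c => Ideal.Quotient.mk_surjective (σ₂ c)
    let g : C → S ⧸ Ideal.span {1 - e} := fun c => Ideal.Quotient.mk _ (e₁ * p₁ c + d * p₂ c)
    have eq₁ : ∀ a b : S, Ideal.Quotient.mk (Ideal.span {1 - e₁}) a = Ideal.Quotient.mk _ b →
        e₁ * a = e₁ * b := fun a b h => by
      have := hm₁ _ (Ideal.Quotient.eq.1 h)
      linear_combination this
    have eq₂ : ∀ a b : S, Ideal.Quotient.mk (Ideal.span {1 - e₂}) a = Ideal.Quotient.mk _ b →
        d * a = d * b := fun a b h => by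
      have := hm₂ _ (Ideal.Quotient.eq.1 h)
      linear_combination this
    have halg : ∀ r : S, g (algebraMap S C r) = Ideal.Quotient.mk _ r := fun r => by
      have a₁ := eq₁ (p₁ (algebraMap S C r)) r ((hp₁ _).trans (σ₁.commutes r))
      have a₂ := eq₂ (p₂ (algebraMap S C r)) r ((hp₂ _).trans (σ₂.commutes r))
      simp only [g]
      rw [Ideal.Quotient.eq, Ideal.mem_span_singleton]
      refine ⟨-r, ?_⟩
      simp only [he_def]
      linear_combination a₁ + a₂
    have hmul : ∀ x y, g (x * y) = g x * g y := by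
      intro x y
      have a₁ := eq₁ (p₁ (x * y)) (p₁ x * p₁ y) (by rw [hp₁, map_mul, map_mul, hp₁, hp₁])
      have a₂ := eq₂ (p₂ (x * y)) (p₂ x * p₂ y) (by rw [hp₂, map_mul, map_mul, hp₂, hp₂])
      simp only [g, ← map_mul]
      congr 1
      have o : e₁ * d = 0 := by linear_combination -e₂ * h₁.eq
      have dd : d * d = d := by linear_combination (1 - e₁) ^ 2 * h₂.eq + e₂ * h₁.eq
      linear_combination a₁ + a₂ - p₁ x * p₁ y * h₁.eq - p₂ x * p₂ y * dd
        - (p₁ x * p₂ y + p₂ x * p₁ y) * o
    have hadd : ∀ x y, g (x + y) = g x + g y := by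
      intro x y
      have a₁ := eq₁ (p₁ (x + y)) (p₁ x + p₁ y) (by rw [hp₁, map_add, map_add, hp₁, hp₁])
      have a₂ := eq₂ (p₂ (x + y)) (p₂ x + p₂ y) (by rw [hp₂, map_add, map_add, hp₂, hp₂])
      simp only [g, ← map_add]
      congr 1
      linear_combination a₁ + a₂
    let φ : C →+* S ⧸ Ideal.span {1 - e} := RingHom.mk'
      { toFun := g
        map_one' := by rw [← map_one (algebraMap S C), halg, map_one]
        map_mul' := hmul } hadd
    exact ⟨{ φ with commutes' := halg }, trivial⟩
  -- step 3: conclude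
  have hzero : (0 : S) ∈ good := by
    refine ⟨IsIdempotentElem.zero, ?_⟩
    have hs : Subsingleton (S ⧸ Ideal.span {1 - (0 : S)}) := by
      rw [sub_zero, Ideal.span_singleton_one]
      exact Ideal.Quotient.subsingleton_iff.2 rfl
    exact ⟨{ toFun := fun _ => 0, map_one' := Subsingleton.elim _ _,
             map_mul' := fun _ _ => Subsingleton.elim _ _, map_zero' := rfl,
             map_add' := fun _ _ => Subsingleton.elim _ _,
             commutes' := fun _ => Subsingleton.elim _ _ }, trivial⟩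
  obtain ⟨t, ht, ht1⟩ := Submodule.mem_span_finite_of_mem_span ((Ideal.eq_top_iff_one _).1 step1)
  suffices key : ∀ t : Finset S, (t : Set S) ⊆ good → ∃ E ∈ good, ∀ x ∈ t, E * x = x by
    obtain ⟨E, hE, hEt⟩ := key t ht
    have hall : ∀ y ∈ Ideal.span (t : Set S), E * y = y := by
      intro y hy
      induction hy using Submodule.span_induction with
      | mem x hx => exact hEt x hx
      | zero => exact mul_zero _
      | add x y _ _ hx hy => rw [mul_add, hx, hy]
      | smul a x _ hx => rw [smul_eq_mul, mul_left_comm, hx]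
    have := hall 1 ht1
    rw [mul_one] at this
    exact this ▸ hE
  intro t
  induction t using Finset.induction with
  | empty => exact fun _ => ⟨0, hzero, by simp⟩
  | insert x s hx ih =>
    intro hs
    rw [Finset.coe_insert, Set.insert_subset_iff] at hs
    obtain ⟨E, hE, hEs⟩ := ih hs.2
    refine ⟨x + E - x * E, hglue x hs.1 E hE, fun y hy => ?_⟩
    rcases Finset.mem_insert.1 hy with rfl | hy
    · linear_combination (1 - E) * hs.1.1.eq
    · linear_combination (1 - x) * hEs y hy

end Groth.Agent.Lib.EtSite.ZeroDim
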