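import Groth.Prelude.Def_EtGm
import Mathlib.CategoryTheory.Sites.Subcanonical

/-!
# The small étale site is subcanonical
-/

set_option autoImplicit false

universe u v w

open CategoryTheory CategoryTheory.Limits AlgebraicGeometry Opposite

noncomputable section

namespace Groth.Agent.Lib.EtSite.SmallSubcanonical

/-- Slices of subcanonical sites are subcanonical. -/
theorem subcanonical_over {C : Type w} [Category.{v} C] (K : GrothendieckTopology C) [K.Subcanonical]
    (S : C) : (K.over S).Subcanonical := by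
  refine .of_isSheaf_yoneda_obj _ fun W A R hR x hx => ?_
  have hy : ∀ T : C, Presieve.IsSheaf K (yoneda.obj T) := fun T =>
    GrothendieckTopology.Subcanonical.isSheaf_of_isRepresentable _
  rw [GrothendieckTopology.mem_over_iff] at hR
  have hmem : ∀ {Z : C} (g : Z ⟶ A.left), Sieve.overEquiv A R g →
      R (Over.homMk g : Over.mk (g ≫ A.hom) ⟶ A) := fun g hg => (Sieve.overEquiv_iff R g).1 hg
  let y : Presieve.FamilyOfElements (yoneda.obj W.left) (Sieve.overEquiv A R).arrows :=
    fun Z g hg => (x (Over.homMk g : Over.mk (g ≫ A.hom) ⟶ A) (hmem g hg)).left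
  have hyc : y.Compatible := by
    intro Z₁ Z₂ Z k₁ k₂ g₁ g₂ h₁ h₂ e
    have e' : k₁ ≫ g₁ ≫ A.hom = k₂ ≫ g₂ ≫ A.hom := by rw [reassoc_of% e]
    exact congrArg (fun m => m.left) (hx (Over.homMk k₁ e' : Over.mk (k₂ ≫ g₂ ≫ A.hom) ⟶ Over.mk (g₁ ≫ A.hom))
      (Over.homMk k₂ rfl : Over.mk (k₂ ≫ g₂ ≫ A.hom) ⟶ Over.mk (g₂ ≫ A.hom)) (hmem g₁ h₁) (hmem g₂ h₂) (Over.OverMorphism.ext e))
  obtain ⟨f, hf, hu⟩ := hy W.left (Sieve.overEquiv A R) hR y hyc
  have hfw : f ≫ W.hom = A.hom := (hy S _ hR).isSeparatedFor.ext fun Z g hg => by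
    change g ≫ f ≫ W.hom = g ≫ A.hom
    have h1 : g ≫ f = (x (Over.homMk g : Over.mk (g ≫ A.hom) ⟶ A) (hmem g hg)).left := hf g hg
    rw [← Category.assoc, h1]
    exact Over.w (x (Over.homMk g : Over.mk (g ≫ A.hom) ⟶ A) (hmem g hg))
  refine ⟨Over.homMk f hfw, fun B r hr => ?_, fun t ht => ?_⟩
  · have hr' : Sieve.overEquiv A R r.left := (Sieve.overEquiv_iff R r.left).2 (by
      have := R.downward_closed hr (Over.homMk (𝟙 B.left) (by simp) : Over.mk (r.left ≫ A.hom) ⟶ B)
      convert this using 1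
      exact Over.OverMorphism.ext (Category.id_comp _).symm)
    refine Over.OverMorphism.ext ?_
    change r.left ≫ f = (x r hr).left
    refine (hf r.left hr').trans ?_
    have hxe := hx (Over.homMk (𝟙 B.left) (by simp) : Over.mk (r.left ≫ A.hom) ⟶ Over.mk (r.left ≫ A.hom))
      (Over.homMk (𝟙 B.left) (by simp) : Over.mk (r.left ≫ A.hom) ⟶ B) (hmem r.left hr') hr
      (Over.OverMorphism.ext rfl)
    have h := congrArg (fun m => m.left) hxe
    exact ((Category.id_comp _).symm.trans h).trans (Category.id_comp _)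
  · refine Over.OverMorphism.ext (hu t.left fun Z g hg => ?_)
    exact congrArg (fun m => m.left) (ht (Over.homMk g : Over.mk (g ≫ A.hom) ⟶ A) (hmem g hg))

variable (X : Scheme.{u})

theorem subcanonical : (X.smallEtaleTopology).Subcanonical := by
  have : Scheme.etaleTopology.{u}.Subcanonical :=
    .of_le (Scheme.etaleTopology_le_proetaleTopology.trans Scheme.proetaleTopology_le_fpqcTopology)
  have := subcanonical_over Scheme.etaleTopology X
  exact GrothendieckTopology.subcanonical_of_full_of_faithful (Scheme.Etale.forget X) X.smallEtaleTopology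
    (Scheme.etaleTopology.over X)

variable {X}

theorem isSheaf (U : X.Etale) :
    Presheaf.IsSheaf X.smallEtaleTopology (yoneda.obj U ⋙ uliftFunctor.{u + 1, u}) := by
  have := subcanonical X
  rw [isSheaf_iff_isSheaf_of_type, Presieve.isSheaf_comp_uliftFunctor_iff]
  exact GrothendieckTopology.Subcanonical.isSheaf_of_isRepresentable _

end Groth.Agent.Lib.EtSite.SmallSubcanonical
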