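import Mathlib.AlgebraicGeometry.Sites.EtalePoint

/-!
# Small étale site: covering sieves and geometric points
-/

universe u

open CategoryTheory CategoryTheory.Limits AlgebraicGeometry Opposite

namespace Groth.Agent.Lib.EtSite.Basic

variable {X : Scheme.{u}}

/-- A sieve on the small étale site is covering iff it is jointly surjective. -/
theorem mem_topology_iff {U : X.Etale} (S : Sieve U) :
    S ∈ X.smallEtaleTopology U ↔
      ∀ u : U.left, ∃ (V : X.Etale) (f : V ⟶ U), S f ∧ ∃ v : V.left, f.left.base v = u := by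
  obtain ⟨ι, Z, f, rfl⟩ := S.exists_eq_ofArrows
  rw [Scheme.ofArrows_mem_smallEtaleTopology_iff]
  constructor
  · intro h u
    have hu : u ∈ ⋃ i, Set.range (f i).left := h ▸ Set.mem_univ u
    obtain ⟨i, v, hv⟩ := Set.mem_iUnion.1 hu
    exact ⟨Z i, f i, Sieve.ofArrows_mk _ _ i, v, hv⟩
  · intro h
    refine Set.eq_univ_iff_forall.2 fun u => ?_
    obtain ⟨V, g, hg, v, hv⟩ := h u
    obtain ⟨i, a, rfl⟩ := (Sieve.mem_ofArrows_iff _ _ _).1 hg
    exact Set.mem_iUnion.2 ⟨i, a.left.base v, hv⟩

/-- The sieve of all morphisms landing in a single jointly surjective family covers. -/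
theorem ofArrows_mem {U : X.Etale} {ι : Type*} (Z : ι → X.Etale) (f : ∀ i, Z i ⟶ U)
    (h : ∀ u : U.left, ∃ (i : ι) (v : (Z i).left), (f i).left.base v = u) :
    Sieve.ofArrows Z f ∈ X.smallEtaleTopology U :=
  (mem_topology_iff _).2 fun u => by
    obtain ⟨i, v, hv⟩ := h u
    exact ⟨Z i, f i, Sieve.ofArrows_mk _ _ i, v, hv⟩

/-- The geometric point attached to a separable closure of the residue field at `x`. -/
noncomputable def geomPoint (X : Scheme.{u}) (x : X) :
    Spec (CommRingCat.of (SeparableClosure (X.residueField x))) ⟶ X :=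
  Spec.map (CommRingCat.ofHom (algebraMap (X.residueField x) (SeparableClosure (X.residueField x)))) ≫
    X.fromSpecResidueField x

theorem geomPoint_apply (x : X) (p : Spec (CommRingCat.of (SeparableClosure (X.residueField x)))) :
    (geomPoint X x).base p = x := by
  rw [geomPoint, Scheme.Hom.comp_apply]
  exact Scheme.fromSpecResidueField_apply x _

/-- A point of the fibre functor at `ξ`, built from a lift of `ξ`. -/
noncomputable def mkFiber {Ω : Type u} [Field Ω] [IsSepClosed Ω]
    (ξ : Spec (CommRingCat.of Ω) ⟶ X) (U : X.Etale) (l : Spec (CommRingCat.of Ω) ⟶ U.left)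
    (hl : l ≫ U.hom = ξ) : (Scheme.pointSmallEtale ξ).fiber.obj U :=
  Over.homMk l hl

/-- The morphism to `U` underlying a point of the fibre. -/
noncomputable def fiberHom {Ω : Type u} [Field Ω] [IsSepClosed Ω]
    {ξ : Spec (CommRingCat.of Ω) ⟶ X} {U : X.Etale}
    (p : (Scheme.pointSmallEtale ξ).fiber.obj U) : Spec (CommRingCat.of Ω) ⟶ U.left :=
  p.left

theorem fiberHom_comp {Ω : Type u} [Field Ω] [IsSepClosed Ω]
    {ξ : Spec (CommRingCat.of Ω) ⟶ X} {U : X.Etale}
    (p : (Scheme.pointSmallEtale ξ).fiber.obj U) : fiberHom p ≫ U.hom = ξ :=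
  Over.w p

/-- The point of `U` under a point of the fibre. -/
noncomputable def fiberPt {Ω : Type u} [Field Ω] [IsSepClosed Ω]
    {ξ : Spec (CommRingCat.of Ω) ⟶ X} {U : X.Etale}
    (p : (Scheme.pointSmallEtale ξ).fiber.obj U) : U.left :=
  (fiberHom p).base default

theorem fiberPt_map {Ω : Type u} [Field Ω] [IsSepClosed Ω]
    {ξ : Spec (CommRingCat.of Ω) ⟶ X} {U V : X.Etale} (g : V ⟶ U)
    (q : (Scheme.pointSmallEtale ξ).fiber.obj V) :
    fiberPt ((Scheme.pointSmallEtale ξ).fiber.map g q) = g.left.base (fiberPt q) := rfl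

theorem hom_fiberPt {Ω : Type u} [Field Ω] [IsSepClosed Ω]
    {ξ : Spec (CommRingCat.of Ω) ⟶ X} {U : X.Etale}
    (p : (Scheme.pointSmallEtale ξ).fiber.obj U) : U.hom.base (fiberPt p) = ξ.base default := by
  conv_rhs => rw [← fiberHom_comp p]
  rfl

/-- Every point of an étale `X`-scheme over the image of a geometric point lifts to a point of the fibre. -/
theorem exists_fiber {Ω : Type u} [Field Ω] [IsSepClosed Ω]
    (ξ : Spec (CommRingCat.of Ω) ⟶ X) (U : X.Etale) (u : U.left) (hu : U.hom.base u = ξ.base default) :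
    ∃ p : (Scheme.pointSmallEtale ξ).fiber.obj U, fiberPt p = u := by
  have : Etale U.hom := U.prop
  obtain ⟨l, hl, hl'⟩ := Scheme.exists_fac_of_etale_of_isSepClosed U.hom ξ u hu
  exact ⟨mkFiber ξ U l hl, hl'⟩

theorem fiber_map_left {Ω : Type u} [Field Ω] [IsSepClosed Ω]
    (ξ : Spec (CommRingCat.of Ω) ⟶ X) {U V : X.Etale} (g : V ⟶ U)
    (q : (Scheme.pointSmallEtale ξ).fiber.obj V) :
    ((Scheme.pointSmallEtale ξ).fiber.map g q).left = q.left ≫ g.left := rfl

/-- Every point of an étale `X`-scheme lifts to the fibre at the standard geometric point below it. -/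
theorem exists_fiber_geomPoint (U : X.Etale) (u : U.left) :
    ∃ p : (Scheme.pointSmallEtale (geomPoint X (U.hom.base u))).fiber.obj U, fiberPt p = u :=
  exists_fiber _ U u (geomPoint_apply _ _).symm

end Groth.Agent.Lib.EtSite.Basic
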