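import Groth.Prelude.Def_EtBase
import Groth.Agent.Lib.EtSite.Basic
import Mathlib.Algebra.Category.Grp.FilteredColimits
import Mathlib.CategoryTheory.Limits.Types.ColimitType
import Mathlib.CategoryTheory.Sites.EpiMono

/-!
# Small étale site: stalks detect sections, monomorphisms, epimorphisms and isomorphisms
-/

universe u

open CategoryTheory CategoryTheory.Limits AlgebraicGeometry Opposite

namespace Groth.Agent.Lib.EtSite.Stalk

open Groth.Agent.Lib.EtSite.Basic

instance preservesFilteredColimits_forget_addCommGrp :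
    PreservesFilteredColimitsOfSize.{u, u} (forget AddCommGrpCat.{u + 1}) :=
  preservesFilteredColimitsOfSize_shrink.{u, u + 1, u, u + 1} _

instance preservesFilteredColimits_forget_type :
    PreservesFilteredColimitsOfSize.{u, u} (forget (Type (u + 1))) := inferInstance

/-- The point of the small étale site at the standard geometric point over `x`. -/
noncomputable abbrev pt (X : Scheme.{u}) (x : X) : X.smallEtaleTopology.Point :=
  Scheme.pointSmallEtale (geomPoint X x)

/-- `P` holds at some geometric point over every point of `X`. -/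
def EnoughPts (X : Scheme.{u})
    (P : ∀ (Ω : Type u) [Field Ω] [IsSepClosed Ω], (Spec (CommRingCat.of Ω) ⟶ X) → Prop) : Prop :=
  ∀ x : X, ∃ (Ω : Type u) (_ : Field Ω) (_ : IsSepClosed Ω) (ξ : Spec (CommRingCat.of Ω) ⟶ X),
    ξ.base default = x ∧ P Ω ξ

theorem enoughPts_pt {X : Scheme.{u}}
    {P : ∀ (Ω : Type u) [Field Ω] [IsSepClosed Ω], (Spec (CommRingCat.of Ω) ⟶ X) → Prop}
    (h : ∀ x : X, P (SeparableClosure (X.residueField x)) (geomPoint X x)) : EnoughPts X P :=
  fun x => ⟨_, inferInstance, inferInstance, geomPoint X x, geomPoint_apply x _, h x⟩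

section

variable {X : Scheme.{u}} {A : Type (u + 2)} [Category.{u + 1} A] {FA : A → A → Type*}
  {CA : A → Type (u + 1)} [∀ M N, FunLike (FA M N) (CA M) (CA N)] [ConcreteCategory.{u + 1} A FA]
  [HasColimitsOfSize.{u, u} A] [PreservesFilteredColimitsOfSize.{u, u} (forget A)]
  [PreservesLimitsOfSize.{u + 1, u + 1} (forget A)]

/-- The sheaf of sets underlying a sheaf is separated. -/
theorem sections_ext (F : Sheaf X.smallEtaleTopology A) {U : X.Etale}
    (s t : ToType (F.obj.obj (op U)))
    (h : ∀ u : U.left, ∃ (V : X.Etale) (f : V ⟶ U), F.obj.map f.op s = F.obj.map f.op t ∧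
      ∃ v : V.left, f.left.base v = u) : s = t := by
  have hF : Presieve.IsSheaf X.smallEtaleTopology (F.obj ⋙ forget A) :=
    (isSheaf_iff_isSheaf_of_type _ _).1 ((sheafCompose X.smallEtaleTopology (forget A)).obj F).2
  let S : Sieve U := Presheaf.equalizerSieve (F := F.obj) (X := op U) s t
  have hS : S ∈ X.smallEtaleTopology U := (mem_topology_iff S).2 fun u => by
    obtain ⟨V, f, hf, hv⟩ := h u
    exact ⟨V, f, hf, hv⟩
  exact (hF.isSeparated S hS).ext fun V f hf => hf

/-- Two sections with the same germ at every standard geometric point are equal. -/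
theorem sections_ext_of_germ (F : Sheaf X.smallEtaleTopology A) {U : X.Etale}
    (s t : ToType (F.obj.obj (op U)))
    (h : EnoughPts X fun Ω _ _ ξ => ∀ p : (Scheme.pointSmallEtale ξ).fiber.obj U,
      (Scheme.pointSmallEtale ξ).toPresheafFiber U p F.obj s =
        (Scheme.pointSmallEtale ξ).toPresheafFiber U p F.obj t) : s = t := by
  refine sections_ext F s t fun u => ?_
  obtain ⟨Ω, _, _, ξ, hξ, h⟩ := h (U.hom.base u)
  obtain ⟨p, hp⟩ := exists_fiber ξ U u hξ.symm
  obtain ⟨V, g, q, hq, hst⟩ := ((Scheme.pointSmallEtale ξ).toPresheafFiber_eq_iff' U p s t).1 (h p)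
  exact ⟨V, g, hst, fiberPt q, (fiberPt_map g q).symm.trans ((congrArg fiberPt hq).trans hp)⟩

theorem app_injective {F G : Sheaf X.smallEtaleTopology A} (φ : F ⟶ G)
    (h : EnoughPts X fun Ω _ _ ξ =>
      Function.Injective ((Scheme.pointSmallEtale ξ).sheafFiber.map φ)) (U : X.Etale) :
    Function.Injective (φ.hom.app (op U)) := by
  intro s t hst
  refine sections_ext_of_germ F s t fun x => ?_
  obtain ⟨Ω, hΩ, hΩ', ξ, hξ, h⟩ := h x
  refine ⟨Ω, hΩ, hΩ', ξ, hξ, fun p => h ?_⟩
  have h₁ := (Scheme.pointSmallEtale ξ).toPresheafFiber_naturality_apply φ.hom U p s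
  have h₂ := (Scheme.pointSmallEtale ξ).toPresheafFiber_naturality_apply φ.hom U p t
  exact h₁.trans ((congrArg _ hst).trans h₂.symm)

theorem isLocallySurjective {F G : Sheaf X.smallEtaleTopology A} (φ : F ⟶ G)
    (h : EnoughPts X fun Ω _ _ ξ =>
      Function.Surjective ((Scheme.pointSmallEtale ξ).sheafFiber.map φ)) :
    Sheaf.IsLocallySurjective φ := by
  refine ⟨fun {U} t => (mem_topology_iff _).2 fun u => ?_⟩
  obtain ⟨Ω, _, _, ξ, hξ, h⟩ := h (U.hom.base u)
  obtain ⟨p, hp⟩ := exists_fiber ξ U u hξ.symm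
  obtain ⟨z, hz⟩ := h ((Scheme.pointSmallEtale ξ).toPresheafFiber U p G.obj t)
  obtain ⟨V, q, s, rfl⟩ := (Scheme.pointSmallEtale ξ).toPresheafFiber_jointly_surjective z
  let W := IsCofiltered.min ((Scheme.pointSmallEtale ξ).fiber.elementsMk U p)
    ((Scheme.pointSmallEtale ξ).fiber.elementsMk V q)
  let a : W ⟶ (Scheme.pointSmallEtale ξ).fiber.elementsMk U p := IsCofiltered.minToLeft _ _
  let b : W ⟶ (Scheme.pointSmallEtale ξ).fiber.elementsMk V q := IsCofiltered.minToRight _ _
  have ha : (Scheme.pointSmallEtale ξ).fiber.map a.1 W.2 = p := a.2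
  have hb : (Scheme.pointSmallEtale ξ).fiber.map b.1 W.2 = q := b.2
  have hz' : (Scheme.pointSmallEtale ξ).toPresheafFiber V q G.obj (φ.hom.app _ s) =
      (Scheme.pointSmallEtale ξ).toPresheafFiber U p G.obj t :=
    ((Scheme.pointSmallEtale ξ).toPresheafFiber_naturality_apply φ.hom V q s).symm.trans hz
  rw [← ha, ← hb] at hz'
  erw [← GrothendieckTopology.Point.toPresheafFiber_w_apply,
    ← GrothendieckTopology.Point.toPresheafFiber_w_apply] at hz'
  obtain ⟨Z, g, r, hr, hgr⟩ := ((Scheme.pointSmallEtale ξ).toPresheafFiber_eq_iff' W.1 W.2 _ _).1 hz'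
  refine ⟨Z, g ≫ a.1, ⟨F.obj.map (g ≫ b.1).op s, ?_⟩, fiberPt r, ?_⟩
  · have hn := NatTrans.naturality_apply φ.hom (g ≫ b.1).op s
    refine hn.trans ?_
    simpa using hgr
  · refine Eq.trans ?_ hp
    have : (Scheme.pointSmallEtale ξ).fiber.map (g ≫ a.1) r = p := by
      rw [Functor.map_comp, ConcreteCategory.comp_apply, hr, ha]
    exact (fiberPt_map _ r).symm.trans (congrArg fiberPt this)

variable [(forget A).ReflectsIsomorphisms]

theorem isIso_of_app_bijective {F G : Sheaf X.smallEtaleTopology A} (φ : F ⟶ G)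
    (h : ∀ U, Function.Bijective (φ.hom.app (op U))) : IsIso φ := by
  have : ∀ U, IsIso (φ.hom.app U) := fun U =>
    (ConcreteCategory.isIso_iff_bijective _).2 (h U.unop)
  have : IsIso ((sheafToPresheaf X.smallEtaleTopology A).map φ) :=
    NatIso.isIso_of_isIso_app φ.hom
  exact isIso_of_reflects_iso φ (sheafToPresheaf _ _)

theorem isIso_of_stalks {F G : Sheaf X.smallEtaleTopology A} (φ : F ⟶ G)
    (h : EnoughPts X fun Ω _ _ ξ =>
      Function.Bijective ((Scheme.pointSmallEtale ξ).sheafFiber.map φ)) : IsIso φ := by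
  have hi : EnoughPts X fun Ω _ _ ξ =>
      Function.Injective ((Scheme.pointSmallEtale ξ).sheafFiber.map φ) := fun x => by
    obtain ⟨Ω, hΩ, hΩ', ξ, hξ, h⟩ := h x
    exact ⟨Ω, hΩ, hΩ', ξ, hξ, h.1⟩
  refine isIso_of_app_bijective φ fun U => ⟨app_injective φ hi U, fun t => ?_⟩
  have : Sheaf.IsLocallySurjective φ := isLocallySurjective φ fun x => by
    obtain ⟨Ω, hΩ, hΩ', ξ, hξ, h⟩ := h x
    exact ⟨Ω, hΩ, hΩ', ξ, hξ, h.2⟩
  have hF : Presieve.IsSheaf X.smallEtaleTopology (F.obj ⋙ forget A) :=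
    (isSheaf_iff_isSheaf_of_type _ _).1 ((sheafCompose X.smallEtaleTopology (forget A)).obj F).2
  let S : Sieve U := Presheaf.imageSieve φ.hom t
  have hS := Presheaf.imageSieve_mem X.smallEtaleTopology φ.hom t
  let x : Presieve.FamilyOfElements (F.obj ⋙ forget A) S.arrows :=
    fun V f hf => Presheaf.localPreimage φ.hom t f hf
  have hx : x.Compatible := by
    intro Y₁ Y₂ Z g₁ g₂ f₁ f₂ h₁ h₂ w
    apply app_injective φ hi Z
    dsimp [x]
    erw [NatTrans.naturality_apply, NatTrans.naturality_apply, Presheaf.app_localPreimage,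
      Presheaf.app_localPreimage]
    simp only [← ConcreteCategory.comp_apply, ← Functor.map_comp, ← op_comp, w]
  refine ⟨(hF S hS).amalgamate x hx, ?_⟩
  refine sections_ext G _ _ fun u => ?_
  obtain ⟨V, f, hf, hv⟩ := (mem_topology_iff S).1 hS u
  refine ⟨V, f, ?_, hv⟩
  have := (hF S hS).valid_glue hx f hf
  erw [← NatTrans.naturality_apply]
  exact (congrArg _ this).trans (Presheaf.app_localPreimage φ.hom t f hf)

theorem isIso_iff_stalks {F G : Sheaf X.smallEtaleTopology A} (φ : F ⟶ G) :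
    IsIso φ ↔ ∀ x : X, Function.Bijective ((pt X x).sheafFiber.map φ) :=
  ⟨fun _ _ => (ConcreteCategory.isIso_iff_bijective _).1 inferInstance,
    fun h => isIso_of_stalks φ (enoughPts_pt h)⟩

theorem mono_of_stalks {F G : Sheaf X.smallEtaleTopology A} (φ : F ⟶ G)
    (h : EnoughPts X fun Ω _ _ ξ =>
      Function.Injective ((Scheme.pointSmallEtale ξ).sheafFiber.map φ)) : Mono φ :=
  Sheaf.mono_of_injective φ fun V => app_injective φ h V.unop

theorem epi_of_stalks {F G : Sheaf X.smallEtaleTopology A} (φ : F ⟶ G)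
    (h : EnoughPts X fun Ω _ _ ξ =>
      Function.Surjective ((Scheme.pointSmallEtale ξ).sheafFiber.map φ)) : Epi φ :=
  have := isLocallySurjective φ h
  Sheaf.epi_of_isLocallySurjective φ

end

end Groth.Agent.Lib.EtSite.Stalk
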