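import Groth.Prelude.Def_EtBase
import Groth.Agent.Lib.EtSite.Stalk

/-!
# Small étale site: finite disjoint open covers and gluing
-/

universe u

open CategoryTheory CategoryTheory.Limits AlgebraicGeometry Opposite

namespace Groth.Agent.Lib.EtSite.DisjointCover

open Groth.Agent.Lib.EtSite.Basic Groth.Agent.Lib.EtSite.Stalk

/-- A disjoint cover of `U` by open pieces. -/
structure IsDisjointCover {X : Scheme.{u}} {U : X.Etale} {ι : Type*} (D : ι → X.Etale)
    (o : ∀ j, D j ⟶ U) : Prop where
  isOpenImmersion : ∀ j, IsOpenImmersion (o j).left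
  exists_eq : ∀ x : U.left, ∃ (j : ι) (d : (D j).left), (o j).left.base d = x
  disjoint : ∀ (i j : ι) (x : (D i).left) (y : (D j).left),
    (o i).left.base x = (o j).left.base y → i = j

variable {X : Scheme.{u}} {A : Type (u + 2)} [Category.{u + 1} A] {FA : A → A → Type*}
  {CA : A → Type (u + 1)} [∀ M N, FunLike (FA M N) (CA M) (CA N)] [ConcreteCategory.{u + 1} A FA]
  [HasColimitsOfSize.{u, u} A] [PreservesFilteredColimitsOfSize.{u, u} (forget A)]
  [PreservesLimitsOfSize.{u + 1, u + 1} (forget A)]

/-- Sections on the pieces of a disjoint cover glue. -/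
theorem IsDisjointCover.exists_glue {U : X.Etale} {ι : Type*} {D : ι → X.Etale}
    {o : ∀ j, D j ⟶ U} (h : IsDisjointCover D o) (F : Sheaf X.smallEtaleTopology A)
    (x : ∀ j, ToType (F.obj.obj (op (D j)))) :
    ∃ s : ToType (F.obj.obj (op U)), ∀ j, F.obj.map (o j).op s = x j := by
  have hF : Presieve.IsSheaf X.smallEtaleTopology (F.obj ⋙ forget A) :=
    (isSheaf_iff_isSheaf_of_type _ _).1 ((sheafCompose X.smallEtaleTopology (forget A)).obj F).2
  have hS : (Presieve.ofArrows D o).IsSheafFor (F.obj ⋙ forget A) := by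
    rw [Presieve.isSheafFor_iff_generate]
    exact hF _ (ofArrows_mem D o h.exists_eq)
  refine ((Presieve.isSheafFor_arrows_iff (F.obj ⋙ forget A) o).1 hS x fun i j Z gi gj hg => ?_).exists
  by_cases hij : i = j
  · subst hij
    have := h.isOpenImmersion i
    obtain rfl : gi = gj := by
      refine MorphismProperty.Over.Hom.ext ?_
      exact (cancel_mono (o i).left).1 (congrArg (fun φ => φ.left) hg)
    rfl
  · refine sections_ext F _ _ fun u => absurd ?_ hij
    exact h.disjoint i j _ _ (congrArg (fun φ : Z ⟶ U => φ.left.base u) hg)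

/-- Every geometric point of the base of a disjoint cover factors through one of the pieces. -/
theorem IsDisjointCover.exists_fac {U : X.Etale} {ι : Type*} {D : ι → X.Etale} {o : ∀ j, D j ⟶ U}
    (h : IsDisjointCover D o) {Ω : Type u} [Field Ω] (x : Spec (CommRingCat.of Ω) ⟶ U.left) :
    ∃ (j : ι) (l : Spec (CommRingCat.of Ω) ⟶ (D j).left), l ≫ (o j).left = x := by
  obtain ⟨j, d, hd⟩ := h.exists_eq (x.base default)
  have := h.isOpenImmersion j
  refine ⟨j, IsOpenImmersion.lift (o j).left x ?_, IsOpenImmersion.lift_fac _ _ _⟩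
  rintro _ ⟨a, rfl⟩
  rw [Subsingleton.elim a default]
  exact ⟨d, hd⟩

end Groth.Agent.Lib.EtSite.DisjointCover
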