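import Groth.Prelude.Def_EtBase
import Groth.Agent.Lib.EtSite.DisjointCover
import Groth.Agent.S9559
import Mathlib.AlgebraicGeometry.Morphisms.FlatMono

/-!
# Small étale site: sheets of finite étale morphisms
-/

set_option autoImplicit false

universe u

open CategoryTheory CategoryTheory.Limits AlgebraicGeometry Opposite

noncomputable section

namespace Groth.Agent.Lib.EtSite.Sheets

open Groth.Agent.Lib.EtSite.Basic Groth.Agent.Lib.EtSite.DisjointCover

variable {X Y : Scheme.{u}} (f : X ⟶ Y)

/-- Sections of base changes of étale morphisms are open immersions. -/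
theorem isOpenImmersion_of_section [Etale f] {T : Scheme.{u}} {g : T ⟶ Y} {s : T ⟶ pullback g f}
    (hs : s ≫ pullback.fst g f = 𝟙 _) : IsOpenImmersion s := by
  have h1 : Etale (s ≫ pullback.fst g f) := by rw [hs]; infer_instance
  have h2 : Etale (pullback.fst g f) := inferInstance
  have : Etale s := MorphismProperty.of_postcomp @Etale (W' := @Etale) s (pullback.fst g f) h2 h1
  have : Mono (s ≫ pullback.fst g f) := by rw [hs]; infer_instance
  have : Mono s := mono_of_mono s (pullback.fst g f)
  exact IsOpenImmersion.of_flat_of_mono s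

/-- Sections splitting the base change of `f` to `U` into disjoint open sheets. -/
structure IsSheets (U : Y.Etale) {n : ℕ} (σ : Fin n → (U.left ⟶ pullback U.hom f)) : Prop where
  fst : ∀ j, σ j ≫ pullback.fst U.hom f = 𝟙 _
  isOpenImmersion : ∀ j, IsOpenImmersion (σ j)
  exists_eq : ∀ z : ↥(pullback U.hom f), ∃ (j : Fin n) (v : U.left), (σ j).base v = z
  disjoint : ∀ (i j : Fin n) (v w : U.left), (σ i).base v = (σ j).base w → i = j

/-- Finite étale morphisms split into sheets étale locally on the base. -/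
theorem exists_isSheets [IsFinite f] [Etale f] (y : Y) :
    ∃ (U : Y.Etale) (u : U.left) (_ : U.hom.base u = y) (n : ℕ)
      (σ : Fin n → (U.left ⟶ pullback U.hom f)), IsSheets f U σ := by
  obtain ⟨U, g, hg, u, hu, n, V, c, hc, e, he⟩ := S9559.result f y
  have := hc
  let U' : Y.Etale := MorphismProperty.Over.mk ⊤ g hg
  let σ : Fin n → (U ⟶ pullback g f) := fun j =>
    inv (c j) ≫ Sigma.ι V j ≫ e.hom ≫ (pullbackSymmetry f g).hom
  refine ⟨U', u, hu, n, σ, ?_⟩
  have hbij : Function.Bijective (e.hom ≫ (pullbackSymmetry f g).hom).base :=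
    (Scheme.homeoOfIso (e ≪≫ pullbackSymmetry f g)).bijective
  refine ⟨fun j => ?_, fun j => ?_, fun z => ?_, fun i j v w h => ?_⟩
  · change σ j ≫ pullback.fst g f = 𝟙 _
    simp only [σ]
    rw [Category.assoc, Category.assoc, Category.assoc]
    refine Eq.trans ?_ (IsIso.inv_hom_id (c j))
    refine congrArg (inv (c j) ≫ ·) ?_
    refine Eq.trans ?_ (he j)
    exact congrArg (fun m => Sigma.ι V j ≫ e.hom ≫ m) (pullbackSymmetry_hom_comp_fst f g)
  · exact isOpenImmersion_of_section f (g := g) (s := σ j) (by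
      simp only [σ, Category.assoc, pullbackSymmetry_hom_comp_fst]
      rw [he, IsIso.inv_hom_id])
  · obtain ⟨z', hz'⟩ := hbij.2 z
    obtain ⟨j, v, rfl⟩ : ∃ j v, (Sigma.ι V j).base v = z' :=
      (sigmaOpenCover V).exists_eq z'
    refine ⟨j, (c j).base v, ?_⟩
    have h1 : c j ≫ σ j = Sigma.ι V j ≫ e.hom ≫ (pullbackSymmetry f g).hom := IsIso.hom_inv_id_assoc _ _
    refine (congrArg (fun m => m.base v) h1).trans ?_
    exact hz'
  · have h' : (Sigma.ι V i).base ((inv (c i)).base v) = (Sigma.ι V j).base ((inv (c j)).base w) :=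
      hbij.1 h
    by_contra hij
    exact Set.disjoint_left.1 (TopologicalSpace.Opens.coe_disjoint.2 (disjoint_opensRange_sigmaι V i j hij))
      ⟨_, rfl⟩ ⟨_, h'.symm⟩

variable {f}

/-- Sheets pulled back along a morphism to the base object. -/
def comap {U U' : Y.Etale} (a : U' ⟶ U) (σ : U.left ⟶ pullback U.hom f)
    (h : σ ≫ pullback.fst U.hom f = 𝟙 _) : U'.left ⟶ pullback U'.hom f :=
  pullback.lift (𝟙 _) (a.left ≫ σ ≫ pullback.snd U.hom f) (by
    rw [Category.id_comp, Category.assoc, Category.assoc, ← pullback.condition, reassoc_of% h]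
    exact (MorphismProperty.Over.w a).symm)

theorem comap_map {U U' : Y.Etale} (a : U' ⟶ U) (σ : U.left ⟶ pullback U.hom f)
    (h : σ ≫ pullback.fst U.hom f = 𝟙 _) :
    comap a σ h ≫ ((EtCoh.bc f).map a).left = a.left ≫ σ := by
  apply pullback.hom_ext
  · refine (Category.assoc _ _ _).trans ((_ ≫= (EtCoh.isPullback_bc_map f a).w).trans ?_)
    refine (Category.assoc _ _ _).symm.trans ((eq_whisker (pullback.lift_fst _ _ _) _).trans ?_)
    rw [Category.id_comp, Category.assoc, h, Category.comp_id]
  · refine (Category.assoc _ _ _).trans ((_ ≫= (Over.w ((EtCoh.bc f).map a).hom :)).trans ?_)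
    exact (pullback.lift_snd _ _ _).trans (Category.assoc _ _ _).symm

theorem IsSheets.comap [Etale f] {U : Y.Etale} {n : ℕ} {σ : Fin n → (U.left ⟶ pullback U.hom f)}
    (hσ : IsSheets f U σ) {U' : Y.Etale} (a : U' ⟶ U) :
    IsSheets f U' fun j => Sheets.comap a (σ j) (hσ.fst j) := by
  refine ⟨fun j => pullback.lift_fst _ _ _, fun j => ?_, fun z => ?_, fun i j v w h => ?_⟩
  · exact isOpenImmersion_of_section f (pullback.lift_fst _ _ _)
  · obtain ⟨j, v, hv⟩ := hσ.exists_eq (((EtCoh.bc f).map a).left.base z)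
    have := hσ.isOpenImmersion j
    let K := (pullback U'.hom f).residueField z
    let x : Spec K ⟶ pullback U'.hom f := (pullback U'.hom f).fromSpecResidueField z
    let l : Spec K ⟶ U.left := IsOpenImmersion.lift (σ j) (x ≫ ((EtCoh.bc f).map a).left) (by
      rintro _ ⟨k, rfl⟩
      exact ⟨v, hv.trans (congrArg _ (Scheme.fromSpecResidueField_apply z k).symm)⟩)
    have hl : l ≫ σ j = x ≫ ((EtCoh.bc f).map a).left := IsOpenImmersion.lift_fac _ _ _
    have hlx : x ≫ pullback.fst U'.hom f ≫ a.left = l := by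
      have h4 := eq_whisker hl (pullback.fst U.hom f)
      refine Eq.trans ?_ (((Category.assoc _ _ _).trans ((_ ≫= hσ.fst j).trans (Category.comp_id _))).symm.trans
        h4).symm
      exact ((Category.assoc _ _ _).trans (_ ≫= (EtCoh.isPullback_bc_map f a).w)).symm
    refine ⟨j, (pullback.fst U'.hom f).base z, ?_⟩
    have key : x ≫ pullback.fst U'.hom f ≫ Sheets.comap a (σ j) (hσ.fst j) = x := by
      apply pullback.hom_ext
      · rw [Category.assoc, Category.assoc]
        exact congrArg (x ≫ ·) ((_ ≫= pullback.lift_fst _ _ _).trans (Category.comp_id _))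
      · rw [Category.assoc, Category.assoc]
        refine (congrArg (fun m => x ≫ pullback.fst U'.hom f ≫ m) (pullback.lift_snd _ _ _)).trans ?_
        rw [reassoc_of% hlx, reassoc_of% hl]
        exact congrArg (x ≫ ·) (Over.w ((EtCoh.bc f).map a).hom :)
    have := congrArg (fun m => m.base (IsLocalRing.closedPoint K)) key
    have hz : x.base (IsLocalRing.closedPoint K) = z := Scheme.fromSpecResidueField_apply z _
    exact (congrArg (fun w => (Sheets.comap a (σ j) (hσ.fst j)).base ((pullback.fst U'.hom f).base w))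
      hz.symm).trans (this.trans hz)
  · refine hσ.disjoint i j (a.left.base v) (a.left.base w) ?_
    have h1 := congrArg ((EtCoh.bc f).map a).left.base h
    exact (congrArg (fun m => m.base v) (comap_map a (σ i) (hσ.fst i))).symm.trans
      (h1.trans (congrArg (fun m => m.base w) (comap_map a (σ j) (hσ.fst j))))

/-- Sheets can be refined so that they factor through given étale neighbourhoods. -/
theorem exists_isSheets_refine [IsFinite f] [Etale f] (y : Y) (W : X → X.Etale)
    (hW : ∀ x, ∃ w : (W x).left, (W x).hom.base w = x) :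
    ∃ (U : Y.Etale) (u : U.left) (_ : U.hom.base u = y) (n : ℕ)
      (σ : Fin n → (U.left ⟶ pullback U.hom f)) (_ : IsSheets f U σ) (x : Fin n → X)
      (t : ∀ j, U.left ⟶ (W (x j)).left), ∀ j, t j ≫ (W (x j)).hom = σ j ≫ pullback.snd U.hom f := by
  classical
  obtain ⟨U, u, hu, n, σ, hσ⟩ := exists_isSheets f y
  let x : Fin n → X := fun j => (σ j ≫ pullback.snd U.hom f).base u
  suffices h : ∀ J : Finset (Fin n), ∃ (U' : Y.Etale) (a : U' ⟶ U) (u' : U'.left),
      a.left.base u' = u ∧ ∀ j ∈ J, ∃ t : U'.left ⟶ (W (x j)).left,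
        t ≫ (W (x j)).hom = a.left ≫ σ j ≫ pullback.snd U.hom f by
    obtain ⟨U', a, u', ha, ht⟩ := h Finset.univ
    choose t ht using fun j => ht j (Finset.mem_univ j)
    refine ⟨U', u', ?_, n, _, hσ.comap a, x, t, fun j => ?_⟩
    · rw [← MorphismProperty.Over.w a, Scheme.Hom.comp_apply, ha, hu]
    · exact (ht j).trans (pullback.lift_snd _ _ _).symm
  intro J
  induction J using Finset.induction with
  | empty => exact ⟨U, 𝟙 _, u, rfl, fun j hj => absurd hj (Finset.notMem_empty j)⟩
  | @insert k J hk ih =>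
    obtain ⟨U', a, u', ha, ht⟩ := ih
    obtain ⟨w, hw⟩ := hW (x k)
    let h : U'.left ⟶ X := a.left ≫ σ k ≫ pullback.snd U.hom f
    have : Etale (W (x k)).hom := (W (x k)).prop
    have hu' : h.base u' = (W (x k)).hom.base w := by
      rw [hw, Scheme.Hom.comp_apply, ha]
    obtain ⟨z, hz, -⟩ := Scheme.Pullback.exists_preimage_pullback (f := h) (g := (W (x k)).hom) u' w hu'
    let U'' : Y.Etale := MorphismProperty.Over.mk ⊤ (pullback.fst h (W (x k)).hom ≫ U'.hom)
      (MorphismProperty.comp_mem @Etale _ _ (show Etale (pullback.fst h (W (x k)).hom) from inferInstance)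
        U'.prop)
    let b : U'' ⟶ U' := MorphismProperty.Over.homMk (pullback.fst h (W (x k)).hom) rfl
    refine ⟨U'', b ≫ a, z, ?_, fun j hj => ?_⟩
    · exact (congrArg a.left.base hz).trans ha
    · rcases Finset.mem_insert.1 hj with rfl | hj
      · exact ⟨pullback.snd h (W (x j)).hom, pullback.condition.symm.trans (Category.assoc _ _ _).symm⟩
      · obtain ⟨t, ht⟩ := ht j hj
        exact ⟨pullback.fst h (W (x k)).hom ≫ t, (Category.assoc _ _ _).trans
          ((congrArg (pullback.fst h (W (x k)).hom ≫ ·) ht).trans (Category.assoc _ _ _).symm)⟩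

/-- A sheet as an étale scheme over the source. -/
def sheet {U : Y.Etale} {n : ℕ} {σ : Fin n → (U.left ⟶ pullback U.hom f)} (hσ : IsSheets f U σ)
    (j : Fin n) : X.Etale :=
  haveI := hσ.isOpenImmersion j
  MorphismProperty.Over.mk ⊤ (σ j ≫ pullback.snd U.hom f)
    (MorphismProperty.comp_mem @Etale _ _ (show Etale (σ j) from inferInstance)
      ((EtCoh.bc f).obj U).prop)

/-- The inclusion of a sheet. -/
def sheetHom {U : Y.Etale} {n : ℕ} {σ : Fin n → (U.left ⟶ pullback U.hom f)} (hσ : IsSheets f U σ)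
    (j : Fin n) : sheet hσ j ⟶ (EtCoh.bc f).obj U :=
  MorphismProperty.Over.homMk (σ j) rfl

theorem IsSheets.isDisjointCover {U : Y.Etale} {n : ℕ} {σ : Fin n → (U.left ⟶ pullback U.hom f)}
    (hσ : IsSheets f U σ) : IsDisjointCover (sheet hσ) (sheetHom hσ) where
  isOpenImmersion := hσ.isOpenImmersion
  exists_eq := hσ.exists_eq
  disjoint := hσ.disjoint

/-- A geometric point of the sheeted pullback lies on exactly the sheet through it. -/
theorem IsSheets.exists_eq_comp {U : Y.Etale} {n : ℕ} {σ : Fin n → (U.left ⟶ pullback U.hom f)}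
    (hσ : IsSheets f U σ) {Ω : Type u} [Field Ω] (x : Spec (CommRingCat.of Ω) ⟶ pullback U.hom f) :
    ∃ j, (x ≫ pullback.fst U.hom f) ≫ σ j = x := by
  obtain ⟨j, l, hl⟩ := hσ.isDisjointCover.exists_fac (U := (EtCoh.bc f).obj U) x
  refine ⟨j, ?_⟩
  have hl' : l ≫ σ j = x := hl
  have h1 : x ≫ pullback.fst U.hom f = l := (eq_whisker hl' _).symm.trans
    ((Category.assoc _ _ _).trans ((_ ≫= hσ.fst j).trans (Category.comp_id _)))
  exact (congrArg (fun m => m ≫ σ j) h1).trans hl'

end Groth.Agent.Lib.EtSite.Sheets
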