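import Groth.Prelude.Def_CohProp
import Groth.Prelude.Def_EtOpen
import Groth.Agent.Lib.EtSite.Sheets
import Mathlib.CategoryTheory.Sites.PreservesLocallyBijective

/-!
# Small étale site: finite étale schemes give locally constant sheaves of sets
-/

set_option autoImplicit false

universe u

open CategoryTheory CategoryTheory.Limits AlgebraicGeometry Opposite

noncomputable section

namespace Groth.Agent.Lib.EtSite.SetChart

open Groth.Agent.Lib.EtSite.Basic Groth.Agent.Lib.EtSite.Sheets

variable {S : Scheme.{u}}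

/-- Sheafification units stay locally bijective after restriction. -/
theorem W_whiskerLeft (U : S.Etale) {P Q : S.Etaleᵒᵖ ⥤ Type (u + 1)} (τ : P ⟶ Q)
    (h : S.smallEtaleTopology.W τ) :
    (S.smallEtaleTopology.over U).W (Functor.whiskerLeft (Over.forget U).op τ) := by
  obtain ⟨_, _⟩ := (S.smallEtaleTopology.W_iff_isLocallyBijective τ).1 h
  exact ((S.smallEtaleTopology.over U).W_iff_isLocallyBijective _).2
    ⟨Presheaf.isLocallyInjective_whisker (S.smallEtaleTopology.over U) S.smallEtaleTopology (Over.forget U) τ,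
      Presheaf.isLocallySurjective_whisker (S.smallEtaleTopology.over U) S.smallEtaleTopology (Over.forget U) τ⟩

/-- Sheaves receiving locally bijective maps from locally bijectively related presheaves are isomorphic. -/
theorem nonempty_iso_of_W {C : Type (u + 1)} [Category.{u} C] (J : GrothendieckTopology C)
    [HasWeakSheafify J (Type (u + 1))] {F G : Sheaf J (Type (u + 1))} {P Q : Cᵒᵖ ⥤ Type (u + 1)}
    (a : P ⟶ F.obj) (b : Q ⟶ G.obj) (τ : Q ⟶ P) (ha : J.W a) (hb : J.W b) (hτ : J.W τ) :
    Nonempty (F ≅ G) := by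
  let L := presheafToSheaf J (Type (u + 1))
  have := (J.W_iff a).1 ha
  have := (J.W_iff b).1 hb
  have := (J.W_iff τ).1 hτ
  let ε := fun H : Sheaf J (Type (u + 1)) => asIso ((sheafificationAdjunction J (Type (u + 1))).counit.app H)
  exact ⟨(ε F).symm ≪≫ (asIso (L.map a)).symm ≪≫ (asIso (L.map τ)).symm ≪≫ asIso (L.map b) ≪≫ ε G⟩

variable {X : Scheme.{u}} (f : X ⟶ S) [Etale f]

/-- The sheet maps. -/
def sheetApp {U : S.Etale} {n : ℕ} {σ : Fin n → (U.left ⟶ pullback U.hom f)} (hσ : IsSheets f U σ)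
    (W : Over U) (j : Fin n) : W.left ⟶ Scheme.Etale.mk f :=
  MorphismProperty.Over.homMk (W.hom.left ≫ σ j ≫ pullback.snd U.hom f) (by
    refine (Category.assoc _ _ _).trans ((_ ≫= Category.assoc _ _ _).trans ?_)
    refine (congrArg (fun m => W.hom.left ≫ σ j ≫ m) pullback.condition.symm).trans ?_
    refine (congrArg (W.hom.left ≫ ·) ((Category.assoc _ _ _).symm.trans
      ((eq_whisker (hσ.fst j) _).trans (Category.id_comp _)))).trans ?_
    exact MorphismProperty.Over.w W.hom)

/-- Finite étale schemes are locally constant as sheaves of sets. -/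
theorem isFinLocConstSet_repSh [IsFinite f] :
    CohProp.IsFinLocConstSet (EtDesc.repSh (Scheme.Etale.mk f)) := by
  choose U u hu n σ hσ using exists_isSheets f
  refine ⟨S, U, fun y => ⟨y, u y, hu y⟩, fun y => ⟨ULift.{u + 1} (Fin (n y)), inferInstance, ?_⟩⟩
  let hs := hσ y
  let J := S.smallEtaleTopology.over (U y)
  let P : (Over (U y))ᵒᵖ ⥤ Type (u + 1) :=
    (Over.forget (U y)).op ⋙ yoneda.obj (Scheme.Etale.mk f) ⋙ uliftFunctor.{u + 1, u}
  let Q : (Over (U y))ᵒᵖ ⥤ Type (u + 1) :=
    (Over.forget (U y)).op ⋙ (Functor.const S.Etaleᵒᵖ).obj (ULift.{u + 1} (Fin (n y)))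
  let τ : Q ⟶ P :=
    { app := fun W => ↾fun j => ⟨sheetApp f hs W.unop j.down⟩
      naturality := fun W W' g => by
        ext j
        refine ULift.ext _ _ (MorphismProperty.Over.Hom.ext ?_)
        change W'.unop.hom.left ≫ σ y j.down ≫ _ = g.unop.left.left ≫ W.unop.hom.left ≫ σ y j.down ≫ _
        rw [← Category.assoc g.unop.left.left]
        exact eq_whisker (congrArg (fun m => m.left) (Over.w g.unop).symm) _ }
  have hinj : Presheaf.IsLocallyInjective J τ := by
    refine ⟨fun {W} j j' hj => ?_⟩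
    refine (GrothendieckTopology.mem_over_iff _ _).2 ((mem_topology_iff _).2 fun w => ?_)
    have h1 : W.unop.hom.left ≫ σ y j.down ≫ pullback.snd (U y).hom f =
        W.unop.hom.left ≫ σ y j'.down ≫ pullback.snd (U y).hom f :=
      congrArg (fun m => m.down.left) hj
    have h2 : W.unop.hom.left ≫ σ y j.down = W.unop.hom.left ≫ σ y j'.down := by
      apply pullback.hom_ext
      · rw [Category.assoc, Category.assoc, hs.fst, hs.fst]
      · rw [Category.assoc, Category.assoc]
        exact h1
    have h3 := hs.disjoint _ _ _ _ (congrArg (fun m => m.base w) h2)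
    obtain rfl : j = j' := ULift.ext _ _ h3
    exact ⟨W.unop.left, 𝟙 _, (Sieve.overEquiv_iff _ _).2 rfl, w, rfl⟩
  have hsurj : Presheaf.IsLocallySurjective J τ := by
    refine ⟨fun {W} s => ?_⟩
    refine (GrothendieckTopology.mem_over_iff _ _).2 ((mem_topology_iff _).2 fun w => ?_)
    let g : W.left ⟶ Scheme.Etale.mk f := s.down
    let l : W.left.left ⟶ pullback (U y).hom f := pullback.lift W.hom.left g.left
      ((MorphismProperty.Over.w W.hom).trans (MorphismProperty.Over.w g).symm)
    obtain ⟨j, v, hv⟩ := hs.exists_eq (l.base w)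
    have := hs.isOpenImmersion j
    let O : W.left.left.Opens := l ⁻¹ᵁ (σ y j).opensRange
    have : Etale W.left.hom := W.left.prop
    let T : S.Etale := MorphismProperty.Over.mk ⊤ (O.ι ≫ W.left.hom)
      (MorphismProperty.comp_mem @Etale O.ι _ (show Etale O.ι from inferInstance) W.left.prop)
    let k : T ⟶ W.left := MorphismProperty.Over.homMk O.ι rfl
    refine ⟨T, k, (Sieve.overEquiv_iff _ _).2 ⟨ULift.up j, ?_⟩, ⟨w, v, hv⟩, rfl⟩
    refine ULift.ext _ _ (MorphismProperty.Over.Hom.ext ?_)
    change (O.ι ≫ W.hom.left) ≫ σ y j ≫ pullback.snd (U y).hom f = O.ι ≫ g.left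
    have hr : Set.range (O.ι ≫ l).base ⊆ Set.range (σ y j).base := by
      rintro _ ⟨x, rfl⟩
      exact x.2
    obtain ⟨m, hm⟩ : ∃ m, m ≫ σ y j = O.ι ≫ l := ⟨_, IsOpenImmersion.lift_fac (σ y j) (O.ι ≫ l) hr⟩
    have hm' : O.ι ≫ W.hom.left = m := by
      have h4 := eq_whisker hm (pullback.fst (U y).hom f)
      rw [Category.assoc, Category.assoc, hs.fst] at h4
      exact (congrArg (O.ι ≫ ·) (pullback.lift_fst _ _ _).symm).trans (h4.symm.trans (Category.comp_id _))
    rw [hm', reassoc_of% hm]
    exact congrArg (O.ι ≫ ·) (pullback.lift_snd _ _ _)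
  have hτ : J.W τ := (J.W_iff_isLocallyBijective τ).2 ⟨hinj, hsurj⟩
  exact nonempty_iso_of_W J
    (Functor.whiskerLeft (Over.forget (U y)).op (toSheafify S.smallEtaleTopology _) :
      P ⟶ ((EtDesc.repSh (Scheme.Etale.mk f)).over (U y)).obj)
    (Functor.whiskerLeft (Over.forget (U y)).op (toSheafify S.smallEtaleTopology
        ((Functor.const S.Etaleᵒᵖ).obj (ULift.{u + 1} (Fin (n y))))) :
      Q ⟶ ((CohProp.constSh S (ULift.{u + 1} (Fin (n y)))).over (U y)).obj) τ
    (W_whiskerLeft (U y) _ (S.smallEtaleTopology.W_toSheafify _))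
    (W_whiskerLeft (U y) _ (S.smallEtaleTopology.W_toSheafify _)) hτ

end Groth.Agent.Lib.EtSite.SetChart
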