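import Groth.Agent.Lib.EtSite.RepFEt
import Groth.Agent.Lib.EtSite.SetChart
import Groth.Agent.Lib.QfhGalois.Basic
import Groth.Agent.Lib.DescAlg.Sigma.Coprod
import Mathlib.CategoryTheory.Sites.LocallyBijective

/-!
# Small étale site: finite locally constant sheaves are representable
-/

set_option autoImplicit false

universe u

open CategoryTheory CategoryTheory.Limits AlgebraicGeometry Opposite

noncomputable section

namespace Groth.Agent.Lib.EtSite.RepCharts

open Groth.Agent.Lib.EtSite Groth.Agent.Lib.EtSite.Basic Groth.Agent.Lib.EtSite.SubDescent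

variable {X : Scheme.{u}}

/-- Sections which enumerate every stalk over the object. -/
def IsChart (F : EtDesc.Sh X) (U : X.Etale) {M : Type (u + 1)} (φ : M → EtDesc.sect F U) : Prop :=
  ∀ (Ω : Type u) [Field Ω] [IsSepClosed Ω] (ξ : Spec (CommRingCat.of Ω) ⟶ X)
    (p : (Scheme.pointSmallEtale ξ).fiber.obj U), Function.Bijective fun m => germ ξ F p (φ m)

/-- Locally bijective maps from constant presheaves give charts. -/
theorem exists_isChart (F : EtDesc.Sh X) (U : X.Etale) {M : Type (u + 1)}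
    (τ : (Functor.const (Over U)ᵒᵖ).obj M ⟶ (Over.forget U).op ⋙ F.obj)
    [Presheaf.IsLocallyInjective (X.smallEtaleTopology.over U) τ]
    [Presheaf.IsLocallySurjective (X.smallEtaleTopology.over U) τ] :
    ∃ φ : M → EtDesc.sect F U, IsChart F U φ := by
  let J := X.smallEtaleTopology.over U
  let P : (Over U)ᵒᵖ ⥤ Type (u + 1) := (Functor.const _).obj M
  let φ : M → EtDesc.sect F U := fun m => τ.app (op (Over.mk (𝟙 U))) m
  have hφ : ∀ {V : X.Etale} (g : V ⟶ U) (m : M), τ.app (op (Over.mk g)) m = F.obj.map g.op (φ m) :=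
    fun {V} g m => ConcreteCategory.congr_hom
      (τ.naturality (Over.homMk g : Over.mk g ⟶ Over.mk (𝟙 U)).op) m
  refine ⟨φ, fun Ω _ _ ξ p => ⟨fun m m' hm => ?_, fun z => ?_⟩⟩
  · obtain ⟨V, g, q, hq, hV⟩ := ((Scheme.pointSmallEtale ξ).toPresheafFiber_eq_iff' U p _ _).1 hm
    have hS : Sieve.overEquiv _ (Presheaf.equalizerSieve (F := P) (X := op (Over.mk g)) m m') ∈
        X.smallEtaleTopology V :=
      (GrothendieckTopology.mem_over_iff _ (Presheaf.equalizerSieve (F := P)
          (X := op (Over.mk g)) m m')).1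
        (Presheaf.equalizerSieve_mem J τ (X := op (Over.mk g)) m m'
          ((hφ g m).trans (hV.trans (hφ g m').symm)))
    obtain ⟨W, k, hk, -⟩ := (mem_topology_iff _).1 hS (fiberPt q)
    exact (Sieve.overEquiv_iff _ _).1 hk
  · obtain ⟨V, g, q, hq, s, rfl⟩ : ∃ (V : X.Etale) (g : V ⟶ U) (q : (Scheme.pointSmallEtale ξ).fiber.obj V)
        (_ : (Scheme.pointSmallEtale ξ).fiber.map g q = p) (s : EtDesc.sect F V), germ ξ F q s = z := by
      obtain ⟨V₀, q₀, s₀, rfl⟩ :=
        (Scheme.pointSmallEtale ξ).toPresheafFiber_jointly_surjective (P := F.obj) z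
      let K := IsCofiltered.min ((Scheme.pointSmallEtale ξ).fiber.elementsMk U p)
        ((Scheme.pointSmallEtale ξ).fiber.elementsMk V₀ q₀)
      let a : K ⟶ (Scheme.pointSmallEtale ξ).fiber.elementsMk U p := IsCofiltered.minToLeft _ _
      let b : K ⟶ (Scheme.pointSmallEtale ξ).fiber.elementsMk V₀ q₀ := IsCofiltered.minToRight _ _
      have hb : (Scheme.pointSmallEtale ξ).fiber.map b.1 K.2 = q₀ := b.2
      refine ⟨K.1, a.1, K.2, a.2, F.obj.map b.1.op s₀, ?_⟩
      rw [germ_map, hb]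
    have hS : Sieve.overEquiv _ (Presheaf.imageSieve τ (U := Over.mk g) s) ∈ X.smallEtaleTopology V :=
      (GrothendieckTopology.mem_over_iff _ (Presheaf.imageSieve τ (U := Over.mk g) s)).1
        (Presheaf.imageSieve_mem J τ (U := op (Over.mk g)) s)
    obtain ⟨W, k, hk, w, hw⟩ := (mem_topology_iff _).1 hS (fiberPt q)
    obtain ⟨r, hr, -⟩ := Fiber.exists_fiber_map ξ k q w hw
    obtain ⟨m, hm⟩ := (Sieve.overEquiv_iff _ _).1 hk
    refine ⟨m, ?_⟩
    have h1 : F.obj.map (k ≫ g).op (φ m) = F.obj.map k.op s := (hφ (k ≫ g) m).symm.trans hm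
    change germ ξ F p (φ m) = germ ξ F q s
    have h2 := congrArg (germ ξ F r) h1
    rw [germ_map, germ_map, Functor.map_comp, ConcreteCategory.comp_apply, hr, hq] at h2
    exact h2

/-- A finite chart indexed by `Fin n`. -/
theorem IsChart.exists_fin {F : EtDesc.Sh X} {U : X.Etale} {M : Type (u + 1)} [Finite M]
    {φ : M → EtDesc.sect F U} (h : IsChart F U φ) :
    ∃ (n : ℕ) (ψ : ULift.{u + 1} (Fin n) → EtDesc.sect F U), IsChart F U ψ := by
  obtain ⟨n, ⟨e⟩⟩ := Finite.exists_equiv_fin M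
  refine ⟨n, fun i => φ (e.symm i.down), fun Ω _ _ ξ p => ?_⟩
  exact (h Ω ξ p).comp (e.symm.bijective.comp Equiv.ulift.bijective)

/-- Sheaves with finite charts around every point are representable by finite étale schemes. -/
theorem exists_repSh_iso_of_charts (F : EtDesc.Sh X)
    (h : ∀ x : X, ∃ (U : X.Etale) (_ : ∃ u : U.left, U.hom.base u = x) (n : ℕ)
      (φ : ULift.{u + 1} (Fin n) → EtDesc.sect F U), IsChart F U φ) :
    ∃ (U : X.Etale) (_ : IsFinite U.hom), Nonempty (F ≅ EtDesc.repSh U) := by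
  choose U hU n φ hφ using h
  let P : X → Scheme.{u} := fun x => ∐ fun _ : ULift.{u} (Fin (n x)) => (U x).left
  let πx : ∀ x, P x ⟶ (U x).left := fun x => Sigma.desc fun _ => 𝟙 _
  let W : Scheme.{u} := ∐ fun x => (U x).left
  let Z : Scheme.{u} := ∐ P
  let p : W ⟶ X := Sigma.desc fun x => (U x).hom
  let π : Z ⟶ W := Limits.Sigma.map πx
  have hp : Etale p := IsZariskiLocalAtSource.sigmaDesc fun x => (U x).prop
  have hps : Surjective p := ⟨fun x => by
    obtain ⟨u, hu⟩ := hU x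
    refine ⟨(Sigma.ι (fun x => (U x).left) x).base u, ?_⟩
    rw [← Scheme.Hom.comp_apply, Sigma.ι_desc]
    exact hu⟩
  have hπx : ∀ x, IsFinite (πx x) ∧ Etale (πx x) := fun x =>
    ⟨QfhGalois.isFinite_sigmaDesc _ fun _ => inferInstance,
      IsZariskiLocalAtSource.sigmaDesc fun _ => inferInstance⟩
  have sq := fun x => DescAlg.Sigma.Coprod.isPullback_map πx x
  have hπf : IsFinite π := by
    rw [IsZariskiLocalAtTarget.iff_of_openCover (P := @IsFinite) (sigmaOpenCover fun x => (U x).left)]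
    intro x
    refine (MorphismProperty.cancel_left_of_respectsIso @IsFinite (sq x).flip.isoPullback.hom _).1 ?_
    refine (congrArg (fun m => IsFinite m) (sq x).flip.isoPullback_hom_snd).mpr ?_
    exact (hπx x).1
  have hπe : Etale π := by
    rw [IsZariskiLocalAtTarget.iff_of_openCover (P := @Etale) (sigmaOpenCover fun x => (U x).left)]
    intro x
    refine (MorphismProperty.cancel_left_of_respectsIso @Etale (sq x).flip.isoPullback.hom _).1 ?_
    refine (congrArg (fun m => Etale m) (sq x).flip.isoPullback_hom_snd).mpr ?_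
    exact (hπx x).2
  let T : X.Etale := Scheme.Etale.mk (π ≫ p)
  let κ : (Σ x, ULift.{u} (Fin (n x))) → X.Etale := fun k => U k.1
  let inc : ∀ k : Σ x, ULift.{u} (Fin (n x)), (U k.1).left ⟶ Z := fun k =>
    Sigma.ι (fun _ : ULift.{u} (Fin (n k.1)) => (U k.1).left) k.2 ≫ Sigma.ι P k.1
  have hinc : ∀ k, inc k ≫ π = Sigma.ι (fun x => (U x).left) k.1 := fun k => by
    rw [Category.assoc, Limits.Sigma.ι_map, ← Category.assoc, Sigma.ι_desc, Category.id_comp]
  let o : ∀ k, κ k ⟶ T := fun k => MorphismProperty.Over.homMk (inc k) (by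
    change inc k ≫ π ≫ p = (U k.1).hom
    rw [← Category.assoc, hinc, Sigma.ι_desc])
  have hD : DisjointCover.IsDisjointCover κ o := by
    refine ⟨fun k => ?_, fun z => ?_, fun k l a b hab => ?_⟩
    · change IsOpenImmersion (Sigma.ι (fun _ : ULift.{u} (Fin (n k.1)) => (U k.1).left) k.2 ≫ Sigma.ι P k.1)
      infer_instance
    · obtain ⟨x, y, rfl⟩ : ∃ x y, (Sigma.ι P x).base y = z := (sigmaOpenCover P).exists_eq z
      obtain ⟨j, v, rfl⟩ : ∃ j v, (Sigma.ι (fun _ : ULift.{u} (Fin (n x)) => (U x).left) j).base v = y :=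
        (sigmaOpenCover fun _ : ULift.{u} (Fin (n x)) => (U x).left).exists_eq y
      exact ⟨⟨x, j⟩, v, rfl⟩
    · obtain ⟨x, i⟩ := k
      obtain ⟨y, j⟩ := l
      obtain rfl : x = y := by
        by_contra hxy
        exact Set.disjoint_left.1 (TopologicalSpace.Opens.coe_disjoint.2
          (disjoint_opensRange_sigmaι P x y hxy)) ⟨_, rfl⟩ ⟨_, hab.symm⟩
      obtain rfl : i = j := by
        by_contra hij
        exact Set.disjoint_left.1 (TopologicalSpace.Opens.coe_disjoint.2
          (disjoint_opensRange_sigmaι (fun _ : ULift.{u} (Fin (n x)) => (U x).left) i j hij)) ⟨_, rfl⟩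
            ⟨_, ((Sigma.ι P x).isOpenEmbedding.injective hab).symm⟩
      rfl
  obtain ⟨s, hs⟩ := hD.exists_glue F fun k => φ k.1 ⟨k.2.down⟩
  refine RepFEt.exists_repSh_iso
    { U := W, p := p, etale_p := hp, surj_p := hps, Z := Z, π := π, finite_π := hπf, etale_π := hπe,
      s := s, bij := ?_ }
  intro Ω _ _ η
  obtain ⟨x, a, ha⟩ : ∃ x, ∃ a : Spec (CommRingCat.of Ω) ⟶ (U x).left,
      a ≫ Sigma.ι (fun x => (U x).left) x = η := by
    obtain ⟨x, v, hv⟩ : ∃ x v, (Sigma.ι (fun x => (U x).left) x).base v = η.base default :=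
      (sigmaOpenCover fun x => (U x).left).exists_eq _
    exact ⟨x, IsOpenImmersion.lift (Sigma.ι (fun x => (U x).left) x) η (by
      rintro _ ⟨t, rfl⟩
      rw [Subsingleton.elim t default]
      exact ⟨v, hv⟩), IsOpenImmersion.lift_fac _ _ _⟩
  have hax : a ≫ (U x).hom = η ≫ p := by rw [← ha, Category.assoc, Sigma.ι_desc]
  let b : ULift.{u + 1} (Fin (n x)) → {v : Spec (CommRingCat.of Ω) ⟶ Z // v ≫ π = η} := fun j =>
    ⟨a ≫ inc ⟨x, ⟨j.down⟩⟩, by rw [Category.assoc, hinc]; exact ha⟩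
  have hb : Function.Surjective b := by
    rintro ⟨v, hv⟩
    obtain ⟨⟨y, j⟩, l, hl⟩ := hD.exists_fac (U := T) v
    have hl' : l ≫ inc ⟨y, j⟩ = v := hl
    have e : l ≫ Sigma.ι (fun x => (U x).left) y = a ≫ Sigma.ι (fun x => (U x).left) x := by
      rw [ha, ← hv, ← hl', Category.assoc, hinc]
    obtain rfl : y = x := by
      by_contra hyx
      exact Set.disjoint_left.1 (TopologicalSpace.Opens.coe_disjoint.2
        (disjoint_opensRange_sigmaι (fun x => (U x).left) y x hyx)) ⟨_, rfl⟩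
        ⟨_, (congrArg (fun m => m.base default) e).symm⟩
    obtain rfl : l = a := (cancel_mono _).1 e
    exact ⟨⟨j.down⟩, Subtype.ext hl'⟩
  have hkey : ∀ j, germ (η ≫ p) F (mkFiber (η ≫ p) T (b j).1
      ((Category.assoc _ _ _).symm.trans (eq_whisker (b j).2 p))) s =
        germ (η ≫ p) F (mkFiber (η ≫ p) (U x) a hax) (φ x j) := by
    intro j
    have := hs ⟨x, ⟨j.down⟩⟩
    change F.obj.map (o ⟨x, ⟨j.down⟩⟩).op s = φ x j at this
    rw [← this, germ_map]
    rfl
  have hcomp := (hφ x Ω (η ≫ p) (mkFiber (η ≫ p) (U x) a hax))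
  have hbinj : Function.Injective b := fun i j hij => hcomp.1 (by
    change germ _ F _ (φ x i) = germ _ F _ (φ x j)
    rw [← hkey, ← hkey, hij])
  refine ⟨fun v v' hvv => ?_, fun z => ?_⟩
  · obtain ⟨i, rfl⟩ := hb v
    obtain ⟨j, rfl⟩ := hb v'
    refine congrArg b (hcomp.1 ?_)
    change germ _ F _ (φ x i) = germ _ F _ (φ x j)
    rw [← hkey, ← hkey]
    exact hvv
  · obtain ⟨j, hj⟩ := hcomp.2 z
    exact ⟨b j, (hkey j).trans hj⟩

/-- Finite locally constant sheaves of sets are representable by finite étale schemes. -/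
theorem exists_repSh_iso_of_isFinLocConstSet (F : EtDesc.Sh X) (hF : CohProp.IsFinLocConstSet F) :
    ∃ (U : X.Etale) (_ : IsFinite U.hom), Nonempty (F ≅ EtDesc.repSh U) := by
  refine exists_repSh_iso_of_charts F fun x => ?_
  obtain ⟨ι, U, hU, h⟩ := hF
  obtain ⟨i, u, hu⟩ := hU x
  obtain ⟨M, hM, ⟨e⟩⟩ := h i
  let J := X.smallEtaleTopology.over (U i)
  let η : (Functor.const (Over (U i))ᵒᵖ).obj M ⟶ ((CohProp.constSh X M).over (U i)).obj :=
    Functor.whiskerLeft (Over.forget (U i)).op (toSheafify X.smallEtaleTopology ((Functor.const _).obj M))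
  obtain ⟨h₁, h₂⟩ := (J.W_iff_isLocallyBijective η).1
    (SetChart.W_whiskerLeft (U i) _ (X.smallEtaleTopology.W_toSheafify _))
  have : IsIso e.inv.hom := inferInstanceAs (IsIso ((sheafToPresheaf _ _).map e.inv))
  have : Sheaf.IsLocallySurjective e.inv := inferInstance
  have : Sheaf.IsLocallyInjective e.inv := inferInstance
  have h₃ : Presheaf.IsLocallyInjective J (η ≫ e.inv.hom) := Presheaf.isLocallyInjective_comp J η e.inv.hom
  have h₄ : Presheaf.IsLocallySurjective J (η ≫ e.inv.hom) := Presheaf.isLocallySurjective_comp J η e.inv.hom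
  obtain ⟨φ, hφ⟩ := @exists_isChart _ F (U i) _ (η ≫ e.inv.hom) h₃ h₄
  obtain ⟨n, ψ, hψ⟩ := hφ.exists_fin
  exact ⟨U i, ⟨u, hu⟩, n, ψ, hψ⟩

end Groth.Agent.Lib.EtSite.RepCharts
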