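import Groth.Prelude.Def_SGA4b
import Groth.Agent.Lib.EtSite.Stalk
import Mathlib.CategoryTheory.Sites.Point.Skyscraper
import Mathlib.CategoryTheory.Limits.Preserves.Limits
import Mathlib.Algebra.Category.Grp.AB
import Mathlib.CategoryTheory.Abelian.GrothendieckAxioms.Types

/-!
# Small étale site: inverse image commutes with stalks and is exact
-/

universe u

open CategoryTheory CategoryTheory.Limits AlgebraicGeometry Opposite

namespace Groth.Agent.Lib.EtSite.Pull

open Groth.Agent.Lib.EtSite.Basic Groth.Agent.Lib.EtSite.Stalk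

variable {X Y : Scheme.{u}} (f : X ⟶ Y) {Ω : Type u} [Field Ω] [IsSepClosed Ω]
  (ξ : Spec (CommRingCat.of Ω) ⟶ X)

/-- Points of `V ×_Y X` over `ξ` are points of `V` over `ξ ≫ f`. -/
noncomputable def fiberBcIso :
    EtCoh.bc f ⋙ (Scheme.pointSmallEtale ξ).fiber ≅ (Scheme.pointSmallEtale (ξ ≫ f)).fiber :=
  NatIso.ofComponents (fun V => (Equiv.toIso
    { toFun := fun p => mkFiber (ξ ≫ f) V (fiberHom p ≫ pullback.fst V.hom f) (by
        have h := fiberHom_comp p
        exact (Category.assoc _ _ _).trans ((congrArg (fiberHom p ≫ ·) pullback.condition).trans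
          ((Category.assoc _ _ _).symm.trans (congrArg (fun m => m ≫ f) h))))
      invFun := fun p => mkFiber ξ ((EtCoh.bc f).obj V)
        (pullback.lift (fiberHom p) ξ (fiberHom_comp p)) (pullback.lift_snd _ _ _)
      left_inv := fun p => by
        apply Over.OverMorphism.ext
        apply pullback.hom_ext
        · exact pullback.lift_fst _ _ _
        · refine (pullback.lift_snd _ _ _).trans (fiberHom_comp p).symm
      right_inv := fun p => by
        apply Over.OverMorphism.ext
        exact pullback.lift_fst _ _ _ })) (fun {V W} g => by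
    ext p
    apply Over.OverMorphism.ext
    change (fiberHom p ≫ ((EtCoh.bc f).map g).left) ≫ pullback.fst W.hom f =
      (fiberHom p ≫ pullback.fst V.hom f) ≫ g.left
    rw [Category.assoc, (EtCoh.isPullback_bc_map f g).w, Category.assoc])

section

variable (A : Type (u + 2)) [Category.{u + 1} A] [HasProducts.{u} A] [HasColimitsOfSize.{u, u} A]
  [((EtCoh.bc f).sheafPushforwardContinuous A Y.smallEtaleTopology
    X.smallEtaleTopology).IsRightAdjoint]

/-- Direct image of a skyscraper is a skyscraper. -/
noncomputable def skyscraperPushIso :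
    (Scheme.pointSmallEtale ξ).skyscraperSheafFunctor (A := A) ⋙
        (EtCoh.bc f).sheafPushforwardContinuous A Y.smallEtaleTopology X.smallEtaleTopology ≅
      (Scheme.pointSmallEtale (ξ ≫ f)).skyscraperSheafFunctor :=
  NatIso.ofComponents (fun M => (fullyFaithfulSheafToPresheaf _ _).preimageIso
      (Functor.isoWhiskerRight (NatIso.op (fiberBcIso f ξ).symm)
        (piFunctor.{u}.obj M)))
    (fun {M N} g => by
      ext : 1
      ext V : 2
      exact ((piFunctor.{u}.map g).naturality ((fiberBcIso f ξ).inv.app V.unop).op).symm)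

/-- The stalk of an inverse image is the stalk at the image geometric point. -/
noncomputable def stalkPullIso :
    (EtCoh.bc f).sheafPullback A Y.smallEtaleTopology X.smallEtaleTopology ⋙
        (Scheme.pointSmallEtale ξ).sheafFiber ≅
      (Scheme.pointSmallEtale (ξ ≫ f)).sheafFiber :=
  Adjunction.leftAdjointUniq
    ((((EtCoh.bc f).sheafAdjunctionContinuous A Y.smallEtaleTopology X.smallEtaleTopology).comp
      (Scheme.pointSmallEtale ξ).skyscraperSheafAdjunction).ofNatIsoRight (skyscraperPushIso f ξ A))
    (Scheme.pointSmallEtale (ξ ≫ f)).skyscraperSheafAdjunction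

end

section

variable (A : Type (u + 2)) [Category.{u + 1} A] {FA : A → A → Type*}
  {CA : A → Type (u + 1)} [funLike : ∀ M N, FunLike (FA M N) (CA M) (CA N)]
  [concrete : ConcreteCategory.{u + 1} A FA]
  [HasProducts.{u} A] [HasColimitsOfSize.{u, u} A]
  [preservesColim : PreservesFilteredColimitsOfSize.{u, u} (forget A)]
  [preservesLim : PreservesLimitsOfSize.{u + 1, u + 1} (forget A)]
  [reflectsIso : (forget A).ReflectsIsomorphisms]
  [HasFiniteLimits A] [AB5OfSize.{u, u} A]
  [((EtCoh.bc f).sheafPushforwardContinuous A Y.smallEtaleTopology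
    X.smallEtaleTopology).IsRightAdjoint]

include funLike concrete preservesColim preservesLim reflectsIso in
theorem preservesFiniteLimits_sheafPullback :
    PreservesFiniteLimits
      ((EtCoh.bc f).sheafPullback A Y.smallEtaleTopology X.smallEtaleTopology) := by
  refine ⟨fun J _ _ => ⟨fun {K} => ?_⟩⟩
  let G := (EtCoh.bc f).sheafPullback A Y.smallEtaleTopology X.smallEtaleTopology
  have : IsIso (limit.post K G) := by
    refine isIso_of_stalks (FA := FA) _ <| enoughPts_pt fun x =>
      (ConcreteCategory.isIso_iff_bijective (C := A) (FC := FA) _).1 ?_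
    have : PreservesFiniteLimits (G ⋙ (pt X x).sheafFiber) :=
      preservesFiniteLimits_of_natIso (stalkPullIso f (geomPoint X x) A).symm
    have h := limit.post_post K G (pt X x).sheafFiber
    have h' : IsIso ((pt X x).sheafFiber.map (limit.post K G) ≫
        limit.post (K ⋙ G) (pt X x).sheafFiber) := by
      rw [h]
      change IsIso (limit.post K (G ⋙ (pt X x).sheafFiber))
      infer_instance
    exact IsIso.of_isIso_comp_right _ (limit.post (K ⋙ G) (pt X x).sheafFiber)
  exact preservesLimit_of_isIso_post (F := K) (G := G)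

end

instance ab5_addCommGrp : AB5OfSize.{u, u} AddCommGrpCat.{u + 1} :=
  AB5OfSize_shrink.{u, u, u + 1, u + 1} _

instance ab5_type : AB5OfSize.{u, u} (Type (u + 1)) :=
  AB5OfSize_shrink.{u, u, u + 1, u + 1} _

instance preservesFiniteLimits_pull {X Y : Scheme.{u}} (f : X ⟶ Y) [EtCoh.BCCont f] :
    PreservesFiniteLimits (EtCoh.pull f) :=
  preservesFiniteLimits_sheafPullback f AddCommGrpCat.{u + 1}

instance preservesFiniteLimits_pullSh {X Y : Scheme.{u}} (f : X ⟶ Y) :
    PreservesFiniteLimits (EtDesc.pullSh f) :=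
  preservesFiniteLimits_sheafPullback f (Type (u + 1))

/-- The stalk of `f⁻¹ G` at `ξ` is the stalk of `G` at `ξ ≫ f`. -/
noncomputable def stalkPull : EtCoh.pull f ⋙ EtCoh.stalk ξ ≅ EtCoh.stalk (ξ ≫ f) :=
  stalkPullIso f ξ AddCommGrpCat.{u + 1}

/-- The stalk of `f^* F` at `ξ` is the stalk of `F` at `ξ ≫ f`. -/
noncomputable def stalkPullSh :
    EtDesc.pullSh f ⋙ (Scheme.pointSmallEtale ξ).sheafFiber ≅
      (Scheme.pointSmallEtale (ξ ≫ f)).sheafFiber :=
  stalkPullIso f ξ (Type (u + 1))

end Groth.Agent.Lib.EtSite.Pull
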