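import Groth.Agent.Lib.EtSite.IntegralRefine
import Groth.Agent.Lib.EtSite.Pull
import Mathlib.CategoryTheory.Sites.EpiMono
import Mathlib.CategoryTheory.Abelian.Exact
import Mathlib.CategoryTheory.Abelian.RightDerived

/-!
# Direct images along integral morphisms on small étale sites are exact
-/

universe u

open CategoryTheory CategoryTheory.Limits AlgebraicGeometry Opposite

namespace Groth.Agent.Lib.EtSite.Push

open Groth.Agent.Lib.EtSite.Basic Groth.Agent.Lib.EtSite.Stalk Groth.Agent.Lib.EtSite.DisjointCover

/-- An algebraically closed geometric point over a point. -/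
noncomputable def algPoint (X : Scheme.{u}) (x : X) :
    Spec (CommRingCat.of (AlgebraicClosure (X.residueField x))) ⟶ X :=
  Spec.map (CommRingCat.ofHom (algebraMap (X.residueField x) (AlgebraicClosure (X.residueField x)))) ≫
    X.fromSpecResidueField x

theorem algPoint_apply (X : Scheme.{u}) (x : X)
    (p : Spec (CommRingCat.of (AlgebraicClosure (X.residueField x)))) :
    (algPoint X x).base p = x := by
  rw [algPoint, Scheme.Hom.comp_apply]
  exact Scheme.fromSpecResidueField_apply x _

variable {X Y : Scheme.{u}} (f : X ⟶ Y) [IsIntegralHom f]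

section

variable {A : Type (u + 2)} [Category.{u + 1} A] {FA : A → A → Type*}
  {CA : A → Type (u + 1)} [∀ M N, FunLike (FA M N) (CA M) (CA N)] [ConcreteCategory.{u + 1} A FA]
  [HasColimitsOfSize.{u, u} A] [PreservesFilteredColimitsOfSize.{u, u} (forget A)]
  [PreservesLimitsOfSize.{u + 1, u + 1} (forget A)]

/-- Local surjectivity is preserved by direct image along an integral morphism. -/
theorem isLocallySurjective_push {F G : Sheaf X.smallEtaleTopology A} (φ : F ⟶ G)
    [Sheaf.IsLocallySurjective φ] :
    Sheaf.IsLocallySurjective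
      (((EtCoh.bc f).sheafPushforwardContinuous A Y.smallEtaleTopology X.smallEtaleTopology).map φ) := by
  refine ⟨fun {V} t => (mem_topology_iff _).2 fun v => ?_⟩
  let S : Sieve ((EtCoh.bc f).obj V) := Presheaf.imageSieve φ.hom t
  have hS : S ∈ X.smallEtaleTopology _ := Presheaf.imageSieve_mem X.smallEtaleTopology φ.hom t
  obtain ⟨p, hp⟩ := exists_fiber (algPoint Y (V.hom.base v)) V v (algPoint_apply _ _ _).symm
  let ι := Σ Z : X.Etale, {g : Z ⟶ (EtCoh.bc f).obj V // S g}
  obtain ⟨V', a, p', hp', n, D, o, i, b, hD, hb, -⟩ :=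
    IntegralRefine.exists_refinement f V p (fun i : ι => i.1) (fun i => i.2.1) (fun _ => Set.univ)
      (fun _ _ _ => ⟨Set.univ, isOpen_univ, fun _ _ _ => trivial, fun _ _ _ => trivial⟩)
      (fun x _ => by
        obtain ⟨Z, g, hg, z, hz⟩ := (mem_topology_iff S).1 hS (x.base default)
        have := Fiber.etale_left g
        obtain ⟨l, hl, -⟩ := Scheme.exists_fac_of_etale_of_isSepClosed g.left x z hz
        exact ⟨⟨Z, g, hg⟩, l, trivial, hl⟩)
  refine ⟨V', a, ?_, fiberPt p', (fiberPt_map a p').symm.trans ((congrArg fiberPt hp').trans hp)⟩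
  obtain ⟨s, hs⟩ := hD.exists_glue F fun j =>
    F.obj.map (b j).op (Presheaf.localPreimage φ.hom t (i j).2.1 (i j).2.2)
  refine ⟨s, sections_ext G _ _ fun x => ?_⟩
  obtain ⟨j, d, hd⟩ := hD.exists_eq x
  refine ⟨D j, o j, ?_, d, hd⟩
  have h1 := NatTrans.naturality_apply φ.hom (o j).op s
  refine h1.symm.trans ?_
  rw [hs]
  refine (NatTrans.naturality_apply φ.hom (b j).op _).trans ?_
  erw [Presheaf.app_localPreimage]
  simp only [Functor.op_obj, ← ConcreteCategory.comp_apply, ← Functor.map_comp,
    ← op_comp]
  erw [← ConcreteCategory.comp_apply]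
  rw [hb j, op_comp, Functor.map_comp]
  rfl

end

theorem preservesEpimorphisms_pushSh : (EtDesc.pushSh f).PreservesEpimorphisms where
  preserves φ h := by
    have := (Sheaf.isLocallySurjective_iff_epi φ).2 h
    have := isLocallySurjective_push f φ
    exact Sheaf.epi_of_isLocallySurjective _

theorem preservesEpimorphisms_push [EtCoh.BCCont f] : (EtCoh.push f).PreservesEpimorphisms where
  preserves φ h := by
    have := (Sheaf.isLocallySurjective_iff_epi' (φ := φ)).2 h
    have := isLocallySurjective_push f φ
    exact Sheaf.epi_of_isLocallySurjective _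

theorem preservesHomology_push [EtCoh.BCCont f] : (EtCoh.push f).PreservesHomology := by
  have := preservesEpimorphisms_push f
  have : PreservesLimitsOfSize.{0, 0} (EtCoh.push f) :=
    (EtCoh.pullPushAdj f).rightAdjoint_preservesLimits
  exact Functor.preservesHomology_of_preservesEpis_and_kernels _

/-- Higher direct images along integral morphisms vanish. -/
theorem isZero_Rpush [EtCoh.BCCont f] (F : EtCoh.Ab X) (q : ℕ) (hq : 0 < q) :
    IsZero ((EtCoh.Rpush f q).obj F) := by
  obtain ⟨n, rfl⟩ := Nat.exists_eq_succ_of_ne_zero hq.ne'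
  have := preservesHomology_push f
  let I := InjectiveResolution.of F
  refine IsZero.of_iso ?_ (I.isoRightDerivedObj (EtCoh.push f) (n + 1))
  refine (HomologicalComplex.exactAt_iff_isZero_homology _ _).1 ?_
  exact (I.cocomplex_exactAt_succ n).map (EtCoh.push f)

end Groth.Agent.Lib.EtSite.Push
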