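import Groth.Agent.Lib.EtSite.Push
import Groth.Agent.Lib.EtSite.FieldExt

/-!
# Stalks of direct images along integral morphisms
-/

universe u

open CategoryTheory CategoryTheory.Limits AlgebraicGeometry Opposite

namespace Groth.Agent.Lib.EtSite.PushStalk

open Groth.Agent.Lib.EtSite.Basic Groth.Agent.Lib.EtSite.Stalk Groth.Agent.Lib.EtSite.DisjointCover

variable {X Y : Scheme.{u}} (f : X ⟶ Y) {Ω : Type u} [Field Ω] [IsSepClosed Ω]

/-- The point of `X ×_Y V` above a fibre point of `V` and a compatible geometric point of `X`. -/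
noncomputable def liftPt {η : Spec (CommRingCat.of Ω) ⟶ Y} {ξ : Spec (CommRingCat.of Ω) ⟶ X}
    (h : ξ ≫ f = η) (V : Y.Etale) (p : (Scheme.pointSmallEtale η).fiber.obj V) :
    (Scheme.pointSmallEtale ξ).fiber.obj ((EtCoh.bc f).obj V) :=
  mkFiber ξ _ (pullback.lift (fiberHom p) ξ ((fiberHom_comp p).trans h.symm)) (pullback.lift_snd _ _ _)

theorem map_liftPt {η : Spec (CommRingCat.of Ω) ⟶ Y} {ξ : Spec (CommRingCat.of Ω) ⟶ X}
    (h : ξ ≫ f = η) {V V' : Y.Etale} (g : V' ⟶ V) (p : (Scheme.pointSmallEtale η).fiber.obj V') :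
    (Scheme.pointSmallEtale ξ).fiber.map ((EtCoh.bc f).map g) (liftPt f h V' p) =
      liftPt f h V ((Scheme.pointSmallEtale η).fiber.map g p) := by
  apply Over.OverMorphism.ext
  apply pullback.hom_ext
  · refine (Category.assoc _ _ _).trans ((_ ≫= (EtCoh.isPullback_bc_map f g).w).trans ?_)
    refine Eq.trans ?_ (pullback.lift_fst _ _ _).symm
    exact (Category.assoc _ _ _).symm.trans (congrArg (· ≫ g.left) (pullback.lift_fst _ _ _))
  · refine (Category.assoc _ _ _).trans ?_
    refine Eq.trans (_ ≫= (Over.w ((EtCoh.bc f).map g).hom :)) ?_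
    exact (pullback.lift_snd _ _ _).trans (pullback.lift_snd _ _ _).symm

theorem snd_comp_eq {η : Spec (CommRingCat.of Ω) ⟶ Y} {V : Y.Etale}
    {p : (Scheme.pointSmallEtale η).fiber.obj V}
    {x : Spec (CommRingCat.of Ω) ⟶ ((EtCoh.bc f).obj V).left}
    (hx : x ≫ pullback.fst V.hom f = fiberHom p) : (x ≫ pullback.snd V.hom f) ≫ f = η :=
  (Category.assoc _ _ _).trans ((x ≫= pullback.condition.symm).trans
    ((Category.assoc _ _ _).symm.trans ((congrArg (· ≫ V.hom) hx).trans (fiberHom_comp p))))

section nat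

variable (A : Type (u + 2)) [Category.{u + 1} A] [HasColimitsOfSize.{u, u} A]

/-- Restriction of a germ of the direct image to a geometric point above, on one sheaf. -/
noncomputable def germToApp {η : Spec (CommRingCat.of Ω) ⟶ Y} {ξ : Spec (CommRingCat.of Ω) ⟶ X}
    (h : ξ ≫ f = η) (F : Sheaf X.smallEtaleTopology A) :
    (Scheme.pointSmallEtale η).presheafFiber.obj
        (((EtCoh.bc f).sheafPushforwardContinuous A Y.smallEtaleTopology X.smallEtaleTopology).obj F).obj ⟶
      (Scheme.pointSmallEtale ξ).presheafFiber.obj F.obj :=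
  (Scheme.pointSmallEtale η).presheafFiberDesc
    (fun V p => (Scheme.pointSmallEtale ξ).toPresheafFiber _ (liftPt f h V p) F.obj)
    (fun V V' g p => by
      refine ((Scheme.pointSmallEtale ξ).toPresheafFiber_w ((EtCoh.bc f).map g) _ F.obj).trans ?_
      rw [map_liftPt])

@[reassoc]
theorem toPresheafFiber_germToApp {η : Spec (CommRingCat.of Ω) ⟶ Y}
    {ξ : Spec (CommRingCat.of Ω) ⟶ X} (h : ξ ≫ f = η) (F : Sheaf X.smallEtaleTopology A)
    (V : Y.Etale) (p : (Scheme.pointSmallEtale η).fiber.obj V) :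
    (Scheme.pointSmallEtale η).toPresheafFiber V p
        (((EtCoh.bc f).sheafPushforwardContinuous A Y.smallEtaleTopology X.smallEtaleTopology).obj F).obj ≫
        germToApp f A h F =
      (Scheme.pointSmallEtale ξ).toPresheafFiber _ (liftPt f h V p) F.obj :=
  (Scheme.pointSmallEtale η).toPresheafFiber_presheafFiberDesc _ _ V p

/-- Restriction of a germ of the direct image to a geometric point above. -/
noncomputable def germTo {η : Spec (CommRingCat.of Ω) ⟶ Y} {ξ : Spec (CommRingCat.of Ω) ⟶ X}
    (h : ξ ≫ f = η) :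
    (EtCoh.bc f).sheafPushforwardContinuous A Y.smallEtaleTopology X.smallEtaleTopology ⋙
        (Scheme.pointSmallEtale η).sheafFiber ⟶
      (Scheme.pointSmallEtale ξ).sheafFiber where
  app F := germToApp f A h F
  naturality F G φ := by
    apply (Scheme.pointSmallEtale η).presheafFiber_hom_ext
    intro V p
    refine ((Scheme.pointSmallEtale η).toPresheafFiber_naturality_assoc
      (((EtCoh.bc f).sheafPushforwardContinuous A Y.smallEtaleTopology X.smallEtaleTopology).map φ).hom
      V p (germToApp f A h G)).trans ?_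
    refine Eq.trans ?_ (toPresheafFiber_germToApp_assoc f A h F V p
      ((Scheme.pointSmallEtale ξ).presheafFiber.map φ.hom)).symm
    refine Eq.trans ?_ (GrothendieckTopology.Point.toPresheafFiber_naturality _ φ.hom _ _).symm
    exact _ ≫= toPresheafFiber_germToApp f A h G V p

end nat

section

variable {A : Type (u + 2)} [Category.{u + 1} A] {FA : A → A → Type*}
  {CA : A → Type (u + 1)} [∀ M N, FunLike (FA M N) (CA M) (CA N)] [ConcreteCategory.{u + 1} A FA]
  [HasColimitsOfSize.{u, u} A] [PreservesFilteredColimitsOfSize.{u, u} (forget A)]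
  [PreservesLimitsOfSize.{u + 1, u + 1} (forget A)]

theorem germTo_toPresheafFiber {η : Spec (CommRingCat.of Ω) ⟶ Y}
    {ξ : Spec (CommRingCat.of Ω) ⟶ X} (h : ξ ≫ f = η) (F : Sheaf X.smallEtaleTopology A)
    (V : Y.Etale) (p : (Scheme.pointSmallEtale η).fiber.obj V)
    (s : ToType (F.obj.obj (op ((EtCoh.bc f).obj V)))) :
    (germTo f A h).app F ((Scheme.pointSmallEtale η).toPresheafFiber V p
      (((EtCoh.bc f).sheafPushforwardContinuous A Y.smallEtaleTopology X.smallEtaleTopology).obj F).obj s) =
      (Scheme.pointSmallEtale ξ).toPresheafFiber _ (liftPt f h V p) F.obj s := by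
  refine (ConcreteCategory.comp_apply _ _ s).symm.trans ?_
  exact congrArg (fun m => m s) (congrArg (ConcreteCategory.hom)
    (toPresheafFiber_germToApp f A h F V p))

variable [UniversallyClosed f]

/-- Germs of a direct image along a closed morphism are detected above the point. -/
theorem toPresheafFiber_push_ext {η : Spec (CommRingCat.of Ω) ⟶ Y} (F : Sheaf X.smallEtaleTopology A)
    (V : Y.Etale) (p : (Scheme.pointSmallEtale η).fiber.obj V)
    (hlift : ∀ w : ((EtCoh.bc f).obj V).left, (pullback.fst V.hom f).base w = fiberPt p →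
      ∃ x : Spec (CommRingCat.of Ω) ⟶ ((EtCoh.bc f).obj V).left,
        x ≫ pullback.fst V.hom f = fiberHom p ∧ x.base default = w)
    (s t : ToType (F.obj.obj (op ((EtCoh.bc f).obj V))))
    (hst : ∀ (ξ : Spec (CommRingCat.of Ω) ⟶ X) (h : ξ ≫ f = η),
      (Scheme.pointSmallEtale ξ).toPresheafFiber _ (liftPt f h V p) F.obj s =
        (Scheme.pointSmallEtale ξ).toPresheafFiber _ (liftPt f h V p) F.obj t) :
    (Scheme.pointSmallEtale η).toPresheafFiber V p
      (((EtCoh.bc f).sheafPushforwardContinuous A Y.smallEtaleTopology X.smallEtaleTopology).obj F).obj s =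
    (Scheme.pointSmallEtale η).toPresheafFiber V p
      (((EtCoh.bc f).sheafPushforwardContinuous A Y.smallEtaleTopology X.smallEtaleTopology).obj F).obj t := by
  classical
  let P := ((EtCoh.bc f).obj V).left
  let O : Set P := {w | ∃ (Z : X.Etale) (g : Z ⟶ (EtCoh.bc f).obj V), F.obj.map g.op s = F.obj.map g.op t ∧
    w ∈ Set.range g.left.base}
  have hO : IsOpen O := by
    rw [isOpen_iff_forall_mem_open]
    rintro w ⟨Z, g, hg, hw⟩
    exact ⟨_, fun w' hw' => ⟨Z, g, hg, hw'⟩, Fiber.isOpen_range_left g, hw⟩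
  let W : V.left.Opens := ⟨((pullback.fst V.hom f).base '' Oᶜ)ᶜ,
    ((pullback.fst V.hom f).isClosedMap _ hO.isClosed_compl).isOpen_compl⟩
  have hW : fiberPt p ∈ W := by
    rintro ⟨w, hw, hwp⟩
    obtain ⟨x, hx, rfl⟩ := hlift w hwp
    have hξ := snd_comp_eq f hx
    obtain ⟨Z, g, q, hq, hgst⟩ := ((Scheme.pointSmallEtale _).toPresheafFiber_eq_iff' _ _ s t).1
      (hst _ hξ)
    refine hw ⟨Z, g, hgst, fiberPt q, (fiberPt_map g q).symm.trans ((congrArg fiberPt hq).trans ?_)⟩
    have : pullback.lift (fiberHom p) (x ≫ pullback.snd V.hom f) ((fiberHom_comp p).trans hξ.symm) = x := by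
      apply pullback.hom_ext
      · exact (pullback.lift_fst _ _ _).trans hx.symm
      · exact pullback.lift_snd _ _ _
    exact congrArg (fun m => m.base default) this
  have : Etale V.hom := V.prop
  let V' : Y.Etale := MorphismProperty.Over.mk ⊤ (W.ι ≫ V.hom)
    (MorphismProperty.comp_mem @Etale W.ι _ (show Etale W.ι from inferInstance) V.prop)
  let a : V' ⟶ V := MorphismProperty.Over.homMk W.ι rfl
  obtain ⟨p', hp', -⟩ := Fiber.exists_fiber_map η a p ⟨fiberPt p, hW⟩ rfl
  have key : F.obj.map ((EtCoh.bc f).map a).op s = F.obj.map ((EtCoh.bc f).map a).op t := by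
    refine sections_ext F _ _ fun w => ?_
    have hmem : ((EtCoh.bc f).map a).left.base w ∈ O := by
      by_contra hn
      refine ((pullback.fst V'.hom f).base w).2 ⟨_, hn, ?_⟩
      exact congrArg (fun m => m.base w) (EtCoh.isPullback_bc_map f a).w
    obtain ⟨Z, g, hg, z, hz⟩ := hmem
    obtain ⟨T, α, β, τ, hαβ, hτ⟩ := Fiber.exists_refine ((EtCoh.bc f).map a) g w z hz.symm
    refine ⟨T, α, ?_, τ, hτ⟩
    simp only [← ConcreteCategory.comp_apply, ← Functor.map_comp, ← op_comp, hαβ]
    simp only [op_comp, Functor.map_comp, ConcreteCategory.comp_apply, hg]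
  rw [← hp']
  erw [← GrothendieckTopology.Point.toPresheafFiber_w_apply,
    ← GrothendieckTopology.Point.toPresheafFiber_w_apply]
  exact congrArg _ key

end

section finite

variable [IsAlgClosed Ω]

theorem exists_lift_of_isIntegralHom [IsIntegralHom f] {η : Spec (CommRingCat.of Ω) ⟶ Y}
    (V : Y.Etale) (p : (Scheme.pointSmallEtale η).fiber.obj V) (w : ((EtCoh.bc f).obj V).left)
    (hw : (pullback.fst V.hom f).base w = fiberPt p) :
    ∃ x : Spec (CommRingCat.of Ω) ⟶ ((EtCoh.bc f).obj V).left,
      x ≫ pullback.fst V.hom f = fiberHom p ∧ x.base default = w := by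
  obtain ⟨z, hz, -⟩ := Scheme.Pullback.exists_preimage_pullback (f := pullback.fst V.hom f)
    (g := fiberHom p) w default hw
  obtain ⟨s, hs, hs'⟩ :=
    FieldExt.exists_section_of_isIntegralHom (pullback.snd (pullback.fst V.hom f) (fiberHom p)) z
  refine ⟨s ≫ pullback.fst (pullback.fst V.hom f) (fiberHom p), ?_, ?_⟩
  · exact (Category.assoc _ _ _).trans ((s ≫= pullback.condition).trans
      ((Category.assoc _ _ _).symm.trans ((congrArg (· ≫ fiberHom p) hs).trans (Category.id_comp _))))
  · exact (congrArg (pullback.fst (pullback.fst V.hom f) (fiberHom p)).base hs').trans hz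

theorem finite_points [IsFinite f] (η : Spec (CommRingCat.of Ω) ⟶ Y) :
    Finite {ξ : Spec (CommRingCat.of Ω) ⟶ X // ξ ≫ f = η} := by
  have := FieldExt.discreteTopology_of_locallyQuasiFinite (pullback.snd f η)
  have : CompactSpace ↥(pullback f η) :=
    (quasiCompact_iff_compactSpace (pullback.snd f η)).1 inferInstance |> fun h => h
  have : Finite ↥(pullback f η) := finite_of_compact_of_discrete
  let S : ∀ ξ : {ξ : Spec (CommRingCat.of Ω) ⟶ X // ξ ≫ f = η}, Spec (CommRingCat.of Ω) ⟶ pullback f η :=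
    fun ξ => pullback.lift ξ.1 (𝟙 _) (by rw [Category.id_comp]; exact ξ.2)
  refine Finite.of_injective (fun ξ => (S ξ).base default) fun ξ ξ' h => Subtype.ext ?_
  have h1 := FieldExt.eq_comp_section (h := pullback.snd f η) (s := S ξ') (pullback.lift_snd _ _ _) (S ξ) h
  rw [pullback.lift_snd, Category.id_comp] at h1
  have h2 := congrArg (· ≫ pullback.fst f η) h1
  exact (pullback.lift_fst _ _ _).symm.trans (h2.trans (pullback.lift_fst _ _ _))

variable {A : Type (u + 2)} [Category.{u + 1} A] {FA : A → A → Type*}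
  {CA : A → Type (u + 1)} [∀ M N, FunLike (FA M N) (CA M) (CA N)] [ConcreteCategory.{u + 1} A FA]
  [HasColimitsOfSize.{u, u} A] [PreservesFilteredColimitsOfSize.{u, u} (forget A)]
  [PreservesLimitsOfSize.{u + 1, u + 1} (forget A)]

/-- The stalk of a direct image along a finite morphism is the product of the stalks above. -/
theorem germTo_bijective [IsFinite f] (η : Spec (CommRingCat.of Ω) ⟶ Y)
    (F : Sheaf X.smallEtaleTopology A) :
    Function.Bijective (fun z (ξ : {ξ : Spec (CommRingCat.of Ω) ⟶ X // ξ ≫ f = η}) =>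
      (germTo f A ξ.2).app F z) := by
  classical
  constructor
  · intro z z' h
    obtain ⟨V₁, p₁, s₁, rfl⟩ := (Scheme.pointSmallEtale η).toPresheafFiber_jointly_surjective z
    obtain ⟨V₂, p₂, s₂, rfl⟩ := (Scheme.pointSmallEtale η).toPresheafFiber_jointly_surjective z'
    let W := IsCofiltered.min ((Scheme.pointSmallEtale η).fiber.elementsMk V₁ p₁)
      ((Scheme.pointSmallEtale η).fiber.elementsMk V₂ p₂)
    let a : W ⟶ (Scheme.pointSmallEtale η).fiber.elementsMk V₁ p₁ := IsCofiltered.minToLeft _ _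
    let b : W ⟶ (Scheme.pointSmallEtale η).fiber.elementsMk V₂ p₂ := IsCofiltered.minToRight _ _
    have ha : (Scheme.pointSmallEtale η).fiber.map a.1 W.2 = p₁ := a.2
    have hb : (Scheme.pointSmallEtale η).fiber.map b.1 W.2 = p₂ := b.2
    rw [← ha, ← hb] at h ⊢
    erw [← GrothendieckTopology.Point.toPresheafFiber_w_apply,
      ← GrothendieckTopology.Point.toPresheafFiber_w_apply] at h ⊢
    refine toPresheafFiber_push_ext f F W.1 W.2 (exists_lift_of_isIntegralHom f W.1 W.2) _ _ fun ξ hξ => ?_
    have h' := congrFun h ⟨ξ, hξ⟩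
    exact (germTo_toPresheafFiber f hξ F W.1 W.2 _).symm.trans
      (h'.trans (germTo_toPresheafFiber f hξ F W.1 W.2 _))
  · intro c
    choose U q u hu using fun ξ : {ξ : Spec (CommRingCat.of Ω) ⟶ X // ξ ≫ f = η} =>
      (Scheme.pointSmallEtale ξ.1).toPresheafFiber_jointly_surjective (c ξ)
    let top := EtCoh.top Y
    let p : (Scheme.pointSmallEtale η).fiber.obj top := mkFiber η top η (Category.comp_id _)
    let g : ∀ ξ, U ξ ⟶ (EtCoh.bc f).obj top := fun ξ =>
      MorphismProperty.Over.homMk (pullback.lift ((U ξ).hom ≫ f) (U ξ).hom (Category.comp_id _))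
        (pullback.lift_snd _ _ _)
    obtain ⟨V', a, p', hp', n, D, o, i, b, hD, hb, hW⟩ :=
      IntegralRefine.exists_refinement f top p U g (fun ξ => {fiberHom (q ξ)})
      (fun ξ l hl => by
        have : Etale (g ξ).left := Fiber.etale_left (g ξ)
        have : LocallyQuasiFinite (g ξ).left := FieldExt.locallyQuasiFinite_of_etale _
        have : LocallyQuasiFinite (pullback.fst top.hom f) :=
          MorphismProperty.pullback_fst (P := @LocallyQuasiFinite) _ _ inferInstance
        have : LocallyQuasiFinite ((g ξ).left ≫ pullback.fst top.hom f) :=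
          MorphismProperty.comp_mem @LocallyQuasiFinite _ _ ‹LocallyQuasiFinite (g ξ).left› ‹_›
        have := FieldExt.discreteTopology_of_locallyQuasiFinite
          (pullback.snd ((g ξ).left ≫ pullback.fst top.hom f) (fiberHom p))
        refine ⟨{z | ∀ s : Spec (CommRingCat.of Ω) ⟶
            pullback ((g ξ).left ≫ pullback.fst top.hom f) (fiberHom p),
            s ≫ pullback.snd _ _ = 𝟙 _ → s.base default = z → s ≫ pullback.fst _ _ = fiberHom (q ξ)},
          isOpen_discrete _, fun s hs hsl s' hs' h => ?_, fun s hs hs' => hs' s hs rfl⟩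
        have h1 := FieldExt.eq_comp_section hs s' h
        rw [hs', Category.id_comp] at h1
        rw [h1, hsl]
        exact hl)
      (fun x hx => by
        have hξ := snd_comp_eq f hx
        refine ⟨⟨_, hξ⟩, _, rfl, pullback.hom_ext ?_ ?_⟩
        · refine (Category.assoc _ _ _).trans ((_ ≫= pullback.lift_fst _ _ _).trans ?_)
          refine (Category.assoc _ _ _).symm.trans ((congrArg (· ≫ f) (fiberHom_comp _)).trans ?_)
          exact hξ.trans hx.symm
        · exact (Category.assoc _ _ _).trans ((_ ≫= pullback.lift_snd _ _ _).trans (fiberHom_comp _)))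
    obtain ⟨s, hs⟩ := hD.exists_glue F fun j => F.obj.map (b j).op (u (i j))
    refine ⟨(Scheme.pointSmallEtale η).toPresheafFiber V' p'
      (((EtCoh.bc f).sheafPushforwardContinuous A Y.smallEtaleTopology X.smallEtaleTopology).obj F).obj s,
      funext fun ξ => ?_⟩
    refine (germTo_toPresheafFiber f ξ.2 F V' p' s).trans ?_
    obtain ⟨j, l, hl⟩ := hD.exists_fac (fiberHom (liftPt f ξ.2 V' p'))
    have hlD : l ≫ (D j).hom = ξ.1 := by
      refine (l ≫= (Over.w (o j).hom).symm).trans ((Category.assoc _ _ _).symm.trans ?_)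
      exact (congrArg (· ≫ ((EtCoh.bc f).obj V').hom) hl).trans (fiberHom_comp _)
    have hmem : l ≫ (b j).left = fiberHom (q (i j)) := hW j l
      ((Category.assoc _ _ _).symm.trans ((congrArg (· ≫ pullback.fst V'.hom f) hl).trans
        (pullback.lift_fst _ _ _)))
    have hξ : (i j).1 = ξ.1 := by
      refine Eq.trans ?_ hlD
      refine (fiberHom_comp (q (i j))).symm.trans ((congrArg (· ≫ (U (i j)).hom) hmem.symm).trans ?_)
      exact (Category.assoc _ _ _).trans (l ≫= (Over.w (b j).hom :))
    obtain rfl : i j = ξ := Subtype.ext hξ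
    let lD : (Scheme.pointSmallEtale (i j).1).fiber.obj (D j) := mkFiber _ (D j) l hlD
    have h1 : (Scheme.pointSmallEtale (i j).1).fiber.map (o j) lD = liftPt f (i j).2 V' p' :=
      Over.OverMorphism.ext hl
    have h2 : (Scheme.pointSmallEtale (i j).1).fiber.map (b j) lD = q (i j) :=
      Over.OverMorphism.ext hmem
    rw [← h1]
    refine ((Scheme.pointSmallEtale (i j).1).toPresheafFiber_w_apply (o j) lD F.obj s).symm.trans ?_
    rw [hs]
    refine ((Scheme.pointSmallEtale (i j).1).toPresheafFiber_w_apply (b j) lD F.obj _).trans ?_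
    rw [h2]
    exact hu _

end finite

end Groth.Agent.Lib.EtSite.PushStalk
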