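import Groth.Agent.Lib.EtSite.Sheets
import Groth.Agent.Lib.EtSite.PushStalk
import Groth.Agent.H88.EtMod.AbBridge

/-!
# Small étale site: charts of direct images along finite étale morphisms
-/

set_option autoImplicit false

universe u

open CategoryTheory CategoryTheory.Limits AlgebraicGeometry Opposite

noncomputable section

namespace Groth.Agent.Lib.EtSite.FiniteEtalePush

open Groth.Agent.Lib.EtSite.Basic Groth.Agent.Lib.EtSite.Stalk Groth.Agent.Lib.EtSite.DisjointCover
open Groth.Agent.Lib.EtSite.Sheets Groth.Agent.Lib.EtSite.PushStalk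
open Groth.Agent.H88.EtMod

variable {Λ : Type (u + 1)} [CommRing Λ] {X Y : Scheme.{u}} (f : X ⟶ Y)

/-- The product of the restrictions to the sheets. -/
theorem bijective_restrict (F : EtModW.Mod Λ X) {U : Y.Etale} {n : ℕ}
    {σ : Fin n → (U.left ⟶ pullback U.hom f)} (hσ : IsSheets f U σ) :
    Function.Bijective (LinearMap.pi fun j => (F.obj.map (sheetHom hσ j).op).hom :
      F.obj.obj (op ((EtCoh.bc f).obj U)) →ₗ[Λ] ∀ j, F.obj.obj (op (sheet hσ j))) := by
  constructor
  · intro s t h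
    refine sections_ext F s t fun v => ?_
    obtain ⟨j, w, hw⟩ := hσ.exists_eq v
    exact ⟨sheet hσ j, sheetHom hσ j, congrFun h j, w, hw⟩
  · intro x
    obtain ⟨s, hs⟩ := hσ.isDisjointCover.exists_glue F x
    exact ⟨s, funext hs⟩

variable [IsFinite f] [Etale f]

/-- Charts on the sheets give a chart of the direct image. -/
theorem exists_isChart_push (F : EtModW.Mod Λ X) {U : Y.Etale} {n : ℕ}
    {σ : Fin n → (U.left ⟶ pullback U.hom f)} (hσ : IsSheets f U σ) (M : Fin n → Type (u + 1))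
    [∀ j, AddCommGroup (M j)] [∀ j, Module Λ (M j)] (W : Fin n → X.Etale)
    (φ : ∀ j, M j →ₗ[Λ] F.obj.obj (op (W j))) (hφ : ∀ j, LCChart.IsChart F (W j) (φ j))
    (t : ∀ j, U.left ⟶ (W j).left) (ht : ∀ j, t j ≫ (W j).hom = σ j ≫ pullback.snd U.hom f) :
    ∃ ψ : (∀ j, M j) →ₗ[Λ] ((EtModW.push Λ f).obj F).obj.obj (op U),
      LCChart.IsChart ((EtModW.push Λ f).obj F) U ψ := by
  let T : ∀ j, sheet hσ j ⟶ W j := fun j => MorphismProperty.Over.homMk (t j) (ht j)
  let e := LinearEquiv.ofBijective _ (bijective_restrict f F hσ)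
  let ψ : (∀ j, M j) →ₗ[Λ] F.obj.obj (op ((EtCoh.bc f).obj U)) :=
    e.symm.toLinearMap ∘ₗ LinearMap.pi fun j => (F.obj.map (T j).op).hom ∘ₗ φ j ∘ₗ LinearMap.proj j
  have hψ : ∀ (m : ∀ j, M j) (j : Fin n),
      F.obj.map (sheetHom hσ j).op (ψ m) = F.obj.map (T j).op (φ j (m j)) := fun m j =>
    congrFun (e.apply_symm_apply fun j => F.obj.map (T j).op (φ j (m j))) j
  refine ⟨ψ, fun Ω _ _ η p => ?_⟩
  let ξ : Fin n → (Spec (CommRingCat.of Ω) ⟶ X) := fun j =>
    fiberHom p ≫ σ j ≫ pullback.snd U.hom f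
  have hξ : ∀ j, ξ j ≫ f = η := fun j => by
    refine ((Category.assoc _ _ _).trans (_ ≫= (Category.assoc _ _ _))).trans ?_
    rw [← pullback.condition, reassoc_of% (hσ.fst j)]
    exact fiberHom_comp p
  let l := fiberHom p
  let q : ∀ j, (Scheme.pointSmallEtale (ξ j)).fiber.obj (sheet hσ j) := fun j =>
    mkFiber (ξ j) (sheet hσ j) l rfl
  have hq : ∀ j, (Scheme.pointSmallEtale (ξ j)).fiber.map (sheetHom hσ j) (q j) =
      liftPt f (hξ j) U p := fun j => by
    apply Over.OverMorphism.ext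
    change fiberHom p ≫ σ j = pullback.lift (fiberHom p) (ξ j) _
    apply pullback.hom_ext
    · rw [Category.assoc, hσ.fst j, pullback.lift_fst]
      exact Category.comp_id _
    · rw [Category.assoc, pullback.lift_snd]
  have hgerm : ∀ (m : ∀ j, M j) (j : Fin n),
      LCChart.germ F _ (ξ j) (liftPt f (hξ j) U p) (ψ m) =
        LCChart.germ F (W j) (ξ j) ((Scheme.pointSmallEtale (ξ j)).fiber.map (T j) (q j)) (φ j (m j)) :=
    fun m j => by rw [← hq j, ← LCChart.germ_map, hψ m j, LCChart.germ_map]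
  refine ⟨fun m m' hm => funext fun j => (hφ j Ω (ξ j) ((Scheme.pointSmallEtale (ξ j)).fiber.map (T j) (q j))).1 ?_, fun z => ?_⟩
  · have h1 := congrArg ((germTo f (ModuleCat.{u + 1} Λ) (hξ j)).app F) hm
    have h2 := fun m => germTo_toPresheafFiber f (hξ j) F U p (ψ m)
    exact (hgerm m j).symm.trans (((h2 m).symm.trans (h1.trans (h2 m'))).trans (hgerm m' j))
  · obtain ⟨V, g, r, s, hr, rfl⟩ := LCChart.exists_germ_eq ((EtModW.push Λ f).obj F) U η p z
    choose m hm using fun j => (hφ j Ω (ξ j) ((Scheme.pointSmallEtale (ξ j)).fiber.map (T j) (q j))).2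
      (LCChart.germ F _ (ξ j) (liftPt f (hξ j) V r) s)
    refine ⟨m, ?_⟩
    refine ((congrArg (fun p => LCChart.germ ((EtModW.push Λ f).obj F) U η p (ψ m)) hr).symm.trans
      (LCChart.germ_map ((EtModW.push Λ f).obj F) g η r (ψ m)).symm).trans ?_
    refine toPresheafFiber_push_ext f F V r (fun w hw => ?_) _ _ fun ξ' hξ' => ?_
    · obtain ⟨j, v, hv⟩ := (hσ.comap g).exists_eq w
      refine ⟨fiberHom r ≫ Sheets.comap g (σ j) (hσ.fst j), ?_, ?_⟩
      · exact (Category.assoc _ _ _).trans ((_ ≫= pullback.lift_fst _ _ _).trans (Category.comp_id _))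
      · have h0 : (pullback.fst V.hom f).base ((Sheets.comap g (σ j) (hσ.fst j)).base v) = v :=
          congrArg (fun m : V.left ⟶ V.left => m.base v) ((hσ.comap g).fst j)
        rw [hv, hw] at h0
        exact (congrArg (Sheets.comap g (σ j) (hσ.fst j)).base h0).trans hv
    · obtain ⟨j, hj⟩ := hσ.exists_eq_comp (fiberHom (liftPt f hξ' U p))
      have hlift : fiberHom (liftPt f hξ' U p) ≫ pullback.fst U.hom f = fiberHom p := pullback.lift_fst _ _ _
      obtain rfl : ξ j = ξ' := by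
        have h2 := eq_whisker hj (pullback.snd U.hom f)
        refine Eq.trans ?_ (h2.trans (pullback.lift_snd _ _ _))
        rw [Category.assoc]
        exact congrArg (· ≫ σ j ≫ pullback.snd U.hom f) hlift.symm
      refine (LCChart.germ_map F ((EtCoh.bc f).map g) (ξ j) _ (ψ m)).trans ?_
      rw [map_liftPt, hr]
      exact (hgerm m j).trans (hm j)

/-- Finite local constancy is preserved by direct image along finite étale morphisms. -/
theorem isFiniteLocallyConstant_push (F : EtCoh.Ab X) (h : EtCoh.IsFiniteLocallyConstant F) :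
    EtCoh.IsFiniteLocallyConstant ((EtCoh.push f).obj F) := by
  obtain ⟨F', ⟨e⟩⟩ := AbBridge.exists_lift F
  refine AbBridge.isFiniteLC_of_iso ((EtCoh.push f).mapIso e) ?_
  change EtCoh.IsFiniteLocallyConstant ((AbBridge.fg Y).obj ((EtModW.push AbBridge.Zl.{u} f).obj F'))
  rw [AbBridge.isFiniteLocallyConstant_iff]
  have hF := (AbBridge.isFiniteLocallyConstant_iff F').1 (AbBridge.isFiniteLC_of_iso e.symm h)
  choose W hW M i1 i2 i3 φ hφ using hF
  intro y
  obtain ⟨U, u, hu, n, σ, hσ, x, t, ht⟩ := exists_isSheets_refine (f := f) y W hW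
  let _ := fun j => i1 (x j)
  let _ := fun j => i2 (x j)
  have := fun j => i3 (x j)
  obtain ⟨ψ, hψ⟩ := exists_isChart_push f F' hσ (fun j => M (x j)) (fun j => W (x j))
    (fun j => φ (x j)) (fun j => hφ (x j)) t ht
  exact ⟨U, ⟨u, hu⟩, ∀ j, M (x j), Pi.addCommGroup, Pi.module _ _ _, inferInstance, ψ, hψ⟩

end Groth.Agent.Lib.EtSite.FiniteEtalePush
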