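import Groth.Agent.Lib.EtSite.ClosedEssImage
import Mathlib.CategoryTheory.Limits.Shapes.Terminal


/-!
# Sheaves supported on a closed subscheme and the open complement
-/

universe u

open CategoryTheory CategoryTheory.Limits AlgebraicGeometry Opposite

namespace Groth.Agent.Lib.EtSite.ClosedComplement

open Groth.Agent.Lib.EtSite.Basic Groth.Agent.Lib.EtSite.Stalk Groth.Agent.Lib.EtSite.DisjointCover

variable {Z X : Scheme.{u}} (i : Z ⟶ X)

/-- Away from the image of `i`, base change along `i` is empty. -/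
theorem isEmpty_bc (U : X.Etale) (h : Disjoint (Set.range U.hom.base) (Set.range i.base)) :
    IsEmpty ↥((EtCoh.bc i).obj U).left :=
  ⟨fun w => Set.disjoint_left.1 h ⟨(pullback.fst U.hom i).base w, rfl⟩
    ⟨(pullback.snd U.hom i).base w,
      (congrArg (fun m : pullback U.hom i ⟶ X => m.base w)
        (pullback.condition (f := U.hom) (g := i))).symm⟩⟩

/-- An étale neighbourhood of a point off a closed subscheme can avoid it. -/
theorem exists_avoid [IsClosedImmersion i] {Ω : Type u} [Field Ω] [IsSepClosed Ω]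
    {η : Spec (CommRingCat.of Ω) ⟶ X} (hη : η.base default ∉ Set.range i.base) (V : X.Etale)
    (p : (Scheme.pointSmallEtale η).fiber.obj V) :
    ∃ (V' : X.Etale) (a : V' ⟶ V) (p' : (Scheme.pointSmallEtale η).fiber.obj V'),
      (Scheme.pointSmallEtale η).fiber.map a p' = p ∧
      Disjoint (Set.range V'.hom.base) (Set.range i.base) := by
  let W : V.left.Opens := ⟨(V.hom.base ⁻¹' Set.range i.base)ᶜ,
    (i.isClosedEmbedding.isClosed_range.preimage V.hom.continuous).isOpen_compl⟩
  have hp : fiberPt p ∈ W := fun h => hη ((hom_fiberPt p) ▸ h)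
  let V' : X.Etale := MorphismProperty.Over.mk ⊤ (W.ι ≫ V.hom)
    (MorphismProperty.comp_mem @Etale W.ι _ (show Etale W.ι from inferInstance) V.prop)
  let a : V' ⟶ V := MorphismProperty.Over.homMk W.ι rfl
  obtain ⟨p', hp', -⟩ := Fiber.exists_fiber_map η a p ⟨fiberPt p, hp⟩ rfl
  refine ⟨V', a, p', hp', Set.disjoint_left.2 ?_⟩
  rintro _ ⟨w, rfl⟩ h
  exact w.2 h

section

variable {A : Type (u + 2)} [Category.{u + 1} A] {FA : A → A → Type*}
  {CA : A → Type (u + 1)} [∀ M N, FunLike (FA M N) (CA M) (CA N)] [ConcreteCategory.{u + 1} A FA]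
  [HasColimitsOfSize.{u, u} A] [PreservesFilteredColimitsOfSize.{u, u} (forget A)]
  [PreservesLimitsOfSize.{u + 1, u + 1} (forget A)]

/-- A sheaf has exactly one section over an empty scheme. -/
theorem unique_sections_of_isEmpty (F : Sheaf Z.smallEtaleTopology A) (U : Z.Etale) [IsEmpty U.left] :
    Subsingleton (ToType (F.obj.obj (op U))) ∧ Nonempty (ToType (F.obj.obj (op U))) := by
  refine ⟨⟨fun s t => sections_ext F s t fun u => isEmptyElim u⟩, ?_⟩
  obtain ⟨s, -⟩ := IsDisjointCover.exists_glue (U := U) (D := fun j : PEmpty.{1} => U) (o := fun j => j.elim)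
    ⟨fun j => j.elim, fun u => isEmptyElim u, fun j => j.elim⟩ F (fun j => j.elim)
  exact ⟨s⟩

theorem nonempty_stalk_push [IsClosedImmersion i] {Ω : Type u} [Field Ω] [IsSepClosed Ω]
    {η : Spec (CommRingCat.of Ω) ⟶ X} (hη : η.base default ∉ Set.range i.base)
    (F : Sheaf Z.smallEtaleTopology A) :
    Nonempty (ToType ((Scheme.pointSmallEtale η).sheafFiber.obj
      (((EtCoh.bc i).sheafPushforwardContinuous A X.smallEtaleTopology Z.smallEtaleTopology).obj F))) := by
  obtain ⟨V', a, p', -, hd⟩ := exists_avoid i hη (EtCoh.top X) (mkFiber η _ η (Category.comp_id _))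
  have := isEmpty_bc i V' hd
  obtain ⟨s⟩ := (unique_sections_of_isEmpty F ((EtCoh.bc i).obj V')).2
  exact ⟨(Scheme.pointSmallEtale η).toPresheafFiber V' p'
    (((EtCoh.bc i).sheafPushforwardContinuous A X.smallEtaleTopology Z.smallEtaleTopology).obj F).obj s⟩

end

theorem unique_stalk_terminal {U : Scheme.{u}} {Ω : Type u} [Field Ω] [IsSepClosed Ω]
    (ζ : Spec (CommRingCat.of Ω) ⟶ U) :
    Nonempty (Unique ((Scheme.pointSmallEtale ζ).sheafFiber.obj (⊤_ EtDesc.Sh U))) := by
  refine ⟨(Types.isTerminalEquivUnique _).toFun ?_⟩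
  exact IsTerminal.isTerminalObj (Scheme.pointSmallEtale ζ).sheafFiber _ terminalIsTerminal

end Groth.Agent.Lib.EtSite.ClosedComplement
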