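import Mathlib

/-!
Lang's theorem for `p`-semilinear endomorphisms of finite dimensional vector spaces over an
algebraically closed field of characteristic `p`: the span of the fixed vectors absorbs a power of
`F`, `F - id` is surjective, and the fixed vectors form a finite set of size at most `p ^ dim`.
-/

set_option autoImplicit false

universe u v

namespace Groth.Agent.Lib.EtSite.LangSemilinear

variable {k : Type u} [Field k] (p : ℕ) [Fact p.Prime] [CharP k p]

theorem exists_zmod_of_pow_eq {K : Type v} [Field K] [CharP K p] {x : K} (hx : x ^ p = x) :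
    ∃ e : ZMod p, ZMod.castHom (dvd_refl p) K e = x := by
  have h : x ∈ (⊥ : Subfield K) := (Subfield.mem_bot_iff_pow_eq_self K p).2 hx
  rw [← ZMod.fieldRange_castHom_eq_bot p] at h
  exact RingHom.mem_fieldRange.1 h

theorem exists_fixed_basis {V : Type u} [AddCommGroup V] [Module k V] [FiniteDimensional k V]
    (F : V →+ V) :
    ∃ (ι : Type u) (_ : Fintype ι) (b : ι → V), LinearIndependent k b ∧ (∀ i, F (b i) = b i) ∧
      Submodule.span k (Set.range b) = Submodule.span k {v : V | F v = v} := by
  obtain ⟨s, hs, hspan, hli⟩ := exists_linearIndependent k {v : V | F v = v}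
  have hfin : s.Finite := hli.setFinite
  exact ⟨s, hfin.fintype, Subtype.val, hli, fun i => hs i.2, by rw [Subtype.range_coe]; exact hspan⟩

variable [IsAlgClosed k]

theorem exists_pow_eq (c : k) : ∃ a : k, a ^ p = c :=
  IsAlgClosed.exists_pow_nat_eq c (Fact.out : p.Prime).pos

theorem exists_artinSchreier (c : k) : ∃ a : k, a ^ p - a = c := by
  have hp : 1 < p := (Fact.out : p.Prime).one_lt
  have hd : (Polynomial.X ^ p - Polynomial.X - Polynomial.C c : Polynomial k).degree ≠ 0 := by
    have hlt : (Polynomial.X + Polynomial.C c : Polynomial k).degree < (p : WithBot ℕ) := by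
      rw [Polynomial.degree_X_add_C]; exact_mod_cast hp
    rw [sub_sub, Polynomial.degree_sub_eq_left_of_degree_lt (by rw [Polynomial.degree_X_pow]; exact hlt),
      Polynomial.degree_X_pow]
    exact_mod_cast (Fact.out : p.Prime).ne_zero
  obtain ⟨a, ha⟩ := IsAlgClosed.exists_root _ hd
  refine ⟨a, ?_⟩
  have := ha
  simp [Polynomial.IsRoot] at this
  exact sub_eq_zero.1 this

variable {V : Type u} [AddCommGroup V] [Module k V]

/-- The image of a semilinear map, as a submodule. -/
noncomputable def range (F : V →+ V) (hF : ∀ (c : k) (v : V), F (c • v) = c ^ p • F v) :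
    Submodule k V where
  carrier := Set.range F
  add_mem' := by rintro _ _ ⟨a, rfl⟩ ⟨b, rfl⟩; exact ⟨a + b, map_add F a b⟩
  zero_mem' := ⟨0, map_zero F⟩
  smul_mem' := by
    rintro c _ ⟨a, rfl⟩
    obtain ⟨d, rfl⟩ := exists_pow_eq p c
    exact ⟨d • a, hF d a⟩

theorem iterate_smul (F : V →+ V) (hF : ∀ (c : k) (v : V), F (c • v) = c ^ p • F v) (n : ℕ) (c : k)
    (v : V) : F^[n] (c • v) = c ^ p ^ n • F^[n] v := by
  induction n with
  | zero => simp
  | succ n ih =>
    rw [Function.iterate_succ_apply', Function.iterate_succ_apply', ih, hF, ← pow_mul, ← pow_succ]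

theorem injective_of_surjective [FiniteDimensional k V] (F : V →+ V)
    (hF : ∀ (c : k) (v : V), F (c • v) = c ^ p • F v) (hs : Function.Surjective F) :
    Function.Injective F := by
  set B := Module.finBasis k V
  have hspan : ⊤ ≤ Submodule.span k (Set.range fun i => F (B i)) := by
    rintro w -
    obtain ⟨v, rfl⟩ := hs w
    rw [← B.sum_repr v, map_sum]
    exact Submodule.sum_mem _ fun i _ => by
      rw [hF]; exact Submodule.smul_mem _ _ (Submodule.subset_span ⟨i, rfl⟩)
  have hli := linearIndependent_of_top_le_span_of_card_eq_finrank hspan (Fintype.card_fin _)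
  rw [injective_iff_map_eq_zero]
  intro v hv
  rw [← B.sum_repr v, map_sum] at hv
  simp only [hF] at hv
  have h := Fintype.linearIndependent_iff.1 hli _ hv
  rw [← B.sum_repr v]
  refine Finset.sum_eq_zero fun i _ => ?_
  rw [eq_zero_of_pow_eq_zero (h i), zero_smul]

/-- An injective semilinear map of a nonzero space has a nonzero fixed vector. -/
theorem exists_fixed_ne_zero [FiniteDimensional k V] (F : V →+ V)
    (hF : ∀ (c : k) (v : V), F (c • v) = c ^ p • F v) (hi : Function.Injective F) (v : V)
    (hv : v ≠ 0) : ∃ x : V, x ≠ 0 ∧ F x = x := by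
  classical
  let S : ℕ → Submodule k V := fun m =>
    Submodule.span k (Set.range fun i : Fin m => F^[(i : ℕ)] v)
  have hex : ∃ m, F^[m] v ∈ S m := by
    by_contra hne
    simp only [not_exists] at hne
    have key : ∀ m, m ≤ Module.finrank k (S m) := by
      intro m
      induction m with
      | zero => simp
      | succ m ih =>
        refine Nat.succ_le_of_lt (lt_of_le_of_lt ih (Submodule.finrank_lt_finrank_of_lt ?_))
        refine lt_of_le_of_ne (Submodule.span_mono ?_) fun he => hne m ?_
        · rintro _ ⟨i, rfl⟩; exact ⟨i.castSucc, rfl⟩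
        · rw [he]; exact Submodule.subset_span ⟨Fin.last m, rfl⟩
    have := (key (Module.finrank k V + 1)).trans (Submodule.finrank_le _)
    omega
  obtain ⟨M, hM, hmin⟩ : ∃ M, F^[M + 1] v ∈ S (M + 1) ∧ F^[M] v ∉ S M := by
    have hpos : Nat.find hex ≠ 0 := by
      intro h0
      have := Nat.find_spec hex
      rw [h0] at this
      exact hv (by simpa [S] using this)
    obtain ⟨M, hM⟩ := Nat.exists_eq_succ_of_ne_zero hpos
    refine ⟨M, ?_, Nat.find_min hex (by omega)⟩
    have := Nat.find_spec hex
    rwa [hM] at this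
  obtain ⟨a', ha'⟩ := (Submodule.mem_span_range_iff_exists_fun k).1 hM
  let a : ℕ → k := fun i => if h : i < M + 1 then a' ⟨i, h⟩ else 0
  have hrel : ∑ i ∈ Finset.range (M + 1), a i • F^[i] v = F^[M + 1] v := by
    rw [← ha', Finset.sum_range]
    exact Finset.sum_congr rfl fun i _ => by simp [a, i.is_lt, Nat.le_of_lt_succ i.is_lt]
  obtain ⟨j₀, hj₀, hane⟩ : ∃ j ∈ Finset.range (M + 1), a j ≠ 0 := by
    by_contra hne
    simp only [not_exists, not_and, not_not] at hne
    rw [Finset.sum_eq_zero fun j hj => by rw [hne j hj, zero_smul]] at hrel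
    apply hv
    have hit : Function.Injective (F^[M + 1]) := hi.iterate _
    apply hit
    rw [← hrel]
    exact (Function.iterate_fixed (map_zero F) _).symm
  have hp : 1 < p := (Fact.out : p.Prime).one_lt
  let Q : Polynomial k := ∑ j ∈ Finset.range (M + 1),
    Polynomial.C (a j ^ p ^ (M - j)) * Polynomial.X ^ (p ^ (M - j + 1) - 1) - 1
  have hexp : ∀ j, 0 < p ^ (M - j + 1) - 1 := fun j => by
    have : 1 < p ^ (M - j + 1) := Nat.one_lt_pow (by omega) hp
    omega
  have hQ : Q.degree ≠ 0 := by
    intro hdeg
    have hc : Q.coeff (p ^ (M - j₀ + 1) - 1) = 0 := by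
      apply Polynomial.coeff_eq_zero_of_degree_lt
      rw [hdeg]
      exact_mod_cast hexp j₀
    rw [Polynomial.coeff_sub, Polynomial.finsetSum_coeff, Finset.sum_eq_single j₀,
      Polynomial.coeff_C_mul_X_pow, if_pos rfl, Polynomial.coeff_one, if_neg (hexp j₀).ne',
      sub_zero] at hc
    · exact hane (eq_zero_of_pow_eq_zero hc)
    · intro j hj hne
      rw [Polynomial.coeff_C_mul_X_pow, if_neg]
      intro he
      have h1 : 0 < p ^ (M - j + 1) := Nat.pow_pos (by omega)
      have h2 : 0 < p ^ (M - j₀ + 1) := Nat.pow_pos (by omega)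
      have := Nat.pow_right_injective hp (show p ^ (M - j + 1) = p ^ (M - j₀ + 1) by omega)
      simp only [Finset.mem_range] at hj hj₀
      omega
    · exact fun h => absurd hj₀ h
  obtain ⟨t, ht⟩ := IsAlgClosed.exists_root Q hQ
  have hQt : ∑ j ∈ Finset.range (M + 1), a j ^ p ^ (M - j) * t ^ (p ^ (M - j + 1) - 1) = 1 := by
    have h := ht
    simp only [Polynomial.IsRoot, Q, Polynomial.eval_sub, Polynomial.eval_finsetSum,
      Polynomial.eval_mul, Polynomial.eval_C, Polynomial.eval_pow, Polynomial.eval_X,
      Polynomial.eval_one] at h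
    exact sub_eq_zero.1 h
  have ht0 : t ≠ 0 := by
    intro h0
    rw [h0, Finset.sum_eq_zero fun j _ => by rw [zero_pow (hexp j).ne', mul_zero]] at hQt
    exact zero_ne_one hQt
  let c : ℕ → k := fun i =>
    ∑ j ∈ Finset.range (i + 1), a j ^ p ^ (i - j) * t ^ p ^ (i - j + 1)
  have hc0 : c 0 = a 0 * t ^ p := by simp [c]
  have hcs : ∀ i, c (i + 1) = c i ^ p + a (i + 1) * t ^ p := by
    intro i
    simp only [c]
    rw [Finset.sum_range_succ, sum_pow_char]
    congr 1
    · refine Finset.sum_congr rfl fun j hj => ?_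
      simp only [Finset.mem_range] at hj
      rw [mul_pow, ← pow_mul, ← pow_mul, ← pow_succ, ← pow_succ,
        show i + 1 - j = i - j + 1 by omega]
    · simp
  have hcM : c M = t := by
    conv_rhs => rw [← one_mul t, ← hQt, Finset.sum_mul]
    refine Finset.sum_congr rfl fun j _ => ?_
    rw [mul_assoc, ← pow_succ, Nat.sub_add_cancel (Nat.one_le_pow _ _ (by omega))]
  refine ⟨∑ i ∈ Finset.range (M + 1), c i • F^[i] v, ?_, ?_⟩
  · intro h0
    rw [Finset.sum_range_succ, hcM, add_comm, add_eq_zero_iff_eq_neg] at h0
    apply hmin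
    have : t • F^[M] v ∈ S M := by
      rw [h0]
      exact Submodule.neg_mem _ (Submodule.sum_mem _ fun i hi =>
        Submodule.smul_mem _ _ (Submodule.subset_span ⟨⟨i, Finset.mem_range.1 hi⟩, rfl⟩))
    simpa [smul_smul, inv_mul_cancel₀ ht0] using (S M).smul_mem t⁻¹ this
  · simp only [map_sum, hF, ← Function.iterate_succ_apply' (⇑F)]
    rw [Finset.sum_range_succ, hcM, Nat.succ_eq_add_one, ← hrel, Finset.sum_range_succ',
      Finset.sum_range_succ', hc0, smul_add, Finset.smul_sum, ← add_assoc, ← Finset.sum_add_distrib]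
    congr 1
    · exact Finset.sum_congr rfl fun i _ => by rw [hcs, add_smul, smul_smul, mul_comm]
    · rw [smul_smul, mul_comm]

/-- Some power of a semilinear map lands in the span of the fixed vectors. -/
theorem exists_iterate_mem_span [FiniteDimensional k V] (F : V →+ V)
    (hF : ∀ (c : k) (v : V), F (c • v) = c ^ p • F v) :
    ∃ N, ∀ v, F^[N] v ∈ Submodule.span k {v : V | F v = v} := by
  induction hn : Module.finrank k V using Nat.strong_induction_on generalizing V with
  | _ n ih =>
  subst hn
  by_cases hr : range p F hF = ⊤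
  · have hs : Function.Surjective F := fun w => by
      have : w ∈ range p F hF := hr ▸ Submodule.mem_top
      exact this
    have hi := injective_of_surjective p F hF hs
    by_cases hV : ∀ v : V, v = 0
    · exact ⟨0, fun v => by rw [hV v]; exact Submodule.zero_mem _⟩
    simp only [not_forall] at hV
    obtain ⟨v₀, hv₀⟩ := hV
    obtain ⟨x, hx0, hx⟩ := exists_fixed_ne_zero p F hF hi v₀ hv₀
    set U : Submodule k V := k ∙ x with hU
    have hUF : ∀ u ∈ U, F u ∈ U := by
      intro u hu
      obtain ⟨c, rfl⟩ := Submodule.mem_span_singleton.1 hu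
      rw [hF, hx]
      exact Submodule.smul_mem _ _ (Submodule.mem_span_singleton_self x)
    let G : (V ⧸ U) →+ (V ⧸ U) :=
      QuotientAddGroup.map U.toAddSubgroup U.toAddSubgroup F (fun u hu => hUF u hu)
    have hG : ∀ v, G (Submodule.Quotient.mk v) = Submodule.Quotient.mk (F v) := fun v => rfl
    have hGF : ∀ (c : k) (y : V ⧸ U), G (c • y) = c ^ p • G y := by
      intro c y
      obtain ⟨v, rfl⟩ := Submodule.Quotient.mk_surjective U y
      rw [← Submodule.Quotient.mk_smul, hG, hG, hF, Submodule.Quotient.mk_smul]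
    have hlt : Module.finrank k (V ⧸ U) < Module.finrank k V := by
      have h1 := Submodule.finrank_quotient_add_finrank U
      have h2 : Module.finrank k U = 1 := finrank_span_singleton hx0
      omega
    obtain ⟨N, hN⟩ := ih _ hlt G hGF rfl
    have hlift : Submodule.span k {y : V ⧸ U | G y = y} ≤
        (Submodule.span k {v : V | F v = v}).map U.mkQ := by
      rw [Submodule.span_le]
      intro y hy
      obtain ⟨v, rfl⟩ := Submodule.Quotient.mk_surjective U y
      have hy' : F v - v ∈ U := (Submodule.Quotient.eq U).1 ((hG v).symm.trans hy)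
      obtain ⟨c, hc⟩ := Submodule.mem_span_singleton.1 hy'
      obtain ⟨a, ha⟩ := exists_artinSchreier p (-c)
      refine ⟨v + a • x, Submodule.subset_span ?_, ?_⟩
      · show F (v + a • x) = v + a • x
        have h1 : a ^ p = a - c := by linear_combination ha
        have h2 : F v = v + c • x := by rw [hc]; abel
        rw [map_add, hF, hx, h1, h2, sub_smul]
        abel
      · show Submodule.Quotient.mk (v + a • x) = Submodule.Quotient.mk v
        rw [Submodule.Quotient.eq, add_sub_cancel_left]
        exact Submodule.smul_mem _ _ (Submodule.mem_span_singleton_self x)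
    refine ⟨N, fun v => ?_⟩
    have hit : ∀ (m : ℕ) (v : V), G^[m] (Submodule.Quotient.mk v) = Submodule.Quotient.mk (F^[m] v) := by
      intro m
      induction m with
      | zero => intro v; rfl
      | succ m ihm =>
        intro v
        rw [Function.iterate_succ_apply', Function.iterate_succ_apply', ihm, hG]
    have h1 := hlift (hN (Submodule.Quotient.mk v))
    rw [hit] at h1
    obtain ⟨s, hs, hsv⟩ := h1
    have h2 : F^[N] v - s ∈ U := (Submodule.Quotient.eq U).1 hsv.symm
    have h3 : U ≤ Submodule.span k {v : V | F v = v} :=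
      Submodule.span_mono (Set.singleton_subset_iff.2 hx)
    have h4 := Submodule.add_mem _ (h3 h2) hs
    rwa [sub_add_cancel] at h4
  · set W := range p F hF with hW
    let G : W →+ W :=
      { toFun := fun w => ⟨F w.1, ⟨w.1, rfl⟩⟩
        map_zero' := Subtype.ext (map_zero F)
        map_add' := fun a b => Subtype.ext (map_add F a.1 b.1) }
    obtain ⟨N, hN⟩ := ih _ (Submodule.finrank_lt hr) G (fun c w => Subtype.ext (hF c w.1)) rfl
    refine ⟨N + 1, fun v => ?_⟩
    have hit : ∀ (m : ℕ) (w : W), (G^[m] w).1 = F^[m] w.1 := by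
      intro m
      induction m with
      | zero => intro w; rfl
      | succ m ihm =>
        intro w
        rw [Function.iterate_succ_apply', Function.iterate_succ_apply', ← ihm]
        rfl
    have h1 : (G^[N] ⟨F v, v, rfl⟩).1 ∈ (Submodule.span k {w : W | G w = w}).map W.subtype :=
      ⟨_, hN _, rfl⟩
    rw [hit, ← Function.iterate_succ_apply, Submodule.map_span] at h1
    refine Submodule.span_mono ?_ h1
    rintro _ ⟨w, hw, rfl⟩
    exact congrArg Subtype.val (hw : G w = w)

theorem sub_id_surjective [FiniteDimensional k V] (F : V →+ V)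
    (hF : ∀ (c : k) (v : V), F (c • v) = c ^ p • F v) :
    Function.Surjective fun v => F v - v := by
  obtain ⟨N, hN⟩ := exists_iterate_mem_span p F hF
  intro w
  have key : ∀ y ∈ Submodule.span k {v : V | F v = v}, ∃ u, F u - u = y := by
    intro y hy
    induction hy using Submodule.closure_induction with
    | zero => exact ⟨0, by simp⟩
    | add x y _ _ hx hy =>
      obtain ⟨a, rfl⟩ := hx
      obtain ⟨b, rfl⟩ := hy
      exact ⟨a + b, by rw [map_add]; abel⟩
    | smul_mem c x hx =>
      obtain ⟨a, ha⟩ := exists_artinSchreier p c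
      refine ⟨a • x, ?_⟩
      rw [hF, show F x = x from hx, ← sub_smul, ha]
  obtain ⟨u, hu⟩ := key _ (hN w)
  refine ⟨u - ∑ i ∈ Finset.range N, F^[i] w, ?_⟩
  have h := Finset.sum_range_sub (fun i => F^[i] w) N
  simp only [Function.iterate_succ_apply', Finset.sum_sub_distrib, Function.iterate_zero,
    id_eq] at h
  show F (u - _) - (u - _) = w
  rw [map_sub, map_sum,
    show F u - ∑ i ∈ Finset.range N, F (F^[i] w) - (u - ∑ i ∈ Finset.range N, F^[i] w) =
      (F u - u) - (∑ i ∈ Finset.range N, F (F^[i] w) - ∑ i ∈ Finset.range N, F^[i] w) by abel,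
    h, hu]
  abel

end Groth.Agent.Lib.EtSite.LangSemilinear
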