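import Groth.Prelude.Def_EtGm
import Groth.Agent.Lib.EtSite.Basic
import Groth.Agent.Lib.EtSite.LangSemilinear
import Mathlib.CategoryTheory.Sites.EpiMono
import Mathlib.RingTheory.Etale.StandardEtale
import Mathlib.AlgebraicGeometry.Morphisms.Etale
import Mathlib.FieldTheory.IsAlgClosed.AlgebraicClosure
import Mathlib.Algebra.CharP.Lemmas

/-!
# The Artin–Schreier sequence on the small étale site
-/

set_option autoImplicit false

universe u

open CategoryTheory CategoryTheory.Limits AlgebraicGeometry Opposite Polynomial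

namespace Groth.Agent.Lib.EtSite.ArtinSchreier

open Groth.Agent.Lib.EtSite.Basic

/-- The Artin–Schreier map `x ↦ x ^ p - x` of a ring in which `p = 0`. -/
def asHom (R : Type u) [CommRing R] (p : ℕ) [Fact p.Prime] (h : (p : R) = 0) : R →+ R where
  toFun x := x ^ p - x
  map_zero' := by rw [zero_pow (Fact.out : p.Prime).ne_zero, sub_zero]
  map_add' x y := by
    obtain ⟨r, hr⟩ := exists_add_pow_prime_eq (Fact.out : p.Prime) x y
    rw [hr, h]
    ring

theorem asHom_apply (R : Type u) [CommRing R] (p : ℕ) [Fact p.Prime] (h : (p : R) = 0) (x : R) :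
    asHom R p h x = x ^ p - x := rfl

/-- The additive map from `ZMod p` to a ring in which `p = 0`. -/
noncomputable def castHom (R : Type u) [CommRing R] (p : ℕ) (h : (p : R) = 0) : ZMod p →+ R :=
  ZMod.lift p ⟨Int.castAddHom R, by simpa using h⟩

theorem castHom_intCast (R : Type u) [CommRing R] (p : ℕ) (h : (p : R) = 0) (m : ℤ) :
    castHom R p h (m : ZMod p) = (m : R) := ZMod.lift_coe _ _ _

theorem map_castHom {R R' : Type u} [CommRing R] [CommRing R'] (f : R →+* R') (p : ℕ)
    (h : (p : R) = 0) (h' : (p : R') = 0) (k : ZMod p) : f (castHom R p h k) = castHom R' p h' k := by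
  obtain ⟨m, rfl⟩ := ZMod.intCast_surjective k
  rw [castHom_intCast, castHom_intCast, map_intCast]

theorem castHom_injective {R : Type u} [CommRing R] [Nontrivial R] (p : ℕ) [Fact p.Prime]
    (h : (p : R) = 0) : Function.Injective (castHom R p h) := by
  have : CharP R p := (CharP.charP_iff_prime_eq_zero Fact.out).2 h
  intro a b hab
  obtain ⟨m, rfl⟩ := ZMod.intCast_surjective a
  obtain ⟨n, rfl⟩ := ZMod.intCast_surjective b
  refine (ZMod.castHom (dvd_refl p) R).injective ?_
  rw [castHom_intCast, castHom_intCast] at hab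
  rwa [map_intCast, map_intCast]

theorem asHom_castHom (R : Type u) [CommRing R] (p : ℕ) [Fact p.Prime] (h : (p : R) = 0) (k : ZMod p) :
    asHom R p h (castHom R p h k) = 0 := by
  obtain ⟨m, rfl⟩ := ZMod.intCast_surjective k
  rw [castHom_intCast, ← zsmul_one, map_zsmul, asHom_apply, one_pow, sub_self, zsmul_zero]

variable {S : Scheme.{u}} (p : ℕ) (h0 : (p : Γ(S, ⊤)) = 0)

include h0 in
theorem natCast_eq_zero (U : S.Etale) : (p : Γ(U.left, ⊤)) = 0 := by
  simpa using congrArg U.hom.appTop.hom h0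

/-- The presheaf map from the constant presheaf `ZMod p` to `G_a`. -/
noncomputable def pre :
    (Functor.const S.Etaleᵒᵖ).obj (AddCommGrpCat.of (ULift.{u + 1} (ZMod p))) ⟶ (EtCoh.Ga S).obj where
  app U := AddCommGrpCat.ofHom (AddEquiv.ulift.symm.toAddMonoidHom.comp
    ((castHom Γ(U.unop.left, ⊤) p (natCast_eq_zero p h0 U.unop)).comp AddEquiv.ulift.toAddMonoidHom))
  naturality U V g := by
    refine ConcreteCategory.hom_ext _ _ fun k => ?_
    exact ULift.ext _ _ (map_castHom g.unop.left.appTop.hom p (natCast_eq_zero p h0 U.unop)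
      (natCast_eq_zero p h0 V.unop) k.down).symm

theorem pre_apply (U : S.Etale) (k : ULift.{u + 1} (ZMod p)) :
    ((pre p h0).app (op U) k : EtCoh.sect (EtCoh.Ga S) U) =
      ULift.up (castHom Γ(U.left, ⊤) p (natCast_eq_zero p h0 U) k.down) := rfl

/-- The map `ZMod p ⟶ G_a`. -/
noncomputable def incl : EtCoh.const S (ZMod p) ⟶ EtCoh.Ga S :=
  ⟨sheafifyLift _ (pre p h0) (EtCoh.Ga S).property⟩

theorem toSheafify_incl :
    toSheafify S.smallEtaleTopology _ ≫ (incl p h0).hom = pre p h0 :=
  toSheafify_sheafifyLift _ _ _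

variable [hp : Fact p.Prime]

theorem isLocallyInjective_pre : Presheaf.IsLocallyInjective S.smallEtaleTopology (pre p h0) where
  equalizerSieve_mem {U} a b hab := (mem_topology_iff _).2 fun u => by
    have : Nontrivial Γ(U.unop.left, ⊤) := ((U.unop.left).Γevaluation u).hom.domain_nontrivial
    have e : a = b := ULift.ext _ _ (castHom_injective p (natCast_eq_zero p h0 U.unop)
      (congrArg ULift.down hab))
    subst e
    exact ⟨U.unop, 𝟙 _, by rw [Presheaf.equalizerSieve_self_eq_top]; trivial, u, rfl⟩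

instance mono_incl : Mono (incl p h0) := by
  have := isLocallyInjective_pre p h0
  have e : Presheaf.IsLocallySurjective S.smallEtaleTopology (toSheafify S.smallEtaleTopology
      ((Functor.const S.Etaleᵒᵖ).obj (AddCommGrpCat.of (ULift.{u + 1} (ZMod p))))) :=
    ((GrothendieckTopology.W_iff_isLocallyBijective _ _).1 (S.smallEtaleTopology.W_toSheafify _)).2
  have : Presheaf.IsLocallyInjective S.smallEtaleTopology (incl p h0).hom :=
    @Presheaf.isLocallyInjective_of_isLocallyInjective_of_isLocallySurjective_fac _ _ S.smallEtaleTopology _ _ _ _ _ _ _ _ _ _ _ _ (toSheafify_incl p h0) (isLocallyInjective_pre p h0) e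
  exact Sheaf.mono_of_isLocallyInjective (incl p h0)

/-- The Artin–Schreier endomorphism of `G_a`. -/
noncomputable def frobSub : EtCoh.Ga S ⟶ EtCoh.Ga S :=
  ⟨{ app := fun U => AddCommGrpCat.ofHom (AddEquiv.ulift.symm.toAddMonoidHom.comp
      ((asHom Γ(U.unop.left, ⊤) p (natCast_eq_zero p h0 U.unop)).comp AddEquiv.ulift.toAddMonoidHom))
     naturality := fun U V g => by
      refine ConcreteCategory.hom_ext _ _ fun x => ?_
      refine ULift.ext _ _ ?_
      let r : Γ(U.unop.left, ⊤) := x.down
      change (g.unop.left.appTop.hom r) ^ p - g.unop.left.appTop.hom r = g.unop.left.appTop.hom (r ^ p - r)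
      rw [map_sub, map_pow] }⟩

theorem frobSub_apply (U : S.Etale) (x : EtCoh.sect (EtCoh.Ga S) U) :
    ((frobSub p h0).hom.app (op U) x : EtCoh.sect (EtCoh.Ga S) U) =
      ULift.up (asHom Γ(U.left, ⊤) p (natCast_eq_zero p h0 U) x.down) := rfl

theorem incl_frobSub : incl p h0 ≫ frobSub p h0 = 0 := by
  apply Sheaf.hom_ext
  refine sheafify_hom_ext _ _ _ (EtCoh.Ga S).property ?_
  refine (Category.assoc _ _ _).symm.trans ?_
  refine (eq_whisker (toSheafify_incl p h0) _).trans ?_
  refine Eq.trans ?_ (Limits.comp_zero).symm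
  refine NatTrans.ext (funext fun U => ConcreteCategory.hom_ext _ _ fun k => ?_)
  exact ULift.ext _ _ (asHom_castHom _ p (natCast_eq_zero p h0 U.unop) k.down)

/-- The standard étale pair `(X ^ p - X - a, 1)`. -/
noncomputable def asPair {R : Type u} [CommRing R] (a : R) (hR : (p : R) = 0) :
    StandardEtalePair R where
  f := X ^ p - (X + C a)
  monic_f := monic_X_pow_sub ((asPair.degree_X_add_C_lt a hp.out.one_lt))
  g := 1
  cond := by
    refine ⟨-1, 0, 1, ?_⟩
    rw [derivative_sub, derivative_X_pow, hR, map_zero, derivative_add, derivative_X, derivative_C,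
      pow_one]
    ring
where
  degree_X_add_C_lt {R : Type u} [CommRing R] (a : R) {n : ℕ} (hn : 1 < n) :
      (X + C a : R[X]).degree < (n : WithBot ℕ) :=
    lt_of_le_of_lt (degree_add_le_of_degree_le degree_X_le (degree_C_le.trans zero_le_one))
      (by exact_mod_cast hn)

theorem exists_root_cover {R : CommRingCat.{u}} (a : R) (hR : (p : R) = 0) :
    ∃ (D : CommRingCat.{u}) (π : R ⟶ D) (b : D), Etale (Spec.map π) ∧
      (∀ c, ∃ d, (Spec.map π).base d = c) ∧ b ^ p - b = π.hom a := by
  let P := asPair p a hR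
  have hX : P.X ^ p - P.X = algebraMap R P.Ring a := by
    have h := P.hasMap_X.1
    change aeval P.X (X ^ p - (X + Polynomial.C a)) = 0 at h
    rw [map_sub, map_add, map_pow, aeval_X, aeval_C, sub_eq_zero] at h
    rw [h, add_sub_cancel_left]
  refine ⟨CommRingCat.of P.Ring, CommRingCat.ofHom (algebraMap R P.Ring), P.X,
    (HasRingHomProperty.Spec_iff (P := @Etale)).2 (RingHom.etale_algebraMap.2 inferInstance),
    fun c => ?_, hX⟩
  let q : PrimeSpectrum R := c
  let K := AlgebraicClosure q.asIdeal.ResidueField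
  have hK : CharP K p := (CharP.charP_iff_prime_eq_zero hp.out).2 (by
    simpa using congrArg (algebraMap R K) hR)
  obtain ⟨x, hx⟩ := LangSemilinear.exists_artinSchreier p (algebraMap R K a)
  have hm : P.HasMap x := by
    refine ⟨?_, ?_⟩
    · change aeval x (X ^ p - (X + Polynomial.C a)) = 0
      rw [map_sub, map_add, map_pow, aeval_X, aeval_C, ← hx, add_sub_cancel, sub_self]
    · change IsUnit (aeval x (1 : R[X]))
      rw [map_one]
      exact isUnit_one
  refine ⟨⟨RingHom.ker (P.lift x hm).toRingHom, RingHom.ker_isPrime _⟩,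
    PrimeSpectrum.ext (Ideal.ext fun r => ?_)⟩
  change P.lift x hm (algebraMap R P.Ring r) = 0 ↔ r ∈ q.asIdeal
  rw [AlgHom.commutes, IsScalarTower.algebraMap_apply R q.asIdeal.ResidueField K,
    map_eq_zero_iff _ (RingHom.injective _), Ideal.algebraMap_residueField_eq_zero]

instance epi_frobSub : Epi (frobSub p h0) := by
  rw [← Sheaf.isLocallySurjective_iff_epi']
  refine ⟨fun {U} t => (mem_topology_iff _).2 fun u => ?_⟩
  obtain ⟨C, j, hj, ⟨c, hc⟩, -⟩ := Scheme.exists_affine_mem_range_and_range_subset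
    (x := u) (U := (⊤ : U.left.Opens)) trivial
  have : Etale U.hom := U.prop
  let ρ : Γ(U.left, ⊤) ⟶ C := j.appTop ≫ (Scheme.ΓSpecIso C).hom
  have hC : (p : C) = 0 := by simpa using congrArg ρ.hom (natCast_eq_zero p h0 U)
  let a₀ : Γ(U.left, ⊤) := ULift.down t
  obtain ⟨D, π, b, hπ, hsurj, hb⟩ := exists_root_cover p (ρ.hom a₀) hC
  obtain ⟨d, hd⟩ := hsurj c
  let V : S.Etale := MorphismProperty.Over.mk ⊤ ((Spec.map π ≫ j) ≫ U.hom)
    (show Etale _ from inferInstance)
  let g : V ⟶ U := MorphismProperty.Over.homMk (Spec.map π ≫ j) rfl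
  refine ⟨V, g, ⟨ULift.up ((Scheme.ΓSpecIso D).inv.hom b), ?_⟩, d, ?_⟩
  · refine (frobSub_apply p h0 V _).trans (ULift.ext _ _ ?_)
    change (Scheme.ΓSpecIso D).inv.hom b ^ p - (Scheme.ΓSpecIso D).inv.hom b =
      (Spec.map π ≫ j).appTop.hom a₀
    rw [← map_pow, ← map_sub, hb]
    change ((j.appTop ≫ (Scheme.ΓSpecIso C).hom) ≫ π ≫ (Scheme.ΓSpecIso D).inv).hom a₀ =
      (Spec.map π ≫ j).appTop.hom a₀
    rw [Scheme.Hom.comp_appTop, Category.assoc, Scheme.ΓSpecIso_inv_naturality, Iso.hom_inv_id_assoc]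
  · change (Spec.map π ≫ j).base d = u
    rw [Scheme.Hom.comp_apply, hd, hc]

include h0 hp in
theorem exists_nhd_eq_cast (U : S.Etale) (x : Γ(U.left, ⊤)) (hx : x ^ p - x = 0) (u : U.left) :
    ∃ (W : U.left.Opens) (k : ZMod p), u ∈ W ∧
      W.ι.appTop.hom x = W.ι.appTop.hom (castHom _ p (natCast_eq_zero p h0 U) k) := by
  let ev := (U.left.Γevaluation u).hom
  have hK : CharP (U.left.residueField u) p := (CharP.charP_iff_prime_eq_zero hp.out).2 (by
    simpa using congrArg ev (natCast_eq_zero p h0 U))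
  obtain ⟨k, hk⟩ := LangSemilinear.exists_zmod_of_pow_eq p (x := ev x) (by
    rw [← map_pow]; exact congrArg ev (sub_eq_zero.1 hx))
  let e : Γ(U.left, ⊤) := x - castHom _ p (natCast_eq_zero p h0 U) k
  have he : asHom _ p (natCast_eq_zero p h0 U) e = 0 := by
    simp only [e, map_sub, asHom_castHom, sub_zero]
    exact hx
  have hev : ev e = 0 := by
    obtain ⟨m, rfl⟩ := ZMod.intCast_surjective k
    rw [map_intCast] at hk
    simp only [e, map_sub, castHom_intCast, map_intCast, hk, sub_self]
  let w : Γ(U.left, ⊤) := 1 - e ^ (p - 1)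
  refine ⟨U.left.basicOpen w, k, ?_, ?_⟩
  · rw [← Scheme.evaluation_ne_zero_iff_mem_basicOpen U.left u (Set.mem_univ u)]
    change ev w ≠ 0
    simp only [w, map_sub, map_one, map_pow, hev,
      zero_pow (Nat.sub_ne_zero_of_lt hp.out.one_lt), sub_zero]
    exact one_ne_zero
  · let r := (U.left.basicOpen w).ι.appTop.hom
    have hu : IsUnit (r w) := by
      have h := Scheme.preimage_basicOpen_top (U.left.basicOpen w).ι w
      rw [Scheme.Opens.ι_preimage_self] at h
      refine (U.left.basicOpen w).toScheme.toRingedSpace.isUnit_of_isUnit_germ _ _ fun z hz => ?_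
      exact ((U.left.basicOpen w).toScheme.mem_basicOpen_top _ z).1 (h ▸ trivial)
    have hz : r e * r w = 0 := by
      rw [← map_mul, mul_sub, mul_one, ← pow_succ', Nat.sub_add_cancel hp.out.pos]
      rw [asHom_apply, sub_eq_zero] at he
      rw [he, sub_self, map_zero]
    exact sub_eq_zero.1 ((map_sub r _ _).symm.trans ((hu.mul_left_eq_zero).1 hz))

theorem exact : (ShortComplex.mk (incl p h0) (frobSub p h0) (incl_frobSub p h0)).Exact := by
  rw [ShortComplex.exact_iff_epi_kernel_lift]
  change Epi (kernel.lift (frobSub p h0) (incl p h0) (incl_frobSub p h0))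
  rw [← Sheaf.isLocallySurjective_iff_epi']
  refine ⟨fun {U} t => (mem_topology_iff _).2 fun u => ?_⟩
  let x : Γ(U.left, ⊤) := ((kernel.ι (frobSub p h0)).hom.app (op U) t).down
  have hx : x ^ p - x = 0 :=
    congrArg ULift.down (ConcreteCategory.congr_hom
      (congrArg (fun m : kernel (frobSub p h0) ⟶ EtCoh.Ga S => m.hom.app (op U))
        (kernel.condition (frobSub p h0))) t)
  obtain ⟨W, k, hu, hW⟩ := exists_nhd_eq_cast p h0 U x hx u
  have : Etale U.hom := U.prop
  let V : S.Etale := MorphismProperty.Over.mk ⊤ (W.ι ≫ U.hom) (show Etale _ from inferInstance)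
  let g : V ⟶ U := MorphismProperty.Over.homMk W.ι rfl
  refine ⟨V, g, ⟨(toSheafify S.smallEtaleTopology ((Functor.const S.Etaleᵒᵖ).obj
    (AddCommGrpCat.of (ULift.{u + 1} (ZMod p))))).app (op V) (ULift.up k), ?_⟩, ⟨u, hu⟩, rfl⟩
  have hmono : Function.Injective ((kernel.ι (frobSub p h0)).hom.app (op V)) := by
    have : Mono (((sheafToPresheaf S.smallEtaleTopology AddCommGrpCat.{u + 1}) ⋙
        (evaluation _ _).obj (op V)).map (kernel.ι (frobSub p h0))) := inferInstance
    exact (AddCommGrpCat.mono_iff_injective _).1 this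
  apply hmono
  refine Eq.trans ?_ (NatTrans.naturality_apply (kernel.ι (frobSub p h0)).hom g.op t).symm
  refine (ConcreteCategory.congr_hom (congrArg (fun m : EtCoh.const S (ZMod p) ⟶ EtCoh.Ga S =>
    m.hom.app (op V)) (kernel.lift_ι (frobSub p h0) (incl p h0) (incl_frobSub p h0))) _).trans ?_
  refine (ConcreteCategory.congr_hom (congrArg (fun m : (Functor.const S.Etaleᵒᵖ).obj
    (AddCommGrpCat.of (ULift.{u + 1} (ZMod p))) ⟶ (EtCoh.Ga S).obj => m.app (op V))
    (toSheafify_incl p h0)) _).trans ?_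
  refine ULift.ext _ _ ?_
  refine Eq.trans ?_ hW.symm
  exact (map_castHom W.ι.appTop.hom p (natCast_eq_zero p h0 U) (natCast_eq_zero p h0 V) k).symm

theorem shortExact : (ShortComplex.mk (incl p h0) (frobSub p h0) (incl_frobSub p h0)).ShortExact where
  exact := exact p h0
  mono_f := mono_incl p h0
  epi_g := epi_frobSub p h0

end Groth.Agent.Lib.EtSite.ArtinSchreier
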