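import Groth.Agent.Lib.EtSite.Basic
import Mathlib.AlgebraicGeometry.Morphisms.UniversallyOpen
import Mathlib.AlgebraicGeometry.Morphisms.Etale

/-!
# Small étale site: morphisms are étale, lifting fibre points, common refinements
-/

universe u

open CategoryTheory CategoryTheory.Limits AlgebraicGeometry Opposite

namespace Groth.Agent.Lib.EtSite.Fiber

open Groth.Agent.Lib.EtSite.Basic

variable {X : Scheme.{u}}

theorem etale_left {U V : X.Etale} (g : V ⟶ U) : Etale g.left := by
  have : Etale U.hom := U.prop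
  have hV : Etale (g.left ≫ U.hom) := by
    have h : g.left ≫ U.hom = V.hom := Over.w g.hom
    exact h.symm ▸ V.prop
  exact MorphismProperty.of_postcomp @Etale g.left U.hom U.prop hV

theorem isOpen_range_left {U V : X.Etale} (g : V ⟶ U) : IsOpen (Set.range g.left.base) :=
  have := etale_left g
  g.left.isOpenMap.isOpen_range

/-- Fibre points lift through a morphism at any point over their image. -/
theorem exists_fiber_map {Ω : Type u} [Field Ω] [IsSepClosed Ω]
    (ξ : Spec (CommRingCat.of Ω) ⟶ X) {U V : X.Etale} (g : V ⟶ U)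
    (p : (Scheme.pointSmallEtale ξ).fiber.obj U) (v : V.left) (hv : g.left.base v = fiberPt p) :
    ∃ q : (Scheme.pointSmallEtale ξ).fiber.obj V,
      (Scheme.pointSmallEtale ξ).fiber.map g q = p ∧ fiberPt q = v := by
  have := etale_left g
  obtain ⟨l, hl, hl'⟩ := Scheme.exists_fac_of_etale_of_isSepClosed g.left (fiberHom p) v hv
  refine ⟨mkFiber ξ V l ?_, Over.OverMorphism.ext hl, hl'⟩
  have e1 : g.left ≫ U.hom = V.hom := Over.w g.hom
  calc l ≫ V.hom = l ≫ (g.left ≫ U.hom) := congrArg (l ≫ ·) e1.symm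
    _ = (l ≫ g.left) ≫ U.hom := (Category.assoc _ _ _).symm
    _ = fiberHom p ≫ U.hom := congrArg (· ≫ U.hom) hl
    _ = ξ := fiberHom_comp p

/-- Two morphisms meeting at a point are refined by a common étale neighbourhood. -/
theorem exists_refine {U V V' : X.Etale} (φ : V ⟶ U) (φ' : V' ⟶ U) (v : V.left) (v' : V'.left)
    (h : φ.left.base v = φ'.left.base v') :
    ∃ (T : X.Etale) (a : T ⟶ V) (b : T ⟶ V') (t : T.left),
      a ≫ φ = b ≫ φ' ∧ a.left.base t = v := by
  obtain ⟨p, hp⟩ := exists_fiber_geomPoint V v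
  let Φ := Scheme.pointSmallEtale (geomPoint X (V.hom.base v))
  obtain ⟨q, hq, -⟩ := exists_fiber_map _ φ' (Φ.fiber.map φ p) v'
    (h.symm.trans ((congrArg φ.left.base hp).symm.trans (fiberPt_map φ p).symm))
  let α : Φ.fiber.elementsMk V p ⟶ Φ.fiber.elementsMk U (Φ.fiber.map φ p) := ⟨φ, rfl⟩
  let β : Φ.fiber.elementsMk V' q ⟶ Φ.fiber.elementsMk U (Φ.fiber.map φ p) := ⟨φ', hq⟩
  obtain ⟨w, a, b, hab⟩ := IsCofiltered.cospan α β
  exact ⟨w.1, a.1, b.1, fiberPt (U := w.1) w.2, congrArg Subtype.val hab,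
    (fiberPt_map a.1 w.2).symm.trans ((congrArg fiberPt a.2).trans hp)⟩

end Groth.Agent.Lib.EtSite.Fiber
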