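import Groth.Prelude.Def_EtGm
import Groth.Agent.Lib.EtSite.Fiber
import Mathlib.CategoryTheory.Sites.EpiMono
import Mathlib.RingTheory.Etale.StandardEtale
import Mathlib.AlgebraicGeometry.Morphisms.Etale
import Mathlib.FieldTheory.IsAlgClosed.AlgebraicClosure

/-!
# The Kummer sequence on the small étale site
-/

universe u

open CategoryTheory CategoryTheory.Limits AlgebraicGeometry Opposite Polynomial

namespace Groth.Agent.Lib.EtSite.Kummer

open Groth.Agent.Lib.EtSite.Basic

/-- The standard étale pair `(Xⁿ - a, 1)`. -/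
noncomputable def rootPair {R : Type u} [CommRing R] (a : Rˣ) {n : ℕ} (hn : IsUnit (n : R))
    (h0 : n ≠ 0) : StandardEtalePair R where
  f := X ^ n - C (a : R)
  monic_f := monic_X_pow_sub_C _ h0
  g := 1
  cond := by
    obtain ⟨v, hv⟩ := (hn.mul a.isUnit).exists_left_inv
    refine ⟨X * Polynomial.C v, -(Polynomial.C (n : R) * Polynomial.C v), 1, ?_⟩
    have hp : (X : R[X]) ^ (n - 1) * X = X ^ n := by rw [← pow_succ, Nat.sub_add_cancel (by omega)]
    have hv' : Polynomial.C v * (Polynomial.C (n : R) * Polynomial.C (a : R)) = 1 := by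
      rw [← map_mul, ← map_mul, hv, map_one]
    rw [derivative_sub, derivative_X_pow, derivative_C, sub_zero, pow_one]
    linear_combination (Polynomial.C (n : R) * Polynomial.C v) * hp + hv'

theorem exists_root_cover {R : CommRingCat.{u}} (a : Rˣ) {n : ℕ} (hn : IsUnit (n : R)) (h0 : n ≠ 0) :
    ∃ (D : CommRingCat.{u}) (π : R ⟶ D) (b : Dˣ), Etale (Spec.map π) ∧
      (∀ c, ∃ d, (Spec.map π).base d = c) ∧ b ^ n = Units.map π.hom.toMonoidHom a := by
  let P := rootPair a hn h0
  have hX : P.X ^ n = algebraMap R P.Ring (a : R) := by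
    have h := P.hasMap_X.1
    change aeval P.X (X ^ n - Polynomial.C (a : R)) = 0 at h
    rwa [map_sub, map_pow, aeval_X, aeval_C, sub_eq_zero] at h
  have hu : IsUnit P.X := (isUnit_pow_iff h0).1 (hX ▸ a.isUnit.map (algebraMap R P.Ring))
  refine ⟨CommRingCat.of P.Ring, CommRingCat.ofHom (algebraMap R P.Ring), hu.unit,
    (HasRingHomProperty.Spec_iff (P := @Etale)).2 (RingHom.etale_algebraMap.2 inferInstance),
    fun c => ?_, Units.ext ?_⟩
  · let q : PrimeSpectrum R := c
    let K := AlgebraicClosure q.asIdeal.ResidueField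
    have : NeZero n := ⟨h0⟩
    obtain ⟨x, hx⟩ := IsAlgClosed.exists_pow_nat_eq (algebraMap R K (a : R)) (Nat.pos_of_ne_zero h0)
    have hm : P.HasMap x := by
      refine ⟨?_, ?_⟩
      · change aeval x (X ^ n - Polynomial.C (a : R)) = 0
        rw [map_sub, map_pow, aeval_X, aeval_C, hx, sub_self]
      · change IsUnit (aeval x (1 : R[X]))
        rw [map_one]
        exact isUnit_one
    refine ⟨⟨RingHom.ker (P.lift x hm).toRingHom, RingHom.ker_isPrime _⟩,
      PrimeSpectrum.ext (Ideal.ext fun r => ?_)⟩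
    change P.lift x hm (algebraMap R P.Ring r) = 0 ↔ r ∈ q.asIdeal
    rw [AlgHom.commutes, IsScalarTower.algebraMap_apply R q.asIdeal.ResidueField K,
      map_eq_zero_iff _ (RingHom.injective _), Ideal.algebraMap_residueField_eq_zero]
  · rw [Units.val_pow_eq_pow_val, IsUnit.unit_spec]
    exact hX

theorem epi_powMap (S : Scheme.{u}) (n : ℕ) (hn : IsUnit (n : Γ(S, ⊤))) :
    Epi (EtCoh.powMap S n) := by
  rw [← Sheaf.isLocallySurjective_iff_epi']
  refine ⟨fun {U} t => (mem_topology_iff _).2 fun u => ?_⟩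
  obtain ⟨C, j, hj, ⟨c, hc⟩, -⟩ := Scheme.exists_affine_mem_range_and_range_subset
    (x := u) (U := (⊤ : U.left.Opens)) trivial
  have : Etale U.hom := U.prop
  let r : Γ(S, ⊤) ⟶ C := (j ≫ U.hom).appTop ≫ (Scheme.ΓSpecIso C).hom
  have hnC : IsUnit (n : C) := by simpa using hn.map r.hom
  have h0 : n ≠ 0 := by
    rintro rfl
    rw [Nat.cast_zero, isUnit_zero_iff] at hnC
    have : Nontrivial C := (c : PrimeSpectrum C).nontrivial
    exact zero_ne_one hnC
  let a₀ : Γ(U.left, ⊤)ˣ := Additive.toMul (ULift.down t)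
  let ρ : Γ(U.left, ⊤) ⟶ C := j.appTop ≫ (Scheme.ΓSpecIso C).hom
  obtain ⟨D, π, b, hπ, hsurj, hb⟩ := exists_root_cover (Units.map ρ.hom.toMonoidHom a₀) hnC h0
  obtain ⟨d, hd⟩ := hsurj c
  let V : S.Etale := MorphismProperty.Over.mk ⊤ ((Spec.map π ≫ j) ≫ U.hom)
    (show Etale _ from inferInstance)
  let g : V ⟶ U := MorphismProperty.Over.homMk (Spec.map π ≫ j) rfl
  refine ⟨V, g, ⟨ULift.up (Additive.ofMul (Units.map (Scheme.ΓSpecIso D).inv.hom.toMonoidHom b)), ?_⟩,
    d, ?_⟩
  · have key : (Units.map (Scheme.ΓSpecIso D).inv.hom.toMonoidHom b) ^ n =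
        Units.map (Spec.map π ≫ j).appTop.hom.toMonoidHom a₀ := by
      rw [← map_pow, hb]
      ext
      change ((j.appTop ≫ (Scheme.ΓSpecIso C).hom) ≫ π ≫ (Scheme.ΓSpecIso D).inv).hom (a₀ : Γ(U.left, ⊤)) =
        (Spec.map π ≫ j).appTop.hom (a₀ : Γ(U.left, ⊤))
      rw [Scheme.Hom.comp_appTop, Category.assoc, Scheme.ΓSpecIso_inv_naturality,
        Iso.hom_inv_id_assoc]
    have e1 : ∀ y : EtCoh.sect (EtCoh.Gm S) V, (EtCoh.powMap S n).hom.app (op V) y = n • y := fun y => rfl
    refine (e1 _).trans ?_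
    exact ULift.ext _ _ (congrArg Additive.ofMul key)
  · change (Spec.map π ≫ j).base d = u
    rw [Scheme.Hom.comp_apply, hd, hc]

end Groth.Agent.Lib.EtSite.Kummer
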