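import Groth.Agent.Lib.FEt.NormalAlg
import Groth.Agent.Lib.Henselian.Normal
import Mathlib.AlgebraicGeometry.Morphisms.Etale
import Mathlib.AlgebraicGeometry.Stalk
import Mathlib.RingTheory.Etale.Basic

/-!
# Normality of local rings along etale morphisms
-/

universe u

open CategoryTheory AlgebraicGeometry TensorProduct

namespace Groth.Agent.Lib.EtSite.StalkNormal

/-- Etale local ring over a normal local ring is normal. -/
theorem normal_up (A B R L : Type u) [CommRing A] [CommRing B] [Algebra A B] [Algebra.Etale A B]
    [CommRing R] [IsDomain R] [IsIntegrallyClosed R] [Algebra A R] [CommRing L] [IsLocalRing L]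
    [Algebra B L] [Algebra A L] [IsScalarTower A B L] [Algebra R L] [IsScalarTower A R L]
    (p : Ideal A) [p.IsPrime] [IsLocalization.AtPrime R p] (q : Ideal B) [q.IsPrime] [q.LiesOver p]
    [IsLocalization.AtPrime L q] : IsDomain L ∧ IsIntegrallyClosed L := by
  let M := Algebra.algebraMapSubmonoid B p.primeCompl
  have hMq : M ≤ q.primeCompl := by
    rintro _ ⟨a, ha, rfl⟩ hq
    exact ha ((Ideal.mem_of_liesOver q p a).mpr hq)
  let C := Localization M
  let : Algebra R C := (IsLocalization.map (M := p.primeCompl) C (algebraMap A B)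
    (T := M) (fun a ha => (⟨a, ha, rfl⟩ : algebraMap A B a ∈ M)) : R →+* C).toAlgebra
  have : IsScalarTower A R C := IsScalarTower.of_algebraMap_eq fun a => by
    rw [RingHom.algebraMap_toAlgebra, IsLocalization.map_eq, IsScalarTower.algebraMap_apply A B C]
  have : Algebra.IsPushout A R B C :=
    (Algebra.isPushout_of_isLocalization p.primeCompl R B C).symm
  have : Algebra.Etale R C := Algebra.Etale.of_equiv (Algebra.IsPushout.equiv A R B C)
  let φ : C →+* L := IsLocalization.lift (M := M) (g := algebraMap B L)
    fun m => IsLocalization.map_units L (⟨m.1, hMq m.2⟩ : q.primeCompl)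
  let algC : Algebra C L := φ.toAlgebra
  have : IsScalarTower B C L := IsScalarTower.of_algebraMap_eq fun x => by
    rw [RingHom.algebraMap_toAlgebra, IsLocalization.lift_eq]
  have : IsScalarTower R C L := IsScalarTower.of_algebraMap_eq' (IsLocalization.ringHom_ext p.primeCompl (by
    ext a
    simp only [RingHom.comp_apply]
    rw [← IsScalarTower.algebraMap_apply A R L, ← IsScalarTower.algebraMap_apply A R C,
      IsScalarTower.algebraMap_apply A B C, ← IsScalarTower.algebraMap_apply B C L,
      ← IsScalarTower.algebraMap_apply A B L]))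
  let N := q.primeCompl.map (algebraMap B C)
  have : IsLocalization N L := IsLocalization.isLocalization_of_submonoid_le C L M q.primeCompl hMq
  have : Module.Flat C L := IsLocalization.flat L N
  have : Module.Flat R L := Module.Flat.trans R C L
  have : Algebra.FormallyEtale C L := Algebra.FormallyEtale.of_isLocalization N
  have : Algebra.FormallyEtale R L := Algebra.FormallyEtale.comp R C L
  have : Algebra.EssFiniteType C L := Algebra.EssFiniteType.of_isLocalization L N
  have : Algebra.EssFiniteType R L := Algebra.EssFiniteType.comp R C L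
  exact Groth.Agent.Lib.FEt.NormalAlg.isDomain_and_isIntegrallyClosed R L
    (TensorProduct.toIntegralClosure_bijective_of_tower
    (S := C) TensorProduct.toIntegralClosure_bijective_of_smooth
    (TensorProduct.toIntegralClosure_bijective_of_isLocalization N))

theorem normal_iff {X Y : Scheme.{u}} (f : X ⟶ Y) [AlgebraicGeometry.Etale f] (x : X) :
    (IsDomain (X.presheaf.stalk x) ∧ IsIntegrallyClosed (X.presheaf.stalk x)) ↔
      (IsDomain (Y.presheaf.stalk (f.base x)) ∧ IsIntegrallyClosed (Y.presheaf.stalk (f.base x))) := by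
  let R := Y.presheaf.stalk (f.base x)
  let L := X.presheaf.stalk x
  let : Algebra R L := (f.stalkMap x).hom.toAlgebra
  have : IsLocalHom (algebraMap R L) := inferInstanceAs <| IsLocalHom (f.stalkMap x).hom
  have : Module.Flat R L := Flat.stalkMap f x
  constructor
  · rintro ⟨h1, h2⟩
    have : Module.FaithfullyFlat R L := Module.FaithfullyFlat.of_flat_of_isLocalHom
    exact Groth.Agent.Lib.Henselian.Normal.isDomain_and_isIntegrallyClosed_of_faithfullyFlat R L
  · rintro ⟨h1, h2⟩
    obtain ⟨_, ⟨U, hU, rfl⟩, hxU, -⟩ :=
      Y.isBasis_affineOpens.exists_subset_of_mem_open (Set.mem_univ (f.base x)) isOpen_univ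
    obtain ⟨_, ⟨V, hV, rfl⟩, hxV, hVU⟩ :=
      X.isBasis_affineOpens.exists_subset_of_mem_open (show x ∈ f ⁻¹ᵁ U from hxU) (f ⁻¹ᵁ U).isOpen
    let A := Γ(Y, U)
    let B := Γ(X, V)
    let : Algebra A B := (f.appLE U V hVU).hom.toAlgebra
    have : Algebra.Etale A B := RingHom.etale_algebraMap.1 (f.etale_appLE hU hV hVU)
    let : Algebra A R := Y.presheaf.algebra_section_stalk (⟨f.base x, hxU⟩ : U)
    let : Algebra B L := X.presheaf.algebra_section_stalk (⟨x, hxV⟩ : V)
    let : Algebra A L := ((algebraMap B L).comp (algebraMap A B)).toAlgebra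
    have : IsScalarTower A B L := .of_algebraMap_eq' rfl
    have : IsScalarTower A R L := .of_algebraMap_eq fun a => by
      show X.presheaf.germ V x hxV (f.appLE U V hVU a) = f.stalkMap x (Y.presheaf.germ U (f.base x) hxU a)
      rw [Scheme.Hom.germ_stalkMap_apply, Scheme.Hom.appLE, CommRingCat.comp_apply,
        TopCat.Presheaf.germ_res_apply]
    let p := (hU.primeIdealOf ⟨f.base x, hxU⟩).asIdeal
    let q := (hV.primeIdealOf ⟨x, hxV⟩).asIdeal
    have := hU.isLocalization_stalk ⟨f.base x, hxU⟩
    have := hV.isLocalization_stalk ⟨x, hxV⟩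
    have : q.LiesOver p := ⟨by
      ext a
      show a ∈ p ↔ algebraMap A B a ∈ q
      rw [← not_iff_not]
      change a ∈ p.primeCompl ↔ algebraMap A B a ∈ q.primeCompl
      rw [← IsLocalization.AtPrime.isUnit_to_map_iff R p, ← IsLocalization.AtPrime.isUnit_to_map_iff L q,
        ← IsScalarTower.algebraMap_apply A B L, IsScalarTower.algebraMap_apply A R L,
        isUnit_map_iff (algebraMap R L)]⟩
    exact normal_up A B R L p q

end Groth.Agent.Lib.EtSite.StalkNormal
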