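import Groth.Agent.Lib.EtSite.PushStalk

/-!
# The unit on stalks: `F_{ξ ≫ f} → (f^* F)_ξ` is the canonical isomorphism
-/

universe u

open CategoryTheory CategoryTheory.Limits AlgebraicGeometry Opposite

namespace Groth.Agent.Lib.EtSite.UnitStalk

open Groth.Agent.Lib.EtSite.Pull Groth.Agent.Lib.EtSite.PushStalk

variable {X Y : Scheme.{u}} (f : X ⟶ Y) {Ω : Type u} [Field Ω] [IsSepClosed Ω]
  (ξ : Spec (CommRingCat.of Ω) ⟶ X)
  (A : Type (u + 2)) [Category.{u + 1} A] [HasProducts.{u} A] [HasColimitsOfSize.{u, u} A]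
  [((EtCoh.bc f).sheafPushforwardContinuous A Y.smallEtaleTopology
    X.smallEtaleTopology).IsRightAdjoint]

/-- The canonical map on stalks induced by the unit. -/
noncomputable def unitStalk (F : Sheaf Y.smallEtaleTopology A) :
    (Scheme.pointSmallEtale (ξ ≫ f)).sheafFiber.obj F ⟶
      (Scheme.pointSmallEtale ξ).sheafFiber.obj
        (((EtCoh.bc f).sheafPullback A Y.smallEtaleTopology X.smallEtaleTopology).obj F) :=
  (Scheme.pointSmallEtale (ξ ≫ f)).sheafFiber.map
      (((EtCoh.bc f).sheafAdjunctionContinuous A Y.smallEtaleTopology X.smallEtaleTopology).unit.app F) ≫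
    (germTo f A (rfl : ξ ≫ f = ξ ≫ f)).app _

theorem unitStalk_eq (F : Sheaf Y.smallEtaleTopology A) :
    unitStalk f ξ A F = (stalkPullIso f ξ A).inv.app F := by
  apply ((Scheme.pointSmallEtale (ξ ≫ f)).skyscraperSheafAdjunction.homEquiv _ _).injective
  rw [stalkPullIso, Adjunction.leftAdjointUniq_inv_app]
  erw [Adjunction.homEquiv_leftAdjointUniq_hom_app]
  ext : 1
  ext V : 2
  apply Pi.hom_ext
  intro p
  rw [← Adjunction.homEquiv_id, Adjunction.homEquiv_ofNatIsoRight_apply, Adjunction.homEquiv_id,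
    Adjunction.comp_unit_app]
  erw [GrothendieckTopology.Point.skyscraperSheafAdjunction_homEquiv_apply_hom]
  erw [GrothendieckTopology.Point.skyscraperPresheafHomEquiv_app_π]
  refine ((Scheme.pointSmallEtale (ξ ≫ f)).toPresheafFiber_naturality_assoc
    (((EtCoh.bc f).sheafAdjunctionContinuous A Y.smallEtaleTopology X.smallEtaleTopology).unit.app F).hom
    V.unop p _).trans ?_
  refine Eq.trans (_ ≫= toPresheafFiber_germToApp f A _ _ V.unop p) ?_
  refine Eq.symm ?_
  simp only [Category.assoc]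
  refine (Category.assoc _ _ _).trans ?_
  congr 1
  refine (Category.assoc _ _ _).trans ?_
  refine Eq.trans (_ ≫= ((Pi.map'_comp_π _ _ p).trans (Category.comp_id _))) ?_
  have h := GrothendieckTopology.Point.skyscraperPresheafHomEquiv_app_π
    (Φ := Scheme.pointSmallEtale ξ) (𝟙 ((Scheme.pointSmallEtale ξ).presheafFiber.obj
      (((EtCoh.bc f).sheafPullback A Y.smallEtaleTopology X.smallEtaleTopology).obj F).obj))
    ((EtCoh.bc f).obj V.unop) (liftPt f rfl V.unop p)
  exact h.trans (Category.comp_id _)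

theorem isIso_unitStalk (F : Sheaf Y.smallEtaleTopology A) : IsIso (unitStalk f ξ A F) := by
  rw [unitStalk_eq]
  infer_instance

end Groth.Agent.Lib.EtSite.UnitStalk
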