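import Groth.Agent.Lib.EtSite.Sections
import Groth.Agent.Lib.EtSite.Push
import Groth.Agent.Lib.EtSite.Pull
import Mathlib.Algebra.Homology.DerivedCategory.Ext.MapBijective
import Mathlib.CategoryTheory.Abelian.GrothendieckCategory.EnoughInjectives

/-!
# Comparing cohomology along exact functors; cohomology of direct images
-/

universe u w w' v v' u₁ u₂

open CategoryTheory CategoryTheory.Limits AlgebraicGeometry Opposite

namespace Groth.Agent.Lib.EtSite.ExtCompare

open CategoryTheory.Abelian

section

variable {C : Type u₁} [Category.{v} C] [Abelian C] {D : Type u₂} [Category.{v'} D] [Abelian D]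
  (F : C ⥤ D) [F.Additive] [PreservesFiniteLimits F] [PreservesFiniteColimits F]
  [HasExt.{w} C] [HasExt.{w'} D] [EnoughInjectives C]

attribute [local simp] Ext.mapExactFunctor_comp Ext.mapExactFunctor_mk₀ Ext.mapExactFunctor_extClass

attribute [local instance] Ext.subsingleton_of_injective in
/-- An exact functor compares `Ext(X, -)` bijectively if it does so in degree zero and sends
injectives to objects without higher `Ext` from the image of `X`. -/
theorem mapExt_bijective (X : C) (h₀ : ∀ Y : C, Function.Bijective fun f : X ⟶ Y => F.map f)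
    (hI : ∀ (I : C), Injective I → ∀ n : ℕ, Subsingleton (Ext.{w'} (F.obj X) (F.obj I) (n + 1)))
    (Y : C) (n : ℕ) : Function.Bijective (F.mapExtAddHom X Y n) := by
  induction n generalizing Y with
  | zero =>
    refine ⟨fun a b h => ?_, fun y => ?_⟩
    · obtain ⟨f, rfl⟩ := (Ext.mk₀_bijective X Y).2 a
      obtain ⟨g, rfl⟩ := (Ext.mk₀_bijective X Y).2 b
      simp only [Functor.mapExtAddHom_coe, Ext.mapExactFunctor_mk₀] at h
      rw [(h₀ Y).1 ((Ext.mk₀_bijective _ _).1 h)]
    · obtain ⟨g, rfl⟩ := (Ext.mk₀_bijective _ _).2 y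
      obtain ⟨f, rfl⟩ := (h₀ Y).2 g
      exact ⟨Ext.mk₀ f, by simp⟩
  | succ n hn =>
    let I : InjectivePresentation Y := Classical.arbitrary _
    let S := ShortComplex.mk _ _ (cokernel.condition I.f)
    have hS : S.ShortExact := { exact := ShortComplex.exact_cokernel I.f }
    have := hI I.J I.injective n
    have : Subsingleton (Ext.{w'} (F.obj X) (S.map F).X₂ (n + 1)) := this
    exact AddMonoidHom.bijective_of_surjective_of_bijective_of_right_exact _ _ _ _
      (F.mapExtAddHom X S.X₂ n) (F.mapExtAddHom X S.X₃ n) (F.mapExtAddHom X S.X₁ (n + 1))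
      (by cat_disch) (by cat_disch)
      ((ShortComplex.ab_exact_iff_function_exact _).mp
        (Ext.covariant_sequence_exact₃' X hS n (n + 1) rfl))
      ((ShortComplex.ab_exact_iff_function_exact _).mp
        (Ext.covariant_sequence_exact₃' (F.obj X) (hS.map_of_exact F) n (n + 1) rfl))
      (hn _).surjective (hn _)
      (fun x₁ ↦ Ext.covariant_sequence_exact₁ _ hS x₁ (Subsingleton.elim _ _) rfl)
      (fun y₁ ↦ Ext.covariant_sequence_exact₁ _ (hS.map_of_exact F) y₁ (Subsingleton.elim _ _) rfl)

omit [EnoughInjectives C] in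
/-- A retract of an object without higher `Ext` has none. -/
theorem subsingleton_of_retract (X : C) {Y Z : C} (s : Y ⟶ Z) (r : Z ⟶ Y) (h : s ≫ r = 𝟙 Y) (n : ℕ)
    [Subsingleton (Ext.{w} X Z n)] : Subsingleton (Ext.{w} X Y n) := by
  refine subsingleton_of_forall_eq 0 fun x => ?_
  rw [← x.comp_mk₀_id, ← h, ← Ext.mk₀_comp_mk₀,
    ← Ext.comp_assoc_of_second_deg_zero, Subsingleton.elim (x.comp (Ext.mk₀ s) (add_zero n)) 0,
    Ext.zero_comp]

end

/-- Direct images along integral morphisms from a scheme whose global sections are exact have no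
higher cohomology. -/
theorem H_push_subsingleton {X Y : Scheme.{u}} (f : X ⟶ Y) [IsIntegralHom f]
    (hX : (EtCore.gsec X).PreservesEpimorphisms) (n : ℕ) (G : EtCoh.Ab X) :
    Subsingleton (EtCoh.H Y ((EtCoh.push f).obj G) (n + 1)) := by
  induction n generalizing G with
  | zero =>
    let J : InjectivePresentation G := Classical.arbitrary _
    let S := ShortComplex.mk _ _ (cokernel.condition J.f)
    have hS : S.ShortExact := { exact := ShortComplex.exact_cokernel J.f }
    have := Push.preservesHomology_push f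
    have hS' : (S.map (EtCoh.push f)).ShortExact := hS.map _
    have : Injective (S.map (EtCoh.push f)).X₂ :=
      Injective.injective_of_adjoint (EtCoh.pullPushAdj f) J.J
    refine subsingleton_of_forall_eq 0 fun x => ?_
    obtain ⟨x₃, rfl⟩ := Ext.covariant_sequence_exact₁ _ hS' x (Ext.eq_zero_of_injective _) (zero_add 1)
    obtain ⟨φ, rfl⟩ := (Ext.mk₀_bijective _ _).2 x₃
    have : Projective (AddCommGrpCat.of (ULift.{u + 1} ℤ)) := StrictHens.projective_ulift_int
    have : Epi ((EtCore.gsec Y).map ((EtCoh.push f).map S.g)) := by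
      have := hX
      have : Epi S.g := hS.epi_g
      have hh : Epi ((EtCoh.push f ⋙ EtCore.gsec Y).map S.g) :=
        Functor.PreservesEpimorphisms.of_iso (EtCore.pushGsecIso f).symm |>.preserves S.g
      exact hh
    have hepi : Epi ((EtCore.gsec Y).map (S.map (EtCoh.push f)).g) := this
    obtain ⟨ψ, hψ⟩ : ∃ ψ, ψ ≫ (EtCore.gsec Y).map (S.map (EtCoh.push f)).g =
        (EtCore.constAdj Y).homEquiv _ _ φ :=
      ⟨Projective.factorThru _ _, Projective.factorThru_comp _ _⟩
    obtain ⟨g, rfl⟩ : ∃ g, φ = g ≫ (S.map (EtCoh.push f)).g := ⟨((EtCore.constAdj Y).homEquiv _ _).symm ψ,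
      ((EtCore.constAdj Y).homEquiv _ _).injective (by
        rw [(EtCore.constAdj Y).homEquiv_naturality_right, Equiv.apply_symm_apply]
        exact hψ.symm)⟩
    rw [← Ext.mk₀_comp_mk₀, Ext.comp_assoc_of_second_deg_zero, hS'.comp_extClass, Ext.comp_zero]
    rfl
  | succ n ih =>
    let J : InjectivePresentation G := Classical.arbitrary _
    let S := ShortComplex.mk _ _ (cokernel.condition J.f)
    have hS : S.ShortExact := { exact := ShortComplex.exact_cokernel J.f }
    have := Push.preservesHomology_push f
    have hS' : (S.map (EtCoh.push f)).ShortExact := hS.map _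
    have : Injective (S.map (EtCoh.push f)).X₂ :=
      Injective.injective_of_adjoint (EtCoh.pullPushAdj f) J.J
    refine subsingleton_of_forall_eq 0 fun x => ?_
    obtain ⟨x₃, rfl⟩ := Ext.covariant_sequence_exact₁ _ hS' x (Ext.eq_zero_of_injective _) rfl
    have := ih S.X₃
    exact (congrArg (fun e => Ext.comp e hS'.extClass rfl)
      (Subsingleton.elim (α := EtCoh.H Y ((EtCoh.push f).obj S.X₃) (n + 1)) x₃ 0)).trans (Ext.zero_comp ..)

end Groth.Agent.Lib.EtSite.ExtCompare
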