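import Groth.Prelude.Def_EtBase
import Groth.Prelude.Def_EtCore
import Groth.Agent.Lib.EtSite.Stalk
import Groth.Agent.Lib.EtSite.Fiber
import Groth.Agent.Lib.Henselian.Etale
import Mathlib.CategoryTheory.Preadditive.Projective.Basic
import Mathlib.CategoryTheory.Abelian.Projective.Dimension

/-!
# The small étale site of a strictly henselian local scheme

* `exists_section`: a point of an étale scheme over the closed geometric point lifts to a section;
* `toPresheafFiber_top_bijective`: global sections of any presheaf are its stalk at the closed point;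
* `projective_constSheaf_int`, `H_subsingleton`: positive degree cohomology vanishes.
-/

universe u

open CategoryTheory CategoryTheory.Limits AlgebraicGeometry Opposite

namespace Groth.Agent.Lib.EtSite.StrictHens

open Groth.Agent.Lib.EtSite.Basic Groth.Agent.Lib.EtSite.Stalk Groth.Agent.Lib.EtSite.Fiber

variable (R : Type u) [CommRing R] [HenselianLocalRing R]
    [IsSepClosed (IsLocalRing.ResidueField R)]

/-- The closed geometric point. -/
noncomputable abbrev cpt :
    Spec (CommRingCat.of (IsLocalRing.ResidueField R)) ⟶ Spec (CommRingCat.of R) :=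
  Spec.map (CommRingCat.ofHom (IsLocalRing.residue R))

/-- The tautological point of the terminal object at the closed point. -/
noncomputable abbrev topPt :
    (Scheme.pointSmallEtale (cpt R)).fiber.obj (EtCoh.top (Spec (CommRingCat.of R))) :=
  Over.homMk (cpt R) (Category.comp_id _)

/-- An étale neighbourhood of the closed geometric point has a section. -/
theorem exists_section (U : (Spec (CommRingCat.of R)).Etale)
    (p : (Scheme.pointSmallEtale (cpt R)).fiber.obj U) :
    ∃ s : EtCoh.top (Spec (CommRingCat.of R)) ⟶ U,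
      (Scheme.pointSmallEtale (cpt R)).fiber.map s (topPt R) = p := by
  have : Etale U.hom := U.prop
  obtain ⟨B, j, hj, hjp, -⟩ := Scheme.exists_affine_mem_range_and_range_subset
    (x := fiberPt p) (U := (⊤ : U.left.Opens)) (by simp)
  let y : Spec (CommRingCat.of (IsLocalRing.ResidueField R)) ⟶ Spec B :=
    IsOpenImmersion.lift j (fiberHom p) (by
      rintro _ ⟨a, rfl⟩
      rwa [Subsingleton.elim a default])
  have hy : y ≫ j = fiberHom p := IsOpenImmersion.lift_fac _ _ _
  obtain ⟨φ, hφ⟩ := Spec.map_surjective (j ≫ U.hom)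
  obtain ⟨ψ, hψ⟩ := Spec.map_surjective y
  have hφe : φ.hom.Etale := by
    have : Etale (Spec.map φ) := hφ ▸ inferInstance
    exact HasRingHomProperty.Spec_iff.1 this
  have hcomp : φ ≫ ψ = CommRingCat.ofHom (IsLocalRing.residue R) := by
    apply Spec.map_injective
    rw [Spec.map_comp, hψ, hφ, ← Category.assoc, hy]
    exact fiberHom_comp p
  algebraize [φ.hom]
  let σ : B →ₐ[R] R ⧸ IsLocalRing.maximalIdeal R :=
    { ψ.hom with commutes' := fun r => congrArg (fun m => m.hom r) hcomp }
  obtain ⟨τ, hτ⟩ :=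
    Groth.Agent.Lib.Henselian.Etale.exists_algHom_lift_self (IsLocalRing.maximalIdeal R) σ
  have h1 : φ ≫ CommRingCat.ofHom τ.toRingHom = 𝟙 (CommRingCat.of R) := by
    ext r
    exact τ.commutes r
  have h2 : CommRingCat.ofHom τ.toRingHom ≫ CommRingCat.ofHom (IsLocalRing.residue R) = ψ := by
    ext b
    exact DFunLike.congr_fun hτ b
  let s : Spec (CommRingCat.of R) ⟶ U.left := Spec.map (CommRingCat.ofHom τ.toRingHom) ≫ j
  have hs : s ≫ U.hom = 𝟙 _ := by
    rw [Category.assoc, ← hφ, ← Spec.map_comp, h1, Spec.map_id]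
  refine ⟨MorphismProperty.Over.homMk s hs, Over.OverMorphism.ext ?_⟩
  change cpt R ≫ s = fiberHom p
  rw [← hy, ← hψ, ← h2, Spec.map_comp, Category.assoc]

/-- Global sections of a presheaf are its stalk at the closed geometric point. -/
theorem toPresheafFiber_top_bijective {A : Type (u + 2)} [Category.{u + 1} A] {FA : A → A → Type*}
    {CA : A → Type (u + 1)} [∀ M N, FunLike (FA M N) (CA M) (CA N)]
    [ConcreteCategory.{u + 1} A FA] [HasColimitsOfSize.{u, u} A]
    [PreservesFilteredColimitsOfSize.{u, u} (forget A)]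
    (P : (Spec (CommRingCat.of R)).Etaleᵒᵖ ⥤ A) :
    Function.Bijective
      ((Scheme.pointSmallEtale (cpt R)).toPresheafFiber (EtCoh.top _) (topPt R) P) := by
  constructor
  · intro a b hab
    obtain ⟨V, g, q, hq, e⟩ :=
      ((Scheme.pointSmallEtale (cpt R)).toPresheafFiber_eq_iff' _ _ a b).1 hab
    obtain ⟨s, hs⟩ := exists_section R V q
    have h1 : s ≫ g = 𝟙 _ := (EtCore.topIsTerminal _).hom_ext _ _
    have h2 := congrArg (P.map s.op) e
    rw [← ConcreteCategory.comp_apply, ← ConcreteCategory.comp_apply, ← Functor.map_comp,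
      ← op_comp, h1, op_id, P.map_id] at h2
    simpa using h2
  · intro z
    obtain ⟨U, p, a, rfl⟩ := (Scheme.pointSmallEtale (cpt R)).toPresheafFiber_jointly_surjective z
    obtain ⟨s, hs⟩ := exists_section R U p
    refine ⟨P.map s.op a, ?_⟩
    erw [GrothendieckTopology.Point.toPresheafFiber_w_apply, hs]

theorem isIso_toPresheafFiber_top {A : Type (u + 2)} [Category.{u + 1} A] {FA : A → A → Type*}
    {CA : A → Type (u + 1)} [∀ M N, FunLike (FA M N) (CA M) (CA N)]
    [ConcreteCategory.{u + 1} A FA] [HasColimitsOfSize.{u, u} A]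
    [PreservesFilteredColimitsOfSize.{u, u} (forget A)] [(forget A).ReflectsIsomorphisms]
    (P : (Spec (CommRingCat.of R)).Etaleᵒᵖ ⥤ A) :
    IsIso ((Scheme.pointSmallEtale (cpt R)).toPresheafFiber (EtCoh.top _) (topPt R) P) :=
  (ConcreteCategory.isIso_iff_bijective _).2 (toPresheafFiber_top_bijective R P)

/-- Global sections identify with the stalk at the closed geometric point. -/
noncomputable def gsecIsoStalk :
    EtCore.gsec (Spec (CommRingCat.of R)) ≅ EtCoh.stalk (cpt R) :=
  NatIso.ofComponents
    (fun F => @asIso _ _ _ _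
      ((Scheme.pointSmallEtale (cpt R)).toPresheafFiber (EtCoh.top _) (topPt R) F.obj)
      (isIso_toPresheafFiber_top R F.obj))
    (fun φ => ((Scheme.pointSmallEtale (cpt R)).toPresheafFiber_naturality φ.hom _ _).symm)

theorem gsec_preservesEpimorphisms :
    (EtCore.gsec (Spec (CommRingCat.of R))).PreservesEpimorphisms :=
  Functor.PreservesEpimorphisms.of_iso (gsecIsoStalk R).symm

theorem projective_ulift_int : Projective (AddCommGrpCat.of (ULift.{u + 1} ℤ)) := by
  refine ⟨fun {E X} f e he => ?_⟩
  obtain ⟨a, ha⟩ := (AddCommGrpCat.epi_iff_surjective e).1 he (f ⟨1⟩)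
  refine ⟨AddCommGrpCat.ofHom ((zmultiplesHom _ a).comp AddEquiv.ulift.toAddMonoidHom), ?_⟩
  ext ⟨n⟩
  have h1 : (⟨n⟩ : ULift.{u + 1} ℤ) = n • ⟨1⟩ := by ext; simp
  simp only [AddCommGrpCat.hom_comp, AddCommGrpCat.hom_ofHom, AddMonoidHom.coe_comp,
    Function.comp_apply, zmultiplesHom_apply]
  have hn : AddEquiv.ulift.toAddMonoidHom (⟨n⟩ : ULift.{u + 1} ℤ) = n := rfl
  erw [hn, map_zsmul, ha]
  conv_rhs => rw [h1]
  exact (map_zsmul (AddCommGrpCat.Hom.hom f) n _).symm

theorem H_subsingleton (F : EtCoh.Ab (Spec (CommRingCat.of R))) (p : ℕ) (hp : 1 ≤ p) :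
    Subsingleton (EtCoh.H (Spec (CommRingCat.of R)) F p) := by
  obtain ⟨n, rfl⟩ := Nat.exists_eq_add_of_le hp
  have := gsec_preservesEpimorphisms R
  have : Projective ((constantSheaf (Spec (CommRingCat.of R)).smallEtaleTopology
      AddCommGrpCat.{u + 1}).obj (AddCommGrpCat.of (ULift ℤ))) :=
    (EtCore.constAdj _).map_projective _ projective_ulift_int
  rw [add_comm]
  exact subsingleton_of_forall_eq 0 fun x => Abelian.Ext.eq_zero_of_projective x

end Groth.Agent.Lib.EtSite.StrictHens
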