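import Groth.Agent.Lib.Henselian.Pointed
import Groth.Agent.Lib.Henselian.LocalRing
import Mathlib.LinearAlgebra.TensorProduct.Vanishing
import Mathlib.RingTheory.TensorProduct.DirectLimitFG
import Mathlib.FieldTheory.IsSepClosed
import Mathlib.RingTheory.LocalRing.ResidueField.Defs

/-!
# The colimit `Lim R Ω` of pointed étale algebras for a separably closed `Ω`, and tensor products
-/

universe u

open TensorProduct
open Groth.Agent.Lib.Henselian.Pointed

namespace Groth.Agent.Lib.EtSite.LimTensor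

variable {R : Type u} [CommRing R]

section colimit

variable {Ω : Type u} [CommRing Ω] [Algebra R Ω]

/-- An étale stage over `Lim R Ω`. -/
structure Stage (R Ω : Type u) [CommRing R] [CommRing Ω] [Algebra R Ω] where
  /-- the étale algebra -/
  S : Type u
  [commRing : CommRing S]
  [algebra : Algebra R S]
  [etale : Algebra.Etale R S]
  /-- its map to the colimit -/
  toLim : S →ₐ[R] Lim R Ω

attribute [instance] Stage.commRing Stage.algebra Stage.etale

/-- A morphism of stages. -/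
def Stage.Hom (M N : Stage R Ω) : Type u :=
  {ψ : M.S →ₐ[R] N.S // N.toLim.comp ψ = M.toLim}

/-- The stage `R` itself. -/
noncomputable def Stage.base : Stage R Ω where
  S := R
  toLim := Algebra.ofId R _

theorem Stage.exists_sup (M N : Stage R Ω) :
    ∃ K : Stage R Ω, Nonempty (M.Hom K) ∧ Nonempty (N.Hom K) := by
  have : Algebra.Etale R (M.S ⊗[R] N.S) := Algebra.Etale.comp R M.S _
  refine ⟨{ S := M.S ⊗[R] N.S, toLim := Algebra.TensorProduct.productMap M.toLim N.toLim },
    ⟨⟨Algebra.TensorProduct.includeLeft, ?_⟩⟩, ⟨⟨Algebra.TensorProduct.includeRight, ?_⟩⟩⟩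
  · exact AlgHom.ext fun x => by simp
  · exact AlgHom.ext fun x => by simp

theorem Stage.exists_range (M : Stage R Ω) (s : Finset (Lim R Ω)) :
    ∃ (N : Stage R Ω), Nonempty (M.Hom N) ∧ (s : Set (Lim R Ω)) ⊆ Set.range N.toLim := by
  obtain ⟨A', _, _, _, φ, hφ⟩ := Lim.exists_etale_range s
  obtain ⟨K, hM, ⟨⟨ψ, hψ⟩⟩⟩ := M.exists_sup { S := A', toLim := φ }
  refine ⟨K, hM, fun x hx => ?_⟩
  obtain ⟨y, rfl⟩ := hφ hx
  exact ⟨ψ y, AlgHom.congr_fun hψ y⟩

theorem Stage.exists_eq_zero₁ (M : Stage R Ω) (z : M.S) (hz : M.toLim z = 0) :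
    ∃ (N : Stage R Ω) (ψ : M.Hom N), ψ.1 z = 0 := by
  obtain ⟨k, ψ₀, hψ₀, hz₀⟩ := Lim.exists_factor_eq_zero M.toLim hz
  let γ : M.S →ₐ[R] Ω := (Lim.α R Ω).comp M.toLim
  have : Algebra.Etale R (M.S ⊗[R] k.Alg) := Algebra.Etale.comp R M.S _
  obtain ⟨i, e, he⟩ := Pt.exists_ofAlgebra R Ω (M.S ⊗[R] k.Alg)
    (Algebra.TensorProduct.productMap γ k.pt)
  let f : M.S ⊗[R] k.Alg →ₐ[R] i.Loc :=
    (IsScalarTower.toAlgHom R i.Alg i.Loc).comp e.toAlgHom
  have hf : ∀ w, i.α (f w) = Algebra.TensorProduct.productMap γ k.pt w := fun w => by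
    rw [← he]; exact Pt.α_algebraMap i (e w)
  have hγk : ∀ x, k.α (ψ₀ x) = γ x := fun x => by
    change _ = Lim.α R Ω (M.toLim x)
    rw [← hψ₀]
    rfl
  obtain ⟨g, hg, -⟩ := Pt.exists_locMap (i := k) i.α (f.comp Algebra.TensorProduct.includeRight)
    (AlgHom.ext fun x => by rw [AlgHom.comp_apply, AlgHom.comp_apply, hf]; simp)
  have h1 : g.comp ψ₀ = f.comp Algebra.TensorProduct.includeLeft := by
    refine Groth.Agent.Lib.Henselian.Etale.algHom_ext_of_isLocalHom (i.α : i.Loc →+* Ω) _ _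
      fun x => ?_
    change i.α (g (ψ₀ x)) = i.α (f (x ⊗ₜ 1))
    rw [hf, ← AlgHom.comp_apply, hg, hγk]
    simp
  have h2 : algebraMap i.Alg i.Loc (e (z ⊗ₜ 1)) = 0 := by
    have := AlgHom.congr_fun h1 z
    rw [AlgHom.comp_apply, hz₀, map_zero] at this
    exact this.symm
  obtain ⟨u, hu⟩ := (IsLocalization.map_eq_zero_iff i.units i.Loc _).1 h2
  let T := Localization.Away (u : i.Alg)
  have hu' : IsUnit ((IsScalarTower.toAlgHom R i.Alg i.Loc) u) :=
    IsLocalization.map_units i.Loc u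
  let N : Stage R Ω :=
    { S := T
      toLim := (Lim.of i).comp (IsLocalization.Away.liftAlgHom (S := T) (u : i.Alg)
        (f := IsScalarTower.toAlgHom R i.Alg i.Loc) hu') }
  refine ⟨N, ⟨(IsScalarTower.toAlgHom R i.Alg T).comp
    (e.toAlgHom.comp Algebra.TensorProduct.includeLeft), ?_⟩, ?_⟩
  · refine Groth.Agent.Lib.Henselian.Etale.algHom_ext_of_isLocalHom
      (Lim.α R Ω : Lim R Ω →+* Ω) _ _ fun x => ?_
    change Lim.α R Ω (Lim.of i (IsLocalization.Away.liftAlgHom (S := T) (u : i.Alg)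
      (f := IsScalarTower.toAlgHom R i.Alg i.Loc) hu' (algebraMap i.Alg T (e (x ⊗ₜ 1))))) = _
    rw [Lim.α_of]
    have := IsLocalization.Away.lift_eq (S := T) (u : i.Alg)
      (g := (IsScalarTower.toAlgHom R i.Alg i.Loc).toRingHom) hu' (e (x ⊗ₜ 1))
    refine (congrArg i.α this).trans ?_
    exact (hf (x ⊗ₜ 1)).trans (by simp [γ])
  · change algebraMap i.Alg T (e (z ⊗ₜ 1)) = 0
    exact (IsLocalization.map_eq_zero_iff (.powers (u : i.Alg)) T _).2
      ⟨⟨u, Submonoid.mem_powers _⟩, hu⟩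

theorem Stage.exists_eq_zero (M : Stage R Ω) (s : Finset M.S) (hs : ∀ z ∈ s, M.toLim z = 0) :
    ∃ (N : Stage R Ω) (ψ : M.Hom N), ∀ z ∈ s, ψ.1 z = 0 := by
  classical
  induction s using Finset.induction with
  | empty => exact ⟨M, ⟨AlgHom.id R _, AlgHom.comp_id _⟩, by simp⟩
  | insert x s hx ih =>
    obtain ⟨N, ψ, hψ⟩ := ih fun z hz => hs z (Finset.mem_insert_of_mem hz)
    obtain ⟨K, φ, hφ⟩ := N.exists_eq_zero₁ (ψ.1 x)
      ((AlgHom.congr_fun ψ.2 x).trans (hs x (Finset.mem_insert_self _ _)))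
    refine ⟨K, ⟨φ.1.comp ψ.1, by rw [← AlgHom.comp_assoc, φ.2, ψ.2]⟩, fun z hz => ?_⟩
    rcases Finset.mem_insert.1 hz with rfl | hz
    · exact hφ
    · rw [AlgHom.comp_apply, hψ z hz, map_zero]

variable (B : Type u) [CommRing B] [Algebra R B]

/-- The map on tensor products induced by a morphism of stages. -/
noncomputable abbrev tmap {M N : Type u} [CommRing M] [Algebra R M] [CommRing N] [Algebra R N]
    (ψ : M →ₐ[R] N) : M ⊗[R] B →ₐ[R] N ⊗[R] B :=
  Algebra.TensorProduct.map ψ (AlgHom.id R B)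

theorem tmap_tmap {M N K : Type u} [CommRing M] [Algebra R M] [CommRing N] [Algebra R N]
    [CommRing K] [Algebra R K] (ψ : M →ₐ[R] N) (φ : N →ₐ[R] K) (x : M ⊗[R] B) :
    tmap B φ (tmap B ψ x) = tmap B (φ.comp ψ) x := by
  induction x using TensorProduct.induction_on with
  | zero => simp
  | tmul a b => simp
  | add a b ha hb => simp only [map_add, ha, hb]

theorem Stage.tensor_exists_range (M : Stage R Ω) (t : Finset (Lim R Ω ⊗[R] B)) :
    ∃ (N : Stage R Ω), Nonempty (M.Hom N) ∧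
      (t : Set (Lim R Ω ⊗[R] B)) ⊆ Set.range (tmap B N.toLim) := by
  classical
  choose S hS using fun x : Lim R Ω ⊗[R] B => TensorProduct.exists_finset x
  obtain ⟨N, hN, hr⟩ := M.exists_range (t.biUnion fun x => (S x).image Prod.fst)
  refine ⟨N, hN, fun x hx => ?_⟩
  have : x ∈ (tmap B N.toLim).range := by
    rw [hS x]
    refine Subalgebra.sum_mem _ fun p hp => ?_
    obtain ⟨a, ha⟩ := hr (Finset.mem_biUnion.2 ⟨x, hx, Finset.mem_image.2 ⟨p, hp, rfl⟩⟩)
    exact ⟨a ⊗ₜ p.2, by simp [ha]⟩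
  exact this

theorem Stage.tensor_exists_eq_zero₁ (M : Stage R Ω) (z : M.S ⊗[R] B)
    (hz : tmap B M.toLim z = 0) : ∃ (N : Stage R Ω) (ψ : M.Hom N), tmap B ψ.1 z = 0 := by
  classical
  obtain ⟨z', rfl⟩ := (TensorProduct.comm R B M.S).surjective z
  obtain ⟨P, hP, t, ht⟩ := Submodule.exists_fg_le_eq_rTensor_subtype z'
  have hz' : (P.subtype).rTensor (Lim R Ω) ((M.toLim.toLinearMap).lTensor P t) = 0 := by
    apply (TensorProduct.comm R B (Lim R Ω)).injective
    rw [map_zero, ← hz, ht]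
    clear ht hz
    induction t using TensorProduct.induction_on with
    | zero => simp
    | tmul a b => simp
    | add a b ha hb => simp only [map_add, ha, hb]
  obtain ⟨Q, hPQ, hQ, hzero⟩ := TensorProduct.eq_zero_of_fg_of_subtype_eq_zero hP hz'
  obtain ⟨n, g, hg⟩ := Submodule.fg_iff_exists_fin_generating_family.1 hQ
  let gQ : Fin n → Q := fun k => ⟨g k, hg ▸ Submodule.subset_span (Set.mem_range_self k)⟩
  have hgQ : Submodule.span R (Set.range gQ) = ⊤ := by
    apply Submodule.map_injective_of_injective Q.injective_subtype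
    rw [Submodule.map_span, Submodule.map_top, Submodule.range_subtype, ← Set.range_comp]
    exact hg
  set w := (Submodule.inclusion hPQ).rTensor M.S t with hw
  obtain ⟨m, hm⟩ : ∃ m : Fin n → M.S, w = ∑ k, gQ k ⊗ₜ m k := by
    suffices H : ∀ v : Q ⊗[R] M.S, ∃ m : Fin n → M.S, v = ∑ k, gQ k ⊗ₜ m k from H w
    intro v
    induction v using TensorProduct.induction_on with
    | zero => exact ⟨0, by simp⟩
    | tmul a b =>
      obtain ⟨c, rfl⟩ := (Submodule.mem_span_range_iff_exists_fun R).1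
        (hgQ ▸ Submodule.mem_top : a ∈ Submodule.span R (Set.range gQ))
      exact ⟨fun k => c k • b, by simp [TensorProduct.sum_tmul, TensorProduct.smul_tmul]⟩
    | add a b ha hb =>
      obtain ⟨ma, rfl⟩ := ha
      obtain ⟨mb, rfl⟩ := hb
      exact ⟨ma + mb, by simp [TensorProduct.tmul_add, Finset.sum_add_distrib]⟩
  have hsum : ∑ k, gQ k ⊗ₜ[R] M.toLim (m k) = 0 := by
    have e : (M.toLim.toLinearMap).lTensor Q w = 0 := by
      rw [hw, ← hzero]
      clear hz' ht hzero hm hw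
      induction t using TensorProduct.induction_on with
      | zero => simp
      | tmul a b => simp
      | add a b ha hb => simp only [map_add, ha, hb]
    simpa [hm] using e
  obtain ⟨κ, a, y, hy, ha⟩ := TensorProduct.vanishesTrivially_of_sum_tmul_eq_zero R hgQ hsum
  obtain ⟨N, ⟨ψ⟩, hr⟩ := M.exists_range (Finset.univ.image y)
  choose y' hy' using fun j => hr (Finset.mem_image_of_mem y (Finset.mem_univ j))
  obtain ⟨K, φ, hφ⟩ := N.exists_eq_zero (Finset.univ.image fun k => ψ.1 (m k) - ∑ j, a k j • y' j)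
    (fun x hx => by
      obtain ⟨k, -, rfl⟩ := Finset.mem_image.1 hx
      have e : N.toLim (ψ.1 (m k)) = M.toLim (m k) := AlgHom.congr_fun ψ.2 (m k)
      simp only [map_sub, map_sum, map_smul, hy', e, hy k, sub_self])
  refine ⟨K, ⟨φ.1.comp ψ.1, by rw [← AlgHom.comp_assoc, φ.2, ψ.2]⟩, ?_⟩
  set θ := φ.1.comp ψ.1 with hθ
  have hθm : ∀ k, θ (m k) = ∑ j, a k j • φ.1 (y' j) := fun k => by
    have := hφ _ (Finset.mem_image_of_mem _ (Finset.mem_univ k))
    rw [map_sub, sub_eq_zero, map_sum] at this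
    simpa [hθ] using this
  have h0 : (θ.toLinearMap).lTensor Q w = 0 := by
    rw [hm, map_sum]
    simp only [LinearMap.lTensor_tmul, AlgHom.toLinearMap_apply, hθm, TensorProduct.tmul_sum]
    rw [Finset.sum_comm]
    refine Finset.sum_eq_zero fun j _ => ?_
    simp only [TensorProduct.tmul_smul, TensorProduct.smul_tmul', ← TensorProduct.sum_tmul, ha j,
      TensorProduct.zero_tmul]
  have h1 : tmap B θ (TensorProduct.comm R B M.S z') =
      TensorProduct.comm R B K.S ((Q.subtype).rTensor K.S ((θ.toLinearMap).lTensor Q w)) := by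
    rw [ht, hw]
    clear hz' ht hzero hm hw h0
    induction t using TensorProduct.induction_on with
    | zero => simp
    | tmul a b => simp
    | add a b ha hb => simp only [map_add, ha, hb]
  rw [h1, h0, map_zero, map_zero]

theorem Stage.tensor_exists_eq_zero (M : Stage R Ω) (s : Finset (M.S ⊗[R] B))
    (hs : ∀ z ∈ s, tmap B M.toLim z = 0) :
    ∃ (N : Stage R Ω) (ψ : M.Hom N), ∀ z ∈ s, tmap B ψ.1 z = 0 := by
  classical
  induction s using Finset.induction with
  | empty => exact ⟨M, ⟨AlgHom.id R _, AlgHom.comp_id _⟩, by simp⟩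
  | insert x s hx ih =>
    obtain ⟨N, ψ, hψ⟩ := ih fun z hz => hs z (Finset.mem_insert_of_mem hz)
    obtain ⟨K, φ, hφ⟩ := N.tensor_exists_eq_zero₁ B (tmap B ψ.1 x) (by
      rw [tmap_tmap, show N.toLim.comp ψ.1 = M.toLim from ψ.2]
      exact hs x (Finset.mem_insert_self _ _))
    refine ⟨K, ⟨φ.1.comp ψ.1, by rw [← AlgHom.comp_assoc, φ.2, ψ.2]⟩, fun z hz => ?_⟩
    rw [show (⟨φ.1.comp ψ.1, _⟩ : M.Hom K).1 = φ.1.comp ψ.1 from rfl, ← tmap_tmap]
    rcases Finset.mem_insert.1 hz with rfl | hz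
    · exact hφ
    · exact (congrArg _ (hψ z hz)).trans (map_zero _)

/-- A map from a finitely presented `B`-algebra to `Lim R Ω ⊗ B` descends to a stage. -/
theorem Stage.exists_descend (M : Stage R Ω) (C : Type u) [CommRing C] [Algebra B C]
    [Algebra.FinitePresentation B C] (τ : C →+* Lim R Ω ⊗[R] B)
    (hτ : ∀ b, τ (algebraMap B C b) = (1 : Lim R Ω) ⊗ₜ b) :
    ∃ (N : Stage R Ω) (_ : Nonempty (M.Hom N)) (σ : C →+* N.S ⊗[R] B),
      (∀ b, σ (algebraMap B C b) = (1 : N.S) ⊗ₜ b) ∧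
      (tmap B N.toLim).toRingHom.comp σ = τ := by
  classical
  obtain ⟨n, π, hπ, hker⟩ := Algebra.FinitePresentation.out (R := B) (A := C)
  obtain ⟨N, ⟨ψ⟩, hN⟩ := M.tensor_exists_range B
    (Finset.univ.image fun j => τ (π (MvPolynomial.X j)))
  choose v hv using fun j =>
    hN (Finset.mem_image_of_mem (fun j => τ (π (MvPolynomial.X j))) (Finset.mem_univ j))
  let ev (K : Stage R Ω) (θ : N.Hom K) : MvPolynomial (Fin n) B →+* K.S ⊗[R] B :=
    MvPolynomial.eval₂Hom (Algebra.TensorProduct.includeRight : B →ₐ[R] K.S ⊗[R] B).toRingHom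
      (fun j => tmap B θ.1 (v j))
  have hev : ∀ (K : Stage R Ω) (θ : N.Hom K),
      (tmap B K.toLim).toRingHom.comp (ev K θ) = τ.comp π.toRingHom := by
    intro K θ
    refine MvPolynomial.ringHom_ext (fun b => ?_) (fun j => ?_)
    · simpa [ev] using (hτ b).symm
    · have : tmap B K.toLim (tmap B θ.1 (v j)) = tmap B N.toLim (v j) := by
        rw [tmap_tmap, show K.toLim.comp θ.1 = N.toLim from θ.2]
      simpa [ev, this] using hv j
  let idN : N.Hom N := ⟨AlgHom.id R _, AlgHom.comp_id _⟩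
  obtain ⟨s, hs⟩ := hker
  obtain ⟨K, θ, hθ⟩ := N.tensor_exists_eq_zero B (s.image (ev N idN)) (fun z hz => by
    obtain ⟨p, hp, rfl⟩ := Finset.mem_image.1 hz
    have h := RingHom.congr_fun (hev N idN) p
    have hp' : π p = 0 := RingHom.mem_ker.1 (hs.le (Submodule.subset_span hp))
    simp only [RingHom.comp_apply, AlgHom.toRingHom_eq_coe, RingHom.coe_coe, hp', map_zero] at h
    exact h)
  have hkey : ∀ p, ev K θ p = tmap B θ.1 (ev N idN p) := by
    intro p
    refine RingHom.congr_fun (g := (tmap B θ.1).toRingHom.comp (ev N idN)) ?_ p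
    refine MvPolynomial.ringHom_ext (fun b => by simp [ev]) (fun j => by simp [ev, idN])
  have hle : RingHom.ker π.toRingHom ≤ RingHom.ker (ev K θ) := by
    rw [← hs, Ideal.span_le]
    intro q hq
    rw [SetLike.mem_coe, RingHom.mem_ker, hkey]
    exact hθ _ (Finset.mem_image_of_mem _ hq)
  let σ : C →+* K.S ⊗[R] B :=
    (Ideal.Quotient.lift _ (ev K θ) hle).comp
      (Ideal.quotientKerAlgEquivOfSurjective hπ).symm.toRingEquiv.toRingHom
  have hσ : ∀ p, σ (π p) = ev K θ p := fun p => by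
    have : (Ideal.quotientKerAlgEquivOfSurjective hπ).symm (π p) = Ideal.Quotient.mk _ p := by
      rw [AlgEquiv.symm_apply_eq]; rfl
    simp only [σ, RingHom.comp_apply]
    erw [this]
    rfl
  refine ⟨K, ⟨⟨θ.1.comp ψ.1, by rw [← AlgHom.comp_assoc, θ.2, ψ.2]⟩⟩, σ, fun b => ?_, ?_⟩
  · rw [← π.commutes, hσ]
    simp [ev, MvPolynomial.algebraMap_eq]
  · refine RingHom.ext fun c => ?_
    obtain ⟨p, rfl⟩ := hπ c
    rw [RingHom.comp_apply, hσ]
    exact RingHom.congr_fun (hev K θ) p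

end colimit

section field

variable {Ω : Type u} [Field Ω] [Algebra R Ω]

instance instIsLocalRingLim : IsLocalRing (Lim R Ω) :=
  (Lim.α R Ω : Lim R Ω →+* Ω).domain_isLocalRing

theorem maximalIdeal_eq_ker :
    IsLocalRing.maximalIdeal (Lim R Ω) = RingHom.ker (Lim.α R Ω : Lim R Ω →+* Ω) := by
  ext x
  rw [IsLocalRing.mem_maximalIdeal, mem_nonunits_iff, RingHom.mem_ker]
  constructor
  · intro hx
    by_contra h
    exact hx (IsUnit.of_map (Lim.α R Ω : Lim R Ω →+* Ω) x (IsUnit.mk0 _ h))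
  · intro hx h
    exact (h.map (Lim.α R Ω : Lim R Ω →+* Ω)).ne_zero hx

instance instHenselianLocalRingLim : HenselianLocalRing (Lim R Ω) := by
  have : HenselianRing (Lim R Ω) (IsLocalRing.maximalIdeal (Lim R Ω)) :=
    maximalIdeal_eq_ker (R := R) (Ω := Ω) ▸ Lim.henselianRing_ker
  exact Groth.Agent.Lib.Henselian.LocalRing.henselianLocalRing_of_henselianRing

/-- The residue field embeds in `Ω`. -/
noncomputable def residueEmb : IsLocalRing.ResidueField (Lim R Ω) →+* Ω :=
  Ideal.Quotient.lift _ (Lim.α R Ω : Lim R Ω →+* Ω) fun _ hx =>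
    RingHom.mem_ker.1 (maximalIdeal_eq_ker (R := R) (Ω := Ω) ▸ hx)

@[simp] theorem residueEmb_residue (x : Lim R Ω) :
    residueEmb (IsLocalRing.residue _ x) = Lim.α R Ω x := rfl

instance instIsSepClosedResidue [IsSepClosed Ω] :
    IsSepClosed (IsLocalRing.ResidueField (Lim R Ω)) := by
  classical
  refine IsSepClosed.of_exists_root _ fun p hpm hpi hps => ?_
  let k := IsLocalRing.ResidueField (Lim R Ω)
  let _ : Algebra k Ω := residueEmb.toAlgebra
  obtain ⟨f, hf, -, hfm⟩ := Polynomial.lifts_and_natDegree_eq_and_monic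
    (f := IsLocalRing.residue (Lim R Ω))
    (Polynomial.map_surjective _ IsLocalRing.residue_surjective p) hpm
  obtain ⟨ω, hω⟩ := IsSepClosed.exists_root (p.map residueEmb)
    (by rw [Polynomial.degree_map]; exact (Polynomial.degree_pos_of_irreducible hpi).ne')
    hps.map
  have hω' : p.derivative.eval₂ residueEmb ω ≠ 0 := by
    intro h0
    exact hps.eval₂_derivative_ne_zero residueEmb
      (by rwa [← Polynomial.eval_map]) h0
  obtain ⟨A', _, _, _, φ, hφ⟩ := Lim.exists_etale_range f.coeffs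
  have hlift : f ∈ Polynomial.lifts (φ : A' →+* Lim R Ω) := by
    rw [Polynomial.lifts_iff_coeff_lifts]
    intro n
    by_cases hn : f.coeff n = 0
    · exact ⟨0, by rw [hn, map_zero]⟩
    · exact hφ (Polynomial.coeff_mem_coeffs hn)
  obtain ⟨g, hg, -, hgm⟩ := Polynomial.lifts_and_natDegree_eq_and_monic hlift hfm
  let P : StandardEtalePair A' := ⟨g, hgm, Polynomial.derivative g, ⟨1, 0, 1, by simp⟩⟩
  let γ : A' →ₐ[R] Ω := (Lim.α R Ω).comp φ
  let _ : Algebra A' Ω := γ.toRingHom.toAlgebra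
  have : IsScalarTower R A' Ω := IsScalarTower.of_algebraMap_eq fun a => (γ.commutes a).symm
  have hmap : g.map (algebraMap A' Ω) = p.map residueEmb := by
    rw [← hf, ← hg, Polynomial.map_map, Polynomial.map_map]
    rfl
  have hP : P.HasMap ω := by
    constructor
    · rw [Polynomial.aeval_def, ← Polynomial.eval_map]
      change (g.map (algebraMap A' Ω)).eval ω = 0
      rw [hmap]; exact hω
    · refine IsUnit.mk0 _ ?_
      rw [Polynomial.aeval_def, ← Polynomial.eval_map]
      change ((Polynomial.derivative g).map (algebraMap A' Ω)).eval ω ≠ 0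
      rw [← Polynomial.derivative_map, hmap, Polynomial.derivative_map, Polynomial.eval_map]
      exact hω'
  let _ : Algebra R P.Ring := ((algebraMap A' P.Ring).comp (algebraMap R A')).toAlgebra
  have : IsScalarTower R A' P.Ring := IsScalarTower.of_algebraMap_eq fun _ => rfl
  have : Algebra.Etale R P.Ring := Algebra.Etale.comp R A' P.Ring
  obtain ⟨ψ, hψ, -⟩ := Lim.existsUnique_map P.Ring ((P.lift _ hP).restrictScalars R)
  refine ⟨IsLocalRing.residue _ (ψ P.X), (residueEmb (R := R) (Ω := Ω)).injective ?_⟩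
  rw [map_zero, ← Polynomial.eval₂_hom, residueEmb_residue]
  have hX : Lim.α R Ω (ψ P.X) = ω :=
    (AlgHom.congr_fun hψ P.X).trans (StandardEtalePair.lift_X _ _ hP)
  rw [hX, ← Polynomial.eval_map]
  exact hω

end field

end Groth.Agent.Lib.EtSite.LimTensor
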