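import Groth.Agent.Lib.EtSite.IntegralSection
import Groth.Agent.Lib.EtSite.LimTensor
import Mathlib.FieldTheory.AlgebraicClosure

/-!
# Lifting through étale neighbourhoods along an integral algebra
-/

universe u w

open TensorProduct IsLocalRing
open Groth.Agent.Lib.Henselian.Pointed Groth.Agent.Lib.EtSite.LimTensor

namespace Groth.Agent.Lib.EtSite.IntegralLift

variable {R : Type u} [CommRing R] {B : Type u} [CommRing B] [Algebra R B] [Algebra.IsIntegral R B]

theorem mem_range_of_isIntegral {K D : Type u} [Field K] [IsAlgClosed K] [CommRing D] [IsDomain D]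
    [Algebra K D] {x : D} (hx : IsIntegral K x) : x ∈ (algebraMap K D).range :=
  minpoly.mem_range_of_degree_eq_one K x
    (IsAlgClosed.degree_eq_one_of_irreducible K (minpoly.irreducible hx))

/-- A map from an étale algebra over an integral algebra into a domain over an algebraically closed
field takes values in the field. -/
theorem exists_eq_algebraMap_comp {K : Type u} [Field K] [IsAlgClosed K] [Algebra R K] {D : Type u}
    [CommRing D] [IsDomain D] [Algebra K D] [Algebra R D] [IsScalarTower R K D]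
    {C : Type u} [CommRing C] [Algebra R C] [Algebra B C] [IsScalarTower R B C] [Algebra.Etale B C]
    (f : C →ₐ[R] D) : ∃ φ : C →ₐ[R] K, (IsScalarTower.toAlgHom R K D).comp φ = f := by
  let j := IsScalarTower.toAlgHom R K D
  have hinj : Function.Injective j := (algebraMap K D).injective
  have hB : ∀ b : B, f (algebraMap B C b) ∈ j.range := fun b => by
    have hb : IsIntegral R ((f.comp (IsScalarTower.toAlgHom R B C)) b) :=
      (Algebra.IsIntegral.isIntegral b).map _
    exact mem_range_of_isIntegral hb.tower_top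
  let ξ : B →ₐ[R] K := (AlgEquiv.ofInjective j hinj).symm.toAlgHom.comp
    ((f.comp (IsScalarTower.toAlgHom R B C)).codRestrict j.range hB)
  have hξ : ∀ b, j (ξ b) = f (algebraMap B C b) := fun b =>
    congrArg Subtype.val ((AlgEquiv.ofInjective j hinj).apply_symm_apply _)
  let _ : Algebra B K := ξ.toRingHom.toAlgebra
  let g : K ⊗[B] C →ₐ[K] D :=
    letI : Algebra B D := (j.toRingHom.comp ξ.toRingHom).toAlgebra
    haveI : IsScalarTower B K D := IsScalarTower.of_algebraMap_eq fun _ => rfl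
    Algebra.TensorProduct.lift (Algebra.ofId K D)
      { f.toRingHom with commutes' := fun b => (hξ b).symm } fun _ _ => Commute.all _ _
  have hfin : Module.Finite K (K ⊗[B] C) :=
    Algebra.FormallyUnramified.finite_of_free K (K ⊗[B] C)
  have hC : ∀ c, f c ∈ j.range := fun c => by
    have : IsIntegral K (g (1 ⊗ₜ c)) := (Algebra.IsIntegral.isIntegral (R := K) _).map g
    obtain ⟨y, hy⟩ := mem_range_of_isIntegral this
    refine ⟨y, hy.trans ?_⟩
    change algebraMap K D 1 * f c = f c
    rw [map_one, one_mul]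
  refine ⟨(AlgEquiv.ofInjective j hinj).symm.toAlgHom.comp (f.codRestrict j.range hC),
    AlgHom.ext fun c => ?_⟩
  exact congrArg Subtype.val ((AlgEquiv.ofInjective j hinj).apply_symm_apply _)

variable {Ω : Type u} [Field Ω] [IsAlgClosed Ω] [Algebra R Ω]

noncomputable local instance instAlgebraResidue : Algebra (ResidueField (Lim R Ω)) Ω :=
  residueEmb.toAlgebra

/-- Values of a map from an étale algebra over an integral algebra are purely inseparable over the
residue field of the strict henselisation. -/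
theorem exists_pow_eq {C : Type u} [CommRing C] [Algebra R C] [Algebra B C] [IsScalarTower R B C]
    [Algebra.Etale B C] (φ : C →ₐ[R] Ω) (c : C) :
    ∃ (n : ℕ) (l : Lim R Ω), φ c ^ ringExpChar (ResidueField (Lim R Ω)) ^ n = Lim.α R Ω l := by
  let k := ResidueField (Lim R Ω)
  have : IsScalarTower R k Ω := IsScalarTower.of_algebraMap_eq fun r => by
    change _ = residueEmb (residue _ (algebraMap R (Lim R Ω) r))
    rw [residueEmb_residue, AlgHom.commutes]
  let K := algebraicClosure k Ω
  have hK : IsAlgClosed K := IsAlgClosure.isAlgClosed k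
  let _ : Algebra R K := ((algebraMap k K).comp (algebraMap R k)).toAlgebra
  have : IsScalarTower R K Ω := IsScalarTower.of_algebraMap_eq fun r =>
    IsScalarTower.algebraMap_apply R k Ω r
  obtain ⟨φ', hφ'⟩ := exists_eq_algebraMap_comp (B := B) (K := K) (D := Ω) φ
  obtain ⟨n, y, hy⟩ := IsPurelyInseparable.pow_mem k (ringExpChar k) (φ' c)
  obtain ⟨l, rfl⟩ := residue_surjective y
  refine ⟨n, l, ?_⟩
  rw [← AlgHom.congr_fun hφ' c]
  exact (congrArg (algebraMap K Ω) hy).symm.trans (residueEmb_residue l)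

/-- Distinct points are separated by elements defined over the strict henselisation. -/
theorem exists_separating {C : Type u} [CommRing C] [Algebra R C] [Algebra B C]
    [IsScalarTower R B C] [Algebra.Etale B C] {φ φ' : C →ₐ[R] Ω} (h : φ ≠ φ') :
    ∃ z : Lim R Ω ⊗[R] C, Algebra.TensorProduct.productMap (Lim.α R Ω) φ z ≠ 0 ∧
      Algebra.TensorProduct.productMap (Lim.α R Ω) φ' z = 0 := by
  obtain ⟨c, hc⟩ : ∃ c, φ c ≠ φ' c := by
    by_contra hne
    push Not at hne
    exact h (AlgHom.ext hne)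
  obtain ⟨n, l, hl⟩ := exists_pow_eq (B := B) φ' c
  set q := ringExpChar (ResidueField (Lim R Ω))
  have : ExpChar Ω q := expChar_of_injective_ringHom
    (residueEmb (R := R) (Ω := Ω)).injective q
  refine ⟨1 ⊗ₜ (c ^ q ^ n) - l ⊗ₜ 1, ?_, ?_⟩
  · simp only [map_sub, Algebra.TensorProduct.productMap_apply_tmul, map_one, one_mul, mul_one, map_pow]
    rw [← hl, sub_ne_zero]
    exact fun he => hc (iterateFrobenius_inj Ω q n he)
  · simp [map_pow, hl]

/-- The point of `Spec (Ω ⊗ C)` given by a map to `Ω`. -/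
noncomputable def point {C : Type u} [CommRing C] [Algebra R C] (φ : C →ₐ[R] Ω) :
    PrimeSpectrum (Ω ⊗[R] C) :=
  PrimeSpectrum.comap (Algebra.TensorProduct.productMap (AlgHom.id R Ω) φ).toRingHom ⊥

theorem mem_point {C : Type u} [CommRing C] [Algebra R C] (φ : C →ₐ[R] Ω) (x : Ω ⊗[R] C) :
    x ∈ (point φ).asIdeal ↔ Algebra.TensorProduct.productMap (AlgHom.id R Ω) φ x = 0 := by
  simp [point]

theorem point_surjective {C : Type u} [CommRing C] [Algebra R C] [Algebra B C]
    [IsScalarTower R B C] [Algebra.Etale B C] (P : PrimeSpectrum (Ω ⊗[R] C)) :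
    ∃ φ : C →ₐ[R] Ω, point φ = P := by
  let D := (Ω ⊗[R] C) ⧸ P.asIdeal
  obtain ⟨φ, hφ⟩ := exists_eq_algebraMap_comp (B := B) (K := Ω) (D := D)
    ((Ideal.Quotient.mkₐ R P.asIdeal).comp Algebra.TensorProduct.includeRight)
  refine ⟨φ, PrimeSpectrum.ext (Ideal.ext fun x => ?_)⟩
  have key : (IsScalarTower.toAlgHom R Ω D).comp
      (Algebra.TensorProduct.productMap (AlgHom.id R Ω) φ) = Ideal.Quotient.mkₐ R P.asIdeal := by
    refine Algebra.TensorProduct.ext' fun a c => ?_
    rw [AlgHom.comp_apply, Algebra.TensorProduct.productMap_apply_tmul, AlgHom.id_apply, map_mul,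
      ← AlgHom.comp_apply _ φ, hφ, AlgHom.comp_apply, Algebra.TensorProduct.includeRight_apply]
    change Ideal.Quotient.mk P.asIdeal (a ⊗ₜ 1) * Ideal.Quotient.mk P.asIdeal (1 ⊗ₜ c) = _
    rw [← map_mul, Algebra.TensorProduct.tmul_mul_tmul, mul_one, one_mul]
    rfl
  rw [mem_point, ← map_eq_zero_iff (algebraMap Ω D) (algebraMap Ω D).injective,
    ← Ideal.Quotient.eq_zero_iff_mem]
  exact Eq.congr_left (AlgHom.congr_fun key x)

/-- Open sets of the geometric fibre are cut out by elements defined over the strict henselisation. -/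
theorem exists_mem_nhd {C : Type u} [CommRing C] [Algebra R C] [Algebra B C]
    [IsScalarTower R B C] [Algebra.Etale B C] {O : Set (PrimeSpectrum (Ω ⊗[R] C))} (hO : IsOpen O)
    (φ : C →ₐ[R] Ω) (hφ : point φ ∈ O) :
    ∃ h : Lim R Ω ⊗[R] C, Algebra.TensorProduct.productMap (Lim.α R Ω) φ h ≠ 0 ∧
      ∀ φ', Algebra.TensorProduct.productMap (Lim.α R Ω) φ' h ≠ 0 → point φ' ∈ O := by
  classical
  have : Ring.KrullDimLE 0 (Ω ⊗[R] C) := Ring.KrullDimLE.mk₀ fun P hP => by
    obtain ⟨ψ, hψ⟩ := point_surjective (B := B) (⟨P, hP⟩ : PrimeSpectrum (Ω ⊗[R] C))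
    have : P = RingHom.ker (Algebra.TensorProduct.productMap (AlgHom.id R Ω) ψ).toRingHom :=
      Ideal.ext fun x => by
        rw [show P = (point ψ).asIdeal from (congrArg PrimeSpectrum.asIdeal hψ).symm, mem_point]
        rfl
    rw [this]
    exact RingHom.ker_isMaximal_of_surjective _ fun x => ⟨x ⊗ₜ 1, by simp⟩
  let toΩ : Lim R Ω ⊗[R] C →ₐ[R] Ω ⊗[R] C :=
    Algebra.TensorProduct.map (Lim.α R Ω) (AlgHom.id R C)
  have hpm : ∀ (ψ : C →ₐ[R] Ω) z, Algebra.TensorProduct.productMap (AlgHom.id R Ω) ψ (toΩ z) =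
      Algebra.TensorProduct.productMap (Lim.α R Ω) ψ z := fun ψ z =>
    AlgHom.congr_fun (show (Algebra.TensorProduct.productMap (AlgHom.id R Ω) ψ).comp toΩ =
      Algebra.TensorProduct.productMap (Lim.α R Ω) ψ from
        Algebra.TensorProduct.ext' fun a c => by simp [toΩ]) z
  have hV : ∀ z, IsOpen (PrimeSpectrum.zeroLocus {toΩ z}) := fun z => by
    obtain ⟨e, he, ⟨y, hy⟩, he'⟩ := ZeroDim.exists_idempotent (toΩ z)
    have : PrimeSpectrum.zeroLocus {toΩ z} = (PrimeSpectrum.basicOpen (1 - e) : Set _) := by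
      ext P
      rw [PrimeSpectrum.mem_zeroLocus, Set.singleton_subset_iff, SetLike.mem_coe]
      change _ ↔ 1 - e ∉ P.asIdeal
      constructor
      · intro hz h1
        refine P.isPrime.ne_top ((Ideal.eq_top_iff_one _).2 ?_)
        have := Ideal.add_mem _ h1 (show e ∈ P.asIdeal from hy ▸ Ideal.mul_mem_right y _ hz)
        simpa using this
      · intro h1
        by_contra hz
        have h0 : e * (1 - e) ∈ P.asIdeal := by rw [mul_sub, mul_one, he.eq, sub_self]; exact zero_mem _
        exact (P.isPrime.mem_or_mem h0).elim (he' _ P.isPrime hz) h1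
    rw [this]
    exact (PrimeSpectrum.basicOpen _).isOpen
  let κ := {z : Lim R Ω ⊗[R] C // Algebra.TensorProduct.productMap (Lim.α R Ω) φ z ≠ 0}
  obtain ⟨t, ht⟩ := hO.isClosed_compl.isCompact.elim_finite_subcover
    (fun z : κ => PrimeSpectrum.zeroLocus {toΩ z.1}) (fun z => hV z.1) fun P hP => by
      obtain ⟨ψ, rfl⟩ := point_surjective (B := B) P
      obtain ⟨z, hz, hz'⟩ := exists_separating (B := B) (φ := φ) (φ' := ψ)
        (fun e => hP (e ▸ hφ))
      refine Set.mem_iUnion.2 ⟨⟨z, hz⟩, ?_⟩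
      rw [PrimeSpectrum.mem_zeroLocus, Set.singleton_subset_iff, SetLike.mem_coe, mem_point, hpm]
      exact hz'
  refine ⟨∏ z ∈ t, z.1, ?_, fun ψ hψ => ?_⟩
  · rw [map_prod]
    exact Finset.prod_ne_zero_iff.2 fun z _ => z.2
  · by_contra hn
    obtain ⟨z, hz, hzP⟩ := Set.mem_iUnion₂.1 (ht hn)
    rw [PrimeSpectrum.mem_zeroLocus, Set.singleton_subset_iff, SetLike.mem_coe, mem_point, hpm] at hzP
    rw [map_prod] at hψ
    exact (Finset.prod_ne_zero_iff.1 hψ) z hz hzP

/-- Lifting lemma: a family of étale `B`-algebras with prescribed open sets of geometric points,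
covering the geometric fibre, has finitely many members jointly split after an étale neighbourhood. -/
theorem exists_lift {κ : Type w} (C : κ → Type u) [∀ k, CommRing (C k)] [∀ k, Algebra R (C k)]
    [∀ k, Algebra B (C k)] [∀ k, IsScalarTower R B (C k)] [∀ k, Algebra.Etale B (C k)]
    (W : ∀ k, Set (C k →ₐ[R] Ω))
    (hopen : ∀ k, ∀ φ ∈ W k, ∃ O : Set (PrimeSpectrum (Ω ⊗[R] C k)), IsOpen O ∧ point φ ∈ O ∧
      ∀ φ', point φ' ∈ O → φ' ∈ W k)
    (hcov : ∀ ξ : B →ₐ[R] Ω, ∃ k, ∃ φ ∈ W k, φ.comp (IsScalarTower.toAlgHom R B (C k)) = ξ)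
    (M : Stage R Ω) :
    ∃ (N : Stage R Ω) (_ : Nonempty (M.Hom N)) (n : ℕ) (k : Fin n → κ)
      (σ : (Π j, C (k j)) →+* N.S ⊗[R] B),
      (∀ b, σ (algebraMap B _ b) = (1 : N.S) ⊗ₜ b) ∧
      ∀ (ξ : B →ₐ[R] Ω) (j : Fin n),
        Algebra.TensorProduct.productMap ((Lim.α R Ω).comp N.toLim) ξ (σ (Pi.single j 1)) ≠ 0 →
        ∃ φ ∈ W (k j), ∀ c,
          Algebra.TensorProduct.productMap ((Lim.α R Ω).comp N.toLim) ξ (σ (Pi.single j c)) = φ c := by
  classical
  let A := Lim R Ω
  let T := A ⊗[R] B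
  let _ : Algebra B T := Algebra.TensorProduct.rightAlgebra
  have : IsScalarTower R B T := IsScalarTower.of_algebraMap_eq fun r =>
    (Algebra.TensorProduct.includeRight : B →ₐ[R] T).commutes r |>.symm
  have : Algebra.IsIntegral A T := ⟨fun x => by
    induction x using TensorProduct.induction_on with
    | zero => exact isIntegral_zero
    | tmul a b => exact (Algebra.IsIntegral.isIntegral (R := R) b).tmul a
    | add x y hx hy => exact hx.add hy⟩
  let κ' := Σ k, {φ : C k →ₐ[R] Ω // φ ∈ W k}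
  choose O hO hφO hOW using hopen
  choose h hh hh' using fun w : κ' =>
    exists_mem_nhd (B := B) (hO w.1 w.2.1 w.2.2) w.2.1 (hφO w.1 w.2.1 w.2.2)
  let C' : κ' → Type u := fun w => T ⊗[B] C w.1
  let Ψ : ∀ w : κ', A ⊗[R] C w.1 →ₐ[R] C' w := fun w =>
    Algebra.TensorProduct.productMap
      ((IsScalarTower.toAlgHom R T (C' w)).comp Algebra.TensorProduct.includeLeft)
      ((Algebra.TensorProduct.includeRight : C w.1 →ₐ[B] C' w).restrictScalars R)
  have hC : ∀ q : Ideal T, q.IsPrime → (maximalIdeal A).map (algebraMap A T) ≤ q →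
      ∃ (w : κ') (c : Ideal (C' w)), c.IsPrime ∧ c.comap (algebraMap T (C' w)) = q ∧ Ψ w (h w) ∉ c := by
    intro q hq hJq
    have hmax : q.IsMaximal := IntegralSection.isMaximal_of_le hJq
    let _ : Field (T ⧸ q) := Ideal.Quotient.field q
    let f : ResidueField A →+* T ⧸ q :=
      Ideal.Quotient.lift (maximalIdeal A) ((Ideal.Quotient.mk q).comp (algebraMap A T)) fun a ha =>
        Ideal.Quotient.eq_zero_iff_mem.2 (hJq (Ideal.mem_map_of_mem _ ha))
    let _ : Algebra (ResidueField A) (T ⧸ q) := f.toAlgebra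
    have : IsScalarTower A (ResidueField A) (T ⧸ q) := IsScalarTower.of_algebraMap_eq fun _ => rfl
    have : Algebra.IsIntegral A (T ⧸ q) := Algebra.IsIntegral.of_surjective
      (Ideal.Quotient.mkₐ A q) Ideal.Quotient.mk_surjective
    have : Algebra.IsIntegral (ResidueField A) (T ⧸ q) :=
      ⟨fun x => (Algebra.IsIntegral.isIntegral (R := A) x).tower_top⟩
    let l : (T ⧸ q) →ₐ[ResidueField A] Ω := IsAlgClosed.lift
    have hl : ∀ a : A, l (Ideal.Quotient.mk q (a ⊗ₜ 1)) = Lim.α R Ω a := fun a =>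
      (l.commutes (residue A a)).trans (residueEmb_residue a)
    let ξ : B →ₐ[R] Ω :=
      { (l.toRingHom.comp (Ideal.Quotient.mk q)).comp
          (Algebra.TensorProduct.includeRight : B →ₐ[R] T).toRingHom with
        commutes' := fun r => by
          change l (Ideal.Quotient.mk q ((1 : A) ⊗ₜ algebraMap R B r)) = _
          rw [show (1 : A) ⊗ₜ[R] algebraMap R B r = algebraMap R A r ⊗ₜ 1 by
            rw [Algebra.algebraMap_eq_smul_one r, Algebra.algebraMap_eq_smul_one r,
              TensorProduct.tmul_smul, TensorProduct.smul_tmul'], hl, AlgHom.commutes] }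
    obtain ⟨k, φ, hφ, hφξ⟩ := hcov ξ
    let w : κ' := ⟨k, φ, hφ⟩
    let ψ := Algebra.TensorProduct.productMap (Lim.α R Ω) ξ
    have hψ : (ψ : T →+* Ω) = l.toRingHom.comp (Ideal.Quotient.mk q) := by
      have e : ∀ a b, (ψ : T →+* Ω) (a ⊗ₜ b) = l (Ideal.Quotient.mk q (a ⊗ₜ b)) := fun a b => by
        conv_rhs => rw [show a ⊗ₜ[R] b = (a ⊗ₜ 1) * ((1 : A) ⊗ₜ b) by simp, map_mul, map_mul, hl]
        exact Algebra.TensorProduct.productMap_apply_tmul _ _ a b
      refine RingHom.ext fun x => ?_
      induction x using TensorProduct.induction_on with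
      | zero => simp
      | tmul a b => exact e a b
      | add x y hx hy => rw [map_add, map_add, hx, hy]
    let _ : Algebra B Ω := ξ.toRingHom.toAlgebra
    have hψB : ∀ b, ψ.toRingHom (algebraMap B T b) = algebraMap B Ω b := fun b => by
      change ψ ((1 : A) ⊗ₜ b) = ξ b
      simp [ψ]
    let ψB : T →ₐ[B] Ω := { ψ.toRingHom with commutes' := hψB }
    let φB : C k →ₐ[B] Ω := { φ.toRingHom with commutes' := fun b => AlgHom.congr_fun hφξ b }
    let χ : C' w →ₐ[B] Ω := Algebra.TensorProduct.productMap ψB φB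
    refine ⟨w, RingHom.ker χ.toRingHom, RingHom.ker_isPrime _, ?_, ?_⟩
    · ext t
      rw [Ideal.mem_comap, RingHom.mem_ker, Algebra.TensorProduct.algebraMap_apply]
      change χ (t ⊗ₜ 1) = 0 ↔ _
      rw [Algebra.TensorProduct.productMap_apply_tmul, map_one, mul_one]
      change (ψ : T →+* Ω) t = 0 ↔ _
      rw [hψ, RingHom.comp_apply]
      exact (map_eq_zero_iff l l.toRingHom.injective).trans Ideal.Quotient.eq_zero_iff_mem
    · rw [RingHom.mem_ker]
      have e : ∀ z, χ (Ψ w z) = Algebra.TensorProduct.productMap (Lim.α R Ω) φ z := fun z => by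
        induction z using TensorProduct.induction_on with
        | zero => simp
        | tmul a c =>
          change χ ((((a ⊗ₜ[R] (1 : B)) : T) ⊗ₜ[B] (1 : C k)) * ((1 : T) ⊗ₜ[B] c)) = _
          rw [map_mul, Algebra.TensorProduct.productMap_apply_tmul,
            Algebra.TensorProduct.productMap_apply_tmul]
          change ψ (a ⊗ₜ 1) * φ 1 * (ψ 1 * φ c) = _
          simp [ψ]
        | add x y hx hy => rw [map_add, map_add, hx, hy, map_add]
      exact fun h0 => hh w ((e _).symm.trans h0)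
  obtain ⟨n, kk, s, hs⟩ := IntegralSection.exists_fin_section (A := A) (T := T) C' (fun w => Ψ w (h w)) hC
  let inc : (Π j, C (kk j).1) →+* Π j, C' (kk j) := RingHom.pi fun j =>
    (Algebra.TensorProduct.includeRight : C (kk j).1 →ₐ[B] C' (kk j)).toRingHom.comp
      (Pi.evalRingHom (fun j => C (kk j).1) j)
  let τ : (Π j, C (kk j).1) →+* T := s.toRingHom.comp inc
  have hτ : ∀ b, τ (algebraMap B _ b) = (1 : A) ⊗ₜ b := fun b => by
    have : inc (algebraMap B _ b) = algebraMap T _ ((1 : A) ⊗ₜ b) := by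
      funext j
      change (1 : T) ⊗ₜ[B] algebraMap B (C (kk j).1) b = ((1 : A) ⊗ₜ[R] b : T) ⊗ₜ[B] (1 : C (kk j).1)
      rw [Algebra.algebraMap_eq_smul_one b, TensorProduct.tmul_smul, TensorProduct.smul_tmul']
      congr 1
      change b • (1 : T) = _
      rw [Algebra.smul_def, mul_one]
      rfl
    change s (inc _) = _
    rw [this, s.commutes]
    rfl
  obtain ⟨N, hN, σ, hσ, hστ⟩ := M.exists_descend B (Π j, C (kk j).1) τ hτ
  refine ⟨N, hN, n, fun j => (kk j).1, σ, hσ, fun ξ j hj => ?_⟩
  set ψ := Algebra.TensorProduct.productMap (Lim.α R Ω) ξ with hψ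
  have hψN : ∀ x, Algebra.TensorProduct.productMap ((Lim.α R Ω).comp N.toLim) ξ (σ x) =
      ψ (s (inc x)) := fun x => by
    rw [show s (inc x) = tmap B N.toLim (σ x) from (RingHom.congr_fun hστ x).symm, hψ,
      ← AlgHom.comp_apply (Algebra.TensorProduct.productMap _ _) (tmap B N.toLim)]
    congr 1
    exact Algebra.TensorProduct.ext' fun a b => by simp
  have hsingle : ∀ (i : Fin n) c, inc (Pi.single i c) = Pi.single i ((1 : T) ⊗ₜ c) := fun i c => by
    funext l
    change (1 : T) ⊗ₜ[B] (Pi.single i c : Π j, C (kk j).1) l = _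
    rcases eq_or_ne l i with rfl | hne
    · simp
    · simp [hne]
  rw [hψN, hsingle] at hj
  -- the unique index with a non-vanishing idempotent
  have hprime : (RingHom.ker (ψ : T →+* Ω)).IsPrime := RingHom.ker_isPrime _
  have hJψ : (maximalIdeal A).map (algebraMap A T) ≤ RingHom.ker (ψ : T →+* Ω) := by
    rw [Ideal.map_le_iff_le_comap]
    intro a ha
    rw [maximalIdeal_eq_ker, RingHom.mem_ker] at ha
    change ψ (a ⊗ₜ 1) = 0
    simpa [hψ] using ha
  obtain ⟨i, hi⟩ := hs _ hprime hJψ
  rw [RingHom.mem_ker] at hi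
  obtain rfl : i = j := by
    by_contra hne
    have h0 : ψ (s (Pi.single i (Ψ (kk i) (h (kk i))))) * ψ (s (Pi.single j ((1 : T) ⊗ₜ 1))) = 0 := by
      rw [← map_mul, ← map_mul]
      have : (Pi.single i (Ψ (kk i) (h (kk i))) : Π j, C' (kk j)) * Pi.single j ((1 : T) ⊗ₜ 1) = 0 := by
        funext l
        rcases eq_or_ne l i with rfl | h1
        · simp [hne]
        · simp [h1]
      rw [this, map_zero, map_zero]
    exact (mul_eq_zero.1 h0).elim hi hj
  have he : ψ (s (Pi.single i ((1 : T) ⊗ₜ 1))) = 1 := by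
    have : IsIdempotentElem (ψ (s (Pi.single i ((1 : T) ⊗ₜ 1)))) := by
      rw [IsIdempotentElem, ← map_mul, ← map_mul, ← Pi.single_mul, ← Algebra.TensorProduct.one_def,
        one_mul]
    exact (IsIdempotentElem.iff_eq_zero_or_one.1 this).resolve_left hj
  let ρ : C' (kk i) →+* Ω :=
    RingHom.mk'
      { toFun := fun x => ψ (s (Pi.single i x))
        map_one' := he
        map_mul' := fun x y => by rw [Pi.single_mul, map_mul, map_mul] }
      fun x y => by
        change ψ (s (Pi.single i (x + y))) = _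
        rw [Pi.single_add, map_add, map_add]
        rfl
  have hρT : ∀ t : T, ρ (algebraMap T _ t) = ψ t := fun t => by
    change ψ (s (Pi.single i (algebraMap T _ t))) = ψ t
    have : (Pi.single i (algebraMap T (C' (kk i)) t) : Π j, C' (kk j)) =
        t • Pi.single i (1 : C' (kk i)) := by
      rw [← Pi.single_smul, Algebra.algebraMap_eq_smul_one]
    rw [this, map_smul, smul_eq_mul, map_mul]
    rw [Algebra.TensorProduct.one_def, he, mul_one]
  let φ : C (kk i).1 →ₐ[R] Ω :=
    { ρ.comp (Algebra.TensorProduct.includeRight : C (kk i).1 →ₐ[B] C' (kk i)).toRingHom with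
      commutes' := fun r => by
        change ρ ((Algebra.TensorProduct.includeRight : C (kk i).1 →ₐ[B] C' (kk i))
          (algebraMap R (C (kk i).1) r)) = _
        rw [IsScalarTower.algebraMap_apply R B (C (kk i).1), AlgHom.commutes,
          IsScalarTower.algebraMap_apply B T (C' (kk i)), hρT, ← IsScalarTower.algebraMap_apply R B T,
          hψ, AlgHom.commutes] }
  have hΨ : ∀ z, ρ (Ψ (kk i) z) = Algebra.TensorProduct.productMap (Lim.α R Ω) φ z := fun z => by
    induction z using TensorProduct.induction_on with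
    | zero => simp
    | tmul a c =>
      change ρ (algebraMap T _ (a ⊗ₜ 1) * (1 : T) ⊗ₜ[B] c) = _
      rw [map_mul, hρT, Algebra.TensorProduct.productMap_apply_tmul]
      change ψ (a ⊗ₜ 1) * φ c = _
      simp [hψ]
    | add x y hx hy => rw [map_add, map_add, hx, hy, map_add]
  refine ⟨φ, hOW _ _ (kk i).2.2 φ (hh' (kk i) φ (hΨ _ ▸ hi)), fun c => ?_⟩
  rw [hψN, hsingle]
  rfl

end Groth.Agent.Lib.EtSite.IntegralLift
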