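import Groth.Agent.Lib.EtSite.DisjointCover
import Groth.Agent.Lib.EtSite.Fiber
import Groth.Agent.Lib.EtSite.IntegralLift
import Groth.Prelude.Def_SGA4b
import Mathlib.AlgebraicGeometry.Morphisms.Integral
import Mathlib.AlgebraicGeometry.Morphisms.Etale

/-!
# Refining étale covers of `X ×_Y V` by étale neighbourhoods, for `X ⟶ Y` integral
-/

universe u w

open CategoryTheory CategoryTheory.Limits AlgebraicGeometry Opposite TensorProduct

namespace Groth.Agent.Lib.EtSite.IntegralRefine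

open Groth.Agent.Lib.EtSite.Basic Groth.Agent.Lib.EtSite.DisjointCover
open Groth.Agent.Lib.Henselian.Pointed Groth.Agent.Lib.EtSite.LimTensor

/-- Affine chart of an integral morphism around a point of the target. -/
theorem exists_chart {X Y : Scheme.{u}} (f : X ⟶ Y) [IsIntegralHom f] (y : Y) :
    ∃ (R B : CommRingCat.{u}) (φ : R ⟶ B) (jR : Spec R ⟶ Y) (jB : Spec B ⟶ X),
      φ.hom.IsIntegral ∧ IsOpenImmersion jR ∧ IsOpenImmersion jB ∧ y ∈ Set.range jR.base ∧
      IsPullback jB (Spec.map φ) f jR := by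
  obtain ⟨W, hW, hy, -⟩ := exists_isAffineOpen_mem_and_subset (x := y) (U := ⊤) trivial
  have hV : IsAffineOpen (f ⁻¹ᵁ W) := hW.preimage f
  refine ⟨Γ(Y, W), Γ(X, f ⁻¹ᵁ W), f.app W, hW.fromSpec, hV.fromSpec, f.isIntegral_app W hW,
    inferInstance, inferInstance, by rw [hW.range_fromSpec]; exact hy, ?_⟩
  refine (IsOpenImmersion.isPullback _ _ _ _ ?_ ?_).flip
  · rw [Scheme.Hom.app_eq_appLE]
    exact (hW.SpecMap_appLE_fromSpec f hV _).symm
  · rw [hW.opensRange_fromSpec, hV.opensRange_fromSpec]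

variable {Ω : Type u} [Field Ω] [IsAlgClosed Ω]

/-- An affine piece of `U ⟶ P` lying over an affine chart `Spec B ⟶ P`. -/
structure Piece {P U : Scheme.{u}} {B : CommRingCat.{u}} (jB : Spec B ⟶ P) (g : U ⟶ P) where
  /-- coordinate ring -/
  C : CommRingCat.{u}
  /-- structure map -/
  φ : B ⟶ C
  /-- the open immersion -/
  j : Spec C ⟶ U
  isOpenImmersion : IsOpenImmersion j
  fac : j ≫ g = Spec.map φ ≫ jB

theorem Piece.etale {P U : Scheme.{u}} {B : CommRingCat.{u}} {jB : Spec B ⟶ P} [IsOpenImmersion jB]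
    {g : U ⟶ P} [Etale g] (c : Piece jB g) : c.φ.hom.Etale := by
  have := c.isOpenImmersion
  have h : Etale (Spec.map c.φ ≫ jB) := c.fac ▸ inferInstance
  have : Etale (Spec.map c.φ) := MorphismProperty.of_postcomp @Etale _ jB (show Etale jB from inferInstance) h
  exact (HasRingHomProperty.Spec_iff (P := @Etale)).1 this

omit [IsAlgClosed Ω] in
theorem Piece.exists_fac {P U : Scheme.{u}} {B : CommRingCat.{u}} (jB : Spec B ⟶ P)
    [IsOpenImmersion jB] (g : U ⟶ P) (l : Spec (CommRingCat.of Ω) ⟶ U)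
    (x : Spec (CommRingCat.of Ω) ⟶ Spec B) (hl : l ≫ g = x ≫ jB) :
    ∃ (c : Piece jB g) (χ : c.C ⟶ CommRingCat.of Ω), Spec.map χ ≫ c.j = l := by
  have hu : l.base default ∈ g ⁻¹ᵁ jB.opensRange :=
    ⟨x.base default, congrArg (fun m => m.base default) hl.symm⟩
  obtain ⟨C, j, hj, hlu, hjU⟩ := Scheme.exists_affine_mem_range_and_range_subset hu
  have hr : Set.range (j ≫ g).base ⊆ Set.range jB.base := by
    rintro _ ⟨a, rfl⟩
    exact hjU ⟨a, rfl⟩
  have hl' : Set.range l.base ⊆ Set.range j.base := by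
    rintro _ ⟨a, rfl⟩
    rw [Subsingleton.elim a default]
    exact hlu
  refine ⟨⟨C, Spec.preimage (IsOpenImmersion.lift jB (j ≫ g) hr), j, hj, ?_⟩,
    Spec.preimage (IsOpenImmersion.lift j l hl'), ?_⟩
  · rw [Spec.map_preimage, IsOpenImmersion.lift_fac]
  · exact (congrArg (· ≫ j) (Spec.map_preimage _)).trans (IsOpenImmersion.lift_fac _ _ _)

/-- Ring-theoretic setting packaged in an étale neighbourhood. -/
theorem exists_refinement {X Y : Scheme.{u}} (f : X ⟶ Y) [IsIntegralHom f]
    {η : Spec (CommRingCat.of Ω) ⟶ Y} (V : Y.Etale) (p : (Scheme.pointSmallEtale η).fiber.obj V)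
    {ι : Type w} (U : ι → X.Etale) (g : ∀ i, U i ⟶ (EtCoh.bc f).obj V)
    (W : ∀ i, Set (Spec (CommRingCat.of Ω) ⟶ (U i).left))
    (hopen : ∀ i, ∀ l ∈ W i,
      ∃ O : Set ↥(pullback ((g i).left ≫ pullback.fst V.hom f) (fiberHom p)), IsOpen O ∧
        (∀ s : Spec (CommRingCat.of Ω) ⟶ pullback ((g i).left ≫ pullback.fst V.hom f) (fiberHom p),
          s ≫ pullback.snd _ _ = 𝟙 _ → s ≫ pullback.fst _ _ = l → s.base default ∈ O) ∧
        ∀ s : Spec (CommRingCat.of Ω) ⟶ pullback ((g i).left ≫ pullback.fst V.hom f) (fiberHom p),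
          s ≫ pullback.snd _ _ = 𝟙 _ → s.base default ∈ O → s ≫ pullback.fst _ _ ∈ W i)
    (hcov : ∀ x : Spec (CommRingCat.of Ω) ⟶ ((EtCoh.bc f).obj V).left,
      x ≫ pullback.fst V.hom f = fiberHom p → ∃ i, ∃ l ∈ W i, l ≫ (g i).left = x) :
    ∃ (V' : Y.Etale) (a : V' ⟶ V) (p' : (Scheme.pointSmallEtale η).fiber.obj V'),
      (Scheme.pointSmallEtale η).fiber.map a p' = p ∧
      ∃ (n : ℕ) (D : Fin n → X.Etale) (o : ∀ j, D j ⟶ (EtCoh.bc f).obj V') (i : Fin n → ι)
        (b : ∀ j, D j ⟶ U (i j)), IsDisjointCover D o ∧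
        (∀ j, b j ≫ g (i j) = o j ≫ (EtCoh.bc f).map a) ∧
        ∀ (j : Fin n) (l : Spec (CommRingCat.of Ω) ⟶ (D j).left),
          l ≫ (o j).left ≫ pullback.fst V'.hom f = fiberHom p' → l ≫ (b j).left ∈ W (i j) := by
  classical
  have : Etale V.hom := V.prop
  set f' := pullback.fst V.hom f with hf'
  obtain ⟨R, B, φRB, jR, jB, hint, _, _, hy, hsq⟩ := exists_chart f' (fiberPt p)
  have hp : Set.range (fiberHom p).base ⊆ Set.range jR.base := by
    rintro _ ⟨a, rfl⟩
    rw [Subsingleton.elim a default]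
    exact hy
  obtain ⟨θ, hθ⟩ : ∃ θ : R ⟶ CommRingCat.of Ω, Spec.map θ ≫ jR = fiberHom p :=
    ⟨Spec.preimage (IsOpenImmersion.lift jR _ hp), by rw [Spec.map_preimage, IsOpenImmersion.lift_fac]⟩
  algebraize [φRB.hom, θ.hom]
  -- pieces
  have hgE : ∀ i, Etale (g i).left := fun i => Fiber.etale_left (g i)
  let κ := Σ i, Piece jB (g i).left
  let aB : ∀ k : κ, Algebra B k.2.C := fun k => k.2.φ.hom.toAlgebra
  let aR : ∀ k : κ, Algebra R k.2.C := fun k => ((algebraMap B k.2.C).comp φRB.hom).toAlgebra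
  have : ∀ k : κ, IsScalarTower R B k.2.C := fun k => IsScalarTower.of_algebraMap_eq fun _ => rfl
  have : ∀ k : κ, Algebra.Etale B k.2.C := fun k =>
    RingHom.etale_algebraMap.1 (@Piece.etale _ _ _ jB (by assumption) _ (hgE k.1) k.2)
  let W' : ∀ k : κ, Set ((k.2.C : Type u) →ₐ[R] Ω) := fun k =>
    {χ | Spec.map (CommRingCat.ofHom χ.toRingHom) ≫ k.2.j ∈ W k.1}
  have hW' : ∀ (k : κ), ∀ χ ∈ W' k, ∃ O : Set (PrimeSpectrum (Ω ⊗[R] k.2.C)), IsOpen O ∧
      IntegralLift.point χ ∈ O ∧ ∀ χ', IntegralLift.point χ' ∈ O → χ' ∈ W' k := by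
    intro K χ hχ
    obtain ⟨O, hO, hOl, hOW⟩ := hopen K.1 _ hχ
    let iL : CommRingCat.of Ω ⟶ CommRingCat.of (Ω ⊗[R] K.2.C) :=
      CommRingCat.ofHom Algebra.TensorProduct.includeLeftRingHom
    let iR : K.2.C ⟶ CommRingCat.of (Ω ⊗[R] K.2.C) :=
      CommRingCat.ofHom (Algebra.TensorProduct.includeRight : K.2.C →ₐ[R] Ω ⊗[R] K.2.C).toRingHom
    have hring : θ ≫ iL = φRB ≫ K.2.φ ≫ iR := by
      ext r
      exact (Algebra.TensorProduct.algebraMap_apply (R := R) (A := Ω) (B := K.2.C) (S := R) r).symm.trans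
        ((Algebra.TensorProduct.includeRight : K.2.C →ₐ[R] Ω ⊗[R] K.2.C).commutes r).symm
    have h1 : K.2.j ≫ (g K.1).left ≫ f' = Spec.map K.2.φ ≫ Spec.map φRB ≫ jR :=
      (Category.assoc _ _ _).symm.trans
        ((K.2.fac =≫ f').trans ((Category.assoc _ _ _).trans (Spec.map K.2.φ ≫= hsq.w)))
    let c : Spec (CommRingCat.of (Ω ⊗[R] K.2.C)) ⟶ pullback ((g K.1).left ≫ f') (fiberHom p) :=
      pullback.lift (Spec.map iR ≫ K.2.j) (Spec.map iL) (by
        rw [Category.assoc, h1, ← hθ, ← Spec.map_comp_assoc,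
          ← Spec.map_comp_assoc, ← Spec.map_comp_assoc, hring])
    have key : ∀ χ' : (K.2.C : Type u) →ₐ[R] Ω,
        ∃ s : Spec (CommRingCat.of Ω) ⟶ pullback ((g K.1).left ≫ f') (fiberHom p),
          s ≫ pullback.snd _ _ = 𝟙 _ ∧
          s ≫ pullback.fst _ _ = Spec.map (CommRingCat.ofHom χ'.toRingHom) ≫ K.2.j ∧
          s.base default = c.base (IntegralLift.point χ') := by
      intro χ'
      let π : CommRingCat.of (Ω ⊗[R] K.2.C) ⟶ CommRingCat.of Ω :=
        CommRingCat.ofHom (Algebra.TensorProduct.productMap (AlgHom.id R Ω) χ').toRingHom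
      refine ⟨Spec.map π ≫ c, ?_, ?_, ?_⟩
      · rw [Category.assoc, pullback.lift_snd, ← Spec.map_comp, ← Spec.map_id]
        congr 1
        ext x
        change Algebra.TensorProduct.productMap (AlgHom.id R Ω) χ' (x ⊗ₜ 1) = x
        simp
      · rw [Category.assoc, pullback.lift_fst, ← Spec.map_comp_assoc]
        congr 2
        ext x
        change Algebra.TensorProduct.productMap (AlgHom.id R Ω) χ' (1 ⊗ₜ x) = χ' x
        simp
      · rw [Scheme.Hom.comp_apply]
        congr 1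
    refine ⟨c.base ⁻¹' O, hO.preimage c.continuous, ?_, fun χ' hχ' => ?_⟩
    · obtain ⟨s, hs1, hs2, hs3⟩ := key χ
      exact Set.mem_preimage.2 (hs3 ▸ hOl s hs1 hs2)
    · obtain ⟨s, hs1, hs2, hs3⟩ := key χ'
      change Spec.map _ ≫ _ ∈ W K.1
      exact hs2 ▸ hOW s hs1 (hs3.symm ▸ hχ')
  have hcov' : ∀ ξ : B →ₐ[R] Ω, ∃ k, ∃ χ ∈ W' k,
      χ.comp (IsScalarTower.toAlgHom R B k.2.C) = ξ := by
    intro ξ
    let x : Spec (CommRingCat.of Ω) ⟶ Spec B := Spec.map (CommRingCat.ofHom ξ.toRingHom)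
    have hξ : φRB ≫ CommRingCat.ofHom ξ.toRingHom = θ := by
      ext r; exact ξ.commutes r
    obtain ⟨i, l, hl, hlx⟩ := hcov (x ≫ jB) <| (Category.assoc _ _ _).trans <|
      (x ≫= hsq.w).trans <| (Category.assoc _ _ _).symm.trans <| by
      rw [← Spec.map_comp, hξ, hθ]
    obtain ⟨k, χ, hχ⟩ := Piece.exists_fac jB (g i).left l x hlx
    have hχξ : k.φ ≫ χ = CommRingCat.ofHom ξ.toRingHom := Spec.map_injective <| by
      rw [Spec.map_comp, ← cancel_mono jB, Category.assoc, ← k.fac, ← Category.assoc, hχ]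
      exact hlx
    let _ : Algebra R k.C := aR ⟨i, k⟩
    let χA : (k.C : Type u) →ₐ[R] Ω :=
      { χ.hom with commutes' := fun r =>
          (congrArg (fun m : B ⟶ CommRingCat.of Ω => m.hom (φRB.hom r)) hχξ).trans (ξ.commutes r) }
    refine ⟨⟨i, k⟩, χA, ?_, AlgHom.ext fun b => ?_⟩
    · change Spec.map χ ≫ k.j ∈ W i
      rwa [hχ]
    · exact congrArg (fun m : B ⟶ CommRingCat.of Ω => m.hom b) hχξ
  obtain ⟨N, -, n, k, σ, hσ, hσW⟩ := IntegralLift.exists_lift (R := R) (B := B) (Ω := Ω)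
    (fun k : κ => k.2.C) W' hW' hcov' Stage.base
  -- the neighbourhood
  let algS : R ⟶ CommRingCat.of N.S := CommRingCat.ofHom (algebraMap R N.S)
  have hetS : Etale (Spec.map algS) :=
    (HasRingHomProperty.Spec_iff (P := @Etale)).2 (RingHom.etale_algebraMap.2 N.etale)
  have hV' : Etale ((Spec.map algS ≫ jR) ≫ V.hom) := inferInstance
  let V' : Y.Etale := MorphismProperty.Over.mk ⊤ ((Spec.map algS ≫ jR) ≫ V.hom) hV'
  let a : V' ⟶ V := MorphismProperty.Over.homMk (Spec.map algS ≫ jR) rfl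
  let β : N.S →ₐ[R] Ω := (Lim.α R Ω).comp N.toLim
  have hβ : algS ≫ CommRingCat.ofHom β.toRingHom = θ := by
    ext r; exact β.commutes r
  have hp' : (Spec.map (CommRingCat.ofHom β.toRingHom) ≫ Spec.map algS ≫ jR) = fiberHom p := by
    rw [← Spec.map_comp_assoc, hβ, hθ]
  let p' : (Scheme.pointSmallEtale η).fiber.obj V' :=
    mkFiber η V' (Spec.map (CommRingCat.ofHom β.toRingHom)) (by
      change _ ≫ (Spec.map algS ≫ jR) ≫ V.hom = η
      rw [← Category.assoc, hp']
      exact fiberHom_comp p)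
  refine ⟨V', a, p', Over.OverMorphism.ext hp', ?_⟩
  let B' := N.S ⊗[R] B
  let iL : CommRingCat.of N.S ⟶ CommRingCat.of B' :=
    CommRingCat.ofHom Algebra.TensorProduct.includeLeftRingHom
  let iR : B ⟶ CommRingCat.of B' :=
    CommRingCat.ofHom (Algebra.TensorProduct.includeRight : B →ₐ[R] B').toRingHom
  have s1 : IsPullback (Spec.map iR) (Spec.map iL) (Spec.map φRB) (Spec.map algS) := by
    refine ((IsPullback.of_hasPullback (Spec.map algS) (Spec.map φRB)).of_iso
      (pullbackSpecIso R N.S B) (Iso.refl _) (Iso.refl _) (Iso.refl _) ?_ ?_ ?_ ?_).flip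
    · exact (Category.comp_id _).trans (pullbackSpecIso_hom_fst R N.S B).symm
    · exact (Category.comp_id _).trans (pullbackSpecIso_hom_snd R N.S B).symm
    · exact (Category.comp_id _).trans (Category.id_comp _).symm
    · exact (Category.comp_id _).trans (Category.id_comp _).symm
  have s12 := s1.paste_horiz hsq
  have s123 : IsPullback (Spec.map iL) ((Spec.map iR ≫ jB) ≫ pullback.snd V.hom f) V'.hom f :=
    (s12.paste_horiz (IsPullback.of_hasPullback V.hom f).flip).flip
  let e : Spec (CommRingCat.of B') ≅ pullback V'.hom f := s123.isoPullback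
  have hmap : e.hom ≫ ((EtCoh.bc f).map a).left = Spec.map iR ≫ jB := by
    apply pullback.hom_ext
    · refine (Category.assoc _ _ _).trans ((e.hom ≫= (EtCoh.isPullback_bc_map f a).w).trans ?_)
      change e.hom ≫ pullback.fst V'.hom f ≫ Spec.map algS ≫ jR = _
      exact (s123.isoPullback_hom_fst_assoc _).trans s12.w.symm
    · have : ((EtCoh.bc f).map a).left ≫ pullback.snd V.hom f = pullback.snd V'.hom f :=
        Over.w ((EtCoh.bc f).map a).hom
      exact (Category.assoc _ _ _).trans ((e.hom ≫= this).trans s123.isoPullback_hom_snd)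
  let ej : Fin n → B' := fun j => σ (Pi.single j 1)
  let loc : ∀ j, CommRingCat.of B' ⟶ CommRingCat.of (Localization.Away (ej j)) := fun j =>
    CommRingCat.ofHom (algebraMap B' (Localization.Away (ej j)))
  have hloc : ∀ j, IsOpenImmersion (Spec.map (loc j)) := fun j =>
    IsOpenImmersion.of_isLocalization (ej j)
  have : Etale ((EtCoh.bc f).obj V').hom := ((EtCoh.bc f).obj V').prop
  let D : Fin n → X.Etale := fun j =>
    MorphismProperty.Over.mk ⊤ ((Spec.map (loc j) ≫ e.hom) ≫ ((EtCoh.bc f).obj V').hom)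
      (MorphismProperty.comp_mem @Etale (Spec.map (loc j) ≫ e.hom) _
        (show Etale (Spec.map (loc j) ≫ e.hom) from inferInstance) ((EtCoh.bc f).obj V').prop)
  let o : ∀ j, D j ⟶ (EtCoh.bc f).obj V' := fun j =>
    MorphismProperty.Over.homMk (Spec.map (loc j) ≫ e.hom) rfl
  have hidem : ∀ j, IsIdempotentElem (ej j) := fun j => by
    rw [IsIdempotentElem, ← map_mul, ← Pi.single_mul, one_mul]
  have he1 : ∀ j, algebraMap B' (Localization.Away (ej j)) (ej j) = 1 := fun j => by
    refine (IsLocalization.Away.algebraMap_isUnit (ej j)).mul_left_cancel ?_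
    rw [mul_one, ← map_mul, (hidem j).eq]
  let ψ : ∀ j, (k j).2.C ⟶ CommRingCat.of (Localization.Away (ej j)) := fun j =>
    CommRingCat.ofHom (RingHom.mk'
      { toFun := fun c => algebraMap B' _ (σ (Pi.single j c))
        map_one' := he1 j
        map_mul' := fun x y => by rw [Pi.single_mul, map_mul, map_mul] }
      fun x y => by
        change algebraMap B' _ (σ (Pi.single j (x + y))) = _
        rw [Pi.single_add, map_add, map_add]
        rfl)
  have hψ : ∀ j, (k j).2.φ ≫ ψ j = iR ≫ loc j := fun j => by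
    ext b
    change algebraMap B' _ (σ (Pi.single j (algebraMap B (k j).2.C b))) =
      algebraMap B' _ ((1 : N.S) ⊗ₜ b)
    rw [← hσ b]
    have : (Pi.single j (algebraMap B (k j).2.C b) : Π i, (k i).2.C) =
        algebraMap B _ b * Pi.single j 1 := by
      funext i
      rcases eq_or_ne i j with rfl | hne
      · simp
      · simp [hne]
    rw [this, map_mul, map_mul]
    exact (congrArg (_ * ·) (he1 j)).trans (mul_one _)
  let i' : Fin n → ι := fun j => (k j).1
  have hb : ∀ j, (Spec.map (ψ j) ≫ (k j).2.j) ≫ (g (i' j)).left =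
      (o j).left ≫ ((EtCoh.bc f).map a).left := fun j => by
    refine (Category.assoc _ _ _).trans ((Spec.map (ψ j) ≫= (k j).2.fac).trans ?_)
    refine Eq.trans ?_ ((Category.assoc (Spec.map (loc j)) e.hom _).trans (Spec.map (loc j) ≫= hmap)).symm
    rw [← Spec.map_comp_assoc, hψ, Spec.map_comp_assoc]
    rfl
  let b : ∀ j, D j ⟶ U (i' j) := fun j =>
    MorphismProperty.Over.homMk (Spec.map (ψ j) ≫ (k j).2.j) (by
      have h1 : (g (i' j)).left ≫ ((EtCoh.bc f).obj V).hom = (U (i' j)).hom := Over.w (g (i' j)).hom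
      have h2 : ((EtCoh.bc f).map a).left ≫ ((EtCoh.bc f).obj V).hom = ((EtCoh.bc f).obj V').hom :=
        Over.w ((EtCoh.bc f).map a).hom
      exact ((Spec.map (ψ j) ≫ (k j).2.j) ≫= h1.symm).trans <| (Category.assoc _ _ _).symm.trans <|
        (hb j =≫ ((EtCoh.bc f).obj V).hom).trans <| (Category.assoc _ _ _).trans ((o j).left ≫= h2))
  refine ⟨n, D, o, i', b, ⟨fun j => ?_, fun x => ?_, fun j j' z z' h => ?_⟩,
    fun j => MorphismProperty.Over.Hom.ext (hb j), fun j l hl => ?_⟩
  · change IsOpenImmersion (Spec.map (loc j) ≫ e.hom)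
    infer_instance
  · let x' : PrimeSpectrum B' := e.inv.base x
    obtain ⟨j, hj⟩ : ∃ j, ej j ∉ x'.asIdeal := by
      by_contra hne
      push Not at hne
      refine x'.isPrime.ne_top ((Ideal.eq_top_iff_one _).2 ?_)
      rw [← map_one σ, ← Finset.univ_sum_single (1 : Π j, (k j).2.C), map_sum]
      exact Ideal.sum_mem _ fun j _ => hne j
    obtain ⟨d, hd⟩ : x' ∈ Set.range (PrimeSpectrum.comap (algebraMap B' (Localization.Away (ej j)))) := by
      rw [PrimeSpectrum.localization_away_comap_range (Localization.Away (ej j)) (ej j)]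
      exact hj
    refine ⟨j, d, ?_⟩
    change e.hom.base ((Spec.map (loc j)).base d) = x
    rw [show (Spec.map (loc j)).base d = e.inv.base x from hd, ← Scheme.Hom.comp_apply, e.inv_hom_id]
    rfl
  · by_contra hne
    have hz : (Spec.map (loc j)).base z = (Spec.map (loc j')).base z' :=
      (Scheme.homeoOfIso e).injective h
    have hmem : ∀ (j : Fin n) (z : (D j).left), ej j ∉ ((Spec.map (loc j)).base z).asIdeal :=
      fun j z hz => z.isPrime.ne_top ((Ideal.eq_top_iff_one _).2 (he1 j ▸ hz))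
    have h0 : ej j * ej j' = 0 := by
      have hs : (Pi.single j 1 : Π i, (k i).2.C) * Pi.single j' 1 = 0 := by
        funext l
        rcases eq_or_ne l j with rfl | h1
        · simp [hne]
        · simp [h1]
      rw [← map_mul, hs, map_zero]
    have hprime := ((Spec.map (loc j)).base z).isPrime
    exact (hprime.mem_or_mem (h0 ▸ zero_mem _)).elim (hmem j z) fun h' =>
      hmem j' z' (hz ▸ h')
  · let lam := Spec.preimage (R := CommRingCat.of (Localization.Away (ej j))) l
    have hlam : Spec.map lam = l := Spec.map_preimage l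
    let ν : B' →+* Ω := (loc j ≫ lam).hom
    have hνL : iL ≫ CommRingCat.ofHom ν = CommRingCat.ofHom β.toRingHom := Spec.map_injective <| by
      have h1 : l ≫ (Spec.map (loc j) ≫ e.hom) ≫ pullback.fst V'.hom f =
          Spec.map (CommRingCat.ofHom β.toRingHom) := hl
      have he : e.hom ≫ pullback.fst V'.hom f = Spec.map iL := s123.isoPullback_hom_fst
      rw [Category.assoc, he, ← hlam] at h1
      refine Eq.trans ?_ h1
      have h2 : Spec.map (iL ≫ loc j ≫ lam) = Spec.map lam ≫ Spec.map (loc j) ≫ Spec.map iL := by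
        simp only [Spec.map_comp, Category.assoc]
      exact h2
    let ξ : B →ₐ[R] Ω :=
      { ν.comp (Algebra.TensorProduct.includeRight : B →ₐ[R] B').toRingHom with
        commutes' := fun r => by
          change ν ((1 : N.S) ⊗ₜ algebraMap R B r) = _
          rw [show (1 : N.S) ⊗ₜ[R] algebraMap R B r = algebraMap R N.S r ⊗ₜ 1 by
            rw [Algebra.algebraMap_eq_smul_one r, Algebra.algebraMap_eq_smul_one r,
              TensorProduct.tmul_smul, TensorProduct.smul_tmul']]
          exact (congrArg (fun m : CommRingCat.of N.S ⟶ CommRingCat.of Ω => m.hom (algebraMap R N.S r))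
            hνL).trans (β.commutes r) }
    have hν : ∀ x, Algebra.TensorProduct.productMap β ξ x = ν x := fun x => by
      induction x using TensorProduct.induction_on with
      | zero => simp
      | tmul x y =>
        rw [Algebra.TensorProduct.productMap_apply_tmul, show x ⊗ₜ[R] y = (x ⊗ₜ 1) * (1 ⊗ₜ y) by simp,
          map_mul ν]
        congr 1
        exact (congrArg (fun m : CommRingCat.of N.S ⟶ CommRingCat.of Ω => m.hom x) hνL).symm
      | add x y hx hy => rw [map_add, map_add, hx, hy]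
    obtain ⟨χ, hχ, hχ'⟩ := hσW ξ j (by
      rw [hν]
      change lam.hom (algebraMap B' _ (ej j)) ≠ 0
      rw [he1, map_one]
      exact one_ne_zero)
    have hcomp : ψ j ≫ lam = CommRingCat.ofHom χ.toRingHom := by
      ext c
      exact (hν _).symm.trans (hχ' c)
    have h3 : l ≫ (b j).left = Spec.map (CommRingCat.ofHom χ.toRingHom) ≫ (k j).2.j := by
      rw [← hlam, ← hcomp, Spec.map_comp, Category.assoc]
      rfl
    exact (congrArg (· ∈ W (k j).1) h3).mpr hχ

end Groth.Agent.Lib.EtSite.IntegralRefine
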