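import Groth.Agent.Lib.EtSite.UnitStalk
import Mathlib.AlgebraicGeometry.Morphisms.ClosedImmersion
import Mathlib.AlgebraicGeometry.Morphisms.Immersion

/-!
# Direct images along immersions on small étale sites
-/

universe u

open CategoryTheory CategoryTheory.Limits AlgebraicGeometry Opposite

namespace Groth.Agent.Lib.EtSite.Immersion

open Groth.Agent.Lib.EtSite.Basic Groth.Agent.Lib.EtSite.Stalk Groth.Agent.Lib.EtSite.DisjointCover
  Groth.Agent.Lib.EtSite.PushStalk

variable {Z X : Scheme.{u}} (i : Z ⟶ X) {Ω : Type u} [Field Ω] [IsSepClosed Ω]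

theorem exists_lift_of_isClosedImmersion [IsClosedImmersion i] {η : Spec (CommRingCat.of Ω) ⟶ X}
    (V : X.Etale) (p : (Scheme.pointSmallEtale η).fiber.obj V) (w : ((EtCoh.bc i).obj V).left)
    (hw : (pullback.fst V.hom i).base w = fiberPt p) :
    ∃ x : Spec (CommRingCat.of Ω) ⟶ ((EtCoh.bc i).obj V).left,
      x ≫ pullback.fst V.hom i = fiberHom p ∧ x.base default = w := by
  obtain ⟨z, hz, -⟩ := Scheme.Pullback.exists_preimage_pullback (f := pullback.fst V.hom i)
    (g := fiberHom p) w default hw
  have : IsClosedImmersion (pullback.snd (pullback.fst V.hom i) (fiberHom p)) :=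
    MorphismProperty.pullback_snd (P := @IsClosedImmersion) _ _
      (MorphismProperty.pullback_fst (P := @IsClosedImmersion) _ _ ‹_›)
  have : Surjective (pullback.snd (pullback.fst V.hom i) (fiberHom p)) :=
    ⟨fun a => ⟨z, Subsingleton.elim _ _⟩⟩
  have := isIso_of_isClosedImmersion_of_surjective (pullback.snd (pullback.fst V.hom i) (fiberHom p))
  set e := pullback.snd (pullback.fst V.hom i) (fiberHom p)
  refine ⟨inv e ≫ pullback.fst (pullback.fst V.hom i) (fiberHom p), ?_, ?_⟩
  · exact (Category.assoc _ _ _).trans ((inv e ≫= pullback.condition).trans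
      (by rw [IsIso.inv_hom_id_assoc]))
  · refine Eq.trans ?_ hz
    refine congrArg (pullback.fst (pullback.fst V.hom i) (fiberHom p)).base ?_
    exact ((asIso e).schemeIsoToHomeo).injective (Subsingleton.elim _ _)

section

variable {A : Type (u + 2)} [Category.{u + 1} A] {FA : A → A → Type*}
  {CA : A → Type (u + 1)} [∀ M N, FunLike (FA M N) (CA M) (CA N)] [ConcreteCategory.{u + 1} A FA]
  [HasColimitsOfSize.{u, u} A] [PreservesFilteredColimitsOfSize.{u, u} (forget A)]
  [PreservesLimitsOfSize.{u + 1, u + 1} (forget A)]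

/-- Off a closed subscheme, all germs of a direct image agree. -/
theorem stalk_push_eq_of_disjoint [IsClosedImmersion i] {η : Spec (CommRingCat.of Ω) ⟶ X}
    (hη : η.base default ∉ Set.range i.base) (F : Sheaf Z.smallEtaleTopology A)
    (z z' : ToType ((Scheme.pointSmallEtale η).sheafFiber.obj
      (((EtCoh.bc i).sheafPushforwardContinuous A X.smallEtaleTopology Z.smallEtaleTopology).obj F))) :
    z = z' := by
  obtain ⟨V₁, p₁, s₁, rfl⟩ := (Scheme.pointSmallEtale η).toPresheafFiber_jointly_surjective z
  obtain ⟨V₂, p₂, s₂, rfl⟩ := (Scheme.pointSmallEtale η).toPresheafFiber_jointly_surjective z'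
  let W := IsCofiltered.min ((Scheme.pointSmallEtale η).fiber.elementsMk V₁ p₁)
    ((Scheme.pointSmallEtale η).fiber.elementsMk V₂ p₂)
  let a : W ⟶ (Scheme.pointSmallEtale η).fiber.elementsMk V₁ p₁ := IsCofiltered.minToLeft _ _
  let b : W ⟶ (Scheme.pointSmallEtale η).fiber.elementsMk V₂ p₂ := IsCofiltered.minToRight _ _
  have ha : (Scheme.pointSmallEtale η).fiber.map a.1 W.2 = p₁ := a.2
  have hb : (Scheme.pointSmallEtale η).fiber.map b.1 W.2 = p₂ := b.2
  rw [← ha, ← hb]
  erw [← GrothendieckTopology.Point.toPresheafFiber_w_apply,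
    ← GrothendieckTopology.Point.toPresheafFiber_w_apply]
  refine toPresheafFiber_push_ext i F W.1 W.2 (fun w hw => absurd ?_ hη) _ _ fun ξ hξ => absurd ?_ hη
  · refine ⟨(pullback.snd W.1.hom i).base w, ?_⟩
    refine Eq.trans ?_ ((congrArg W.1.hom.base hw).trans (hom_fiberPt (U := W.1) W.2))
    exact congrArg (fun m : pullback W.1.hom i ⟶ X => m.base w)
      (pullback.condition (f := W.1.hom) (g := i)).symm
  · exact ⟨ξ.base default, congrArg (fun m => m.base default) hξ⟩

/-- The stalk of a direct image along a closed immersion at a point of the subscheme. -/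
theorem germTo_bijective_of_isClosedImmersion [IsClosedImmersion i]
    {η : Spec (CommRingCat.of Ω) ⟶ X} {ζ : Spec (CommRingCat.of Ω) ⟶ Z} (h : ζ ≫ i = η)
    (F : Sheaf Z.smallEtaleTopology A) :
    Function.Bijective ((germTo i A h).app F) := by
  constructor
  · intro z z' e
    obtain ⟨V₁, p₁, s₁, rfl⟩ := (Scheme.pointSmallEtale η).toPresheafFiber_jointly_surjective z
    obtain ⟨V₂, p₂, s₂, rfl⟩ := (Scheme.pointSmallEtale η).toPresheafFiber_jointly_surjective z'
    let W := IsCofiltered.min ((Scheme.pointSmallEtale η).fiber.elementsMk V₁ p₁)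
      ((Scheme.pointSmallEtale η).fiber.elementsMk V₂ p₂)
    let a : W ⟶ (Scheme.pointSmallEtale η).fiber.elementsMk V₁ p₁ := IsCofiltered.minToLeft _ _
    let b : W ⟶ (Scheme.pointSmallEtale η).fiber.elementsMk V₂ p₂ := IsCofiltered.minToRight _ _
    have ha : (Scheme.pointSmallEtale η).fiber.map a.1 W.2 = p₁ := a.2
    have hb : (Scheme.pointSmallEtale η).fiber.map b.1 W.2 = p₂ := b.2
    rw [← ha, ← hb] at e ⊢
    erw [← GrothendieckTopology.Point.toPresheafFiber_w_apply,
      ← GrothendieckTopology.Point.toPresheafFiber_w_apply] at e ⊢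
    refine toPresheafFiber_push_ext i F W.1 W.2 (exists_lift_of_isClosedImmersion i W.1 W.2) _ _
      fun ξ hξ => ?_
    obtain rfl : ξ = ζ := (cancel_mono i).1 (hξ.trans h.symm)
    exact (germTo_toPresheafFiber i h F W.1 W.2 _).symm.trans
      (e.trans (germTo_toPresheafFiber i h F W.1 W.2 _))
  · intro c
    obtain ⟨U, q, u, rfl⟩ := (Scheme.pointSmallEtale ζ).toPresheafFiber_jointly_surjective c
    let Ω' := AlgebraicClosure Ω
    let η' := FieldExt.extPoint η Ω'
    let ζ' := FieldExt.extPoint ζ Ω'
    let top := EtCoh.top X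
    let p : (Scheme.pointSmallEtale η').fiber.obj top := mkFiber η' top η' (Category.comp_id _)
    let g : U ⟶ (EtCoh.bc i).obj top :=
      MorphismProperty.Over.homMk (pullback.lift (U.hom ≫ i) U.hom (Category.comp_id _))
        (pullback.lift_snd _ _ _)
    let q' : (Scheme.pointSmallEtale ζ').fiber.obj U := (FieldExt.fiberExtIso ζ Ω').hom.app U q
    obtain ⟨V', a, p', -, n, D, o, k, b, hD, hb, hW⟩ :=
      IntegralRefine.exists_refinement (ι := PUnit.{1}) i top p (fun _ => U) (fun _ => g)
        (fun _ => {fiberHom q'})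
        (fun _ l hl => by
          have : Etale g.left := Fiber.etale_left g
          have : LocallyQuasiFinite g.left := FieldExt.locallyQuasiFinite_of_etale _
          have : LocallyQuasiFinite (pullback.fst top.hom i) :=
            MorphismProperty.pullback_fst (P := @LocallyQuasiFinite) _ _ inferInstance
          have : LocallyQuasiFinite (g.left ≫ pullback.fst top.hom i) :=
            MorphismProperty.comp_mem @LocallyQuasiFinite _ _ ‹LocallyQuasiFinite g.left› ‹_›
          have := FieldExt.discreteTopology_of_locallyQuasiFinite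
            (pullback.snd (g.left ≫ pullback.fst top.hom i) (fiberHom p))
          refine ⟨{z | ∀ s : Spec (CommRingCat.of Ω') ⟶
              pullback (g.left ≫ pullback.fst top.hom i) (fiberHom p),
              s ≫ pullback.snd _ _ = 𝟙 _ → s.base default = z → s ≫ pullback.fst _ _ = fiberHom q'},
            isOpen_discrete _, fun s hs hsl s' hs' hh => ?_, fun s hs hs' => hs' s hs rfl⟩
          have h1 := FieldExt.eq_comp_section hs s' hh
          rw [hs', Category.id_comp] at h1
          rw [h1, hsl]
          exact hl)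
        (fun x hx => by
          have hξ := snd_comp_eq i hx
          have hζ : x ≫ pullback.snd top.hom i = ζ' := (cancel_mono i).1
            (hξ.trans ((_ ≫= h.symm).trans (Category.assoc _ _ _).symm))
          refine ⟨PUnit.unit, _, rfl, pullback.hom_ext ?_ ?_⟩
          · refine (Category.assoc _ _ _).trans ((_ ≫= pullback.lift_fst _ _ _).trans ?_)
            refine (Category.assoc _ _ _).symm.trans ((congrArg (· ≫ i) (fiberHom_comp q')).trans ?_)
            exact ((Category.assoc _ _ _).trans (_ ≫= h)).trans hx.symm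
          · exact (Category.assoc _ _ _).trans
              ((_ ≫= pullback.lift_snd _ _ _).trans ((fiberHom_comp q').trans hζ.symm)))
    obtain ⟨s, hs⟩ := hD.exists_glue F fun j => F.obj.map (b j).op u
    let p₀ : (Scheme.pointSmallEtale η).fiber.obj V' := (FieldExt.fiberExtIso η Ω').inv.app V' p'
    have hp₀ : (FieldExt.fiberExtIso η Ω').hom.app V' p₀ = p' :=
      congrArg (fun m => m p') (congrArg (ConcreteCategory.hom)
        ((FieldExt.fiberExtIso η Ω').inv_hom_id_app V'))
    refine ⟨(Scheme.pointSmallEtale η).toPresheafFiber V' p₀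
      (((EtCoh.bc i).sheafPushforwardContinuous A X.smallEtaleTopology Z.smallEtaleTopology).obj F).obj s,
      ?_⟩
    refine (germTo_toPresheafFiber i h F V' p₀ s).trans ?_
    obtain ⟨j, l, hl⟩ := hD.exists_fac (fiberHom (liftPt i h V' p₀))
    have hlD : l ≫ (D j).hom = ζ := by
      refine (l ≫= (Over.w (o j).hom).symm).trans ((Category.assoc _ _ _).symm.trans ?_)
      exact (congrArg (· ≫ ((EtCoh.bc i).obj V').hom) hl).trans (fiberHom_comp _)
    let lD : (Scheme.pointSmallEtale ζ).fiber.obj (D j) := mkFiber _ (D j) l hlD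
    have hlp : l ≫ (o j).left ≫ pullback.fst V'.hom i = fiberHom p₀ :=
      (Category.assoc _ _ _).symm.trans ((congrArg (· ≫ pullback.fst V'.hom i) hl).trans
        (pullback.lift_fst _ _ _))
    have hmem : Spec.map (CommRingCat.ofHom (algebraMap Ω Ω')) ≫ l ≫ (b j).left = fiberHom q' := by
      refine (Category.assoc _ _ _).symm.trans (hW j _ ?_)
      refine (Category.assoc _ _ _).trans ((_ ≫= hlp).trans ?_)
      exact congrArg (fun m => fiberHom m) hp₀
    have h1 : (Scheme.pointSmallEtale ζ).fiber.map (o j) lD = liftPt i h V' p₀ :=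
      Over.OverMorphism.ext hl
    have h2 : (Scheme.pointSmallEtale ζ).fiber.map (b j) lD = q := by
      refine ((FieldExt.fiberExtIso ζ Ω').app U).toEquiv.injective ?_
      exact Over.OverMorphism.ext hmem
    rw [← h1]
    refine ((Scheme.pointSmallEtale ζ).toPresheafFiber_w_apply (o j) lD F.obj s).symm.trans ?_
    rw [hs]
    refine ((Scheme.pointSmallEtale ζ).toPresheafFiber_w_apply (b j) lD F.obj _).trans ?_
    rw [h2]
    rfl

/-- The stalk of a direct image along an open immersion at a point of the open subscheme. -/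
theorem germTo_bijective_of_isOpenImmersion [IsOpenImmersion i]
    {η : Spec (CommRingCat.of Ω) ⟶ X} {ζ : Spec (CommRingCat.of Ω) ⟶ Z} (h : ζ ≫ i = η)
    (F : Sheaf Z.smallEtaleTopology A) :
    Function.Bijective ((germTo i A h).app F) := by
  let push : Z.Etale → X.Etale := fun U => MorphismProperty.Over.mk ⊤ (U.hom ≫ i)
    (MorphismProperty.comp_mem @Etale U.hom i U.prop (show Etale i from inferInstance))
  have hfst : ∀ U : Z.Etale, pullback.fst (push U).hom i ≫ U.hom = pullback.snd (push U).hom i :=
    fun U => (cancel_mono i).1 ((Category.assoc _ _ _).trans pullback.condition)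
  let back : ∀ U : Z.Etale, (EtCoh.bc i).obj (push U) ⟶ U := fun U =>
    MorphismProperty.Over.homMk (pullback.fst (push U).hom i) (hfst U)
  have hpp : ∀ (U : Z.Etale) (q : (Scheme.pointSmallEtale ζ).fiber.obj U),
      fiberHom q ≫ (push U).hom = η := fun U q =>
    (Category.assoc _ _ _).symm.trans ((congrArg (fun m => m ≫ i) (fiberHom_comp q)).trans h)
  let pp : ∀ (U : Z.Etale), (Scheme.pointSmallEtale ζ).fiber.obj U →
      (Scheme.pointSmallEtale η).fiber.obj (push U) := fun U q =>
    mkFiber η (push U) (fiberHom (ξ := ζ) (U := U) q) (hpp U q)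
  have hback : ∀ U q, (Scheme.pointSmallEtale ζ).fiber.map (back U) (liftPt i h (push U) (pp U q)) = q :=
    fun U q => Over.OverMorphism.ext (pullback.lift_fst _ _ _)
  constructor
  · intro z z' e
    obtain ⟨V₁, p₁, s₁, rfl⟩ := (Scheme.pointSmallEtale η).toPresheafFiber_jointly_surjective z
    obtain ⟨V₂, p₂, s₂, rfl⟩ := (Scheme.pointSmallEtale η).toPresheafFiber_jointly_surjective z'
    let W := IsCofiltered.min ((Scheme.pointSmallEtale η).fiber.elementsMk V₁ p₁)
      ((Scheme.pointSmallEtale η).fiber.elementsMk V₂ p₂)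
    let a : W ⟶ (Scheme.pointSmallEtale η).fiber.elementsMk V₁ p₁ := IsCofiltered.minToLeft _ _
    let b : W ⟶ (Scheme.pointSmallEtale η).fiber.elementsMk V₂ p₂ := IsCofiltered.minToRight _ _
    have ha : (Scheme.pointSmallEtale η).fiber.map a.1 W.2 = p₁ := a.2
    have hb : (Scheme.pointSmallEtale η).fiber.map b.1 W.2 = p₂ := b.2
    rw [← ha, ← hb] at e ⊢
    erw [← GrothendieckTopology.Point.toPresheafFiber_w_apply,
      ← GrothendieckTopology.Point.toPresheafFiber_w_apply] at e ⊢
    replace e := (germTo_toPresheafFiber i h F W.1 W.2 _).symm.trans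
      (e.trans (germTo_toPresheafFiber i h F W.1 W.2 _))
    obtain ⟨U, g, q, hq, hgst⟩ := ((Scheme.pointSmallEtale ζ).toPresheafFiber_eq_iff' _ _ _ _).1 e
    let c : push U ⟶ W.1 := MorphismProperty.Over.homMk (g.left ≫ pullback.fst W.1.hom i) (by
      refine (Category.assoc _ _ _).trans ((_ ≫= pullback.condition).trans ?_)
      refine (Category.assoc _ _ _).symm.trans ?_
      exact congrArg (· ≫ i) (Over.w g.hom :))
    have hc : (Scheme.pointSmallEtale η).fiber.map c (pp U q) = W.2 := by
      refine Over.OverMorphism.ext ((Category.assoc _ _ _).symm.trans ?_)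
      exact (congrArg (fun m => fiberHom m ≫ pullback.fst W.1.hom i) hq).trans (pullback.lift_fst _ _ _)
    have hbc : (EtCoh.bc i).map c = back U ≫ g := by
      apply MorphismProperty.Over.Hom.ext
      apply pullback.hom_ext
      · exact (EtCoh.isPullback_bc_map i c).w.trans (Category.assoc _ _ _).symm
      · refine (Over.w ((EtCoh.bc i).map c).hom).trans ?_
        exact (Over.w (back U ≫ g).hom).symm
    refine ((Scheme.pointSmallEtale η).toPresheafFiber_eq_iff' _ _ _ _).2 ⟨push U, c, pp U q, hc, ?_⟩
    change F.obj.map ((EtCoh.bc i).map c).op _ = F.obj.map ((EtCoh.bc i).map c).op _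
    rw [hbc]
    simp only [op_comp, Functor.map_comp, ConcreteCategory.comp_apply, hgst]
  · intro x
    obtain ⟨U, q, u, rfl⟩ := (Scheme.pointSmallEtale ζ).toPresheafFiber_jointly_surjective x
    refine ⟨(Scheme.pointSmallEtale η).toPresheafFiber (push U) (pp U q)
      (((EtCoh.bc i).sheafPushforwardContinuous A X.smallEtaleTopology Z.smallEtaleTopology).obj F).obj
      (F.obj.map (back U).op u), ?_⟩
    refine (germTo_toPresheafFiber i h F (push U) (pp U q) _).trans ?_
    refine ((Scheme.pointSmallEtale ζ).toPresheafFiber_w_apply (back U) _ F.obj u).trans ?_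
    rw [hback]
    rfl

end

section

variable {A : Type (u + 2)} [Category.{u + 1} A] {FA : A → A → Type*}
  {CA : A → Type (u + 1)} [funLike : ∀ M N, FunLike (FA M N) (CA M) (CA N)]
  [concrete : ConcreteCategory.{u + 1} A FA]
  [HasProducts.{u} A] [HasColimitsOfSize.{u, u} A]
  [preservesColim : PreservesFilteredColimitsOfSize.{u, u} (forget A)]
  [preservesLim : PreservesLimitsOfSize.{u + 1, u + 1} (forget A)]
  [reflectsIso : (forget A).ReflectsIsomorphisms]
  [((EtCoh.bc i).sheafPushforwardContinuous A X.smallEtaleTopology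
    Z.smallEtaleTopology).IsRightAdjoint]

include funLike concrete preservesColim preservesLim reflectsIso

/-- The counit is an isomorphism when restriction of germs is bijective. -/
theorem isIso_counit_of_germTo_bijective (G : Sheaf Z.smallEtaleTopology A)
    (hG : ∀ z : Z, IsIso ((germTo i A (rfl : geomPoint Z z ≫ i = geomPoint Z z ≫ i)).app G)) :
    IsIso (((EtCoh.bc i).sheafAdjunctionContinuous A X.smallEtaleTopology
      Z.smallEtaleTopology).counit.app G) := by
  refine isIso_of_stalks (FA := FA) _ (enoughPts_pt fun z => ?_)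
  set adj := (EtCoh.bc i).sheafAdjunctionContinuous A X.smallEtaleTopology Z.smallEtaleTopology
  let R := (EtCoh.bc i).sheafPushforwardContinuous A X.smallEtaleTopology Z.smallEtaleTopology
  let ξ := geomPoint Z z
  have := hG z
  have := UnitStalk.isIso_unitStalk i ξ A (R.obj G)
  have e : UnitStalk.unitStalk i ξ A (R.obj G) ≫
      (Scheme.pointSmallEtale ξ).sheafFiber.map (adj.counit.app G) =
        (germTo i A (rfl : ξ ≫ i = ξ ≫ i)).app G := by
    have hn := (germTo i A (rfl : ξ ≫ i = ξ ≫ i)).naturality (adj.counit.app G)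
    refine (Category.assoc _ _ _).trans ((_ ≫= hn.symm).trans ?_)
    refine (Category.assoc _ _ _).symm.trans ?_
    rw [Functor.comp_map, ← Functor.map_comp]
    refine (congrArg (fun m => (Scheme.pointSmallEtale (ξ ≫ i)).sheafFiber.map m ≫
      (germTo i A (rfl : ξ ≫ i = ξ ≫ i)).app G) (adj.right_triangle_components G)).trans ?_
    rw [CategoryTheory.Functor.map_id]
    exact Category.id_comp _
  have : IsIso ((Scheme.pointSmallEtale ξ).sheafFiber.map (adj.counit.app G)) := by
    have : IsIso (UnitStalk.unitStalk i ξ A (R.obj G) ≫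
        (Scheme.pointSmallEtale ξ).sheafFiber.map (adj.counit.app G)) := e ▸ ‹_›
    exact IsIso.of_isIso_comp_left (UnitStalk.unitStalk i ξ A (R.obj G)) _
  exact (ConcreteCategory.isIso_iff_bijective (C := A) (FC := FA) _).1 this

theorem isIso_counit_of_isClosedImmersion [IsClosedImmersion i] :
    IsIso ((EtCoh.bc i).sheafAdjunctionContinuous A X.smallEtaleTopology
      Z.smallEtaleTopology).counit :=
  have : ∀ G, IsIso (((EtCoh.bc i).sheafAdjunctionContinuous A X.smallEtaleTopology
      Z.smallEtaleTopology).counit.app G) := fun G =>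
    isIso_counit_of_germTo_bijective (FA := FA) i G fun _ =>
      (ConcreteCategory.isIso_iff_bijective (C := A) (FC := FA) _).2
        (germTo_bijective_of_isClosedImmersion (FA := FA) i rfl G)
  NatIso.isIso_of_isIso_app _

theorem isIso_counit_of_isOpenImmersion [IsOpenImmersion i] :
    IsIso ((EtCoh.bc i).sheafAdjunctionContinuous A X.smallEtaleTopology
      Z.smallEtaleTopology).counit :=
  have : ∀ G, IsIso (((EtCoh.bc i).sheafAdjunctionContinuous A X.smallEtaleTopology
      Z.smallEtaleTopology).counit.app G) := fun G =>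
    isIso_counit_of_germTo_bijective (FA := FA) i G fun _ =>
      (ConcreteCategory.isIso_iff_bijective (C := A) (FC := FA) _).2
        (germTo_bijective_of_isOpenImmersion (FA := FA) i rfl G)
  NatIso.isIso_of_isIso_app _

end

theorem fullyFaithful_pushSh_of_isClosedImmersion [IsClosedImmersion i] :
    (EtDesc.pushSh i).Full ∧ (EtDesc.pushSh i).Faithful :=
  have := isIso_counit_of_isClosedImmersion i (A := Type (u + 1))
  ⟨(EtDesc.adjSh i).fullyFaithfulROfIsIsoCounit.full, (EtDesc.adjSh i).fullyFaithfulROfIsIsoCounit.faithful⟩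

theorem fullyFaithful_pushSh_of_isOpenImmersion [IsOpenImmersion i] :
    (EtDesc.pushSh i).Full ∧ (EtDesc.pushSh i).Faithful :=
  have := isIso_counit_of_isOpenImmersion i (A := Type (u + 1))
  ⟨(EtDesc.adjSh i).fullyFaithfulROfIsIsoCounit.full, (EtDesc.adjSh i).fullyFaithfulROfIsIsoCounit.faithful⟩

theorem fullyFaithful_push_of_isClosedImmersion [IsClosedImmersion i] [EtCoh.BCCont i] :
    (EtCoh.push i).Full ∧ (EtCoh.push i).Faithful :=
  have := isIso_counit_of_isClosedImmersion i (A := AddCommGrpCat.{u + 1})
  ⟨(EtCoh.pullPushAdj i).fullyFaithfulROfIsIsoCounit.full,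
    (EtCoh.pullPushAdj i).fullyFaithfulROfIsIsoCounit.faithful⟩

/-- The counit of the adjunction for an immersion is an isomorphism. -/
theorem isIso_counit_of_isImmersion [IsImmersion i] : IsIso (EtDesc.adjSh i).counit := by
  have : IsClosedImmersion i.liftCoborder := inferInstance
  obtain ⟨hF₁, hf₁⟩ := fullyFaithful_pushSh_of_isClosedImmersion i.liftCoborder
  obtain ⟨hF₂, hf₂⟩ := fullyFaithful_pushSh_of_isOpenImmersion i.coborderRange.ι
  have e := EtDesc.pushCompSh i.coborderRange.ι i.liftCoborder
  rw [Scheme.Hom.liftCoborder_ι] at e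
  have : (EtDesc.pushSh i).Full := Functor.Full.of_iso e
  have : (EtDesc.pushSh i).Faithful := Functor.Faithful.of_iso e
  infer_instance

end Groth.Agent.Lib.EtSite.Immersion
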