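import Groth.Agent.Lib.EtSite.Immersion
import Mathlib.CategoryTheory.Adjunction.FullyFaithful

/-!
# The essential image of direct image along a closed immersion
-/

universe u

open CategoryTheory CategoryTheory.Limits AlgebraicGeometry Opposite

namespace Groth.Agent.Lib.EtSite.ClosedEssImage

open Groth.Agent.Lib.EtSite.Basic Groth.Agent.Lib.EtSite.Stalk Groth.Agent.Lib.EtSite.PushStalk

variable {Z X : Scheme.{u}} (i : Z ⟶ X)
  {A : Type (u + 2)} [Category.{u + 1} A] {FA : A → A → Type*}
  {CA : A → Type (u + 1)} [funLike : ∀ M N, FunLike (FA M N) (CA M) (CA N)]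
  [concrete : ConcreteCategory.{u + 1} A FA]
  [HasProducts.{u} A] [HasColimitsOfSize.{u, u} A]
  [preservesColim : PreservesFilteredColimitsOfSize.{u, u} (forget A)]
  [preservesLim : PreservesLimitsOfSize.{u + 1, u + 1} (forget A)]
  [reflectsIso : (forget A).ReflectsIsomorphisms]
  [((EtCoh.bc i).sheafPushforwardContinuous A X.smallEtaleTopology
    Z.smallEtaleTopology).IsRightAdjoint]
  [IsClosedImmersion i]

/-- Off the closed subscheme, a sheaf has one-element stalks at some geometric point over each point. -/
def HasTrivialStalksOff (F : Sheaf X.smallEtaleTopology A) : Prop :=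
  ∀ x : X, x ∉ Set.range i.base → ∃ (Ω : Type u) (_ : Field Ω) (_ : IsSepClosed Ω)
    (η : Spec (CommRingCat.of Ω) ⟶ X), η.base default = x ∧
      Subsingleton (ToType ((Scheme.pointSmallEtale η).sheafFiber.obj F)) ∧
      Nonempty (ToType ((Scheme.pointSmallEtale η).sheafFiber.obj F))

/-- The unit is an isomorphism when the stalks off the closed subscheme are trivial. -/
theorem isIso_unit (F : Sheaf X.smallEtaleTopology A) (hF : HasTrivialStalksOff i F) :
    IsIso (((EtCoh.bc i).sheafAdjunctionContinuous A X.smallEtaleTopology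
      Z.smallEtaleTopology).unit.app F) := by
  refine isIso_of_stalks (FA := FA) _ fun x => ?_
  set u := ((EtCoh.bc i).sheafAdjunctionContinuous A X.smallEtaleTopology
    Z.smallEtaleTopology).unit.app F
  by_cases hx : x ∈ Set.range i.base
  · obtain ⟨z, rfl⟩ := hx
    refine ⟨_, inferInstance, inferInstance, geomPoint Z z ≫ i, ?_, ?_⟩
    · exact congrArg i.base (geomPoint_apply z _)
    have h1 := UnitStalk.isIso_unitStalk i (geomPoint Z z) A F
    have h2 : IsIso ((germTo i A (rfl : geomPoint Z z ≫ i = geomPoint Z z ≫ i)).app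
        (((EtCoh.bc i).sheafPullback A X.smallEtaleTopology Z.smallEtaleTopology).obj F)) :=
      (ConcreteCategory.isIso_iff_bijective (C := A) (FC := FA) _).2
        (Immersion.germTo_bijective_of_isClosedImmersion (FA := FA) i rfl _)
    have h3 : IsIso ((Scheme.pointSmallEtale (geomPoint Z z ≫ i)).sheafFiber.map u) :=
      have : IsIso ((Scheme.pointSmallEtale (geomPoint Z z ≫ i)).sheafFiber.map u ≫ _) := h1
      IsIso.of_isIso_comp_right _ ((germTo i A (rfl : geomPoint Z z ≫ i = geomPoint Z z ≫ i)).app _)
    exact (ConcreteCategory.isIso_iff_bijective (C := A) (FC := FA) _).1 h3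
  · obtain ⟨Ω, _, _, η, hη, hs, ⟨a⟩⟩ := hF x hx
    refine ⟨Ω, _, inferInstance, η, hη, fun p q _ => hs.elim p q, fun b => ⟨a, ?_⟩⟩
    exact Immersion.stalk_push_eq_of_disjoint (FA := FA) i (hη ▸ hx) _ _ _

include funLike concrete preservesColim preservesLim reflectsIso in
/-- The essential image of direct image along a closed immersion. -/
theorem essImage_iff (F : Sheaf X.smallEtaleTopology A) :
    ((EtCoh.bc i).sheafPushforwardContinuous A X.smallEtaleTopology Z.smallEtaleTopology).essImage F ↔
      IsIso (((EtCoh.bc i).sheafAdjunctionContinuous A X.smallEtaleTopology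
        Z.smallEtaleTopology).unit.app F) := by
  have := Immersion.isIso_counit_of_isClosedImmersion (FA := FA) i
  have := ((EtCoh.bc i).sheafAdjunctionContinuous A X.smallEtaleTopology
    Z.smallEtaleTopology).fullyFaithfulROfIsIsoCounit.full
  have := ((EtCoh.bc i).sheafAdjunctionContinuous A X.smallEtaleTopology
    Z.smallEtaleTopology).fullyFaithfulROfIsIsoCounit.faithful
  exact (((EtCoh.bc i).sheafAdjunctionContinuous A X.smallEtaleTopology
    Z.smallEtaleTopology).isIso_unit_app_iff_mem_essImage).symm

end Groth.Agent.Lib.EtSite.ClosedEssImage
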