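import Groth.Prelude.Def_EtBCD
import Groth.Agent.Lib.EtSite.UnitStalk

/-!
# Base change for direct images along integral morphisms
-/

universe u

open CategoryTheory CategoryTheory.Limits AlgebraicGeometry Opposite

namespace Groth.Agent.Lib.EtSite.BaseChange

open Groth.Agent.Lib.EtSite.Basic Groth.Agent.Lib.EtSite.Stalk Groth.Agent.Lib.EtSite.DisjointCover
  Groth.Agent.Lib.EtSite.PushStalk Groth.Agent.Lib.EtSite.UnitStalk

variable {X Y X' Y' : Scheme.{u}} {f : X ⟶ Y} {g : Y' ⟶ Y} {f' : X' ⟶ Y'} {g' : X' ⟶ X}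

/-- A comparison between the two iterated base changes of an étale `Y`-scheme. -/
structure Cmp (f : X ⟶ Y) (g : Y' ⟶ Y) (f' : X' ⟶ Y') (g' : X' ⟶ X) (V : Y.Etale) where
  /-- the morphism -/
  hom : (EtCoh.bc f').obj ((EtCoh.bc g).obj V) ⟶ (EtCoh.bc g').obj ((EtCoh.bc f).obj V)
  fst_fst : hom.left ≫ pullback.fst ((EtCoh.bc f).obj V).hom g' ≫ pullback.fst V.hom f =
    pullback.fst ((EtCoh.bc g).obj V).hom f' ≫ pullback.fst V.hom g

theorem pullbackComp_inv_fst {Z W S : Scheme.{u}} (a : Z ⟶ W) (b : W ⟶ S) (V : S.Etale) :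
    ((MorphismProperty.Over.pullbackComp (P := EtCoh.etaleMP) (Q := ⊤) a b).inv.app V).left ≫
        pullback.fst V.hom (a ≫ b) =
      pullback.fst (pullback.snd V.hom b) a ≫ pullback.fst V.hom b := by
  have h := MorphismProperty.Over.pullbackComp_left_fst_fst (P := EtCoh.etaleMP) (Q := ⊤) a b V
  have h2 : ((MorphismProperty.Over.pullbackComp (P := EtCoh.etaleMP) (Q := ⊤) a b).inv.app V).left ≫
      ((MorphismProperty.Over.pullbackComp (P := EtCoh.etaleMP) (Q := ⊤) a b).hom.app V).left = 𝟙 _ := by
    rw [← MorphismProperty.Comma.comp_left, Iso.inv_hom_id_app]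
    rfl
  exact ((_ ≫= h.symm).trans (Category.assoc _ _ _).symm).trans
    ((congrArg (· ≫ pullback.fst (pullback.snd V.hom b) a ≫ pullback.fst V.hom b) h2).trans
      (Category.id_comp _))

theorem pullbackCongr_inv_fst {Z S : Scheme.{u}} {a b : Z ⟶ S} (h : a = b) (V : S.Etale) :
    ((MorphismProperty.Over.pullbackCongr (P := EtCoh.etaleMP) (Q := ⊤) h).inv.app V).left ≫
      pullback.fst V.hom a = pullback.fst V.hom b := by
  have h1 := MorphismProperty.Over.pullbackCongr_hom_app_left_fst (P := EtCoh.etaleMP) (Q := ⊤) h V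
  have h2 : ((MorphismProperty.Over.pullbackCongr (P := EtCoh.etaleMP) (Q := ⊤) h).inv.app V).left ≫
      ((MorphismProperty.Over.pullbackCongr (P := EtCoh.etaleMP) (Q := ⊤) h).hom.app V).left = 𝟙 _ := by
    rw [← MorphismProperty.Comma.comp_left, Iso.inv_hom_id_app]
    rfl
  exact ((_ ≫= h1.symm).trans (Category.assoc _ _ _).symm).trans
    ((congrArg (· ≫ pullback.fst V.hom b) h2).trans (Category.id_comp _))

/-- The comparison coming from the two composition isomorphisms. -/
noncomputable def cmp (w : g' ≫ f = f' ≫ g) (V : Y.Etale) : Cmp f g f' g' V where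
  hom := (MorphismProperty.Over.pullbackComp (P := EtCoh.etaleMP) (Q := ⊤) f' g).inv.app V ≫
    (MorphismProperty.Over.pullbackCongr (P := EtCoh.etaleMP) (Q := ⊤) w).inv.app V ≫
    (MorphismProperty.Over.pullbackComp (P := EtCoh.etaleMP) (Q := ⊤) g' f).hom.app V
  fst_fst := by
    have e1 := MorphismProperty.Over.pullbackComp_left_fst_fst (P := EtCoh.etaleMP) (Q := ⊤) g' f V
    refine (Category.assoc _ _ _).trans ((_ ≫= (Category.assoc _ _ _).trans (_ ≫= e1)).trans ?_)
    exact ((_ ≫= pullbackCongr_inv_fst w V).trans (pullbackComp_inv_fst f' g V) :)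

theorem Cmp.map_liftPt {Ω : Type u} [Field Ω] [IsSepClosed Ω] {η : Spec (CommRingCat.of Ω) ⟶ Y'}
    {ξ : Spec (CommRingCat.of Ω) ⟶ X'} (h : ξ ≫ f' = η) (hξ : (ξ ≫ g') ≫ f = η ≫ g)
    {V : Y.Etale} (c : Cmp f g f' g' V) (p : (Scheme.pointSmallEtale (η ≫ g)).fiber.obj V) :
    (Scheme.pointSmallEtale ξ).fiber.map c.hom
        (liftPt f' h _ (liftPt g (rfl : η ≫ g = η ≫ g) V p)) =
      liftPt g' rfl _ (liftPt f hξ V p) := by
  apply Over.OverMorphism.ext
  apply pullback.hom_ext
  · apply pullback.hom_ext
    · refine (Category.assoc _ _ _).trans ?_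
      refine ((Category.assoc _ _ _).trans (_ ≫= c.fst_fst)).trans ?_
      refine (Category.assoc _ _ _).symm.trans ?_
      refine Eq.trans (congrArg (· ≫ pullback.fst V.hom g) (pullback.lift_fst _ _ _)) ?_
      refine (pullback.lift_fst _ _ _).trans ?_
      refine ((Category.assoc _ _ _).symm.trans ?_).symm
      exact (congrArg (· ≫ pullback.fst V.hom f) (pullback.lift_fst _ _ _)).trans (pullback.lift_fst _ _ _)
    · refine (Category.assoc _ _ _).trans ?_
      refine (_ ≫= pullback.condition (f := ((EtCoh.bc f).obj V).hom) (g := g')).trans ?_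
      refine (Category.assoc _ _ _).symm.trans ?_
      refine Eq.trans (congrArg (· ≫ g') ((Category.assoc _ _ _).trans
        ((_ ≫= (Over.w c.hom.hom :)).trans (pullback.lift_snd _ _ _)))) ?_
      refine ((Category.assoc _ _ _).symm.trans ?_).symm
      exact (congrArg (· ≫ pullback.snd V.hom f) (pullback.lift_fst _ _ _)).trans (pullback.lift_snd _ _ _)
  · refine (Category.assoc _ _ _).trans ?_
    refine (_ ≫= (Over.w c.hom.hom :)).trans ?_
    exact (pullback.lift_snd _ _ _).trans (pullback.lift_snd _ _ _).symm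

section

variable {A : Type (u + 2)} [Category.{u + 1} A] {FA : A → A → Type*}
  {CA : A → Type (u + 1)} [funLike : ∀ M N, FunLike (FA M N) (CA M) (CA N)]
  [concrete : ConcreteCategory.{u + 1} A FA]
  [HasProducts.{u} A] [HasColimitsOfSize.{u, u} A]
  [preservesColim : PreservesFilteredColimitsOfSize.{u, u} (forget A)]
  [preservesLim : PreservesLimitsOfSize.{u + 1, u + 1} (forget A)]
  [reflectsIso : (forget A).ReflectsIsomorphisms]
  [((EtCoh.bc g').sheafPushforwardContinuous A X.smallEtaleTopology
    X'.smallEtaleTopology).IsRightAdjoint]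

/-- Germs agree exactly on the open locus of local agreement. -/
theorem toPresheafFiber_eq_iff_mem {Z : Scheme.{u}} {Ω : Type u} [Field Ω] [IsSepClosed Ω]
    {ξ : Spec (CommRingCat.of Ω) ⟶ Z} (P : Z.Etaleᵒᵖ ⥤ A) (T : Z.Etale) (s t : ToType (P.obj (op T)))
    (p : (Scheme.pointSmallEtale ξ).fiber.obj T) :
    (Scheme.pointSmallEtale ξ).toPresheafFiber T p P s =
        (Scheme.pointSmallEtale ξ).toPresheafFiber T p P t ↔
      fiberPt p ∈ {x : T.left | ∃ (W : Z.Etale) (a : W ⟶ T), P.map a.op s = P.map a.op t ∧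
        x ∈ Set.range a.left.base} := by
  constructor
  · intro h
    obtain ⟨W, a, q, hq, e⟩ := ((Scheme.pointSmallEtale ξ).toPresheafFiber_eq_iff' T p s t).1 h
    exact ⟨W, a, e, fiberPt q, (fiberPt_map a q).symm.trans (congrArg fiberPt hq)⟩
  · rintro ⟨W, a, e, w, hw⟩
    obtain ⟨q, hq, -⟩ := Fiber.exists_fiber_map ξ a p w hw
    exact ((Scheme.pointSmallEtale ξ).toPresheafFiber_eq_iff' T p s t).2 ⟨W, a, q, hq, e⟩

theorem isOpen_agree {Z : Scheme.{u}} (P : Z.Etaleᵒᵖ ⥤ A) (T : Z.Etale) (s t : ToType (P.obj (op T))) :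
    IsOpen {x : T.left | ∃ (W : Z.Etale) (a : W ⟶ T), P.map a.op s = P.map a.op t ∧
      x ∈ Set.range a.left.base} := by
  rw [isOpen_iff_forall_mem_open]
  rintro x ⟨W, a, e, hx⟩
  exact ⟨_, fun y hy => ⟨W, a, e, hy⟩, Fiber.isOpen_range_left a, hx⟩

include funLike concrete preservesColim preservesLim reflectsIso in
/-- Base change along an integral morphism, on stalks. -/
theorem bijective_stalk (sq : IsPullback g' f' f g) [IsIntegralHom f] {Ω : Type u} [Field Ω]
    [IsAlgClosed Ω] (η : Spec (CommRingCat.of Ω) ⟶ Y') (F : Sheaf X.smallEtaleTopology A)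
    (h : ((EtCoh.bc f).sheafPushforwardContinuous A Y.smallEtaleTopology X.smallEtaleTopology).obj F ⟶
      ((EtCoh.bc g).sheafPushforwardContinuous A Y.smallEtaleTopology Y'.smallEtaleTopology).obj
        (((EtCoh.bc f').sheafPushforwardContinuous A Y'.smallEtaleTopology X'.smallEtaleTopology).obj
          (((EtCoh.bc g').sheafPullback A X.smallEtaleTopology X'.smallEtaleTopology).obj F)))
    (hh : ∀ V : Y.Etale, ∃ c : Cmp f g f' g' V, h.hom.app (op V) =
      (((EtCoh.bc g').sheafAdjunctionContinuous A X.smallEtaleTopology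
        X'.smallEtaleTopology).unit.app F).hom.app (op ((EtCoh.bc f).obj V)) ≫
      (((EtCoh.bc g').sheafPullback A X.smallEtaleTopology X'.smallEtaleTopology).obj F).obj.map c.hom.op) :
    Function.Bijective ((Scheme.pointSmallEtale (η ≫ g)).sheafFiber.map h ≫
      (germTo g A (rfl : η ≫ g = η ≫ g)).app _) := by
  classical
  have : IsIntegralHom f' := MorphismProperty.of_isPullback (P := @IsIntegralHom) sq ‹_›
  let G := ((EtCoh.bc g').sheafPullback A X.smallEtaleTopology X'.smallEtaleTopology).obj F
  set Θ := (Scheme.pointSmallEtale (η ≫ g)).sheafFiber.map h ≫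
    (germTo g A (rfl : η ≫ g = η ≫ g)).app
      (((EtCoh.bc f').sheafPushforwardContinuous A Y'.smallEtaleTopology X'.smallEtaleTopology).obj G)
  -- compatibility with restriction of germs
  have key : ∀ (ξ : Spec (CommRingCat.of Ω) ⟶ X') (hξ : ξ ≫ f' = η)
      (hξ' : (ξ ≫ g') ≫ f = η ≫ g) (V : Y.Etale) (p : (Scheme.pointSmallEtale (η ≫ g)).fiber.obj V)
      (s : ToType (F.obj.obj (op ((EtCoh.bc f).obj V)))),
      (germTo f' A hξ).app G (Θ ((Scheme.pointSmallEtale (η ≫ g)).toPresheafFiber V p
        (((EtCoh.bc f).sheafPushforwardContinuous A Y.smallEtaleTopology X.smallEtaleTopology).obj F).obj s)) =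
      unitStalk g' ξ A F ((Scheme.pointSmallEtale (ξ ≫ g')).toPresheafFiber _ (liftPt f hξ' V p) F.obj s) := by
    intro ξ hξ hξ' V p s
    obtain ⟨c, hc⟩ := hh V
    have e1 : Θ ((Scheme.pointSmallEtale (η ≫ g)).toPresheafFiber V p
        (((EtCoh.bc f).sheafPushforwardContinuous A Y.smallEtaleTopology X.smallEtaleTopology).obj F).obj s) =
        (Scheme.pointSmallEtale η).toPresheafFiber _ (liftPt g rfl V p)
          (((EtCoh.bc f').sheafPushforwardContinuous A Y'.smallEtaleTopology X'.smallEtaleTopology).obj G).obj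
          (h.hom.app (op V) s) := by
      refine (ConcreteCategory.comp_apply _ _ _).trans ?_
      refine (congrArg ((germTo g A (rfl : η ≫ g = η ≫ g)).app _)
        ((Scheme.pointSmallEtale (η ≫ g)).toPresheafFiber_naturality_apply h.hom V p s)).trans ?_
      exact germTo_toPresheafFiber g rfl _ V p _
    rw [e1]
    refine (germTo_toPresheafFiber f' hξ G _ (liftPt g rfl V p) _).trans ?_
    rw [hc]
    erw [ConcreteCategory.comp_apply]
    refine ((Scheme.pointSmallEtale ξ).toPresheafFiber_w_apply c.hom _ G.obj _).trans ?_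
    rw [c.map_liftPt hξ hξ']
    refine Eq.symm ((ConcreteCategory.comp_apply _ _ _).trans ?_)
    refine (congrArg ((germTo g' A (rfl : ξ ≫ g' = ξ ≫ g')).app _)
      ((Scheme.pointSmallEtale (ξ ≫ g')).toPresheafFiber_naturality_apply _ _ _ s)).trans ?_
    exact germTo_toPresheafFiber g' rfl _ _ _ _
  have hbij : ∀ ξ : Spec (CommRingCat.of Ω) ⟶ X', Function.Bijective (unitStalk g' ξ A F) := fun ξ =>
    have := isIso_unitStalk g' ξ A F
    (ConcreteCategory.isIso_iff_bijective (C := A) (FC := FA) _).1 inferInstance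
  have hover : ∀ {ξ : Spec (CommRingCat.of Ω) ⟶ X'}, ξ ≫ f' = η → (ξ ≫ g') ≫ f = η ≫ g := fun hξ =>
    (Category.assoc _ _ _).trans ((_ ≫= sq.w).trans ((Category.assoc _ _ _).symm.trans (by rw [hξ])))
  constructor
  · intro z z' e
    obtain ⟨V₁, p₁, s₁, rfl⟩ := (Scheme.pointSmallEtale (η ≫ g)).toPresheafFiber_jointly_surjective z
    obtain ⟨V₂, p₂, s₂, rfl⟩ := (Scheme.pointSmallEtale (η ≫ g)).toPresheafFiber_jointly_surjective z'
    let W := IsCofiltered.min ((Scheme.pointSmallEtale (η ≫ g)).fiber.elementsMk V₁ p₁)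
      ((Scheme.pointSmallEtale (η ≫ g)).fiber.elementsMk V₂ p₂)
    let a : W ⟶ (Scheme.pointSmallEtale (η ≫ g)).fiber.elementsMk V₁ p₁ := IsCofiltered.minToLeft _ _
    let b : W ⟶ (Scheme.pointSmallEtale (η ≫ g)).fiber.elementsMk V₂ p₂ := IsCofiltered.minToRight _ _
    have ha : (Scheme.pointSmallEtale (η ≫ g)).fiber.map a.1 W.2 = p₁ := a.2
    have hb : (Scheme.pointSmallEtale (η ≫ g)).fiber.map b.1 W.2 = p₂ := b.2
    rw [← ha, ← hb] at e ⊢
    erw [← GrothendieckTopology.Point.toPresheafFiber_w_apply,
      ← GrothendieckTopology.Point.toPresheafFiber_w_apply] at e ⊢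
    refine toPresheafFiber_push_ext f F W.1 W.2 (exists_lift_of_isIntegralHom f W.1 W.2) _ _ fun x hx => ?_
    obtain ⟨ξ, hξ, rfl⟩ : ∃ ξ, ξ ≫ f' = η ∧ ξ ≫ g' = x :=
      ⟨sq.lift x η hx, sq.lift_snd _ _ _, sq.lift_fst _ _ _⟩
    exact (hbij ξ).1 ((key ξ hξ hx _ _ _).symm.trans
      ((congrArg ((germTo f' A hξ).app G) e).trans (key ξ hξ hx _ _ _)))
  · intro z
    obtain ⟨V', p', s', rfl⟩ := (Scheme.pointSmallEtale η).toPresheafFiber_jointly_surjective z
    let top := EtCoh.top Y
    let p : (Scheme.pointSmallEtale (η ≫ g)).fiber.obj top := mkFiber _ top (η ≫ g) (Category.comp_id _)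
    let ι := {x : Spec (CommRingCat.of Ω) ⟶ X // x ≫ f = η ≫ g}
    let lft : ι → (Spec (CommRingCat.of Ω) ⟶ X') := fun x => sq.lift x.1 η x.2
    have hl1 : ∀ x, lft x ≫ g' = x.1 := fun x => sq.lift_fst _ _ _
    have hl2 : ∀ x, lft x ≫ f' = η := fun x => sq.lift_snd _ _ _
    have hu : ∀ x : ι, ∃ (U : X.Etale) (q : (Scheme.pointSmallEtale (lft x ≫ g')).fiber.obj U)
        (u : ToType (F.obj.obj (op U))),
        unitStalk g' (lft x) A F ((Scheme.pointSmallEtale (lft x ≫ g')).toPresheafFiber U q F.obj u) =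
          (Scheme.pointSmallEtale (lft x)).toPresheafFiber _ (liftPt f' (hl2 x) V' p') G.obj s' := by
      intro x
      obtain ⟨y, hy⟩ := (hbij (lft x)).2
        ((Scheme.pointSmallEtale (lft x)).toPresheafFiber _ (liftPt f' (hl2 x) V' p') G.obj s')
      obtain ⟨U, q, u, rfl⟩ := (Scheme.pointSmallEtale (lft x ≫ g')).toPresheafFiber_jointly_surjective y
      exact ⟨U, q, u, hy⟩
    choose U q u hu using hu
    let gg : ∀ x, U x ⟶ (EtCoh.bc f).obj top := fun x =>
      MorphismProperty.Over.homMk (pullback.lift ((U x).hom ≫ f) (U x).hom (Category.comp_id _))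
        (pullback.lift_snd _ _ _)
    -- the predicate on lifts
    let W : ∀ x, Set (Spec (CommRingCat.of Ω) ⟶ (U x).left) := fun x =>
      {l | ∃ (ξ : Spec (CommRingCat.of Ω) ⟶ X') (hξ : ξ ≫ f' = η) (hl : l ≫ (U x).hom = ξ ≫ g'),
        unitStalk g' ξ A F ((Scheme.pointSmallEtale (ξ ≫ g')).toPresheafFiber (U x)
          (mkFiber _ (U x) l hl) F.obj (u x)) =
          (Scheme.pointSmallEtale ξ).toPresheafFiber _ (liftPt f' hξ V' p') G.obj s'}
    obtain ⟨V'', a, p'', -, n, D, o, i, b, hD, hb, hW⟩ :=
      IntegralRefine.exists_refinement f top p U gg W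
        (fun x l hl => by
          -- common étale neighbourhood on `X'`
          let U' := (EtCoh.bc g').obj (U x)
          let P' := (EtCoh.bc f').obj V'
          have : Etale U'.hom := U'.prop
          have : Etale P'.hom := P'.prop
          let T : X'.Etale := MorphismProperty.Over.mk ⊤ (pullback.fst U'.hom P'.hom ≫ U'.hom)
            (MorphismProperty.comp_mem @Etale _ _
              (MorphismProperty.pullback_fst (P := @Etale) _ _ P'.prop) U'.prop)
          let t₁ : T ⟶ U' := MorphismProperty.Over.homMk (pullback.fst U'.hom P'.hom) rfl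
          let t₂ : T ⟶ P' := MorphismProperty.Over.homMk (pullback.snd U'.hom P'.hom)
            pullback.condition.symm
          let sT : ToType (G.obj.obj (op T)) := G.obj.map t₁.op
            ((((EtCoh.bc g').sheafAdjunctionContinuous A X.smallEtaleTopology
              X'.smallEtaleTopology).unit.app F).hom.app (op (U x)) (u x))
          let sT' : ToType (G.obj.obj (op T)) := G.obj.map t₂.op s'
          let E := {y : T.left | ∃ (W : X'.Etale) (a : W ⟶ T), G.obj.map a.op sT = G.obj.map a.op sT' ∧
            y ∈ Set.range a.left.base}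
          let Q := pullback ((gg x).left ≫ pullback.fst top.hom f) (fiberHom p)
          let α : Q ⟶ (U x).left := pullback.fst _ _
          let β : Q ⟶ Spec (CommRingCat.of Ω) := pullback.snd _ _
          have hαβ : (α ≫ (U x).hom) ≫ f = (β ≫ η) ≫ g := by
            refine ((Category.assoc _ _ _).trans ((α ≫= ?_).trans pullback.condition)).trans
              (Category.assoc _ _ _).symm
            exact (pullback.lift_fst _ _ _).symm
          let γ : Q ⟶ X' := sq.lift (α ≫ (U x).hom) (β ≫ η) hαβ
          let φ₁ : Q ⟶ U'.left := pullback.lift α γ (sq.lift_fst _ _ _).symm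
          let φ₂ : Q ⟶ P'.left := pullback.lift (β ≫ fiberHom p') γ
            ((Category.assoc _ _ _).trans ((β ≫= fiberHom_comp p').trans (sq.lift_snd _ _ _).symm))
          let φ : Q ⟶ T.left := pullback.lift φ₁ φ₂
            ((pullback.lift_snd _ _ _).trans (pullback.lift_snd _ _ _).symm)
          have hs : ∀ s : Spec (CommRingCat.of Ω) ⟶ Q, s ≫ β = 𝟙 _ →
              (s ≫ α ∈ W x ↔ φ.base (s.base default) ∈ E) := by
            intro s hs
            let ξ := s ≫ γ
            have hξ : ξ ≫ f' = η := (Category.assoc _ _ _).trans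
              ((s ≫= sq.lift_snd _ _ _).trans ((Category.assoc _ _ _).symm.trans
                ((congrArg (· ≫ η) hs).trans (Category.id_comp _))))
            have hl : (s ≫ α) ≫ (U x).hom = ξ ≫ g' :=
              (Category.assoc _ _ _).trans
                ((s ≫= (sq.lift_fst _ _ _).symm).trans (Category.assoc _ _ _).symm)
            let pT : (Scheme.pointSmallEtale ξ).fiber.obj T := mkFiber ξ T (s ≫ φ) (by
              change (s ≫ φ) ≫ pullback.fst U'.hom P'.hom ≫ U'.hom = s ≫ γ
              exact (Category.assoc _ _ _).trans (s ≫= ((Category.assoc _ _ _).symm.trans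
                ((congrArg (· ≫ U'.hom) (pullback.lift_fst _ _ _)).trans (pullback.lift_snd _ _ _)))))
            have h₁ : (Scheme.pointSmallEtale ξ).fiber.map t₁ pT =
                liftPt g' rfl (U x) (mkFiber _ (U x) (s ≫ α) hl) := by
              apply Over.OverMorphism.ext
              apply pullback.hom_ext
              · refine Eq.trans ?_ (pullback.lift_fst _ _ _).symm
                refine (Category.assoc _ _ _).trans ((Category.assoc _ _ _).trans (s ≫= ?_))
                exact (Category.assoc _ _ _).symm.trans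
                  ((congrArg (· ≫ pullback.fst _ _) (pullback.lift_fst _ _ _)).trans (pullback.lift_fst _ _ _))
              · refine Eq.trans ?_ (pullback.lift_snd _ _ _).symm
                refine (Category.assoc _ _ _).trans ((Category.assoc _ _ _).trans (s ≫= ?_))
                exact (Category.assoc _ _ _).symm.trans
                  ((congrArg (· ≫ pullback.snd _ _) (pullback.lift_fst _ _ _)).trans (pullback.lift_snd _ _ _))
            have h₂ : (Scheme.pointSmallEtale ξ).fiber.map t₂ pT = liftPt f' hξ V' p' := by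
              apply Over.OverMorphism.ext
              apply pullback.hom_ext
              · refine Eq.trans ?_ (pullback.lift_fst _ _ _).symm
                refine (Category.assoc _ _ _).trans ((Category.assoc _ _ _).trans ?_)
                refine (s ≫= ((Category.assoc _ _ _).symm.trans
                  ((congrArg (· ≫ pullback.fst _ _) (pullback.lift_snd _ _ _)).trans
                    (pullback.lift_fst _ _ _)))).trans ?_
                exact (Category.assoc _ _ _).symm.trans
                  ((congrArg (· ≫ fiberHom p') hs).trans (Category.id_comp _))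
              · refine Eq.trans ?_ (pullback.lift_snd _ _ _).symm
                refine (Category.assoc _ _ _).trans ((Category.assoc _ _ _).trans (s ≫= ?_))
                exact (Category.assoc _ _ _).symm.trans
                  ((congrArg (· ≫ pullback.snd _ _) (pullback.lift_snd _ _ _)).trans (pullback.lift_snd _ _ _))
            have hiff := toPresheafFiber_eq_iff_mem G.obj T sT sT' pT
            have e₁ : (Scheme.pointSmallEtale ξ).toPresheafFiber T pT G.obj sT =
                unitStalk g' ξ A F ((Scheme.pointSmallEtale (ξ ≫ g')).toPresheafFiber (U x)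
                  (mkFiber _ (U x) (s ≫ α) hl) F.obj (u x)) := by
              refine ((Scheme.pointSmallEtale ξ).toPresheafFiber_w_apply t₁ pT G.obj _).trans ?_
              rw [h₁]
              refine Eq.symm ((ConcreteCategory.comp_apply _ _ _).trans ?_)
              refine (congrArg ((germTo g' A (rfl : ξ ≫ g' = ξ ≫ g')).app _)
                ((Scheme.pointSmallEtale (ξ ≫ g')).toPresheafFiber_naturality_apply _ _ _ _)).trans ?_
              exact germTo_toPresheafFiber g' rfl _ _ _ _
            have e₂ : (Scheme.pointSmallEtale ξ).toPresheafFiber T pT G.obj sT' =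
                (Scheme.pointSmallEtale ξ).toPresheafFiber _ (liftPt f' hξ V' p') G.obj s' := by
              refine ((Scheme.pointSmallEtale ξ).toPresheafFiber_w_apply t₂ pT G.obj _).trans ?_
              rw [h₂]
            refine ⟨?_, fun hmem => ⟨ξ, hξ, hl, e₁.symm.trans ((hiff.2 hmem).trans e₂)⟩⟩
            rintro ⟨ξ', hξ', hl', he⟩
            obtain rfl : ξ' = ξ := sq.hom_ext (hl'.symm.trans hl) (hξ'.trans hξ.symm)
            exact hiff.1 (e₁.trans (he.trans e₂.symm))
          refine ⟨φ.base ⁻¹' E, (isOpen_agree G.obj T sT sT').preimage φ.continuous,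
            fun s hs1 hs2 => (hs s hs1).1 ?_, fun s hs1 hs2 => (hs s hs1).2 hs2⟩
          change s ≫ pullback.fst _ _ ∈ W x
          exact hs2.symm ▸ hl)
        (fun x hx => by
          have hx' := snd_comp_eq f hx
          let k : ι := ⟨x ≫ pullback.snd top.hom f, hx'⟩
          have hq : fiberHom (q k) ≫ (U k).hom = lft k ≫ g' := fiberHom_comp (q k)
          refine ⟨k, fiberHom (q k), ⟨lft k, hl2 k, hq, hu k⟩, pullback.hom_ext ?_ ?_⟩
          · refine (Category.assoc _ _ _).trans ((_ ≫= pullback.lift_fst _ _ _).trans ?_)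
            refine (Category.assoc _ _ _).symm.trans ((congrArg (· ≫ f) (hq.trans (hl1 k))).trans ?_)
            exact hx'.trans hx.symm
          · exact (Category.assoc _ _ _).trans
              ((_ ≫= pullback.lift_snd _ _ _).trans (hq.trans (hl1 k))))
    obtain ⟨s, hs⟩ := hD.exists_glue F fun j => F.obj.map (b j).op (u (i j))
    refine ⟨(Scheme.pointSmallEtale (η ≫ g)).toPresheafFiber V'' p''
      (((EtCoh.bc f).sheafPushforwardContinuous A Y.smallEtaleTopology X.smallEtaleTopology).obj F).obj s, ?_⟩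
    -- compare germs at every point above
    let L := ((EtCoh.bc g).obj V'')
    obtain ⟨c, hc⟩ := hh V''
    let q'' := liftPt g (rfl : η ≫ g = η ≫ g) V'' p''
    let z₁ : ToType ((((EtCoh.bc f').sheafPushforwardContinuous A Y'.smallEtaleTopology
        X'.smallEtaleTopology).obj G).obj.obj (op L)) := h.hom.app (op V'') s
    have e1 : Θ ((Scheme.pointSmallEtale (η ≫ g)).toPresheafFiber V'' p''
        (((EtCoh.bc f).sheafPushforwardContinuous A Y.smallEtaleTopology X.smallEtaleTopology).obj F).obj s) =
        (Scheme.pointSmallEtale η).toPresheafFiber L q''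
          (((EtCoh.bc f').sheafPushforwardContinuous A Y'.smallEtaleTopology X'.smallEtaleTopology).obj G).obj
          z₁ := by
      refine (ConcreteCategory.comp_apply _ _ _).trans ?_
      refine (congrArg ((germTo g A (rfl : η ≫ g = η ≫ g)).app _)
        ((Scheme.pointSmallEtale (η ≫ g)).toPresheafFiber_naturality_apply h.hom V'' p'' s)).trans ?_
      exact germTo_toPresheafFiber g rfl _ V'' p'' _
    rw [e1]
    let M := IsCofiltered.min ((Scheme.pointSmallEtale η).fiber.elementsMk L q'')
      ((Scheme.pointSmallEtale η).fiber.elementsMk V' p')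
    let m₁ : M ⟶ (Scheme.pointSmallEtale η).fiber.elementsMk L q'' := IsCofiltered.minToLeft _ _
    let m₂ : M ⟶ (Scheme.pointSmallEtale η).fiber.elementsMk V' p' := IsCofiltered.minToRight _ _
    have hm₁ : (Scheme.pointSmallEtale η).fiber.map m₁.1 M.2 = q'' := m₁.2
    have hm₂ : (Scheme.pointSmallEtale η).fiber.map m₂.1 M.2 = p' := m₂.2
    refine (congrArg (fun q => (Scheme.pointSmallEtale η).toPresheafFiber L q
      (((EtCoh.bc f').sheafPushforwardContinuous A Y'.smallEtaleTopology X'.smallEtaleTopology).obj G).obj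
      z₁) hm₁.symm).trans ?_
    refine Eq.trans ?_ (congrArg (fun q => (Scheme.pointSmallEtale η).toPresheafFiber V' q
      (((EtCoh.bc f').sheafPushforwardContinuous A Y'.smallEtaleTopology X'.smallEtaleTopology).obj G).obj
      s') hm₂)
    erw [← GrothendieckTopology.Point.toPresheafFiber_w_apply,
      ← GrothendieckTopology.Point.toPresheafFiber_w_apply]
    refine toPresheafFiber_push_ext f' G M.1 M.2 (exists_lift_of_isIntegralHom f' M.1 M.2) _ _
      fun ξ hξ => ?_
    refine ((germTo_toPresheafFiber f' hξ G M.1 M.2 _).symm.trans ?_).trans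
      (germTo_toPresheafFiber f' hξ G M.1 M.2 _)
    erw [GrothendieckTopology.Point.toPresheafFiber_w_apply,
      GrothendieckTopology.Point.toPresheafFiber_w_apply]
    rw [hm₁, hm₂]
    refine Eq.trans ?_ (germTo_toPresheafFiber f' hξ G V' p' s').symm
    refine (congrArg ((germTo f' A hξ).app G) e1.symm).trans ((key ξ hξ (hover hξ) V'' p'' s).trans ?_)
    obtain ⟨j, l, hl⟩ := hD.exists_fac (fiberHom (liftPt f (hover hξ) V'' p''))
    have hlD : l ≫ (D j).hom = ξ ≫ g' := by
      refine (l ≫= (Over.w (o j).hom).symm).trans ((Category.assoc _ _ _).symm.trans ?_)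
      exact (congrArg (· ≫ ((EtCoh.bc f).obj V'').hom) hl).trans (fiberHom_comp _)
    obtain ⟨ξ', hξ', hl', he⟩ := hW j l ((Category.assoc _ _ _).symm.trans
      ((congrArg (· ≫ pullback.fst V''.hom f) hl).trans (pullback.lift_fst _ _ _)))
    obtain rfl : ξ' = ξ := sq.hom_ext
      ((hl'.symm.trans ((Category.assoc _ _ _).trans (l ≫= (Over.w (b j).hom :)))).trans hlD)
      (hξ'.trans hξ.symm)
    refine Eq.trans (congrArg (unitStalk g' ξ' A F) ?_) he
    let lD : (Scheme.pointSmallEtale (ξ' ≫ g')).fiber.obj (D j) := mkFiber _ (D j) l hlD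
    have h1 : (Scheme.pointSmallEtale (ξ' ≫ g')).fiber.map (o j) lD = liftPt f (hover hξ) V'' p'' :=
      Over.OverMorphism.ext hl
    have h2 : (Scheme.pointSmallEtale (ξ' ≫ g')).fiber.map (b j) lD = mkFiber _ (U (i j)) _ hl' :=
      Over.OverMorphism.ext rfl
    rw [← h1]
    refine ((Scheme.pointSmallEtale (ξ' ≫ g')).toPresheafFiber_w_apply (o j) lD F.obj s).symm.trans ?_
    rw [hs]
    refine ((Scheme.pointSmallEtale (ξ' ≫ g')).toPresheafFiber_w_apply (b j) lD F.obj _).trans ?_
    rw [h2]

variable [((EtCoh.bc g).sheafPushforwardContinuous A Y.smallEtaleTopology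
    Y'.smallEtaleTopology).IsRightAdjoint]

include funLike concrete preservesColim preservesLim reflectsIso in
theorem isIso_baseChange (sq : IsPullback g' f' f g) [IsIntegralHom f]
    (F : Sheaf X.smallEtaleTopology A)
    (h : ((EtCoh.bc f).sheafPushforwardContinuous A Y.smallEtaleTopology X.smallEtaleTopology).obj F ⟶
      ((EtCoh.bc g).sheafPushforwardContinuous A Y.smallEtaleTopology Y'.smallEtaleTopology).obj
        (((EtCoh.bc f').sheafPushforwardContinuous A Y'.smallEtaleTopology X'.smallEtaleTopology).obj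
          (((EtCoh.bc g').sheafPullback A X.smallEtaleTopology X'.smallEtaleTopology).obj F)))
    (hh : ∀ V : Y.Etale, ∃ c : Cmp f g f' g' V, h.hom.app (op V) =
      (((EtCoh.bc g').sheafAdjunctionContinuous A X.smallEtaleTopology
        X'.smallEtaleTopology).unit.app F).hom.app (op ((EtCoh.bc f).obj V)) ≫
      (((EtCoh.bc g').sheafPullback A X.smallEtaleTopology X'.smallEtaleTopology).obj F).obj.map c.hom.op) :
    IsIso ((((EtCoh.bc g).sheafAdjunctionContinuous A Y.smallEtaleTopology
      Y'.smallEtaleTopology).homEquiv _ _).symm h) := by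
  set adj := (EtCoh.bc g).sheafAdjunctionContinuous A Y.smallEtaleTopology Y'.smallEtaleTopology
  refine isIso_of_stalks (FA := FA) _ fun y => ?_
  let η := Push.algPoint Y' y
  refine ⟨_, inferInstance, inferInstance, η, Push.algPoint_apply Y' y _, ?_⟩
  have h1 := bijective_stalk (FA := FA) sq η F h hh
  have := isIso_unitStalk g η A
    (((EtCoh.bc f).sheafPushforwardContinuous A Y.smallEtaleTopology X.smallEtaleTopology).obj F)
  have h2 := (ConcreteCategory.isIso_iff_bijective (C := A) (FC := FA) (unitStalk g η A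
    (((EtCoh.bc f).sheafPushforwardContinuous A Y.smallEtaleTopology X.smallEtaleTopology).obj F))).1 this
  have e : unitStalk g η A _ ≫ (Scheme.pointSmallEtale η).sheafFiber.map ((adj.homEquiv _ _).symm h) =
      (Scheme.pointSmallEtale (η ≫ g)).sheafFiber.map h ≫ (germTo g A (rfl : η ≫ g = η ≫ g)).app _ := by
    have hn := (germTo g A (rfl : η ≫ g = η ≫ g)).naturality ((adj.homEquiv _ _).symm h)
    refine (Category.assoc _ _ _).trans ((_ ≫= hn.symm).trans ?_)
    refine (Category.assoc _ _ _).symm.trans ?_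
    rw [Functor.comp_map, ← Functor.map_comp]
    refine congrArg (fun m => (Scheme.pointSmallEtale (η ≫ g)).sheafFiber.map m ≫
      (germTo g A (rfl : η ≫ g = η ≫ g)).app _) ?_
    rw [← Adjunction.homEquiv_unit]
    exact (adj.homEquiv _ _).apply_symm_apply h
  rw [← e] at h1
  have h3 : Function.Bijective ((fun z => (Scheme.pointSmallEtale η).sheafFiber.map
      ((adj.homEquiv _ _).symm h) z) ∘ fun z => unitStalk g η A _ z) := by
    convert h1 using 1
    funext z
    exact (ConcreteCategory.comp_apply _ _ _).symm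
  exact (Function.Bijective.of_comp_iff _ h2).1 h3

end

end Groth.Agent.Lib.EtSite.BaseChange

namespace Groth.Agent.Lib.EtSite.BaseChange

variable {X Y X' Y' : Scheme.{u}} {f : X ⟶ Y} {g : Y' ⟶ Y} {f' : X' ⟶ Y'} {g' : X' ⟶ X}

theorem isIso_baseChange0Sh (sq : IsPullback g' f' f g) [IsIntegralHom f] (F : EtDesc.Sh X) :
    IsIso (EtBC.baseChange0Sh f g f' g' sq.w F) :=
  isIso_baseChange sq F _ fun V => ⟨cmp sq.w V, by
    simp only [EtDesc.pushCompSh, EtBC.pushCongrSh, cmp, op_comp, Functor.map_comp, Category.assoc]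
    simp
    rfl⟩

theorem isIso_baseChange0 (sq : IsPullback g' f' f g) [IsIntegralHom f] (F : EtCoh.Ab X) :
    IsIso (EtCoh.baseChange0 f g f' g' sq.w F) :=
  isIso_baseChange sq F _ fun V => ⟨cmp sq.w V, by
    simp only [EtCoh.pushComp, EtCoh.pushCongr, cmp, op_comp, Functor.map_comp, Category.assoc]
    simp
    rfl⟩

end Groth.Agent.Lib.EtSite.BaseChange
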