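import Groth.Agent.Lib.EtSite.Effective
import Groth.Prelude.Def_EtBCD
import Mathlib.CategoryTheory.Adhesive.Basic

/-!
Germs of the base change morphism for sheaves of sets, and global sections of inverse images.
-/

set_option autoImplicit false

universe u

open CategoryTheory CategoryTheory.Limits AlgebraicGeometry Opposite

noncomputable section

namespace Groth.Agent.Lib.EtSite.BCGerm

open Groth.Agent.Lib.EtSite Groth.Agent.Lib.EtSite.Basic Groth.Agent.Lib.EtSite.SubDescent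
open Groth.Agent.Lib.EtSite.PushStalk Groth.Agent.Lib.EtSite.SubSheaf

section BC

variable {X Y X' Y' : Scheme.{u}} {f : X ⟶ Y} {g : Y' ⟶ Y} {f' : X' ⟶ Y'} {g' : X' ⟶ X}

/-- The base change morphism on germs. -/
theorem germTo_baseChange0Sh (w : g' ≫ f = f' ≫ g) (F : EtDesc.Sh X) {Ω : Type u} [Field Ω]
    [IsSepClosed Ω] {η : Spec (CommRingCat.of Ω) ⟶ Y'} {η₀ : Spec (CommRingCat.of Ω) ⟶ Y}
    {ξ : Spec (CommRingCat.of Ω) ⟶ X'} {ξ₀ : Spec (CommRingCat.of Ω) ⟶ X} (hξ : ξ ≫ f' = η)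
    (k : η ≫ g = η₀) (kξ : ξ ≫ g' = ξ₀) (h₀ : ξ₀ ≫ f = η₀)
    (c : stalk η₀ ((EtDesc.pushSh f).obj F)) :
    (germTo f' (Type (u + 1)) hξ).app ((EtDesc.pullSh g').obj F)
        (stalkMap η (EtBC.baseChange0Sh f g f' g' w F)
          (germUnit g ((EtDesc.pushSh f).obj F) k c)) =
      germUnit g' F kξ ((germTo f (Type (u + 1)) h₀).app F c) := by
  subst k kξ
  obtain ⟨V, p, t, rfl⟩ := (Scheme.pointSmallEtale (η ≫ g)).toPresheafFiber_jointly_surjective
    (P := ((EtDesc.pushSh f).obj F).obj) c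
  unfold EtBC.baseChange0Sh
  rw [Effective.stalkMap_symm_germUnit g _ _ rfl p t]
  obtain ⟨cc, hc⟩ : ∃ cc : BaseChange.Cmp f g f' g' V,
      ((EtDesc.pushSh f).map ((EtDesc.adjSh g').unit.app F) ≫ (EtDesc.pushCompSh f g').hom.app _ ≫
        (EtBC.pushCongrSh w).hom.app _ ≫ (EtDesc.pushCompSh g f').inv.app _).hom.app (op V) =
        ((EtDesc.adjSh g').unit.app F).hom.app (op ((EtCoh.bc f).obj V)) ≫
          ((EtDesc.pullSh g').obj F).obj.map cc.hom.op := ⟨BaseChange.cmp w V, by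
    simp only [EtDesc.pushCompSh, EtBC.pushCongrSh, BaseChange.cmp, op_comp, Functor.map_comp,
      Category.assoc]
    simp
    rfl⟩
  refine (germTo_toPresheafFiber f' hξ _ _ (liftPt g rfl V p) _).trans ?_
  refine Eq.trans ?_ (congrArg (germUnit g' F rfl) (germTo_toPresheafFiber f h₀ F V p t)).symm
  rw [hc]
  refine Eq.trans ?_ (germUnit_germ g' F rfl _ t).symm
  refine (congrArg (germ ξ _ _) (ConcreteCategory.comp_apply _ _ t)).trans ?_
  refine (germ_map ξ ((EtDesc.pullSh g').obj F) cc.hom _ _).trans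
    (congrArg (fun r => germ ξ ((EtDesc.pullSh g').obj F) r _) ?_)
  exact cc.map_liftPt hξ h₀ p

end BC

variable {X Y : Scheme.{u}} (f : X ⟶ Y)

/-- A global section of a direct image as a global section upstairs. -/
def toSrc (F : EtDesc.Sh X) (s : EtDesc.sect ((EtDesc.pushSh f).obj F) (EtCoh.top Y)) :
    EtDesc.sect F (EtCoh.top X) :=
  F.obj.map (EtCore.bcTopIso f).inv.op s

/-- The converse. -/
def ofSrc (F : EtDesc.Sh X) (σ : EtDesc.sect F (EtCoh.top X)) :
    EtDesc.sect ((EtDesc.pushSh f).obj F) (EtCoh.top Y) :=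
  F.obj.map (EtCore.bcTopIso f).hom.op σ

theorem toSrc_ofSrc (F : EtDesc.Sh X) (σ : EtDesc.sect F (EtCoh.top X)) :
    toSrc f F (ofSrc f F σ) = σ :=
  map_bcTop_inv_hom f F σ

theorem ofSrc_toSrc (F : EtDesc.Sh X) (s : EtDesc.sect ((EtDesc.pushSh f).obj F) (EtCoh.top Y)) :
    ofSrc f F (toSrc f F s) = s := by
  change F.obj.map (EtCore.bcTopIso f).hom.op (F.obj.map (EtCore.bcTopIso f).inv.op s) = s
  rw [← ConcreteCategory.comp_apply, ← Functor.map_comp, ← op_comp, Iso.hom_inv_id, op_id,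
    CategoryTheory.Functor.map_id]
  rfl

theorem germTo_top (F : EtDesc.Sh X) (s : EtDesc.sect ((EtDesc.pushSh f).obj F) (EtCoh.top Y))
    {Ω : Type u} [Field Ω] [IsSepClosed Ω] {η : Spec (CommRingCat.of Ω) ⟶ Y}
    {ξ : Spec (CommRingCat.of Ω) ⟶ X} (h : ξ ≫ f = η) :
    (germTo f (Type (u + 1)) h).app F (germ η ((EtDesc.pushSh f).obj F) (topPt η) s) =
      germ ξ F (topPt ξ) (toSrc f F s) := by
  refine (germTo_toPresheafFiber f h F (EtCoh.top Y) (topPt η) s).trans ?_
  have e := germ_map_bcTop f F (toSrc f F s) ξ h (topPt η)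
  exact (congrArg (germ ξ F _) (ofSrc_toSrc f F s)).symm.trans e

theorem secPull_naturality {F G : EtDesc.Sh Y} (φ : F ⟶ G)
    (s : EtDesc.sect F (EtCoh.top Y)) :
    ((EtDesc.pullSh f).map φ).hom.app (op (EtCoh.top X)) (EtDesc.secPull f F s) =
      EtDesc.secPull f G (φ.hom.app (op (EtCoh.top Y)) s) := by
  refine app_eq_of_germ _ _ _ fun z => ?_
  refine ⟨_, inferInstance, inferInstance, Push.algPoint X z, Push.algPoint_apply X z default, ?_⟩
  rw [germ_secPull f F rfl, germUnit_naturality, stalkMap_germ, germ_secPull f G rfl]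

theorem secPull_injective (hf : Function.Surjective f.base) (F : EtDesc.Sh Y) :
    Function.Injective (EtDesc.secPull f F) := by
  intro a a' e
  refine top_ext F a a' fun x => ?_
  obtain ⟨x', rfl⟩ := hf x
  refine ⟨_, inferInstance, inferInstance, Push.algPoint X x' ≫ f,
    congrArg f.base (Push.algPoint_apply X x' default), ?_⟩
  apply (bijective_germUnit f F (rfl : Push.algPoint X x' ≫ f = _)).1
  exact (germ_secPull f F rfl a).symm.trans
    ((congrArg (germ (Push.algPoint X x') _ _) e).trans (germ_secPull f F rfl a'))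

theorem secPull_comp {Z : Scheme.{u}} (g : Z ⟶ X) (b : Z ⟶ Y) (w : g ≫ f = b) (F : EtDesc.Sh Y)
    (s : EtDesc.sect F (EtCoh.top Y)) :
    (EtDesc.pullVia g f b w F).hom.hom.app (op (EtCoh.top Z))
        (EtDesc.secPull g _ (EtDesc.secPull f F s)) = EtDesc.secPull b F s := by
  refine app_eq_of_germ _ _ _ fun z => ?_
  refine ⟨_, inferInstance, inferInstance, Push.algPoint Z z, Push.algPoint_apply Z z default, ?_⟩
  have hb : Push.algPoint Z z ≫ b = (Push.algPoint Z z ≫ g) ≫ f := by rw [← w, Category.assoc]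
  rw [germ_secPull g _ rfl, germ_secPull f F rfl, pullVia_germUnit f g b w F rfl rfl hb,
    germ_secPull b F hb]

/-- Sections of an equalizer. -/
theorem exists_of_regularMono {F G : EtDesc.Sh Y} (m : F ⟶ G) [Mono m] :
    ∃ (H : EtDesc.Sh Y) (a b : G ⟶ H), m ≫ a = m ≫ b ∧
      ∀ (V : Y.Etale) (s : EtDesc.sect G V), a.hom.app (op V) s = b.hom.app (op V) s →
        ∃ r, m.hom.app (op V) r = s := by
  let R := regularMonoOfMono m
  refine ⟨R.Z, R.left, R.right, R.w, fun V s hs => ?_⟩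
  let Φ : EtDesc.Sh Y ⥤ Type (u + 1) :=
    sheafToPresheaf Y.smallEtaleTopology (Type (u + 1)) ⋙ (evaluation _ _).obj (op V)
  have hl := isLimitForkMapOfIsLimit Φ R.w R.isLimit
  let p : PUnit.{u + 2} ⟶ Φ.obj G := TypeCat.ofHom fun _ => s
  obtain ⟨l, hl'⟩ := Fork.IsLimit.lift' hl p (by ext x; exact hs)
  exact ⟨l PUnit.unit, congrArg (fun q : PUnit.{u + 2} ⟶ Φ.obj G => q PUnit.unit) hl'⟩

end Groth.Agent.Lib.EtSite.BCGerm
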