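import Groth.Prelude.Def_EtOpen
import Groth.Agent.Lib.EtSite.Immersion
import Groth.Agent.Lib.EtSite.Fiber
import Mathlib.CategoryTheory.Comma.Over.Pullback
import Mathlib.CategoryTheory.Adjunction.Limits

/-!
# Open subschemes as subterminal étale sheaves
-/

universe u

open CategoryTheory CategoryTheory.Limits AlgebraicGeometry Opposite

namespace Groth.Agent.Lib.EtSite.OpenSub

open Groth.Agent.Lib.EtSite.Basic Groth.Agent.Lib.EtSite.Stalk

variable {X : Scheme.{u}} (U : X.Opens)

/-- The representable presheaf of an open. -/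
noncomputable abbrev pre : X.Etaleᵒᵖ ⥤ Type (u + 1) :=
  yoneda.obj (EtDesc.ofOpen U) ⋙ uliftFunctor.{u + 1, u}

theorem hom_range {T : X.Etale} (a : T ⟶ EtDesc.ofOpen U) (t : T.left) : T.hom.base t ∈ U := by
  have h : U.ι.base (a.left.base t) = T.hom.base t :=
    (Scheme.Hom.comp_apply _ _ _).symm.trans (congrArg (fun m => m.base t) (Over.w a.hom :))
  rw [← h]
  exact (a.left.base t).2

instance subsingleton_hom (T : X.Etale) : Subsingleton (T ⟶ EtDesc.ofOpen U) :=
  ⟨fun a b => MorphismProperty.Over.Hom.ext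
    ((cancel_mono U.ι).1 ((Over.w a.hom :).trans (Over.w b.hom :).symm))⟩

/-- The morphism to an open through which a scheme factors. -/
noncomputable def toOpen (T : X.Etale) (h : ∀ t, T.hom.base t ∈ U) : T ⟶ EtDesc.ofOpen U :=
  MorphismProperty.Over.homMk
    (show T.left ⟶ (U : Scheme.{u}) from IsOpenImmersion.lift U.ι (T.hom : T.left ⟶ X) (by
      rw [Scheme.Opens.range_ι]; rintro _ ⟨t, rfl⟩; exact h t))
    (IsOpenImmersion.lift_fac (Y := T.left) U.ι _ _)

theorem hom_left_apply {T T' : X.Etale} (g : T' ⟶ T) (t : T'.left) :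
    T.hom.base (g.left.base t) = T'.hom.base t :=
  (Scheme.Hom.comp_apply _ _ _).symm.trans (congrArg (fun m => m.base t) (Over.w g.hom :))

theorem isSheaf_pre : Presheaf.IsSheaf X.smallEtaleTopology (pre U) := by
  rw [isSheaf_iff_isSheaf_of_type]
  intro T R hR x hx
  have h : ∀ t, T.hom.base t ∈ U := fun t => by
    obtain ⟨V, f, hf, v, rfl⟩ := (mem_topology_iff R).1 hR t
    rw [hom_left_apply]
    exact hom_range U (x f hf).down v
  exact ⟨⟨toOpen U T h⟩, fun V f hf => ULift.ext _ _ ((subsingleton_hom U _).elim _ _),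
    fun y hy => ULift.ext _ _ ((subsingleton_hom U _).elim _ _)⟩

/-- The subterminal sheaf of an open. -/
noncomputable def sheaf : EtDesc.Sh X := ⟨pre U, isSheaf_pre U⟩

/-- The comparison with the sheafified representable. -/
noncomputable def repIso : sheaf U ≅ EtDesc.repSh (EtDesc.ofOpen U) :=
  sheafificationIso (sheaf U)

theorem subsingleton_sect_of_mono (F : EtDesc.Sh X) [Mono (terminal.from F)] (T : X.Etale) :
    Subsingleton (F.obj.obj (op T)) := by
  have hsub : Subsingleton ((⊤_ EtDesc.Sh X).obj.obj (op T)) := by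
    have h := IsTerminal.isTerminalObj
      (sheafToPresheaf X.smallEtaleTopology (Type (u + 1)) ⋙ (evaluation _ _).obj (op T))
      (⊤_ EtDesc.Sh X) terminalIsTerminal
    exact ⟨fun a b => ConcreteCategory.congr_hom
      (h.hom_ext (↾fun _ : PUnit.{u + 2} => a) (↾fun _ => b)) PUnit.unit⟩
  have : Mono (terminal.from F).hom :=
    inferInstanceAs (Mono ((sheafToPresheaf _ _).map (terminal.from F)))
  have hinj : Function.Injective ((terminal.from F).hom.app (op T)) :=
    (mono_iff_injective _).1 inferInstance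
  exact ⟨fun a b => hinj (Subsingleton.elim _ _)⟩

theorem mono_from_sheaf : Mono (terminal.from (sheaf U)) :=
  Sheaf.mono_of_injective _ fun _ a b _ => ULift.ext (α := _ ⟶ _) a b (Subsingleton.elim _ _)

theorem mono_from_repSh : Mono (terminal.from (EtDesc.repSh (EtDesc.ofOpen U))) := by
  have := mono_from_sheaf U
  rw [show terminal.from (EtDesc.repSh (EtDesc.ofOpen U)) = (repIso U).inv ≫ terminal.from (sheaf U) from
    terminal.hom_ext _ _]
  infer_instance

theorem le_iff (V : X.Opens) :
    U ≤ V ↔ Nonempty (EtDesc.repSh (EtDesc.ofOpen U) ⟶ EtDesc.repSh (EtDesc.ofOpen V)) := by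
  constructor
  · intro h
    exact ⟨(presheafToSheaf _ _).map (Functor.whiskerRight
      (yoneda.map (toOpen V (EtDesc.ofOpen U) fun t => h (by
        rw [show (EtDesc.ofOpen U).hom = U.ι from rfl]; exact t.2))) _)⟩
  · rintro ⟨φ⟩ x hx
    have a := (((repIso U).hom ≫ φ ≫ (repIso V).inv).hom.app (op (EtDesc.ofOpen U)) ⟨𝟙 _⟩).down
    exact hom_range V a (⟨x, hx⟩ : U)

theorem exists_open (F : EtDesc.Sh X) [Mono (terminal.from F)] :
    ∃ U : X.Opens, Nonempty (F ≅ EtDesc.repSh (EtDesc.ofOpen U)) := by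
  have hsub := subsingleton_sect_of_mono F
  let U : X.Opens := ⟨⋃ (T : {T : X.Etale // Nonempty (F.obj.obj (op T))}), Set.range T.1.hom.base,
    isOpen_iUnion fun T => by have : Etale T.1.hom := T.1.prop; exact T.1.hom.isOpenMap.isOpen_range⟩
  have hF : Presieve.IsSheaf X.smallEtaleTopology F.obj := (isSheaf_iff_isSheaf_of_type _ _).1 F.2
  have key : ∀ T : X.Etale, (∀ t, T.hom.base t ∈ U) → Nonempty (F.obj.obj (op T)) := fun T hT => by
    choose S hS using fun t => Set.mem_iUnion.1 (hT t)
    choose w hw using hS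
    choose z hz using fun t => Scheme.Pullback.exists_preimage_pullback
      (f := T.hom) (g := (S t).1.hom) t (w t) (hw t).symm
    have hE : ∀ t, Etale (pullback.fst T.hom (S t).1.hom ≫ T.hom) := fun t => by
      have : Etale (S t).1.hom := (S t).1.prop
      have : Etale T.hom := T.prop
      infer_instance
    let W : T.left → X.Etale := fun t =>
      MorphismProperty.Over.mk ⊤ (pullback.fst T.hom (S t).1.hom ≫ T.hom) (hE t)
    let o : ∀ t, W t ⟶ T := fun t => MorphismProperty.Over.homMk (pullback.fst T.hom (S t).1.hom) rfl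
    let b : ∀ t, W t ⟶ (S t).1 := fun t => MorphismProperty.Over.homMk (pullback.snd T.hom (S t).1.hom)
      pullback.condition.symm
    have hS' : (Presieve.ofArrows W o).IsSheafFor F.obj := by
      rw [Presieve.isSheafFor_iff_generate]
      exact hF _ (ofArrows_mem W o fun t => ⟨t, z t, (hz t).1⟩)
    obtain ⟨s, -, -⟩ := (Presieve.isSheafFor_arrows_iff _ _).1 hS'
      (fun t => F.obj.map (b t).op (S t).2.some) fun i j Z gi gj _ => (hsub Z).elim _ _
    exact ⟨s⟩
  have hrange : ∀ (T : X.Etale) (s : F.obj.obj (op T)) t, T.hom.base t ∈ U := fun T s t =>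
    Set.mem_iUnion.2 ⟨⟨T, ⟨s⟩⟩, t, rfl⟩
  let e : F.obj ≅ (sheaf U).obj := NatIso.ofComponents (fun T => Equiv.toIso
    { toFun := fun s => ⟨toOpen U T.unop (hrange T.unop s)⟩
      invFun := fun a => (key T.unop (hom_range U a.down)).some
      left_inv := fun s => (hsub T.unop).elim _ _
      right_inv := fun a => ULift.ext (α := T.unop ⟶ EtDesc.ofOpen U) _ _ (Subsingleton.elim _ _) })
    (fun f => by ext s; exact ULift.ext (α := _ ⟶ EtDesc.ofOpen U) _ _ (Subsingleton.elim _ _))
  exact ⟨U, ⟨(fullyFaithfulSheafToPresheaf _ _).preimageIso (X := F) (Y := sheaf U) e ≪≫ repIso U⟩⟩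

theorem subsingleton_stalk {Ω : Type u} [Field Ω] [IsSepClosed Ω] (η : Spec (CommRingCat.of Ω) ⟶ X)
    (F : EtDesc.Sh X) (hF : ∀ T, Subsingleton (F.obj.obj (op T))) :
    Subsingleton ((Scheme.pointSmallEtale η).sheafFiber.obj F) := by
  refine ⟨fun a b => ?_⟩
  obtain ⟨T, p, s, rfl⟩ := (Scheme.pointSmallEtale η).toPresheafFiber_jointly_surjective (P := F.obj) a
  obtain ⟨T', p', s', rfl⟩ := (Scheme.pointSmallEtale η).toPresheafFiber_jointly_surjective (P := F.obj) b
  let E := IsCofiltered.min ((Scheme.pointSmallEtale η).fiber.elementsMk T p)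
    ((Scheme.pointSmallEtale η).fiber.elementsMk T' p')
  let a₁ : E ⟶ (Scheme.pointSmallEtale η).fiber.elementsMk T p := IsCofiltered.minToLeft _ _
  let b₁ : E ⟶ (Scheme.pointSmallEtale η).fiber.elementsMk T' p' := IsCofiltered.minToRight _ _
  have h1 : (Scheme.pointSmallEtale η).fiber.map a₁.1 E.2 = p := a₁.2
  have h2 : (Scheme.pointSmallEtale η).fiber.map b₁.1 E.2 = p' := b₁.2
  rw [← h1, ← h2]
  refine ((Scheme.pointSmallEtale η).toPresheafFiber_w_apply a₁.1 E.2 _ s).symm.trans
    (Eq.trans ?_ ((Scheme.pointSmallEtale η).toPresheafFiber_w_apply b₁.1 E.2 _ s'))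
  exact congrArg _ ((hF E.1).elim _ _)

/-- The pullback of the sheaf of an open to that open is final. -/
noncomputable def isTerminalPull : IsTerminal ((EtDesc.pullSh U.ι).obj (EtDesc.repSh (EtDesc.ofOpen U))) := by
  let P := EtDesc.repSh (EtDesc.ofOpen U)
  have hP : ∀ T, Subsingleton (P.obj.obj (op T)) := fun T =>
    have := mono_from_repSh U
    subsingleton_sect_of_mono _ T
  have : IsIso ((EtDesc.pullSh U.ι).map (terminal.from P)) := by
    refine isIso_of_stalks _ (enoughPts_pt fun x => ?_)
    let ξ := geomPoint (U : Scheme.{u}) x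
    let M := (Scheme.pointSmallEtale (ξ ≫ U.ι)).sheafFiber.map (terminal.from P)
    have hM : Function.Bijective M := by
      have hs := subsingleton_stalk (ξ ≫ U.ι) P hP
      have ht := subsingleton_stalk (ξ ≫ U.ι) (⊤_ EtDesc.Sh X) fun T =>
        have : Mono (terminal.from (⊤_ EtDesc.Sh X)) := by
          rw [terminal.hom_ext (terminal.from (⊤_ EtDesc.Sh X)) (𝟙 _)]
          infer_instance
        subsingleton_sect_of_mono _ T
      obtain ⟨p, -⟩ := exists_fiber (ξ ≫ U.ι) (EtDesc.ofOpen U) x
        (by rw [Scheme.Hom.comp_apply, geomPoint_apply]; rfl)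
      exact ⟨fun a b _ => hs.elim a b, fun b => ⟨(Scheme.pointSmallEtale (ξ ≫ U.ι)).toPresheafFiber _ p P.obj
        ((repIso U).hom.hom.app _ ⟨𝟙 _⟩), ht.elim _ _⟩⟩
    have := (ConcreteCategory.isIso_iff_bijective M).2 hM
    have : IsIso (((EtDesc.pullSh U.ι) ⋙ (Scheme.pointSmallEtale ξ).sheafFiber).map (terminal.from P)) :=
      (NatIso.isIso_map_iff (Pull.stalkPullSh U.ι ξ) (terminal.from P)).2 this
    exact (ConcreteCategory.isIso_iff_bijective _).1 this
  exact IsTerminal.ofIso (IsTerminal.isTerminalObj (EtDesc.pullSh U.ι) _ terminalIsTerminal)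
    (asIso ((EtDesc.pullSh U.ι).map (terminal.from P))).symm

theorem isEquivalence_pull :
    (Over.forget (EtDesc.repSh (EtDesc.ofOpen U)) ⋙ EtDesc.pullSh U.ι).IsEquivalence := by
  let P := EtDesc.repSh (EtDesc.ofOpen U)
  let L := Over.forget P ⋙ EtDesc.pullSh U.ι
  let adj := (Over.forgetAdjStar P).comp (EtDesc.adjSh U.ι)
  have hcounit : ∀ G, IsIso (adj.counit.app G) := fun G => by
    have h1 : IsIso ((EtDesc.adjSh U.ι).counit.app G) := by
      have := Immersion.isIso_counit_of_isImmersion U.ι
      infer_instance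
    let H := (EtDesc.pushSh U.ι).obj G
    have hprod : IsIso ((EtDesc.pullSh U.ι).map (prod.snd : P ⨯ H ⟶ H)) := by
      have e := prodComparison_snd (EtDesc.pullSh U.ι) (A := P) (B := H)
      have : IsIso (prod.snd : (EtDesc.pullSh U.ι).obj P ⨯ (EtDesc.pullSh U.ι).obj H ⟶ _) :=
        ⟨prod.lift ((isTerminalPull U).from _) (𝟙 _), by
          apply Limits.prod.hom_ext
          · exact (isTerminalPull U).hom_ext _ _
          · rw [Category.assoc, prod.lift_snd, Category.comp_id]; exact (Category.id_comp _).symm,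
          prod.lift_snd _ _⟩
      rw [← e]
      infer_instance
    rw [Adjunction.comp_counit_app]
    have : IsIso ((EtDesc.pullSh U.ι).map ((Over.forgetAdjStar P).counit.app H)) := by
      exact hprod
    infer_instance
  have : IsIso adj.counit := NatIso.isIso_of_isIso_app _
  have hsect : ∀ (F : Over P) (x : X), x ∉ U → ∀ {Ω : Type u} [Field Ω] [IsSepClosed Ω]
      (η : Spec (CommRingCat.of Ω) ⟶ X), η.base default = x →
        ∀ z : (Scheme.pointSmallEtale η).sheafFiber.obj F.left, False := by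
    intro F x hx Ω _ _ η hη z
    obtain ⟨T, p, s, -⟩ := (Scheme.pointSmallEtale η).toPresheafFiber_jointly_surjective (P := F.left.obj) z
    have a : T ⟶ EtDesc.ofOpen U := ((repIso U).inv.hom.app (op T) (F.hom.hom.app (op T) s)).down
    exact hx (hη ▸ hom_fiberPt p ▸ hom_range U a (fiberPt p))
  have : L.ReflectsIsomorphisms := ⟨fun {F F'} φ h => by
    have : IsIso φ.left := by
      refine isIso_of_stalks _ fun x => ?_
      by_cases hx : x ∈ U
      · let ξ := geomPoint (U : Scheme.{u}) ⟨x, hx⟩
        refine ⟨_, inferInstance, inferInstance, ξ ≫ U.ι, by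
          rw [Scheme.Hom.comp_apply, geomPoint_apply]; rfl, ?_⟩
        have : IsIso ((EtDesc.pullSh U.ι).map φ.left) := h
        have : IsIso (((EtDesc.pullSh U.ι) ⋙ (Scheme.pointSmallEtale ξ).sheafFiber).map φ.left) :=
          inferInstanceAs (IsIso ((Scheme.pointSmallEtale ξ).sheafFiber.map ((EtDesc.pullSh U.ι).map φ.left)))
        exact (ConcreteCategory.isIso_iff_bijective _).1
          ((NatIso.isIso_map_iff (Pull.stalkPullSh U.ι ξ) φ.left).1 this)
      · refine ⟨_, inferInstance, inferInstance, geomPoint X x, geomPoint_apply x _,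
          fun a => (hsect F x hx _ (geomPoint_apply x _) a).elim,
          fun b => (hsect F' x hx _ (geomPoint_apply x _) b).elim⟩
    have : IsIso ((Over.forget P).map φ) := this
    exact isIso_of_reflects_iso φ (Over.forget P)⟩
  have hunit : ∀ F, IsIso (adj.unit.app F) := fun F => by
    have : IsIso (L.map (adj.unit.app F)) := by
      have h := adj.left_triangle_components F
      have : IsIso (adj.counit.app (L.obj F)) := hcounit _
      have : IsIso (L.map (adj.unit.app F) ≫ adj.counit.app (L.obj F)) := by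
        rw [h]; exact inferInstanceAs (IsIso (𝟙 (L.obj F)))
      exact IsIso.of_isIso_comp_right _ (adj.counit.app (L.obj F))
    exact isIso_of_reflects_iso _ L
  have : IsIso adj.unit := NatIso.isIso_of_isIso_app _
  exact adj.toEquivalence.isEquivalence_functor

end Groth.Agent.Lib.EtSite.OpenSub
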