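import Groth.Agent.Lib.EtSite.Sections
import Mathlib.FieldTheory.Isaacs
import Mathlib.FieldTheory.IsAlgClosed.AlgebraicClosure
import Mathlib.Algebra.Polynomial.Lifts
import Mathlib.AlgebraicGeometry.Morphisms.Integral

/-!
# An integral extension in which every monic polynomial has a root
-/

universe u

open CategoryTheory CategoryTheory.Limits AlgebraicGeometry Opposite Polynomial

namespace Groth.Agent.Lib.EtSite.RootExt

variable (A : Type u) [CommRing A]

/-- Monic polynomials of positive degree. -/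
abbrev Idx : Type u := {f : A[X] // f.Monic ∧ f.natDegree ≠ 0}

/-- The relations `f (X_f)`. -/
noncomputable def rels : Ideal (MvPolynomial (Idx A) A) :=
  Ideal.span (Set.range fun f : Idx A => f.1.eval₂ MvPolynomial.C (MvPolynomial.X f))

/-- `A` with a root of every monic polynomial adjoined. -/
abbrev Ring : Type u := MvPolynomial (Idx A) A ⧸ rels A

/-- The adjoined root. -/
noncomputable def root (f : Idx A) : Ring A := Ideal.Quotient.mk _ (MvPolynomial.X f)

theorem eval₂_root (f : Idx A) : f.1.eval₂ (algebraMap A (Ring A)) (root A f) = 0 := by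
  have h : Ideal.Quotient.mk (rels A) (f.1.eval₂ MvPolynomial.C (MvPolynomial.X f)) = 0 :=
    Ideal.Quotient.eq_zero_iff_mem.2 (Ideal.subset_span ⟨f, rfl⟩)
  rw [Polynomial.hom_eval₂] at h
  exact h

instance isIntegral : Algebra.IsIntegral A (Ring A) := by
  refine ⟨fun x => ?_⟩
  obtain ⟨x, rfl⟩ := Ideal.Quotient.mk_surjective x
  induction x using MvPolynomial.induction_on with
  | C a => exact isIntegral_algebraMap (x := a)
  | add p q hp hq => rw [map_add]; exact hp.add hq
  | mul_X p f hp => rw [map_mul]; exact hp.mul ⟨f.1, f.2.1, eval₂_root A f⟩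

theorem exists_hom {K : Type u} [Field K] [IsAlgClosed K] (φ : A →+* K) :
    ∃ ψ : Ring A →+* K, ψ.comp (algebraMap A (Ring A)) = φ := by
  have h : ∀ f : Idx A, ∃ x : K, f.1.eval₂ φ x = 0 := fun f => by
    obtain ⟨x, hx⟩ := IsAlgClosed.exists_root (f.1.map φ) (fun h => f.2.2 (by
      rw [← f.2.1.natDegree_map φ]
      exact natDegree_eq_zero_iff_degree_le_zero.2 h.le))
    exact ⟨x, by rwa [IsRoot, eval_map] at hx⟩
  choose r hr using h
  have hle : rels A ≤ RingHom.ker (MvPolynomial.eval₂Hom φ r) := Ideal.span_le.2 (by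
    rintro _ ⟨f, rfl⟩
    rw [SetLike.mem_coe, RingHom.mem_ker, Polynomial.hom_eval₂]
    simpa using hr f)
  refine ⟨Ideal.Quotient.lift (rels A) (MvPolynomial.eval₂Hom φ r) hle, ?_⟩
  ext a
  exact MvPolynomial.eval₂Hom_C φ r a

/-- The projection to `Spec A`. -/
noncomputable def proj : Spec (CommRingCat.of (Ring A)) ⟶ Spec (CommRingCat.of A) :=
  Spec.map (CommRingCat.ofHom (algebraMap A (Ring A)))

instance isIntegralHom_proj : IsIntegralHom (proj A) :=
  IsIntegralHom.SpecMap_iff.2 (fun x => Algebra.IsIntegral.isIntegral x)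

theorem proj_surjective (y : Spec (CommRingCat.of A)) : ∃ y', (proj A).base y' = y := by
  let p : PrimeSpectrum A := y
  let φ : A →+* AlgebraicClosure p.asIdeal.ResidueField :=
    (algebraMap p.asIdeal.ResidueField _).comp (algebraMap A p.asIdeal.ResidueField)
  obtain ⟨ψ, hψ⟩ := exists_hom A φ
  refine ⟨⟨RingHom.ker ψ, RingHom.ker_isPrime ψ⟩, PrimeSpectrum.ext (Ideal.ext fun a => ?_)⟩
  change ψ (algebraMap A (Ring A) a) = 0 ↔ a ∈ p.asIdeal
  rw [← RingHom.comp_apply, hψ]
  simp [φ, Ideal.algebraMap_residueField_eq_zero]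

/-- An algebra integral over a field in which every monic polynomial has a root has all étale
covers split. -/
theorem hasSections_of_roots {k B : Type u} [Field k] [CommRing B] [Algebra k B]
    [Algebra.IsIntegral k B]
    (h : ∀ p : k[X], p.Monic → Irreducible p → ∃ b : B, p.eval₂ (algebraMap k B) b = 0) :
    Sections.HasSections B := by
  have : Ring.KrullDimLE 0 B := Ring.krullDimLE_zero_iff.2 fun q hq =>
    Ideal.isMaximal_of_isIntegral_of_isMaximal_comap q (by
      rw [show q.comap (algebraMap k B) = ⊥ from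
        (Ideal.eq_bot_or_top _).resolve_right (Ideal.comap_ne_top _ hq.ne_top)]
      exact Ideal.bot_isMaximal)
  refine Sections.hasSections_of_krullDimLE_zero B fun q hq => ?_
  have hsur : Function.Surjective (algebraMap B q.ResidueField) :=
    have := Ideal.IsPrime.isMaximal' hq
    fun x => by
      obtain ⟨y, rfl⟩ := (Ideal.bijective_algebraMap_quotient_residueField q).2 x
      obtain ⟨y, rfl⟩ := Ideal.Quotient.mk_surjective y
      exact ⟨y, rfl⟩
  have : Algebra.IsIntegral k q.ResidueField :=
    Algebra.IsIntegral.of_surjective (IsScalarTower.toAlgHom k B q.ResidueField) hsur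
  have := IsAlgClosure.of_exists_root (F := k) (E := q.ResidueField) fun p hp hi => by
    obtain ⟨b, hb⟩ := h p hp hi
    exact ⟨algebraMap B _ b, by
      rw [aeval_algebraMap_apply, aeval_def, hb, map_zero]⟩
  have : IsAlgClosed q.ResidueField := IsAlgClosure.isAlgClosed (R := k)
  infer_instance

/-- The closed fibre of `proj` has all étale covers split. -/
theorem hasSections_fibre {k : Type u} [Field k] (π : A →+* k) (hπ : Function.Surjective π) :
    Sections.HasSections Γ(pullback (proj A) (Spec.map (CommRingCat.ofHom π)), ⊤) := by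
  let a : CommRingCat.of A ⟶ CommRingCat.of (Ring A) := CommRingCat.ofHom (algebraMap A (Ring A))
  let b : CommRingCat.of A ⟶ CommRingCat.of k := CommRingCat.ofHom π
  let P := pullback (proj A) (Spec.map b)
  let φ : CommRingCat.of (Ring A) ⟶ Γ(P, ⊤) :=
    (Scheme.ΓSpecIso _).inv ≫ (pullback.fst (proj A) (Spec.map b)).appTop
  let ψ : CommRingCat.of k ⟶ Γ(P, ⊤) :=
    (Scheme.ΓSpecIso _).inv ≫ (pullback.snd (proj A) (Spec.map b)).appTop
  have hc : a ≫ φ = b ≫ ψ := by
    simp only [φ, ψ, Scheme.ΓSpecIso_inv_naturality_assoc, ← Scheme.Hom.comp_appTop]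
    rw [show Spec.map a = proj A from rfl, pullback.condition]
  let : Algebra k Γ(P, ⊤) := ψ.hom.toAlgebra
  have : Algebra.IsIntegral k Γ(P, ⊤) := by
    refine ⟨?_⟩
    have h1 : (pullback.snd (proj A) (Spec.map b)).appTop.hom.IsIntegral :=
      Scheme.Hom.isIntegral_app _ _ (isAffineOpen_top _)
    exact RingHom.IsIntegral.trans _ _
      (RingHom.isIntegral_of_surjective _ ((Scheme.ΓSpecIso _).commRingCatIsoToRingEquiv.symm.surjective)) h1
  refine hasSections_of_roots (k := k) fun p hp hi => ?_
  obtain ⟨f, hf, hdeg, hfm⟩ := Polynomial.lifts_and_natDegree_eq_and_monic (f := π)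
    (by
      rw [Polynomial.mem_lifts]
      exact Polynomial.map_surjective π hπ p) hp
  let F : Idx A := ⟨f, hfm, hdeg ▸ hi.natDegree_pos.ne'⟩
  refine ⟨φ.hom (root A F), ?_⟩
  have h := congrArg φ.hom (eval₂_root A F)
  rw [map_zero, Polynomial.hom_eval₂] at h
  rw [← hf, Polynomial.eval₂_map]
  exact (congrArg (fun g : A →+* Γ(P, ⊤) => f.eval₂ g (φ.hom (root A F)))
    (congrArg CommRingCat.Hom.hom hc).symm).trans h

end Groth.Agent.Lib.EtSite.RootExt
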