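import Groth.Agent.Lib.EtSite.HensShrink
import Groth.Agent.Lib.EtSite.RootExt
import Groth.Agent.Lib.EtSite.ExtCompare
import Groth.Agent.Lib.EtSite.BaseChange
import Mathlib.RingTheory.LocalRing.ResidueField.Basic

/-!
# Cohomology of a henselian local scheme and of its closed point
-/

universe u

open CategoryTheory CategoryTheory.Limits AlgebraicGeometry Opposite

namespace Groth.Agent.Lib.EtSite.HensClosed

open Groth.Agent.Lib.EtSite.Basic Groth.Agent.Lib.EtSite.Stalk Groth.Agent.Lib.EtSite.PushStalk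
  Groth.Agent.Lib.EtSite.UnitStalk Groth.Agent.Lib.EtSite.BaseChange

/-- The unit `F ⟶ f_* f^* F` on sections. -/
noncomputable abbrev unitAt {X Y : Scheme.{u}} (f : X ⟶ Y) (F : EtCoh.Ab Y) (U : Y.Etale)
    (s : EtCoh.sect F U) : EtCoh.sect ((EtCoh.pull f).obj F) ((EtCoh.bc f).obj U) :=
  ((EtCoh.pullPushAdj f).unit.app F).hom.app (op U) s

theorem unitAt_map {X Y : Scheme.{u}} (f : X ⟶ Y) (F : EtCoh.Ab Y) {U V : Y.Etale} (a : V ⟶ U)
    (s : EtCoh.sect F U) : unitAt f F V (F.obj.map a.op s) =
      ((EtCoh.pull f).obj F).obj.map ((EtCoh.bc f).map a).op (unitAt f F U s) :=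
  NatTrans.naturality_apply ((EtCoh.pullPushAdj f).unit.app F).hom a.op s

theorem unitStalk_germ {X Y : Scheme.{u}} (f : X ⟶ Y) {Ω : Type u} [Field Ω] [IsSepClosed Ω]
    (ξ : Spec (CommRingCat.of Ω) ⟶ X) (F : EtCoh.Ab Y) (U : Y.Etale)
    (p : (Scheme.pointSmallEtale (ξ ≫ f)).fiber.obj U) (s : EtCoh.sect F U) :
    unitStalk f ξ AddCommGrpCat.{u + 1} F ((Scheme.pointSmallEtale (ξ ≫ f)).toPresheafFiber U p F.obj s) =
      (Scheme.pointSmallEtale ξ).toPresheafFiber _ (liftPt f rfl U p) ((EtCoh.pull f).obj F).obj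
        (unitAt f F U s) := by
  refine (ConcreteCategory.comp_apply _ _ _).trans ?_
  refine (congrArg (fun z => (germTo f AddCommGrpCat.{u + 1} (rfl : ξ ≫ f = ξ ≫ f)).app _ z)
    ((Scheme.pointSmallEtale (ξ ≫ f)).toPresheafFiber_naturality_apply
      ((EtCoh.pullPushAdj f).unit.app F).hom U p s)).trans ?_
  exact germTo_toPresheafFiber f (rfl : ξ ≫ f = ξ ≫ f) ((EtCoh.pull f).obj F) U p (unitAt f F U s)

theorem unitStalk_injective {X Y : Scheme.{u}} (f : X ⟶ Y) {Ω : Type u} [Field Ω] [IsSepClosed Ω]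
    (ξ : Spec (CommRingCat.of Ω) ⟶ X) (F : EtCoh.Ab Y) :
    Function.Bijective (unitStalk f ξ AddCommGrpCat.{u + 1} F) :=
  have := isIso_unitStalk f ξ AddCommGrpCat.{u + 1} F
  (ConcreteCategory.isIso_iff_bijective _).1 this

/-- The unit along a surjective morphism is a monomorphism. -/
theorem mono_unit_of_surjective {X Y : Scheme.{u}} (f : X ⟶ Y)
    (hf : ∀ y : Y, ∃ x : X, f.base x = y) (F : EtCoh.Ab Y) :
    Mono ((EtCoh.pullPushAdj f).unit.app F) := by
  refine mono_of_stalks _ fun y => ?_
  obtain ⟨x, rfl⟩ := hf y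
  refine ⟨_, inferInstance, inferInstance, Push.algPoint X x ≫ f, ?_, fun a b h => ?_⟩
  · rw [Scheme.Hom.comp_apply, Push.algPoint_apply]
  · refine (unitStalk_injective f (Push.algPoint X x) F).1 ?_
    exact (ConcreteCategory.comp_apply _ _ _).trans ((congrArg _ h).trans
      (ConcreteCategory.comp_apply _ _ _).symm)

variable {A : Type u} [CommRing A] {Z : Scheme.{u}} (i : Z ⟶ Spec (CommRingCat.of A))

section

variable [IsLocalRing A]

theorem closedPoint_mem_of_isClosed {s : Set (PrimeSpectrum A)} (hs : IsClosed s) (hne : s.Nonempty) :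
    IsLocalRing.closedPoint A ∈ s := by
  by_contra h
  obtain ⟨x, hx⟩ := hne
  have := (IsLocalRing.specializes_closedPoint x).mem_closed hs hx
  exact h this

variable (hi : Set.range i.base = {IsLocalRing.closedPoint A})

include hi in
theorem unit_app_injective (U : (Spec (CommRingCat.of A)).Etale) [IsFinite U.hom]
    (F : EtCoh.Ab (Spec (CommRingCat.of A))) (s t : EtCoh.sect F U)
    (h : unitAt i F U s = unitAt i F U t) : s = t := by
  let O := {x : U.left | ∃ (W : (Spec (CommRingCat.of A)).Etale) (a : W ⟶ U),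
    F.obj.map a.op s = F.obj.map a.op t ∧ x ∈ Set.range a.left.base}
  suffices hO : ∀ x, x ∈ O by
    refine sections_ext F s t fun x => ?_
    obtain ⟨W, a, e, hx⟩ := hO x
    exact ⟨W, a, e, hx⟩
  have hcl : ∀ x : U.left, U.hom.base x = IsLocalRing.closedPoint A → x ∈ O := fun x hx => by
    obtain ⟨z, hz⟩ : U.hom.base x ∈ Set.range i.base := by rw [hi, hx]; rfl
    obtain ⟨d, hd, -⟩ := Scheme.Pullback.exists_preimage_pullback (f := U.hom) (g := i) x z hz.symm
    let d' : ((EtCoh.bc i).obj U).left := d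
    obtain ⟨q, hq⟩ := exists_fiber_geomPoint ((EtCoh.bc i).obj U) d'
    let p := mkFiber (geomPoint Z (((EtCoh.bc i).obj U).hom.base d') ≫ i) U
      (fiberHom q ≫ pullback.fst U.hom i)
      ((Category.assoc _ _ _).trans ((fiberHom q ≫= pullback.condition).trans
        ((Category.assoc _ _ _).symm.trans (congrArg (· ≫ i) (fiberHom_comp q)))))
    have hp : fiberPt p = x := (congrArg (pullback.fst U.hom i).base hq).trans hd
    rw [← hp]
    refine (toPresheafFiber_eq_iff_mem F.obj U s t p).1 ((unitStalk_injective i _ F).1 ?_)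
    rw [unitStalk_germ, unitStalk_germ, h]
  intro x
  by_contra hx
  have hclosed : IsClosed (U.hom.base '' Oᶜ) :=
    U.hom.isClosedMap _ (isOpen_agree F.obj U s t).isClosed_compl
  obtain ⟨y, hy, hyc⟩ := closedPoint_mem_of_isClosed hclosed ⟨_, x, hx, rfl⟩
  exact hy (hcl y hyc)

end

variable [HenselianLocalRing A] [IsClosedImmersion i]
  (hi : Set.range i.base = {IsLocalRing.closedPoint A})

include hi in
theorem unit_top_surjective (F : EtCoh.Ab (Spec (CommRingCat.of A)))
    (t : EtCoh.sect ((EtCoh.pull i).obj F) ((EtCoh.bc i).obj (EtCoh.top _))) :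
    ∃ s : EtCoh.sect F (EtCoh.top _), unitAt i F _ s = t := by
  obtain ⟨z, hz⟩ : IsLocalRing.closedPoint A ∈ Set.range i.base := by rw [hi]; rfl
  let ξ := Push.algPoint Z z
  have hξ : (ξ ≫ i).base default = IsLocalRing.closedPoint A := by
    rw [Scheme.Hom.comp_apply, Push.algPoint_apply, hz]
  obtain ⟨p₀, -⟩ := exists_fiber (ξ ≫ i) (EtCoh.top (Spec (CommRingCat.of A)))
    ((ξ ≫ i).base default) rfl
  obtain ⟨zF, hzF⟩ := (unitStalk_injective i ξ F).2
    ((Scheme.pointSmallEtale ξ).toPresheafFiber _ (liftPt i rfl _ p₀) ((EtCoh.pull i).obj F).obj t)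
  obtain ⟨U, q, s, rfl⟩ := (Scheme.pointSmallEtale (ξ ≫ i)).toPresheafFiber_jointly_surjective zF
  erw [unitStalk_germ] at hzF
  obtain ⟨W, a, w, hfin, haw, hw, huniq⟩ :=
    HensShrink.exists_finite_nhd U (fiberPt q) ((hom_fiberPt q).trans hξ)
  obtain ⟨qW, hqW, hqw⟩ := Fiber.exists_fiber_map (ξ ≫ i) a q w haw
  let s' := F.obj.map a.op s
  let o : W ⟶ EtCoh.top (Spec (CommRingCat.of A)) := (EtCore.topIsTerminal _).from W
  let G := (EtCoh.pull i).obj F
  -- the only point of the closed fibre
  have hpt : ∀ x : ((EtCoh.bc i).obj W).left, x = fiberPt (liftPt i rfl W qW) := fun x => by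
    have hinj := (Scheme.Hom.isClosedEmbedding (f := (pullback.fst W.hom i :
      ((EtCoh.bc i).obj W).left ⟶ W.left))).injective
    refine hinj ?_
    have hover : ∀ y : ((EtCoh.bc i).obj W).left,
        W.hom.base ((pullback.fst W.hom i).base y) = IsLocalRing.closedPoint A := fun y => by
      have : i.base ((pullback.snd W.hom i).base y) ∈ ({IsLocalRing.closedPoint A} : Set _) :=
        hi ▸ ⟨_, rfl⟩
      rw [← Scheme.Hom.comp_apply, pullback.condition, Scheme.Hom.comp_apply]
      exact this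
    exact (huniq _ (hover _)).trans (huniq _ (hover _)).symm
  have hagree : unitAt i F W s' = G.obj.map ((EtCoh.bc i).map o).op t := by
    have hgerm : (Scheme.pointSmallEtale ξ).toPresheafFiber _ (liftPt i rfl W qW) G.obj (unitAt i F W s') =
        (Scheme.pointSmallEtale ξ).toPresheafFiber _ (liftPt i rfl W qW) G.obj
          (G.obj.map ((EtCoh.bc i).map o).op t) := by
      rw [unitAt_map]
      refine ((Scheme.pointSmallEtale ξ).toPresheafFiber_w_apply _ _ G.obj _).trans
        (Eq.trans ?_ ((Scheme.pointSmallEtale ξ).toPresheafFiber_w_apply _ _ G.obj _).symm)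
      have : Subsingleton ((Scheme.pointSmallEtale (ξ ≫ i)).fiber.obj
          (EtCoh.top (Spec (CommRingCat.of A)))) :=
        ⟨fun x y => Over.OverMorphism.ext (((Category.comp_id _).symm.trans (fiberHom_comp x)).trans
          ((Category.comp_id _).symm.trans (fiberHom_comp y)).symm)⟩
      rw [map_liftPt, map_liftPt, hqW, Subsingleton.elim
        ((Scheme.pointSmallEtale (ξ ≫ i)).fiber.map o qW) p₀]
      exact hzF
    refine sections_ext G _ _ fun x => ?_
    obtain ⟨T, b, e, hx⟩ := (toPresheafFiber_eq_iff_mem G.obj _ _ _ _).1 hgerm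
    rw [hpt x]
    exact ⟨T, b, e, hx⟩
  -- the section glues
  have hF : Presieve.IsSheaf (Spec (CommRingCat.of A)).smallEtaleTopology
      (F.obj ⋙ forget AddCommGrpCat.{u + 1}) :=
    (isSheaf_iff_isSheaf_of_type _ _).1 ((sheafCompose _ (forget AddCommGrpCat.{u + 1})).obj F).2
  have : Etale W.hom := W.prop
  have hsurj : ∀ x, ∃ v : W.left, W.hom.base v = x := fun x => by
    by_contra hx
    have h := closedPoint_mem_of_isClosed W.hom.isOpenMap.isOpen_range.isClosed_compl ⟨x, hx⟩
    exact h ⟨w, hw⟩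
  have ho : o.left = W.hom := (Category.comp_id _).symm.trans (Over.w o.hom)
  have hS : (Presieve.ofArrows (fun _ : PUnit.{1} => W) fun _ => o).IsSheafFor
      (F.obj ⋙ forget AddCommGrpCat.{u + 1}) := by
    rw [Presieve.isSheafFor_iff_generate]
    exact hF _ (ofArrows_mem (fun _ : PUnit.{1} => W) (fun _ => o) fun x => by
      obtain ⟨v, hv⟩ := hsurj x
      exact ⟨PUnit.unit, v, (congrArg (fun m => m.base v) ho).trans hv⟩)
  -- the product of `W` with itself
  let P : (Spec (CommRingCat.of A)).Etale :=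
    MorphismProperty.Over.mk ⊤ (pullback.fst W.hom W.hom ≫ W.hom) (show Etale _ from inferInstance)
  have : IsFinite P.hom := inferInstanceAs (IsFinite (pullback.fst W.hom W.hom ≫ W.hom))
  let pr₁ : P ⟶ W := MorphismProperty.Over.homMk (pullback.fst W.hom W.hom) rfl
  let pr₂ : P ⟶ W := MorphismProperty.Over.homMk (pullback.snd W.hom W.hom) pullback.condition.symm
  have hpr : F.obj.map pr₁.op s' = F.obj.map pr₂.op s' := by
    refine unit_app_injective i hi P F _ _ ?_
    have key : ∀ pr : P ⟶ W, unitAt i F P (F.obj.map pr.op s') =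
        G.obj.map ((EtCoh.bc i).map (pr ≫ o)).op t := fun pr => by
      rw [unitAt_map i F pr s', hagree, Functor.map_comp, op_comp, Functor.map_comp]
      rfl
    rw [key pr₁, key pr₂, (EtCore.topIsTerminal _).hom_ext (pr₁ ≫ o) (pr₂ ≫ o)]
  obtain ⟨c, hc, -⟩ := (Presieve.isSheafFor_arrows_iff _ _).1 hS (fun _ => s') fun j j' T g₁ g₂ _ => by
    let l : T ⟶ P := MorphismProperty.Over.homMk
      (pullback.lift g₁.left g₂.left ((Over.w g₁.hom :).trans (Over.w g₂.hom :).symm))
      ((pullback.lift_fst_assoc _ _ _ _).trans (Over.w g₁.hom :))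
    have h₁ : g₁ = l ≫ pr₁ := MorphismProperty.Over.Hom.ext (pullback.lift_fst _ _ _).symm
    have h₂ : g₂ = l ≫ pr₂ := MorphismProperty.Over.Hom.ext (pullback.lift_snd _ _ _).symm
    rw [h₁, h₂, op_comp, op_comp, Functor.map_comp, Functor.map_comp]
    exact congrArg (F.obj.map l.op) hpr
  have hc' : F.obj.map o.op c = s' := hc PUnit.unit
  refine ⟨c, sections_ext G _ _ fun x => ⟨(EtCoh.bc i).obj W, (EtCoh.bc i).map o, ?_,
    fiberPt (liftPt i rfl W qW), ?_⟩⟩
  · rw [← unitAt_map, hc', hagree]
  · have : IsClosedImmersion (pullback.fst (EtCoh.top (Spec (CommRingCat.of A))).hom i) :=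
      MorphismProperty.pullback_fst (P := @IsClosedImmersion) _ _ inferInstance
    have hinj := (@Scheme.Hom.isClosedEmbedding _ _ _ this).injective
    have hover : ∀ y : ((EtCoh.bc i).obj (EtCoh.top (Spec (CommRingCat.of A)))).left,
        (pullback.fst (EtCoh.top (Spec (CommRingCat.of A))).hom i).base y = IsLocalRing.closedPoint A :=
      fun y => by
        have : i.base ((pullback.snd (EtCoh.top (Spec (CommRingCat.of A))).hom i).base y) ∈
            ({IsLocalRing.closedPoint A} : Set _) := hi ▸ ⟨_, rfl⟩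
        refine Eq.trans ?_ this
        rw [← Scheme.Hom.comp_apply, ← pullback.condition, Scheme.Hom.comp_apply]
        rfl
    exact hinj ((hover _).trans (hover _).symm)

include hi in
theorem unit_top_bijective (F : EtCoh.Ab (Spec (CommRingCat.of A))) :
    Function.Bijective (unitAt i F (EtCoh.top _)) :=
  have : IsFinite (EtCoh.top (Spec (CommRingCat.of A))).hom := inferInstanceAs (IsFinite (𝟙 _))
  ⟨fun s t => unit_app_injective i hi _ F s t, unit_top_surjective i hi F⟩

include hi in
theorem map_bijective (F : EtCoh.Ab (Spec (CommRingCat.of A))) :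
    Function.Bijective fun φ : EtCoh.const (Spec (CommRingCat.of A)) ℤ ⟶ F =>
      (EtCoh.pull i).map φ := by
  let adj := EtCoh.pullPushAdj i
  let cadj := EtCore.constAdj (Spec (CommRingCat.of A))
  let η := adj.unit.app F
  have : IsIso ((EtCore.gsec _).map η) :=
    (ConcreteCategory.isIso_iff_bijective _).2 (unit_top_bijective i hi F)
  have h1 : Function.Bijective fun φ : EtCoh.const (Spec (CommRingCat.of A)) ℤ ⟶ F => φ ≫ η := by
    refine (Function.Bijective.of_comp_iff' (cadj.homEquiv _ _).bijective _).1 ?_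
    have : ((cadj.homEquiv _ _) ∘ fun φ : EtCoh.const (Spec (CommRingCat.of A)) ℤ ⟶ F => φ ≫ η) =
        (fun g => g ≫ (EtCore.gsec _).map η) ∘ cadj.homEquiv _ _ :=
      funext fun φ => cadj.homEquiv_naturality_right φ η
    rw [this]
    refine Function.Bijective.comp ⟨fun g g' h => (cancel_mono _).1 h, fun g =>
      ⟨g ≫ inv ((EtCore.gsec _).map η), ?_⟩⟩ (cadj.homEquiv _ _).bijective
    dsimp only
    exact (Category.assoc _ _ _).trans ((_ ≫= IsIso.inv_hom_id _).trans (Category.comp_id _))
  refine (Function.Bijective.of_comp_iff' (adj.homEquiv _ _).bijective _).1 ?_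
  convert h1 using 1
  funext φ
  exact (adj.homEquiv_unit _ _ _).trans (adj.unit.naturality φ).symm

theorem range_closedPoint :
    Set.range (Spec.map (CommRingCat.ofHom (IsLocalRing.residue A))).base =
      {IsLocalRing.closedPoint A} := by
  refine Set.eq_singleton_iff_nonempty_unique_mem.2
    ⟨⟨_, IsLocalRing.closedPoint (IsLocalRing.ResidueField A), rfl⟩, ?_⟩
  rintro _ ⟨x, rfl⟩
  refine PrimeSpectrum.ext ?_
  change Ideal.comap (IsLocalRing.residue A) x.asIdeal = IsLocalRing.maximalIdeal A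
  rw [(Ideal.eq_bot_or_top x.asIdeal).resolve_right x.isPrime.ne_top, ← RingHom.ker_eq_comap_bot,
    IsLocalRing.ker_residue]

/-- Inverse images of injectives on the closed point have no higher cohomology. -/
theorem H_pull_injective (I : EtCoh.Ab (Spec (CommRingCat.of A))) [Injective I] (n : ℕ) :
    Subsingleton (EtCoh.H _
      ((EtCoh.pull (Spec.map (CommRingCat.ofHom (IsLocalRing.residue A)))).obj I) (n + 1)) := by
  let ι := Spec.map (CommRingCat.ofHom (IsLocalRing.residue A))
  let P := RootExt.proj A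
  have sq : IsPullback (pullback.fst P ι) (pullback.snd P ι) P ι := IsPullback.of_hasPullback P ι
  have := mono_unit_of_surjective P (RootExt.proj_surjective A) I
  have hb := BaseChange.isIso_baseChange0 sq ((EtCoh.pull P).obj I)
  let e := asIso (EtCoh.baseChange0 P ι (pullback.snd P ι) (pullback.fst P ι) sq.w
    ((EtCoh.pull P).obj I))
  have hsec : (EtCore.gsec (pullback P ι)).PreservesEpimorphisms :=
    Sections.gsec_preservesEpimorphisms (RootExt.hasSections_fibre A _ Ideal.Quotient.mk_surjective)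
  have := ExtCompare.H_push_subsingleton (pullback.snd P ι) hsec n
    ((EtCoh.pull (pullback.fst P ι)).obj ((EtCoh.pull P).obj I))
  let r := Injective.factorThru (𝟙 I) ((EtCoh.pullPushAdj P).unit.app I)
  refine ExtCompare.subsingleton_of_retract _
    ((EtCoh.pull ι).map ((EtCoh.pullPushAdj P).unit.app I) ≫ e.hom)
    (e.inv ≫ (EtCoh.pull ι).map r) ?_ (n + 1)
  rw [Category.assoc, e.hom_inv_id_assoc, ← Functor.map_comp, Injective.comp_factorThru]
  exact (EtCoh.pull ι).map_id I

/-- Cohomology of a henselian local scheme is cohomology of its closed point. -/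
theorem Hpull_bijective (F : EtCoh.Ab (Spec (CommRingCat.of A)))
    [PreservesFiniteLimits (EtCoh.pull (Spec.map (CommRingCat.ofHom (IsLocalRing.residue A))))]
    (n : ℕ) :
    Function.Bijective
      (EtCore.Hpull (Spec.map (CommRingCat.ofHom (IsLocalRing.residue A))) F n) := by
  let ι := Spec.map (CommRingCat.ofHom (IsLocalRing.residue A))
  have : IsClosedImmersion ι := IsClosedImmersion.spec_of_surjective _ Ideal.Quotient.mk_surjective
  let c := EtCore.pullConst ι ℤ
  have hpre : ∀ (G : EtCoh.Ab (Spec (CommRingCat.of (IsLocalRing.ResidueField A)))) (m : ℕ),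
      Function.Bijective fun x : Abelian.Ext.{u + 1} ((EtCoh.pull ι).obj (EtCoh.const _ ℤ)) G m =>
        (Abelian.Ext.mk₀ c.inv).comp x (zero_add m) := fun G m => by
    refine Function.bijective_iff_has_inverse.2
      ⟨fun x => (Abelian.Ext.mk₀ c.hom).comp x (zero_add m), fun x => ?_, fun x => ?_⟩
    · dsimp only
      rw [Abelian.Ext.mk₀_comp_mk₀_assoc, c.hom_inv_id, Abelian.Ext.mk₀_id_comp]
    · dsimp only
      rw [Abelian.Ext.mk₀_comp_mk₀_assoc, c.inv_hom_id, Abelian.Ext.mk₀_id_comp]
  have hmap := ExtCompare.mapExt_bijective (EtCoh.pull ι) (EtCoh.const _ ℤ)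
    (map_bijective ι range_closedPoint) (fun I hI m => ?_) F n
  · exact (hpre _ n).comp hmap
  · have := H_pull_injective (A := A) I m
    exact (hpre _ (m + 1)).1.subsingleton

end Groth.Agent.Lib.EtSite.HensClosed
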