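import Groth.Agent.Lib.EtSite.UnitStalk
import Groth.Agent.Lib.EtSite.BaseChange
import Groth.Agent.Lib.EtSite.Push

/-!
Descent of sections of sheaves of sets along universally submersive morphisms: germs of inverse
images, compatibility of the canonical descent datum with germs, and the exactness of
`Γ(V, F) → Γ(V', F') ⇉ Γ(V'', F'')`.
-/

set_option autoImplicit false

universe u

open CategoryTheory CategoryTheory.Limits AlgebraicGeometry Opposite

noncomputable section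

namespace Groth.Agent.Lib.EtSite.SubDescent

open Groth.Agent.Lib.EtSite Groth.Agent.Lib.EtSite.Basic Groth.Agent.Lib.EtSite.PushStalk

variable {X S : Scheme.{u}} (f : X ⟶ S)

/-- The stalk at a geometric point. -/
abbrev stalk {Z : Scheme.{u}} {Ω : Type u} [Field Ω] [IsSepClosed Ω]
    (ξ : Spec (CommRingCat.of Ω) ⟶ Z) (F : EtDesc.Sh Z) : Type (u + 1) :=
  (Scheme.pointSmallEtale ξ).sheafFiber.obj F

/-- The germ of a section. -/
abbrev germ {Z : Scheme.{u}} {Ω : Type u} [Field Ω] [IsSepClosed Ω]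
    (ξ : Spec (CommRingCat.of Ω) ⟶ Z) (F : EtDesc.Sh Z) {V : Z.Etale}
    (p : (Scheme.pointSmallEtale ξ).fiber.obj V) (s : EtDesc.sect F V) : stalk ξ F :=
  (Scheme.pointSmallEtale ξ).toPresheafFiber V p F.obj s

/-- The induced map on stalks. -/
abbrev stalkMap {Z : Scheme.{u}} {Ω : Type u} [Field Ω] [IsSepClosed Ω]
    (ξ : Spec (CommRingCat.of Ω) ⟶ Z) {F G : EtDesc.Sh Z} (φ : F ⟶ G) (x : stalk ξ F) :
    stalk ξ G :=
  (Scheme.pointSmallEtale ξ).sheafFiber.map φ x

theorem stalkMap_germ {Z : Scheme.{u}} {Ω : Type u} [Field Ω] [IsSepClosed Ω]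
    (ξ : Spec (CommRingCat.of Ω) ⟶ Z) {F G : EtDesc.Sh Z} (φ : F ⟶ G) {V : Z.Etale}
    (p : (Scheme.pointSmallEtale ξ).fiber.obj V) (s : EtDesc.sect F V) :
    stalkMap ξ φ (germ ξ F p s) = germ ξ G p (φ.hom.app (op V) s) :=
  GrothendieckTopology.Point.toPresheafFiber_naturality_apply _ φ.hom V p s

theorem stalkMap_comp {Z : Scheme.{u}} {Ω : Type u} [Field Ω] [IsSepClosed Ω]
    (ξ : Spec (CommRingCat.of Ω) ⟶ Z) {F G H : EtDesc.Sh Z} (φ : F ⟶ G) (ψ : G ⟶ H)
    (x : stalk ξ F) : stalkMap ξ (φ ≫ ψ) x = stalkMap ξ ψ (stalkMap ξ φ x) := by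
  simp [stalkMap]

theorem stalkMap_id {Z : Scheme.{u}} {Ω : Type u} [Field Ω] [IsSepClosed Ω]
    (ξ : Spec (CommRingCat.of Ω) ⟶ Z) {F : EtDesc.Sh Z} (x : stalk ξ F) :
    stalkMap ξ (𝟙 F) x = x := by
  simp [stalkMap]

theorem germ_map {Z : Scheme.{u}} {Ω : Type u} [Field Ω] [IsSepClosed Ω]
    (ξ : Spec (CommRingCat.of Ω) ⟶ Z) (F : EtDesc.Sh Z) {V W : Z.Etale} (g : W ⟶ V)
    (q : (Scheme.pointSmallEtale ξ).fiber.obj W) (s : EtDesc.sect F V) :
    germ ξ F q (F.obj.map g.op s) = germ ξ F ((Scheme.pointSmallEtale ξ).fiber.map g q) s :=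
  (Scheme.pointSmallEtale ξ).toPresheafFiber_w_apply g q F.obj s

/-- The adjunction unit on sections. -/
abbrev unitSh (F : EtDesc.Sh S) (V : S.Etale) (a : EtDesc.sect F V) :
    EtDesc.sect ((EtDesc.pullSh f).obj F) ((EtCoh.bc f).obj V) :=
  ((EtDesc.adjSh f).unit.app F).hom.app (op V) a

theorem unitSh_map (F : EtDesc.Sh S) {V W : S.Etale} (g : W ⟶ V) (a : EtDesc.sect F V) :
    unitSh f F W (F.obj.map g.op a) =
      ((EtDesc.pullSh f).obj F).obj.map ((EtCoh.bc f).map g).op (unitSh f F V a) :=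
  NatTrans.naturality_apply ((EtDesc.adjSh f).unit.app F).hom g.op a

/-- The map from the stalk of `F` to the stalk of its inverse image. -/
def germUnit (F : EtDesc.Sh S) {Ω : Type u} [Field Ω] [IsSepClosed Ω]
    {η : Spec (CommRingCat.of Ω) ⟶ S} {ξ : Spec (CommRingCat.of Ω) ⟶ X} (h : ξ ≫ f = η)
    (x : stalk η F) : stalk ξ ((EtDesc.pullSh f).obj F) :=
  (germTo f (Type (u + 1)) h).app ((EtDesc.pullSh f).obj F)
    (stalkMap η ((EtDesc.adjSh f).unit.app F) x)

theorem bijective_germUnit (F : EtDesc.Sh S) {Ω : Type u} [Field Ω] [IsSepClosed Ω]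
    {η : Spec (CommRingCat.of Ω) ⟶ S} {ξ : Spec (CommRingCat.of Ω) ⟶ X} (h : ξ ≫ f = η) :
    Function.Bijective (germUnit f F h) := by
  subst h
  have := UnitStalk.isIso_unitStalk f ξ (Type (u + 1)) F
  exact (ConcreteCategory.isIso_iff_bijective (UnitStalk.unitStalk f ξ (Type (u + 1)) F)).1 this

theorem germUnit_germ (F : EtDesc.Sh S) {Ω : Type u} [Field Ω] [IsSepClosed Ω]
    {η : Spec (CommRingCat.of Ω) ⟶ S} {ξ : Spec (CommRingCat.of Ω) ⟶ X} (h : ξ ≫ f = η)
    {V : S.Etale} (p : (Scheme.pointSmallEtale η).fiber.obj V) (a : EtDesc.sect F V) :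
    germUnit f F h (germ η F p a) =
      germ ξ ((EtDesc.pullSh f).obj F) (liftPt f h V p) (unitSh f F V a) := by
  refine Eq.trans ?_ (germTo_toPresheafFiber f h ((EtDesc.pullSh f).obj F) V p (unitSh f F V a))
  exact congrArg ((germTo f (Type (u + 1)) h).app ((EtDesc.pullSh f).obj F))
    (stalkMap_germ η _ p a)

theorem germUnit_naturality {F G : EtDesc.Sh S} (φ : F ⟶ G) {Ω : Type u} [Field Ω] [IsSepClosed Ω]
    {η : Spec (CommRingCat.of Ω) ⟶ S} {ξ : Spec (CommRingCat.of Ω) ⟶ X} (h : ξ ≫ f = η)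
    (x : stalk η F) :
    stalkMap ξ ((EtDesc.pullSh f).map φ) (germUnit f F h x) = germUnit f G h (stalkMap η φ x) := by
  obtain ⟨V, p, a, rfl⟩ := (Scheme.pointSmallEtale η).toPresheafFiber_jointly_surjective (P := F.obj) x
  rw [germUnit_germ, stalkMap_germ, stalkMap_germ, germUnit_germ]
  refine congrArg (germ ξ _ _) ?_
  have h' := (EtDesc.adjSh f).unit.naturality φ
  exact (congrArg (fun ψ : F ⟶ (EtDesc.pushSh f).obj ((EtDesc.pullSh f).obj G) =>
    ψ.hom.app (op V) a) h').symm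

theorem germUnit_comp {Y : Scheme.{u}} (g : Y ⟶ X) (F : EtDesc.Sh S) {Ω : Type u} [Field Ω]
    [IsSepClosed Ω] {η : Spec (CommRingCat.of Ω) ⟶ S} {ξ : Spec (CommRingCat.of Ω) ⟶ X}
    {ζ : Spec (CommRingCat.of Ω) ⟶ Y} (k : ζ ≫ g = ξ) (h : ξ ≫ f = η) (hb : ζ ≫ g ≫ f = η)
    (x : stalk η F) :
    stalkMap ζ ((EtDesc.pullCompSh g f).hom.app F) (germUnit (g ≫ f) F hb x) =
      germUnit g ((EtDesc.pullSh f).obj F) k (germUnit f F h x) := by
  obtain ⟨V, p, a, rfl⟩ := (Scheme.pointSmallEtale η).toPresheafFiber_jointly_surjective (P := F.obj) x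
  rw [germUnit_germ, germUnit_germ, germUnit_germ, stalkMap_germ]
  have hu := Adjunction.unit_leftAdjointUniq_hom_app (EtDesc.adjSh (g ≫ f))
    (((EtDesc.adjSh f).comp (EtDesc.adjSh g)).ofNatIsoRight (EtDesc.pushCompSh f g)) F
  have hu' : ((EtDesc.pullCompSh g f).hom.app F).hom.app (op ((EtCoh.bc (g ≫ f)).obj V))
      (unitSh (g ≫ f) F V a) =
      ((EtDesc.pullSh g).obj ((EtDesc.pullSh f).obj F)).obj.map
        ((MorphismProperty.Over.pullbackComp (P := EtCoh.etaleMP) (Q := ⊤) g f).hom.app V).op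
        (unitSh g ((EtDesc.pullSh f).obj F) ((EtCoh.bc f).obj V) (unitSh f F V a)) := by
    refine (congrArg (fun ψ : F ⟶ (EtDesc.pushSh (g ≫ f)).obj
      ((EtDesc.pullSh g).obj ((EtDesc.pullSh f).obj F)) => ψ.hom.app (op V) a) hu).trans ?_
    simp [Adjunction.ofNatIsoRight, EtDesc.pushCompSh, Functor.sheafPushforwardContinuousComp']
    rfl
  rw [hu']
  refine (germ_map ζ ((EtDesc.pullSh g).obj ((EtDesc.pullSh f).obj F)) _ _ _).trans ?_
  congr 1
  apply Over.OverMorphism.ext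
  apply pullback.hom_ext
  · apply pullback.hom_ext
    · refine (Category.assoc _ _ _).trans ((Category.assoc _ _ _).trans ?_)
      refine (_ ≫= MorphismProperty.Over.pullbackComp_left_fst_fst (P := EtCoh.etaleMP) (Q := ⊤)
        g f V).trans ?_
      refine (pullback.lift_fst _ _ _).trans ?_
      exact ((congrArg (· ≫ pullback.fst V.hom f) (pullback.lift_fst _ _ _)).trans
        (pullback.lift_fst _ _ _)).symm
    · refine Eq.trans ?_ ((congrArg (· ≫ pullback.snd V.hom f) (pullback.lift_fst _ _ _)).trans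
        (pullback.lift_snd _ _ _)).symm
      refine ((Category.assoc _ _ _).trans ((_ ≫= pullback.condition).trans
        (Category.assoc _ _ _).symm)).trans ?_
      exact (congrArg (· ≫ g) (fiberHom_comp _)).trans k
  · exact (fiberHom_comp _).trans (fiberHom_comp _).symm

theorem pullVia_germUnit {Y : Scheme.{u}} (g : Y ⟶ X) (b : Y ⟶ S) (w : g ≫ f = b)
    (F : EtDesc.Sh S) {Ω : Type u} [Field Ω] [IsSepClosed Ω] {η : Spec (CommRingCat.of Ω) ⟶ S}
    {ξ : Spec (CommRingCat.of Ω) ⟶ X} {ζ : Spec (CommRingCat.of Ω) ⟶ Y} (k : ζ ≫ g = ξ)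
    (h : ξ ≫ f = η) (hb : ζ ≫ b = η) (x : stalk η F) :
    stalkMap ζ (EtDesc.pullVia g f b w F).hom
        (germUnit g ((EtDesc.pullSh f).obj F) k (germUnit f F h x)) =
      germUnit b F hb x := by
  subst w
  rw [← germUnit_comp f g F k h hb x, ← stalkMap_comp]
  simp [EtDesc.pullVia, EtDesc.pullCongrSh, stalkMap_id]

theorem canIso_germUnit (F : EtDesc.Sh S) {Ω : Type u} [Field Ω] [IsSepClosed Ω]
    {η : Spec (CommRingCat.of Ω) ⟶ S} {ξ₁ ξ₂ : Spec (CommRingCat.of Ω) ⟶ X}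
    {ζ : Spec (CommRingCat.of Ω) ⟶ EtDesc.X2 f} (k₁ : ζ ≫ pullback.fst f f = ξ₁)
    (k₂ : ζ ≫ pullback.snd f f = ξ₂) (h₁ : ξ₁ ≫ f = η) (h₂ : ξ₂ ≫ f = η) (x : stalk η F) :
    stalkMap ζ (EtDesc.canIso f F).hom
        (germUnit (pullback.fst f f) ((EtDesc.pullSh f).obj F) k₁ (germUnit f F h₁ x)) =
      germUnit (pullback.snd f f) ((EtDesc.pullSh f).obj F) k₂ (germUnit f F h₂ x) := by
  have hb : ζ ≫ pullback.fst f f ≫ f = η := by rw [← Category.assoc, k₁, h₁]
  rw [EtDesc.canIso, Iso.trans_hom, stalkMap_comp,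
    pullVia_germUnit f (pullback.fst f f) _ rfl F k₁ h₁ hb x,
    ← pullVia_germUnit f (pullback.snd f f) _ pullback.condition.symm F k₂ h₂ hb x,
    ← stalkMap_comp, Iso.symm_hom, Iso.hom_inv_id, stalkMap_id]

/-- A geometric point of `S` and a lift to `X` attached to a point of a base change. -/
theorem exists_geom {V : S.Etale} (z : ((EtCoh.bc f).obj V).left) :
    ∃ (Ω : Type u) (_ : Field Ω) (_ : IsSepClosed Ω) (η : Spec (CommRingCat.of Ω) ⟶ S)
      (ξ : Spec (CommRingCat.of Ω) ⟶ X) (h : ξ ≫ f = η)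
      (p : (Scheme.pointSmallEtale η).fiber.obj V), fiberPt (liftPt f h V p) = z := by
  let m := Push.algPoint ((EtCoh.bc f).obj V).left z
  refine ⟨_, inferInstance, inferInstance, m ≫ pullback.fst V.hom f ≫ V.hom,
    m ≫ pullback.snd V.hom f, (Category.assoc _ _ _).trans (_ ≫= pullback.condition.symm),
    mkFiber _ V (m ≫ pullback.fst V.hom f) (Category.assoc _ _ _), ?_⟩
  have e : fiberHom (liftPt f ((Category.assoc m (pullback.snd V.hom f) f).trans
      (m ≫= pullback.condition.symm)) V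
      (mkFiber _ V (m ≫ pullback.fst V.hom f) (Category.assoc _ _ _))) = m :=
    pullback.hom_ext (pullback.lift_fst _ _ _) (pullback.lift_snd _ _ _)
  exact (congrArg (fun q : Spec (CommRingCat.of _) ⟶ ((EtCoh.bc f).obj V).left => q.base default) e).trans
    (Push.algPoint_apply _ z default)

/-- Two geometric lifts over a common geometric point of `V`. -/
theorem exists_geom_pair {V : S.Etale} (w₁ w₂ : ((EtCoh.bc f).obj V).left)
    (hw : (pullback.fst V.hom f).base w₁ = (pullback.fst V.hom f).base w₂) :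
    ∃ (Ω : Type u) (_ : Field Ω) (_ : IsSepClosed Ω) (η : Spec (CommRingCat.of Ω) ⟶ S)
      (ξ₁ ξ₂ : Spec (CommRingCat.of Ω) ⟶ X) (h₁ : ξ₁ ≫ f = η) (h₂ : ξ₂ ≫ f = η)
      (p : (Scheme.pointSmallEtale η).fiber.obj V),
      fiberPt (liftPt f h₁ V p) = w₁ ∧ fiberPt (liftPt f h₂ V p) = w₂ := by
  obtain ⟨z, hz₁, hz₂⟩ := Scheme.Pullback.exists_preimage_pullback (f := pullback.fst V.hom f)
    (g := pullback.fst V.hom f) w₁ w₂ hw
  let m := Push.algPoint _ z
  let m₁ := m ≫ pullback.fst (pullback.fst V.hom f) (pullback.fst V.hom f)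
  let m₂ := m ≫ pullback.snd (pullback.fst V.hom f) (pullback.fst V.hom f)
  have hm : m₁ ≫ pullback.fst V.hom f = m₂ ≫ pullback.fst V.hom f := by
    simp only [m₁, m₂, Category.assoc, pullback.condition]
  refine ⟨_, inferInstance, inferInstance, m₁ ≫ pullback.fst V.hom f ≫ V.hom,
    m₁ ≫ pullback.snd V.hom f, m₂ ≫ pullback.snd V.hom f,
    (Category.assoc _ _ _).trans (_ ≫= pullback.condition.symm),
    (Category.assoc _ _ _).trans ((_ ≫= pullback.condition.symm).trans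
      ((Category.assoc _ _ _).symm.trans ((congrArg (· ≫ V.hom) hm.symm).trans
        (Category.assoc _ _ _)))),
    mkFiber _ V (m₁ ≫ pullback.fst V.hom f) (Category.assoc _ _ _), ?_, ?_⟩
  · refine Eq.trans (congrArg (fun q : Spec (CommRingCat.of _) ⟶ ((EtCoh.bc f).obj V).left =>
      q.base default) (?_ : _ = m₁)) ?_
    · exact pullback.hom_ext (pullback.lift_fst _ _ _) (pullback.lift_snd _ _ _)
    · exact (congrArg (pullback.fst (pullback.fst V.hom f) (pullback.fst V.hom f)).base (Push.algPoint_apply _ z default)).trans hz₁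
  · refine Eq.trans (congrArg (fun q : Spec (CommRingCat.of _) ⟶ ((EtCoh.bc f).obj V).left =>
      q.base default) (?_ : _ = m₂)) ?_
    · exact pullback.hom_ext ((pullback.lift_fst _ _ _).trans hm) (pullback.lift_snd _ _ _)
    · exact (congrArg (pullback.snd (pullback.fst V.hom f) (pullback.fst V.hom f)).base (Push.algPoint_apply _ z default)).trans hz₂

/-- An open subset saturated for the projection is the preimage of an open subset. -/
theorem exists_open_sub (hf : EtDesc.IsUnivSubmersive f) (V : S.Etale)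
    (O : Set ((EtCoh.bc f).obj V).left) (hO : IsOpen O)
    (hsat : ∀ w₁ w₂ : ((EtCoh.bc f).obj V).left,
      (pullback.fst V.hom f).base w₁ = (pullback.fst V.hom f).base w₂ → w₁ ∈ O → w₂ ∈ O) :
    ∃ E : V.left.Opens, ∀ w, (pullback.fst V.hom f).base w ∈ E ↔ w ∈ O := by
  let σ : pullback f V.hom ⟶ pullback V.hom f := (pullbackSymmetry f V.hom).hom
  have hσ : σ ≫ pullback.fst V.hom f = pullback.snd f V.hom := pullbackSymmetry_hom_comp_fst _ _
  let Eset : Set V.left := (pullback.fst V.hom f).base '' O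
  have hpre : (pullback.snd f V.hom).base ⁻¹' Eset = σ.base ⁻¹' O := by
    ext w
    have hw : (pullback.snd f V.hom).base w = (pullback.fst V.hom f).base (σ.base w) :=
      (congrArg (fun q => q.base w) hσ).symm
    simp only [Set.mem_preimage, Eset, Set.mem_image, hw]
    exact ⟨fun ⟨w', hw', e⟩ => hsat w' _ e hw', fun h => ⟨_, h, rfl⟩⟩
  exact ⟨⟨Eset, (hf V.left V.hom).2.isOpen_preimage.1 (hpre.symm ▸ hO.preimage σ.continuous)⟩,
    fun w => ⟨fun ⟨w', hw', e⟩ => hsat w' _ e hw', fun h => ⟨w, h, rfl⟩⟩⟩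

theorem surjective_fst (hf : EtDesc.IsUnivSubmersive f) (V : S.Etale) (v : V.left) :
    ∃ z : ((EtCoh.bc f).obj V).left, (pullback.fst V.hom f).base z = v := by
  obtain ⟨y, rfl⟩ := (hf V.left V.hom).1 v
  exact ⟨(pullbackSymmetry f V.hom).hom.base y,
    congrArg (fun q : pullback f V.hom ⟶ V.left => q.base y) (pullbackSymmetry_hom_comp_fst _ _)⟩

theorem unitSh_injective (hf : EtDesc.IsUnivSubmersive f) (F : EtDesc.Sh S) (V : S.Etale) :
    Function.Injective (unitSh f F V) := by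
  intro a a' e
  refine Stalk.sections_ext_of_germ F a a' fun s => ?_
  obtain ⟨y, hy⟩ := (hf S (𝟙 S)).1 s
  let x := (pullback.fst f (𝟙 S)).base y
  have hx : f.base x = s :=
    (congrArg (fun q : pullback f (𝟙 S) ⟶ S => q.base y) pullback.condition).trans hy
  refine ⟨_, inferInstance, inferInstance, Push.algPoint X x ≫ f, ?_, fun p => ?_⟩
  · exact (congrArg f.base (Push.algPoint_apply X x default)).trans hx
  · apply (bijective_germUnit f F (rfl : Push.algPoint X x ≫ f = _)).1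
    exact (germUnit_germ f F _ p a).trans ((congrArg _ e).trans (germUnit_germ f F _ p a').symm)

/-- A section of the inverse image comes from the base as soon as its germs do so coherently. -/
theorem exists_unitSh_eq (hf : EtDesc.IsUnivSubmersive f) (F : EtDesc.Sh S) (V₀ : S.Etale)
    (t : EtDesc.sect ((EtDesc.pullSh f).obj F) ((EtCoh.bc f).obj V₀))
    (hc : ∀ (Ω : Type u) [Field Ω] [IsSepClosed Ω] (η : Spec (CommRingCat.of Ω) ⟶ S)
      (ξ₁ ξ₂ : Spec (CommRingCat.of Ω) ⟶ X) (h₁ : ξ₁ ≫ f = η) (h₂ : ξ₂ ≫ f = η)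
      (p : (Scheme.pointSmallEtale η).fiber.obj V₀) (c : stalk η F),
      germ ξ₁ _ (liftPt f h₁ V₀ p) t = germUnit f F h₁ c →
        germ ξ₂ _ (liftPt f h₂ V₀ p) t = germUnit f F h₂ c) :
    ∃ s : EtDesc.sect F V₀, unitSh f F V₀ s = t := by
  classical
  have hloc : ∀ v : V₀.left, ∃ (W : S.Etale) (g : W ⟶ V₀) (a : EtDesc.sect F W),
      ((EtDesc.pullSh f).obj F).obj.map ((EtCoh.bc f).map g).op t = unitSh f F W a ∧
        ∃ w : W.left, g.left.base w = v := by
    intro v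
    obtain ⟨z, rfl⟩ := surjective_fst f hf V₀ v
    obtain ⟨Ω, _, _, η, ξ, h, p, rfl⟩ := exists_geom f z
    obtain ⟨c, hcξ⟩ := (bijective_germUnit f F h).2 (germ ξ _ (liftPt f h V₀ p) t)
    obtain ⟨V', q', a', rfl⟩ := (Scheme.pointSmallEtale η).toPresheafFiber_jointly_surjective (P := F.obj) c
    let M := IsCofiltered.min ((Scheme.pointSmallEtale η).fiber.elementsMk V₀ p)
      ((Scheme.pointSmallEtale η).fiber.elementsMk V' q')
    let g : M ⟶ (Scheme.pointSmallEtale η).fiber.elementsMk V₀ p := IsCofiltered.minToLeft _ _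
    let g' : M ⟶ (Scheme.pointSmallEtale η).fiber.elementsMk V' q' := IsCofiltered.minToRight _ _
    let W : S.Etale := M.1
    let q : (Scheme.pointSmallEtale η).fiber.obj W := M.2
    have hg : (Scheme.pointSmallEtale η).fiber.map g.1 q = p := g.2
    have hg' : (Scheme.pointSmallEtale η).fiber.map g'.1 q = q' := g'.2
    let a : EtDesc.sect F W := F.obj.map g'.1.op a'
    let t' := ((EtDesc.pullSh f).obj F).obj.map ((EtCoh.bc f).map g.1).op t
    have key : ∀ (Ω' : Type u) [Field Ω'] [IsSepClosed Ω'] (η' : Spec (CommRingCat.of Ω') ⟶ S)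
        (ξ' : Spec (CommRingCat.of Ω') ⟶ X) (h' : ξ' ≫ f = η')
        (r : (Scheme.pointSmallEtale η').fiber.obj W),
        fiberPt (liftPt f h' W r) ∈ {x | ∃ (W' : X.Etale) (b : W' ⟶ (EtCoh.bc f).obj W),
          ((EtDesc.pullSh f).obj F).obj.map b.op t' =
            ((EtDesc.pullSh f).obj F).obj.map b.op (unitSh f F W a) ∧ x ∈ Set.range b.left.base} ↔
        germ ξ' _ (liftPt f h' V₀ ((Scheme.pointSmallEtale η').fiber.map g.1 r)) t =
          germUnit f F h' (germ η' F r a) := by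
      intro Ω' _ _ η' ξ' h' r
      rw [← BaseChange.toPresheafFiber_eq_iff_mem, germUnit_germ, ← map_liftPt f h' g.1 r]
      exact Eq.congr (germ_map ξ' _ _ _ t) rfl
    obtain ⟨E, hE⟩ := exists_open_sub f hf W _
      (BaseChange.isOpen_agree ((EtDesc.pullSh f).obj F).obj _ t' (unitSh f F W a))
      fun w₁ w₂ h12 hw₁ => by
        obtain ⟨Ω', _, _, η', ξ₁, ξ₂, h₁, h₂, r, rfl, rfl⟩ := exists_geom_pair f w₁ w₂ h12
        exact (key Ω' η' ξ₂ h₂ r).2 (hc Ω' η' ξ₁ ξ₂ h₁ h₂ _ _ ((key Ω' η' ξ₁ h₁ r).1 hw₁))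
    have hqE : fiberPt q ∈ E := by
      have hmem := (key Ω η ξ h q).2 (by
        rw [hg]
        refine hcξ.symm.trans (congrArg (germUnit f F h) ?_)
        exact ((congrArg (germ η F · a') hg').symm.trans (germ_map η F g'.1 q a').symm))
      have e1 : (pullback.fst W.hom f).base (fiberPt (liftPt f h W q)) = fiberPt q :=
        congrArg (fun m : Spec (CommRingCat.of Ω) ⟶ W.left => m.base default)
          (pullback.lift_fst (fiberHom q) ξ ((fiberHom_comp q).trans h.symm))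
      exact e1 ▸ (hE _).2 hmem
    have : Etale W.hom := W.prop
    let W₁ : S.Etale := Scheme.Etale.mk (E.ι ≫ W.hom)
    let e : W₁ ⟶ W := MorphismProperty.Over.homMk E.ι rfl
    refine ⟨W₁, e ≫ g.1, F.obj.map e.op a, ?_, ⟨fiberPt q, hqE⟩, ?_⟩
    · rw [unitSh_map, Functor.map_comp, op_comp, Functor.map_comp]
      refine (ConcreteCategory.comp_apply (((EtDesc.pullSh f).obj F).obj.map ((EtCoh.bc f).map g.1).op) _ t).trans ?_
      refine Stalk.sections_ext_of_germ ((EtDesc.pullSh f).obj F) _ _ fun x => ?_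
      refine ⟨_, inferInstance, inferInstance, Push.algPoint X x, Push.algPoint_apply X x default,
        fun pw => ?_⟩
      refine (germ_map _ _ ((EtCoh.bc f).map e) pw _).trans
        (Eq.trans ?_ (germ_map _ _ ((EtCoh.bc f).map e) pw _).symm)
      refine (BaseChange.toPresheafFiber_eq_iff_mem _ _ _ _ _).2 ((hE _).1 ?_)
      rw [fiberPt_map]
      have he := congrArg (fun q => q.base (fiberPt pw)) (EtCoh.isPullback_bc_map f e).w
      exact (he : _) ▸ ((pullback.fst W₁.hom f).base (fiberPt pw)).2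
    · refine Eq.trans ?_ (congrArg (fun m : Spec (CommRingCat.of Ω) ⟶ V₀.left => m.base default)
        (pullback.lift_fst (fiberHom p) ξ ((fiberHom_comp p).trans h.symm))).symm
      change g.1.left.base (fiberPt q) = fiberPt p
      rw [← fiberPt_map, hg]
  choose W g a ha w hw using hloc
  have hF : Presieve.IsSheaf S.smallEtaleTopology F.obj := (isSheaf_iff_isSheaf_of_type _ _).1 F.2
  have hS := (Presieve.isSheafFor_arrows_iff F.obj g).1
    ((Presieve.isSheafFor_iff_generate _).2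
      (hF _ (ofArrows_mem W g fun v => ⟨v, w v, hw v⟩)))
  obtain ⟨q, hq, -⟩ := hS a fun i j Z gi gj hij => by
    apply unitSh_injective f hf F Z
    change unitSh f F Z (F.obj.map gi.op (a i)) = unitSh f F Z (F.obj.map gj.op (a j))
    rw [unitSh_map, unitSh_map, ← ha, ← ha, ← ConcreteCategory.comp_apply,
      ← ConcreteCategory.comp_apply, ← Functor.map_comp, ← Functor.map_comp, ← op_comp, ← op_comp,
      ← Functor.map_comp, ← Functor.map_comp, hij]
  refine ⟨q, Stalk.sections_ext ((EtDesc.pullSh f).obj F) _ _ fun x => ?_⟩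
  let y : V₀.left := (pullback.fst V₀.hom f).base x
  refine ⟨(EtCoh.bc f).obj (W y), (EtCoh.bc f).map (g y), ?_, ?_⟩
  · rw [← unitSh_map]
    exact (congrArg (unitSh f F (W y)) (hq y)).trans (ha y).symm
  · obtain ⟨z, hz, hz'⟩ := Scheme.Pullback.exists_preimage_pullback
      (f := (g y).left) (g := pullback.fst V₀.hom f) (w y) x (hw y)
    let l : pullback (g y).left (pullback.fst V₀.hom f) ⟶ ((EtCoh.bc f).obj (W y)).left :=
      (EtCoh.isPullback_bc_map f (g y)).lift (pullback.snd _ _) (pullback.fst _ _)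
        pullback.condition.symm
    refine ⟨l.base z, ?_⟩
    exact (congrArg (fun m : pullback (g y).left (pullback.fst V₀.hom f) ⟶
      ((EtCoh.bc f).obj V₀).left => m.base z) (IsPullback.lift_fst _ _ _ _)).trans hz'

/-- The point of the final object at a geometric point. -/
abbrev topPt {Z : Scheme.{u}} {Ω : Type u} [Field Ω] [IsSepClosed Ω]
    (ξ : Spec (CommRingCat.of Ω) ⟶ Z) : (Scheme.pointSmallEtale ξ).fiber.obj (EtCoh.top Z) :=
  mkFiber ξ (EtCoh.top Z) ξ (Category.comp_id _)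

theorem eq_topPt {Z : Scheme.{u}} {Ω : Type u} [Field Ω] [IsSepClosed Ω]
    (ξ : Spec (CommRingCat.of Ω) ⟶ Z) (p : (Scheme.pointSmallEtale ξ).fiber.obj (EtCoh.top Z)) :
    p = topPt ξ :=
  Over.OverMorphism.ext (((Category.comp_id _).symm.trans (fiberHom_comp p)).trans rfl)

/-- The germ of the pullback of a global section. -/
theorem germ_secPull (F : EtDesc.Sh S) {Ω : Type u} [Field Ω] [IsSepClosed Ω]
    {η : Spec (CommRingCat.of Ω) ⟶ S} {ξ : Spec (CommRingCat.of Ω) ⟶ X} (h : ξ ≫ f = η)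
    (s : EtDesc.sect F (EtCoh.top S)) :
    germ ξ _ (topPt ξ) (EtDesc.secPull f F s) = germUnit f F h (germ η F (topPt η) s) := by
  rw [germUnit_germ]
  refine (germ_map ξ _ (EtCore.bcTopIso f).inv (topPt ξ) _).trans ?_
  congr 1
  apply Over.OverMorphism.ext
  apply pullback.hom_ext
  · have h1 := fiberHom_comp ((Scheme.pointSmallEtale ξ).fiber.map (EtCore.bcTopIso f).inv (topPt ξ))
    refine ((Category.comp_id _).symm.trans ((Category.assoc _ _ _).trans ?_))
    refine Eq.trans ?_ (pullback.lift_fst (fiberHom (topPt η)) ξ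
      ((fiberHom_comp (topPt η)).trans h.symm)).symm
    refine (_ ≫= pullback.condition).trans ((Category.assoc _ _ _).symm.trans ?_)
    exact (congrArg (· ≫ f) h1).trans h
  · exact (fiberHom_comp _).trans (fiberHom_comp _).symm

theorem top_ext {Z : Scheme.{u}} (G : EtDesc.Sh Z) (a b : EtDesc.sect G (EtCoh.top Z))
    (h : ∀ z : Z, ∃ (Ω : Type u) (_ : Field Ω) (_ : IsSepClosed Ω)
      (ξ : Spec (CommRingCat.of Ω) ⟶ Z), ξ.base default = z ∧
        germ ξ G (topPt ξ) a = germ ξ G (topPt ξ) b) : a = b := by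
  refine Stalk.sections_ext_of_germ G a b fun z => ?_
  obtain ⟨Ω, i1, i2, ξ, hξ, e⟩ := h z
  refine ⟨Ω, i1, i2, ξ, hξ, fun p => ?_⟩
  rw [eq_topPt ξ p]
  exact e

theorem app_eq_of_germ {Z : Scheme.{u}} {G H : EtDesc.Sh Z} (φ : G ⟶ H)
    (a : EtDesc.sect G (EtCoh.top Z)) (b : EtDesc.sect H (EtCoh.top Z))
    (h : ∀ z : Z, ∃ (Ω : Type u) (_ : Field Ω) (_ : IsSepClosed Ω)
      (ξ : Spec (CommRingCat.of Ω) ⟶ Z), ξ.base default = z ∧
        stalkMap ξ φ (germ ξ G (topPt ξ) a) = germ ξ H (topPt ξ) b) :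
    φ.hom.app (op (EtCoh.top Z)) a = b := by
  refine top_ext H _ _ fun z => ?_
  obtain ⟨Ω, i1, i2, ξ, hξ, e⟩ := h z
  exact ⟨Ω, i1, i2, ξ, hξ, (stalkMap_germ ξ φ (topPt ξ) a).symm.trans e⟩

theorem stalkMap_germ_eq {Z : Scheme.{u}} {G H : EtDesc.Sh Z} (φ : G ⟶ H)
    (a : EtDesc.sect G (EtCoh.top Z)) (b : EtDesc.sect H (EtCoh.top Z))
    (h : φ.hom.app (op (EtCoh.top Z)) a = b) {Ω : Type u} [Field Ω] [IsSepClosed Ω]
    (ξ : Spec (CommRingCat.of Ω) ⟶ Z) :
    stalkMap ξ φ (germ ξ G (topPt ξ) a) = germ ξ H (topPt ξ) b :=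
  (stalkMap_germ ξ φ (topPt ξ) a).trans (congrArg (germ ξ H (topPt ξ)) h)

/-- `app_eq_of_germ` for an object equal to the final one (avoids an expensive conversion). -/
theorem app_eq_of_germ' {Z : Scheme.{u}} {G H : EtDesc.Sh Z} (φ : G ⟶ H) (W : Z.Etale)
    (hW : W = EtCoh.top Z) (a : EtDesc.sect G W) (b : EtDesc.sect H W)
    (a₀ : EtDesc.sect G (EtCoh.top Z)) (b₀ : EtDesc.sect H (EtCoh.top Z)) (ha : HEq a a₀)
    (hb : HEq b b₀)
    (h : ∀ z : Z, ∃ (Ω : Type u) (_ : Field Ω) (_ : IsSepClosed Ω)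
      (ξ : Spec (CommRingCat.of Ω) ⟶ Z), ξ.base default = z ∧
        stalkMap ξ φ (germ ξ G (topPt ξ) a₀) = germ ξ H (topPt ξ) b₀) :
    φ.hom.app (op W) a = b := by
  subst hW; cases ha; cases hb; exact app_eq_of_germ φ _ _ h

/-- `stalkMap_germ_eq` for an object equal to the final one (avoids an expensive conversion). -/
theorem stalkMap_germ_eq' {Z : Scheme.{u}} {G H : EtDesc.Sh Z} (φ : G ⟶ H) (W : Z.Etale)
    (hW : W = EtCoh.top Z) (a : EtDesc.sect G W) (b : EtDesc.sect H W)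
    (a₀ : EtDesc.sect G (EtCoh.top Z)) (b₀ : EtDesc.sect H (EtCoh.top Z)) (ha : HEq a a₀)
    (hb : HEq b b₀) (h : φ.hom.app (op W) a = b) {Ω : Type u} [Field Ω] [IsSepClosed Ω]
    (ξ : Spec (CommRingCat.of Ω) ⟶ Z) :
    stalkMap ξ φ (germ ξ G (topPt ξ) a₀) = germ ξ H (topPt ξ) b₀ := by
  subst hW; cases ha; cases hb; exact stalkMap_germ_eq φ _ _ h ξ

theorem top_X2 : (EtCoh.top (EtDesc.X2 f) : (pullback f f).Etale) = EtCoh.top (pullback f f) := rfl

theorem map_bcTop_inv_hom (G : EtDesc.Sh X) (s : EtDesc.sect G (EtCoh.top X)) :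
    G.obj.map (EtCore.bcTopIso f).inv.op (G.obj.map (EtCore.bcTopIso f).hom.op s) = s := by
  rw [← ConcreteCategory.comp_apply, ← Functor.map_comp, ← op_comp, Iso.inv_hom_id, op_id,
    CategoryTheory.Functor.map_id]
  rfl

theorem germ_map_bcTop (G : EtDesc.Sh X) (s : EtDesc.sect G (EtCoh.top X)) {Ω : Type u} [Field Ω]
    [IsSepClosed Ω] {η : Spec (CommRingCat.of Ω) ⟶ S} (ξ : Spec (CommRingCat.of Ω) ⟶ X)
    (h : ξ ≫ f = η) (p : (Scheme.pointSmallEtale η).fiber.obj (EtCoh.top S)) :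
    germ ξ G (liftPt f h (EtCoh.top S) p) (G.obj.map (EtCore.bcTopIso f).hom.op s) =
      germ ξ G (topPt ξ) s :=
  (germ_map ξ G _ _ _).trans (congrArg (fun q => germ ξ G q s) (eq_topPt ξ _))

end Groth.Agent.Lib.EtSite.SubDescent
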