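import Groth.Agent.Lib.EtSite.ArtinSchreier
import Groth.Agent.Lib.EtSite.LangSemilinear
import Groth.Agent.Lib.EtQCoh.GaEnd
import Mathlib.Algebra.Homology.DerivedCategory.Ext.ExactSequences

/-!
# Finiteness of `H^q(X, ZMod p)` for proper schemes over algebraically closed fields of
characteristic `p`
-/

set_option autoImplicit false

universe u v

open CategoryTheory CategoryTheory.Limits CategoryTheory.Abelian AlgebraicGeometry Opposite

noncomputable section

namespace Groth.Agent.Lib.EtSite.ASProper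

open Groth.Agent.Lib.EtQCoh

section Linear

variable {k : Type u} [Field k] (p : ℕ) [Fact p.Prime] [CharP k p]

/-- The fixed vectors of a semilinear endomorphism of a finite dimensional space are finitely many. -/
theorem finite_fixed {V : Type u} [AddCommGroup V] [Module k V] [FiniteDimensional k V] (F : V →+ V)
    (hF : ∀ (c : k) (v : V), F (c • v) = c ^ p • F v) : {v : V | F v = v}.Finite := by
  obtain ⟨ι, _, b, hli, hfix, hspan⟩ := LangSemilinear.exists_fixed_basis (k := k) F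
  refine Set.Finite.subset (Set.finite_range fun e : ι → ZMod p =>
    ∑ i, ZMod.castHom (dvd_refl p) k (e i) • b i) fun v hv => ?_
  have hv' : v ∈ Submodule.span k (Set.range b) := hspan ▸ Submodule.subset_span hv
  obtain ⟨c, hc⟩ := (Submodule.mem_span_range_iff_exists_fun k).1 hv'
  have h1 : ∑ i, c i ^ p • b i = ∑ i, c i • b i := by
    rw [hc, ← show F v = v from hv, ← hc, map_sum]
    simp only [hF, hfix]
  have h2 : ∀ i, c i ^ p = c i := fun i => by
    have h3 : ∑ i, (c i ^ p - c i) • b i = 0 := by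
      simp only [sub_smul, Finset.sum_sub_distrib, h1, sub_self]
    exact sub_eq_zero.1 (Fintype.linearIndependent_iff.1 hli _ h3 i)
  choose e he using fun i => LangSemilinear.exists_zmod_of_pow_eq p (h2 i)
  refine ⟨e, ?_⟩
  simp only [he]
  exact hc

theorem lang [IsAlgClosed k] {V : Type v} [AddCommGroup V] [Module k V] [FiniteDimensional k V]
    (F : V →+ V) (hF : ∀ (c : k) (v : V), F (c • v) = c ^ p • F v) :
    Function.Surjective (fun v => F v - v) ∧ {v : V | F v = v}.Finite := by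
  let e : V ≃ₗ[k] (Fin (Module.finrank k V) → k) := (Module.finBasis k V).equivFun
  let G : (Fin (Module.finrank k V) → k) →+ (Fin (Module.finrank k V) → k) :=
    e.toLinearMap.toAddMonoidHom.comp (F.comp e.symm.toLinearMap.toAddMonoidHom)
  have hG : ∀ (c : k) v, G (c • v) = c ^ p • G v := fun c v => by
    change e (F (e.symm (c • v))) = c ^ p • e (F (e.symm v))
    rw [map_smul, hF, map_smul]
  have hGe : ∀ v, G (e v) = e (F v) := fun v => by
    change e (F (e.symm (e v))) = _
    rw [LinearEquiv.symm_apply_apply]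
  refine ⟨fun w => ?_, ?_⟩
  · obtain ⟨u, hu⟩ := LangSemilinear.sub_id_surjective p G hG (e w)
    obtain ⟨v, rfl⟩ := e.surjective u
    refine ⟨v, e.injective ?_⟩
    simp only [hGe] at hu
    rw [map_sub]
    exact hu
  · refine ((finite_fixed p G hG).preimage e.injective.injOn).subset fun v hv => ?_
    change G (e v) = e v
    rw [hGe, show F v = v from hv]

end Linear

variable {X : Scheme.{u}} (p : ℕ) [Fact p.Prime] (h0 : (p : Γ(X, ⊤)) = 0)

theorem mulC_frob (r : Γ(X, ⊤)) :
    GaEnd.mulC r ≫ (ArtinSchreier.frobSub p h0 + 𝟙 _) =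
      (ArtinSchreier.frobSub p h0 + 𝟙 _) ≫ GaEnd.mulC (r ^ p) := by
  apply Sheaf.hom_ext
  ext U x
  refine ULift.ext _ _ ?_
  let y : Γ(U.unop.left, ⊤) := x.down
  let c : Γ(U.unop.left, ⊤) := GaEnd.glob U.unop r
  change ((c * y) ^ p - c * y) + c * y = GaEnd.glob U.unop (r ^ p) * ((y ^ p - y) + y)
  rw [map_pow]
  ring

open ArtinSchreier in
theorem finite_H {k : Type u} [Field k] [IsAlgClosed k] [CharP k p]
    (f : X ⟶ Spec (CommRingCat.of k)) [IsProper f] (q : ℕ) :
    Finite (EtCoh.H X (EtCoh.const X (ZMod p)) q) := by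
  have hX : (p : Γ(X, ⊤)) = 0 := by
    have h : ((p : ℕ) : Coh.Γtop X) = 0 := by
      rw [← map_natCast (Coh.toGlobal f), CharP.cast_eq_zero k p, map_zero]
    exact h
  let S := ShortComplex.mk (incl p hX) (frobSub p hX) (incl_frobSub p hX)
  have hS : S.ShortExact := shortExact p hX
  let H : ℕ → Type (u + 1) := fun n => EtCoh.H X (EtCoh.Ga X) n
  have main : ∀ n, Function.Surjective (fun x : EtCoh.H X (EtCoh.Ga X) n =>
      x.comp (Ext.mk₀ S.g) (add_zero n)) ∧
      {x : EtCoh.H X (EtCoh.Ga X) n | x.comp (Ext.mk₀ S.g) (add_zero n) = 0}.Finite := fun n => by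
    letI := GaEnd.moduleGa (Coh.toGlobal f) n
    haveI : Module.Finite k (EtCoh.H X (EtCoh.Ga X) n) := GaEnd.finite_moduleGa f n
    let F : EtCoh.H X (EtCoh.Ga X) n →+ EtCoh.H X (EtCoh.Ga X) n :=
      (Ext.mk₀ (S.g + 𝟙 _)).postcomp _ (add_zero n)
    have hF : ∀ (c : k) x, F (c • x) = c ^ p • F x := fun c x => by
      change Ext.comp (Ext.comp x (Ext.mk₀ (GaEnd.mulC (Coh.toGlobal f c))) (add_zero n))
        (Ext.mk₀ (S.g + 𝟙 _)) (add_zero n) = Ext.comp (Ext.comp x (Ext.mk₀ (S.g + 𝟙 _)) (add_zero n))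
        (Ext.mk₀ (GaEnd.mulC (Coh.toGlobal f (c ^ p)))) (add_zero n)
      rw [Ext.comp_assoc_of_third_deg_zero, Ext.comp_assoc_of_third_deg_zero, Ext.mk₀_comp_mk₀,
        Ext.mk₀_comp_mk₀, map_pow]
      exact congrArg (fun m => Ext.comp x (Ext.mk₀ m) (add_zero n)) (mulC_frob p hX _)
    have hFg : ∀ x : EtCoh.H X (EtCoh.Ga X) n, F x = x.comp (Ext.mk₀ S.g) (add_zero n) + x := fun x => by
      change Ext.comp x (Ext.mk₀ (S.g + 𝟙 _)) (add_zero n) = _
      rw [Ext.mk₀_add, Ext.comp_add, Ext.comp_mk₀_id]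
    obtain ⟨h1, h2⟩ := lang p F hF
    refine ⟨fun w => ?_, h2.subset fun x hx => ?_⟩
    · obtain ⟨v, hv⟩ := h1 w
      refine ⟨v, ?_⟩
      rw [← hv]
      simp [hFg]
    · change F x = x
      rw [hFg, show Ext.comp x (Ext.mk₀ S.g) (add_zero n) = 0 from hx, zero_add]
  let ι : EtCoh.H X (EtCoh.const X (ZMod p)) q →+ EtCoh.H X (EtCoh.Ga X) q :=
    (Ext.mk₀ S.f).postcomp _ (add_zero q)
  have hinj : Function.Injective ι := by
    cases q with
    | zero =>
      have := hS.mono_f
      exact Ext.postcomp_mk₀_injective_of_mono _ S.f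
    | succ n =>
      refine (injective_iff_map_eq_zero _).2 fun x hx => ?_
      obtain ⟨y, rfl⟩ := Ext.covariant_sequence_exact₁ _ hS x hx (n₀ := n) rfl
      obtain ⟨z, rfl⟩ := (main n).1 y
      rw [Ext.comp_assoc_of_second_deg_zero, hS.comp_extClass, Ext.comp_zero]
  have hmem : ∀ x, ι x ∈ {y : EtCoh.H X (EtCoh.Ga X) q | y.comp (Ext.mk₀ S.g) (add_zero q) = 0} := fun x => by
    change Ext.comp (Ext.comp x (Ext.mk₀ S.f) (add_zero q)) (Ext.mk₀ S.g) (add_zero q) = 0
    rw [Ext.comp_assoc_of_third_deg_zero, Ext.mk₀_comp_mk₀, S.zero, Ext.mk₀_zero, Ext.comp_zero]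
  have := (main q).2.to_subtype
  exact Finite.of_injective (fun x => (⟨ι x, hmem x⟩ :
    {y : EtCoh.H X (EtCoh.Ga X) q | y.comp (Ext.mk₀ S.g) (add_zero q) = 0}))
    fun a b h => hinj (congrArg Subtype.val h)

end Groth.Agent.Lib.EtSite.ASProper
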