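import Groth.Agent.Lib.EtSite.DerivedBCAdj
import Groth.Agent.Lib.EtSite.BaseChange
import Groth.Agent.Lib.EtSite.Pull
import Groth.Agent.Lib.EtJ.ExtZero
import Groth.Agent.Lib.EtJ.PullExact
import Groth.Prelude.Def_EtBC2

/-!
The base change morphism in each degree for abelian etale sheaves: vertical composition, etale base
change, and the etale local nature of being an isomorphism.
-/

set_option autoImplicit false
set_option linter.style.haveILetI false
set_option backward.isDefEq.respectTransparency.types false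
set_option maxHeartbeats 1000000

universe u

open CategoryTheory CategoryTheory.Limits AlgebraicGeometry Opposite

noncomputable section

namespace Groth.Agent.Lib.EtSite.EtBCQ

open Groth.Agent.Lib.EtSite

theorem ext3 {S T Y Z : Scheme.{u}} {g : T ⟶ S} {e : Y ⟶ T} {k : Z ⟶ Y} {V : S.Etale} {A : Z.Etale}
    (a b : A ⟶ (EtCoh.bc k).obj ((EtCoh.bc e).obj ((EtCoh.bc g).obj V)))
    (he : a.left ≫ pullback.fst ((EtCoh.bc e).obj ((EtCoh.bc g).obj V)).hom k ≫
        pullback.fst ((EtCoh.bc g).obj V).hom e ≫ pullback.fst V.hom g =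
      b.left ≫ pullback.fst ((EtCoh.bc e).obj ((EtCoh.bc g).obj V)).hom k ≫
        pullback.fst ((EtCoh.bc g).obj V).hom e ≫ pullback.fst V.hom g) : a = b := by
  have h1 : a.left ≫ pullback.snd ((EtCoh.bc e).obj ((EtCoh.bc g).obj V)).hom k =
      b.left ≫ pullback.snd ((EtCoh.bc e).obj ((EtCoh.bc g).obj V)).hom k :=
    (Over.w a.hom).trans (Over.w b.hom).symm
  have h3 : a.left ≫ pullback.fst ((EtCoh.bc e).obj ((EtCoh.bc g).obj V)).hom k ≫
      pullback.snd ((EtCoh.bc g).obj V).hom e =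
    b.left ≫ pullback.fst ((EtCoh.bc e).obj ((EtCoh.bc g).obj V)).hom k ≫
      pullback.snd ((EtCoh.bc g).obj V).hom e :=
    (a.left ≫= pullback.condition).trans (((Category.assoc _ _ _).symm.trans ((congrArg (· ≫ k) h1).trans
      (Category.assoc _ _ _))).trans (b.left ≫= pullback.condition).symm)
  have h4 : a.left ≫ pullback.fst ((EtCoh.bc e).obj ((EtCoh.bc g).obj V)).hom k ≫
      pullback.fst ((EtCoh.bc g).obj V).hom e ≫ pullback.snd V.hom g =
    b.left ≫ pullback.fst ((EtCoh.bc e).obj ((EtCoh.bc g).obj V)).hom k ≫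
      pullback.fst ((EtCoh.bc g).obj V).hom e ≫ pullback.snd V.hom g := by
    have h5 := congrArg (· ≫ e) h3
    simp only [Category.assoc] at h5
    exact (a.left ≫= (_ ≫= pullback.condition)).trans (h5.trans (b.left ≫= (_ ≫= pullback.condition)).symm)
  refine MorphismProperty.Over.Hom.ext (pullback.hom_ext (pullback.hom_ext (pullback.hom_ext ?_ ?_) ?_) h1)
  · exact ((Category.assoc _ _ _).trans (Category.assoc _ _ _)).trans
      (he.trans ((Category.assoc _ _ _).trans (Category.assoc _ _ _)).symm)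
  · exact ((Category.assoc _ _ _).trans (Category.assoc _ _ _)).trans
      (h4.trans ((Category.assoc _ _ _).trans (Category.assoc _ _ _)).symm)
  · exact (Category.assoc _ _ _).trans (h3.trans (Category.assoc _ _ _).symm)

theorem sqIso_app {X S X' S' : Scheme.{u}} {f : X ⟶ S} {g : S' ⟶ S} {f' : X' ⟶ S'} {g' : X' ⟶ X}
    (w : g' ≫ f = f' ≫ g) (F : EtCoh.Ab X') (V : S.Etale) :
    ((EtCoh.pushComp f g' ≪≫ EtCoh.pushCongr w ≪≫ (EtCoh.pushComp g f').symm).hom.app F).hom.app (op V) =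
      F.obj.map (BaseChange.cmp w V).hom.op := by
  simp only [EtCoh.pushComp, EtCoh.pushCongr, BaseChange.cmp, op_comp, Functor.map_comp, Category.assoc]
  simp
  rfl

theorem pushComp_app {X Y Z : Scheme.{u}} (f : X ⟶ Y) (g : Z ⟶ X) (F : EtCoh.Ab Z) (V : Y.Etale) :
    ((EtCoh.pushComp f g).hom.app F).hom.app (op V) =
      F.obj.map ((MorphismProperty.Over.pullbackComp (P := EtCoh.etaleMP) (Q := ⊤) g f).hom.app V).op := by
  simp only [EtCoh.pushComp]
  simp
  rfl

theorem square_compat {X S Y T W Z : Scheme.{u}} (f : X ⟶ S) (g : T ⟶ S) (h : Y ⟶ X) (e : Y ⟶ T)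
    (i : W ⟶ X) (j : Z ⟶ W) (k : Z ⟶ Y) (w : e ≫ g = h ≫ f) (w' : k ≫ h = j ≫ i)
    (w'' : (k ≫ e) ≫ g = j ≫ i ≫ f) (H : EtCoh.Ab Z) :
    ((EtCoh.pushComp g e ≪≫ EtCoh.pushCongr w ≪≫ (EtCoh.pushComp f h).symm).hom.app
        ((EtCoh.push k).obj H) ≫ (EtCoh.push f).map
      ((EtCoh.pushComp h k ≪≫ EtCoh.pushCongr w' ≪≫ (EtCoh.pushComp i j).symm).hom.app H)) ≫
      (EtCoh.pushComp f i).hom.app ((EtCoh.push j).obj H) =
    (EtCoh.push g).map ((EtCoh.pushComp e k).hom.app H) ≫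
      (EtCoh.pushComp g (k ≫ e) ≪≫ EtCoh.pushCongr w'' ≪≫ (EtCoh.pushComp (i ≫ f) j).symm).hom.app H := by
  apply Sheaf.hom_ext
  apply NatTrans.ext
  funext V
  obtain ⟨V⟩ := V
  let pfi := (MorphismProperty.Over.pullbackComp (P := EtCoh.etaleMP) (Q := ⊤) i f).hom.app V
  let pek := (MorphismProperty.Over.pullbackComp (P := EtCoh.etaleMP) (Q := ⊤) k e).hom.app
    ((EtCoh.bc g).obj V)
  have e1 := sqIso_app w ((EtCoh.push k).obj H) V
  have e2 := sqIso_app w' H ((EtCoh.bc f).obj V)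
  have e3 := pushComp_app f i ((EtCoh.push j).obj H) V
  have e4 := pushComp_app e k H ((EtCoh.bc g).obj V)
  have e5 := sqIso_app w'' H V
  refine (congrArg₂ (· ≫ ·) (congrArg₂ (· ≫ ·) e1 e2) e3).trans
    (Eq.trans ?_ (congrArg₂ (· ≫ ·) e4 e5).symm)
  have em : (EtCoh.bc j).map pfi ≫ (BaseChange.cmp w' ((EtCoh.bc f).obj V)).hom ≫
      (EtCoh.bc k).map (BaseChange.cmp w V).hom = (BaseChange.cmp w'' V).hom ≫ pek := by
    apply ext3
    have c1 := (BaseChange.cmp w V).fst_fst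
    have c2 := (BaseChange.cmp w' ((EtCoh.bc f).obj V)).fst_fst
    have c3 := (BaseChange.cmp w'' V).fst_fst
    have p1 := MorphismProperty.Over.pullbackComp_left_fst_fst (P := EtCoh.etaleMP) (Q := ⊤) i f V
    have p2 := MorphismProperty.Over.pullbackComp_left_fst_fst (P := EtCoh.etaleMP) (Q := ⊤) k e
      ((EtCoh.bc g).obj V)
    have m1 : ((EtCoh.bc k).map (BaseChange.cmp w V).hom).left ≫
        pullback.fst ((EtCoh.bc e).obj ((EtCoh.bc g).obj V)).hom k =
        pullback.fst _ k ≫ (BaseChange.cmp w V).hom.left := pullback.lift_fst _ _ _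
    have m2 : ((EtCoh.bc j).map pfi).left ≫ pullback.fst ((EtCoh.bc i).obj ((EtCoh.bc f).obj V)).hom j =
        pullback.fst _ j ≫ pfi.left := pullback.lift_fst _ _ _
    change (((EtCoh.bc j).map pfi).left ≫ (BaseChange.cmp w' ((EtCoh.bc f).obj V)).hom.left ≫
      ((EtCoh.bc k).map (BaseChange.cmp w V).hom).left) ≫ _ =
      ((BaseChange.cmp w'' V).hom.left ≫ pek.left) ≫ _
    refine ((Category.assoc _ _ _).trans ((_ ≫= (Category.assoc _ _ _).trans (_ ≫=
      ((Category.assoc _ _ _).symm.trans ((eq_whisker m1 _).trans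
        ((Category.assoc _ _ _).trans (_ ≫= c1)))))))).trans ?_
    refine ((_ ≫= ((_ ≫= (Category.assoc _ _ _).symm).trans ((Category.assoc _ _ _).symm.trans
      ((eq_whisker c2 _).trans (Category.assoc _ _ _))))).trans ((Category.assoc _ _ _).symm.trans ((eq_whisker m2 _).trans
      ((Category.assoc _ _ _).trans (_ ≫= p1))))).trans ?_
    exact c3.symm.trans ((_ ≫= ((eq_whisker p2 _).symm.trans ((Category.assoc _ _ _).trans
      (_ ≫= Category.assoc _ _ _)))).trans (Category.assoc _ _ _).symm)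
  refine (Category.assoc _ _ _).trans ?_
  exact (_ ≫= (H.obj.map_comp _ _).symm).trans ((H.obj.map_comp _ _).symm.trans
    ((congrArg (fun m => H.obj.map m.op) em).trans (H.obj.map_comp _ _)))

section Transpose

variable {C D E : Type*} [Category C] [Category D] [Category E] {L₁ : C ⥤ D} {R₁ : D ⥤ C}
  {L₂ : D ⥤ E} {R₂ : E ⥤ D} {L₃ : C ⥤ E} {R₃ : E ⥤ C}

theorem unit_comp (a₁ : L₁ ⊣ R₁) (a₂ : L₂ ⊣ R₂) (a₃ : L₃ ⊣ R₃) (c : R₂ ⋙ R₁ ≅ R₃) (P : C) :
    ((a₁.unit.app P ≫ R₁.map (a₂.unit.app (L₁.obj P))) ≫ c.hom.app (L₂.obj (L₁.obj P))) ≫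
      R₃.map ((((a₁.comp a₂).ofNatIsoRight c).leftAdjointUniq a₃).hom.app P) = a₃.unit.app P := by
  rw [← Adjunction.unit_leftAdjointUniq_hom_app ((a₁.comp a₂).ofNatIsoRight c) a₃ P]
  simp [Adjunction.ofNatIsoRight, Adjunction.comp]

theorem transpose_comp (a₁ : L₁ ⊣ R₁) (a₂ : L₂ ⊣ R₂) (a₃ : L₃ ⊣ R₃) (c : R₂ ⋙ R₁ ≅ R₃)
    {P : C} {M : D} {N N' : E} (A : P ⟶ R₁.obj M) (B : M ⟶ R₂.obj N) (t : N ⟶ N') :
    (((a₁.comp a₂).ofNatIsoRight c).leftAdjointUniq a₃).hom.app P ≫
        (a₃.homEquiv P N').symm (A ≫ R₁.map B ≫ c.hom.app N ≫ R₃.map t) =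
      L₂.map ((a₁.homEquiv P M).symm A) ≫ (a₂.homEquiv M N).symm B ≫ t := by
  apply (((a₁.comp a₂).ofNatIsoRight c).homEquiv _ _).injective
  rw [Adjunction.homEquiv_unit, Functor.map_comp, ← Category.assoc,
    Adjunction.unit_leftAdjointUniq_hom_app, ← Adjunction.homEquiv_unit, Equiv.apply_symm_apply,
    Adjunction.homEquiv_unit]
  have hB : a₂.unit.app (L₁.obj P) ≫ R₂.map (L₂.map ((a₁.homEquiv P M).symm A) ≫
      (a₂.homEquiv M N).symm B) = (a₁.homEquiv P M).symm A ≫ B := by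
    refine (a₂.homEquiv_unit (f := _)).symm.trans ?_
    rw [Adjunction.homEquiv_naturality_left, Equiv.apply_symm_apply]
  have hA : a₁.unit.app P ≫ R₁.map ((a₁.homEquiv P M).symm A ≫ B) = A ≫ R₁.map B := by
    rw [Functor.map_comp, ← Category.assoc]
    exact eq_whisker ((a₁.homEquiv_unit (f := _)).symm.trans (Equiv.apply_symm_apply _ _)) _
  have hu : ((a₁.comp a₂).ofNatIsoRight c).unit.app P =
      (a₁.unit.app P ≫ R₁.map (a₂.unit.app (L₁.obj P))) ≫ c.hom.app (L₂.obj (L₁.obj P)) := by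
    simp [Adjunction.ofNatIsoRight, Adjunction.comp]
  refine Eq.symm ?_
  refine ((congrArg₂ (· ≫ ·) hu (congrArg R₃.map (Category.assoc _ _ _).symm)).trans ?_)
  refine (_ ≫= R₃.map_comp _ _).trans ?_
  refine (Category.assoc _ _ _).trans ((_ ≫= ((Category.assoc _ _ _).symm.trans
    ((eq_whisker (c.hom.naturality _).symm _).trans (Category.assoc _ _ _)))).trans ?_)
  refine (Category.assoc _ _ _).symm.trans ?_
  refine Eq.trans ?_ (Category.assoc _ _ _)
  refine eq_whisker ?_ _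
  refine (Category.assoc _ _ _).trans ?_
  exact (_ ≫= (R₁.map_comp _ _).symm.trans (congrArg R₁.map hB)).trans hA

end Transpose


/-- Vertical composition of base change morphisms. -/
theorem bcQ_comp {X S Y T W Z : Scheme.{u}} (f : X ⟶ S) (g : T ⟶ S) (h : Y ⟶ X) (e : Y ⟶ T)
    (w : e ≫ g = h ≫ f) (i : W ⟶ X) (j : Z ⟶ W) (k : Z ⟶ Y) (w' : k ≫ h = j ≫ i)
    (w'' : (k ≫ e) ≫ g = j ≫ i ≫ f)
    [PreservesFiniteLimits (EtCoh.pull e)] [PreservesFiniteLimits (EtCoh.pull k)]
    [PreservesFiniteLimits (EtCoh.pull (k ≫ e))] (F : EtCoh.Ab T) (q : ℕ) :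
    ∃ (a : _ ⟶ _) (b : _ ⟶ _) (_ : IsIso a) (_ : IsIso b),
      a ≫ EtBC.bcQ g (i ≫ f) j (k ≫ e) w'' q F =
        (EtCoh.pull i).map (EtBC.bcQ g f h e w q F) ≫
          EtBC.bcQ h i j k w' q ((EtCoh.pull e).obj F) ≫ b := by
  have hinj : (EtCoh.push k ⋙ EtCoh.push e).PreservesInjectiveObjects :=
    ⟨fun {Q} hQ => by
      haveI := hQ
      exact (EtCoh.push e).injective_obj ((EtCoh.push k).obj Q)⟩
  let adjc := ((EtCoh.pullPushAdj e).comp (EtCoh.pullPushAdj k)).ofNatIsoRight (EtCoh.pushComp e k)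
  let θ := adjc.leftAdjointUniq (EtCoh.pullPushAdj (k ≫ e))
  let adji := ((EtCoh.pullPushAdj f).comp (EtCoh.pullPushAdj i)).ofNatIsoRight (EtCoh.pushComp f i)
  let σ := adji.leftAdjointUniq (EtCoh.pullPushAdj (i ≫ f))
  let α : EtCoh.push e ⋙ EtCoh.push g ⟶ EtCoh.push h ⋙ EtCoh.push f :=
    (EtCoh.pushComp g e ≪≫ EtCoh.pushCongr w ≪≫ (EtCoh.pushComp f h).symm).hom
  let α' : EtCoh.push k ⋙ EtCoh.push h ⟶ EtCoh.push j ⋙ EtCoh.push i :=
    (EtCoh.pushComp h k ≪≫ EtCoh.pushCongr w' ≪≫ (EtCoh.pushComp i j).symm).hom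
  let α'' : EtCoh.push (k ≫ e) ⋙ EtCoh.push g ⟶ EtCoh.push j ⋙ EtCoh.push (i ≫ f) :=
    (EtCoh.pushComp g (k ≫ e) ≪≫ EtCoh.pushCongr w'' ≪≫ (EtCoh.pushComp (i ≫ f) j).symm).hom
  let β : (EtCoh.push k ⋙ EtCoh.push e) ⋙ EtCoh.push g ⟶
      EtCoh.push j ⋙ EtCoh.push i ⋙ EtCoh.push f :=
    (Functor.associator _ _ _).hom ≫ Functor.whiskerLeft _ α ≫ (Functor.associator _ _ _).inv ≫
      Functor.whiskerRight α' _ ≫ (Functor.associator _ _ _).hom
  have hβ : ∀ H, β.app H = α.app ((EtCoh.push k).obj H) ≫ (EtCoh.push f).map (α'.app H) := fun H => by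
    simp [β]
  have sq : ∀ H, β.app H ≫ (EtCoh.pushComp f i).hom.app ((EtCoh.push j).obj H) =
      (EtCoh.push g).map ((EtCoh.pushComp e k).hom.app H) ≫ α''.app H := fun H => by
    rw [hβ]
    exact square_compat f g h e i j k w w' w'' H
  let G := (EtCoh.pull e).obj F
  let H := (EtCoh.pull k).obj G
  have key : EtBC.bcQAdj g f h e w q F ≫ (EtCoh.push f).map (EtBC.bcQAdj h i j k w' q G) ≫
      (EtCoh.pushComp f i).hom.app _ ≫ (EtCoh.push (i ≫ f)).map ((EtCoh.Rpush j q).map (θ.hom.app F)) =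
      EtBC.bcQAdj g (i ≫ f) j (k ≫ e) w'' q F := by
    change DerivedBC.bcMor α ((EtCoh.pullPushAdj e).unit.app F) q ≫
      (EtCoh.push f).map (DerivedBC.bcMor α' ((EtCoh.pullPushAdj k).unit.app G) q) ≫
      (EtCoh.pushComp f i).hom.app _ ≫ (EtCoh.push (i ≫ f)).map ((EtCoh.Rpush j q).map (θ.hom.app F)) =
      DerivedBC.bcMor α'' ((EtCoh.pullPushAdj (k ≫ e)).unit.app F) q
    rw [← Category.assoc, DerivedBC.bcMor_comp α α' β hβ, ← Category.assoc]
    erw [DerivedBC.bcMor_iso β α'' (EtCoh.pushComp e k).hom (EtCoh.pushComp f i).hom sq,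
      DerivedBC.bcMor_map α'']
    congr 1
    exact unit_comp (EtCoh.pullPushAdj e) (EtCoh.pullPushAdj k) (EtCoh.pullPushAdj (k ≫ e))
      (EtCoh.pushComp e k) F
  refine ⟨σ.hom.app ((EtCoh.Rpush g q).obj F), (EtCoh.Rpush j q).map (θ.hom.app F), inferInstance,
    inferInstance, ?_⟩
  dsimp only [EtBC.bcQ]
  rw [← key]
  exact transpose_comp (EtCoh.pullPushAdj f) (EtCoh.pullPushAdj i) (EtCoh.pullPushAdj (i ≫ f))
    (EtCoh.pushComp f i) _ _ _

/-- If the upper square is good, the rectangle is good exactly when the lower square is, after pull back. -/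
theorem isIso_comp_iff {X S Y T W Z : Scheme.{u}} (f : X ⟶ S) (g : T ⟶ S) (h : Y ⟶ X) (e : Y ⟶ T)
    (w : e ≫ g = h ≫ f) (i : W ⟶ X) (j : Z ⟶ W) (k : Z ⟶ Y) (w' : k ≫ h = j ≫ i)
    (w'' : (k ≫ e) ≫ g = j ≫ i ≫ f)
    [PreservesFiniteLimits (EtCoh.pull e)] [PreservesFiniteLimits (EtCoh.pull k)]
    [PreservesFiniteLimits (EtCoh.pull (k ≫ e))] (F : EtCoh.Ab T) (q : ℕ)
    (h2 : IsIso (EtBC.bcQ h i j k w' q ((EtCoh.pull e).obj F))) :
    IsIso (EtBC.bcQ g (i ≫ f) j (k ≫ e) w'' q F) ↔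
      IsIso ((EtCoh.pull i).map (EtBC.bcQ g f h e w q F)) := by
  obtain ⟨a, b, _, _, H⟩ := bcQ_comp f g h e w i j k w' w'' F q
  haveI : IsIso (EtBC.bcQ h i j k w' q ((EtCoh.pull e).obj F) ≫ b) := inferInstance
  constructor
  · intro _
    exact IsIso.of_isIso_fac_right H.symm
  · intro _
    exact IsIso.of_isIso_fac_left H

/-- The base change morphism only depends on the square. -/
theorem isIso_congr {X S Y T : Scheme.{u}} {f f' : X ⟶ S} (g : T ⟶ S) (h : Y ⟶ X) {e e' : Y ⟶ T}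
    (hf : f = f') (he : e = e') (w : e ≫ g = h ≫ f) (w' : e' ≫ g = h ≫ f')
    [PreservesFiniteLimits (EtCoh.pull e)] [PreservesFiniteLimits (EtCoh.pull e')] (F : EtCoh.Ab T)
    (q : ℕ) (hi : IsIso (EtBC.bcQ g f h e w q F)) : IsIso (EtBC.bcQ g f' h e' w' q F) := by
  subst hf he
  exact hi

section Etale

variable {V₀ S T T₀ : Scheme.{u}} {v : V₀ ⟶ S} {g : T ⟶ S} {g' : T₀ ⟶ V₀} {t : T₀ ⟶ T}
  [Etale v] [Etale t]

theorem isIso_bc0_etale (sq : IsPullback t g' g v) (F : EtCoh.Ab T) :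
    IsIso (((EtCoh.pullPushAdj v).homEquiv ((EtCoh.push g).obj F)
        ((EtCoh.push g').obj ((EtCoh.pull t).obj F))).symm
      ((EtCoh.push g).map ((EtCoh.pullPushAdj t).unit.app F) ≫
        (EtCoh.pushComp g t ≪≫ EtCoh.pushCongr sq.w ≪≫ (EtCoh.pushComp v g').symm).hom.app
          ((EtCoh.pull t).obj F))) := by
  let at' := EtJ.Basic.restrPushAdj t
  let av' := EtJ.Basic.restrPushAdj v
  let ρt := (EtJ.Basic.pullIsoRestr t).hom.app F
  let α := (EtCoh.pushComp g t ≪≫ EtCoh.pushCongr sq.w ≪≫ (EtCoh.pushComp v g').symm).hom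
  let x := (EtCoh.push g).map ((EtCoh.pullPushAdj t).unit.app F) ≫ α.app ((EtCoh.pull t).obj F)
  let x' := (EtCoh.push g).map (at'.unit.app F) ≫ α.app ((EtShriek.restrAlong t).obj F)
  have hx : x ≫ (EtCoh.push v).map ((EtCoh.push g').map ρt) = x' := by
    refine (Category.assoc _ _ _).trans ((_ ≫= (α.naturality ρt).symm).trans ?_)
    refine (Category.assoc _ _ _).symm.trans (eq_whisker ?_ _)
    refine ((EtCoh.push g).map_comp _ _).symm.trans (congrArg _ ?_)
    exact Adjunction.unit_leftAdjointUniq_hom_app (EtCoh.pullPushAdj t) at' F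
  have hy : ((EtCoh.pullPushAdj v).homEquiv _ _).symm x ≫ (EtCoh.push g').map ρt =
      (EtJ.Basic.pullIsoRestr v).hom.app _ ≫ (av'.homEquiv _ _).symm x' := by
    rw [← Adjunction.homEquiv_naturality_right_symm, hx]
    apply ((EtCoh.pullPushAdj v).homEquiv _ _).injective
    rw [Equiv.apply_symm_apply, Adjunction.homEquiv_unit, Functor.map_comp, ← Category.assoc]
    erw [Adjunction.unit_leftAdjointUniq_hom_app (EtCoh.pullPushAdj v) av']
    rw [← Adjunction.homEquiv_unit, Equiv.apply_symm_apply]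
  have : IsIso ((av'.homEquiv _ _).symm x') := by
    refine Stalk.isIso_of_app_bijective _ fun W => ?_
    let cm := (BaseChange.cmp sq.w ((EtShriek.compEtale v).obj W)).hom
    let ct := (EtShriek.compEtale t).map ((EtCoh.bc g').map ((EtJ.Basic.compEtaleAdj v).unit.app W) ≫ cm) ≫
      (EtJ.Basic.compEtaleAdj t).counit.app ((EtCoh.bc g).obj ((EtShriek.compEtale v).obj W))
    have happ : ((av'.homEquiv _ _).symm x').hom.app (op W) = F.obj.map ct.op := by
      rw [Adjunction.homEquiv_counit]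
      have e1 := sqIso_app sq.w ((EtShriek.restrAlong t).obj F) ((EtShriek.compEtale v).obj W)
      change ((F.obj.map ((EtJ.Basic.compEtaleAdj t).counit.app
          ((EtCoh.bc g).obj ((EtShriek.compEtale v).obj W))).op) ≫
          (α.app ((EtShriek.restrAlong t).obj F)).hom.app (op ((EtShriek.compEtale v).obj W))) ≫
        F.obj.map ((EtShriek.compEtale t).map ((EtCoh.bc g').map
          ((EtJ.Basic.compEtaleAdj v).unit.app W))).op = _
      refine (eq_whisker (_ ≫= e1) _).trans ?_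
      refine (Category.assoc _ _ _).trans ?_
      change _ ≫ F.obj.map ((EtShriek.compEtale t).map cm).op ≫ _ = _
      rw [← F.obj.map_comp, ← F.obj.map_comp]
      refine congrArg F.obj.map ?_
      simp only [ct, Functor.map_comp, op_comp, Category.assoc]
    rw [happ]
    have : IsIso ct := by
      haveI : IsIso ct.left := by
        let sqW : IsPullback (pullback.snd W.hom g' ≫ t) (pullback.fst W.hom g') g (W.hom ≫ v) :=
          (IsPullback.of_hasPullback W.hom g').flip.paste_horiz sq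
        have e1 : ct.left ≫ pullback.fst (W.hom ≫ v) g = pullback.fst W.hom g' := by
          have c1 := (BaseChange.cmp sq.w ((EtShriek.compEtale v).obj W)).fst_fst
          change ((((EtCoh.bc g').map ((EtJ.Basic.compEtaleAdj v).unit.app W)).left ≫ cm.left) ≫
            pullback.fst _ t) ≫ pullback.fst (W.hom ≫ v) g = _
          refine (Category.assoc _ _ _).trans ((Category.assoc _ _ _).trans ((_ ≫= c1).trans ?_))
          refine (Category.assoc _ _ _).symm.trans ((eq_whisker (pullback.lift_fst _ _ _) _).trans ?_)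
          exact (Category.assoc _ _ _).trans ((_ ≫= pullback.lift_fst _ _ _).trans (Category.comp_id _))
        have e2 : ct.left ≫ pullback.snd (W.hom ≫ v) g = pullback.snd W.hom g' ≫ t :=
          MorphismProperty.Over.w ct
        have e3 : ct.left = sqW.flip.isoPullback.hom :=
          pullback.hom_ext (e1.trans sqW.flip.isoPullback_hom_fst.symm)
            (e2.trans sqW.flip.isoPullback_hom_snd.symm)
        rw [e3]
        infer_instance
      exact (MorphismProperty.Over.Hom.ext rfl :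
        (MorphismProperty.Over.isoMk (asIso ct.left) (MorphismProperty.Over.w ct)).hom = ct) ▸ inferInstance
    haveI : IsIso ct.op := inferInstance
    exact (ConcreteCategory.isIso_iff_bijective _).1 (Functor.map_isIso F.obj ct.op)
  exact IsIso.of_isIso_fac_right hy

/-- Etale base change in every degree. -/
theorem isIso_bcQ_etale (sq : IsPullback t g' g v) (F : EtCoh.Ab T) (q : ℕ) :
    IsIso (EtBC.bcQ g v g' t sq.w q F) := by
  have : PreservesFiniteColimits (EtCoh.pull t) :=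
    have : PreservesColimitsOfSize.{0, 0} (EtCoh.pull t) :=
      (EtCoh.pullPushAdj t).leftAdjoint_preservesColimits
    PreservesColimitsOfSize.preservesFiniteColimits _
  have : PreservesFiniteColimits (EtCoh.pull v) :=
    have : PreservesColimitsOfSize.{0, 0} (EtCoh.pull v) :=
      (EtCoh.pullPushAdj v).leftAdjoint_preservesColimits
    PreservesColimitsOfSize.preservesFiniteColimits _
  have : (EtCoh.pull t).Additive := EtCore.pull_additive t
  have : (EtCoh.pull v).Additive := EtCore.pull_additive v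
  exact DerivedBC.isIso_transpose_bcMor (EtCoh.pullPushAdj t) (EtCoh.pullPushAdj v)
    (EtCoh.pushComp g t ≪≫ EtCoh.pushCongr sq.w ≪≫ (EtCoh.pushComp v g').symm).hom
    (fun I _ => isIso_bc0_etale sq I) F q

end Etale

/-- A morphism of abelian sheaves is an isomorphism if its pullbacks along a covering are. -/
theorem isIso_of_pull {X : Scheme.{u}} {F G : EtCoh.Ab X} (φ : F ⟶ G) {ι : Type u} (U : ι → X.Etale)
    (hU : EtCoh.Covers U) (h : ∀ i, IsIso ((EtCoh.pull (U i).hom).map φ)) : IsIso φ := by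
  refine Stalk.isIso_of_stalks _ fun x => ?_
  obtain ⟨i, u, hu⟩ := hU x
  have := h i
  refine ⟨_, inferInstance, inferInstance, Basic.geomPoint (U i).left u ≫ (U i).hom, ?_, ?_⟩
  · rw [Scheme.Hom.comp_apply, Basic.geomPoint_apply]; exact hu
  · have : IsIso ((EtCoh.stalk (Basic.geomPoint (U i).left u ≫ (U i).hom)).map φ) :=
      (NatIso.isIso_map_iff (Pull.stalkPull (U i).hom (Basic.geomPoint (U i).left u)) φ).1
        (Functor.map_isIso (EtCoh.stalk (Basic.geomPoint (U i).left u)) ((EtCoh.pull (U i).hom).map φ))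
    exact (ConcreteCategory.isIso_iff_bijective _).1 this

end Groth.Agent.Lib.EtSite.EtBCQ
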