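import Groth.Agent.H61.FieldCoh.Transfer
import Groth.Agent.Lib.EtSite.Sheets
import Groth.Prelude.Def_EtAcyc

/-!
# Transfer for finite étale morphisms of constant degree
-/

set_option autoImplicit false

universe u

open CategoryTheory CategoryTheory.Limits CategoryTheory.Abelian AlgebraicGeometry Opposite

noncomputable section

namespace Groth.Agent.Lib.EtSite.FiniteEtaleTransfer

open Groth.Agent.H61.FieldCoh Groth.Agent.Lib.EtSite.Sheets

variable {X X' : Scheme.{u}} (f : X' ⟶ X)

/-- Sections on a covering family glue. -/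
theorem exists_glue {Z : Scheme.{u}} (G : EtCoh.Ab Z) {U : Z.Etale} {ι : Type*} (V : ι → Z.Etale)
    (g : ∀ i, V i ⟶ U) (h : ∀ x : U.left, ∃ (i : ι) (v : (V i).left), (g i).left.base v = x)
    (s : ∀ i, EtCoh.sect G (V i))
    (hs : ∀ (i j : ι) (W : Z.Etale) (a : W ⟶ V i) (b : W ⟶ V j), a ≫ g i = b ≫ g j →
      G.obj.map a.op (s i) = G.obj.map b.op (s j)) :
    ∃ t : EtCoh.sect G U, ∀ i, G.obj.map (g i).op t = s i := by
  have hQ : Presieve.IsSheaf Z.smallEtaleTopology (G.obj ⋙ forget AddCommGrpCat.{u + 1}) :=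
    (isSheaf_iff_isSheaf_of_type _ _).1
      ((sheafCompose Z.smallEtaleTopology (forget AddCommGrpCat.{u + 1})).obj G).property
  have hsf : (Presieve.ofArrows V g).IsSheafFor (G.obj ⋙ forget AddCommGrpCat.{u + 1}) := by
    rw [Presieve.isSheafFor_iff_generate]
    exact hQ _ (Basic.ofArrows_mem V g h)
  exact ((Presieve.isSheafFor_arrows_iff _ g).1 hsf s fun i j W a b hab => hs i j W a b hab).exists

/-- A sheet as a point of the finite étale scheme. -/
def sheetPt [Etale f] {U : X.Etale} {n : ℕ} {σ : Fin n → (U.left ⟶ pullback U.hom f)}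
    (hσ : IsSheets f U σ) (j : Fin n) : U ⟶ obj f :=
  MorphismProperty.Over.homMk (σ j ≫ pullback.snd U.hom f) (by
    change (σ j ≫ pullback.snd U.hom f) ≫ 𝟙 _ ≫ f = U.hom
    rw [Category.id_comp, Category.assoc, ← pullback.condition, reassoc_of% (hσ.fst j)])

theorem sheetPt_left [Etale f] {U : X.Etale} {n : ℕ} {σ : Fin n → (U.left ⟶ pullback U.hom f)}
    (hσ : IsSheets f U σ) (j : Fin n) : (sheetPt f hσ j).left = σ j ≫ pullback.snd U.hom f := rfl

/-- Near each point two systems of sheets differ by a bijection. -/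
theorem exists_perm [Etale f] {U : X.Etale} {n n' : ℕ} {σ : Fin n → (U.left ⟶ pullback U.hom f)}
    {σ' : Fin n' → (U.left ⟶ pullback U.hom f)} (hσ : IsSheets f U σ) (hσ' : IsSheets f U σ')
    (w : U.left) :
    ∃ (W : X.Etale) (o : W ⟶ U) (w' : W.left) (_ : o.left.base w' = w) (π : Fin n ≃ Fin n'),
      ∀ i, o ≫ sheetPt f hσ i = o ≫ sheetPt f hσ' (π i) := by
  classical
  have key : ∀ {m : ℕ} {τ : Fin m → (U.left ⟶ pullback U.hom f)}, IsSheets f U τ →
      ∀ (j : Fin m) (v : U.left), (pullback.fst U.hom f).base ((τ j).base v) = v := fun hτ j v =>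
    congrArg (fun k : U.left ⟶ U.left => k.base v) (hτ.fst j)
  have h1 : ∀ i, ∃ k, (σ' k).base w = (σ i).base w := fun i => by
    obtain ⟨k, v, hv⟩ := hσ'.exists_eq ((σ i).base w)
    obtain rfl : v = w := by
      have := congrArg (pullback.fst U.hom f).base hv
      rwa [key hσ', key hσ] at this
    exact ⟨k, hv⟩
  have h2 : ∀ k, ∃ i, (σ i).base w = (σ' k).base w := fun k => by
    obtain ⟨i, v, hv⟩ := hσ.exists_eq ((σ' k).base w)
    obtain rfl : v = w := by
      have := congrArg (pullback.fst U.hom f).base hv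
      rwa [key hσ', key hσ] at this
    exact ⟨i, hv⟩
  choose π hπ using h1
  choose ρ hρ using h2
  let e : Fin n ≃ Fin n' :=
    { toFun := π, invFun := ρ
      left_inv := fun i => hσ.disjoint _ _ w w ((hρ _).trans (hπ i))
      right_inv := fun k => hσ'.disjoint _ _ w w ((hπ _).trans (hρ k)) }
  let O : U.left.Opens := ⨅ i : Fin n, (σ i) ⁻¹ᵁ
    (haveI := hσ'.isOpenImmersion (π i); (σ' (π i)).opensRange)
  have hw : w ∈ O := by
    change w ∈ (↑O : Set U.left)
    rw [TopologicalSpace.Opens.coe_iInf]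
    exact Set.mem_iInter.2 fun i => ⟨w, hπ i⟩
  let W : X.Etale := MorphismProperty.Over.mk ⊤ (O.ι ≫ U.hom)
    (MorphismProperty.comp_mem @Etale _ _ (show Etale O.ι from inferInstance) U.prop)
  let o : W ⟶ U := MorphismProperty.Over.homMk O.ι rfl
  refine ⟨W, o, ⟨w, hw⟩, rfl, e, fun i => MorphismProperty.Over.Hom.ext ?_⟩
  have := hσ'.isOpenImmersion (π i)
  have hr : ∀ t : (O : Scheme.{u}), (σ i).base t.1 ∈ Set.range (σ' (π i)).base := fun t => by
    have ht : t.1 ∈ (↑O : Set U.left) := t.2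
    rw [TopologicalSpace.Opens.coe_iInf] at ht
    exact Set.mem_iInter.1 ht i
  obtain ⟨l, hl⟩ : ∃ l, l ≫ σ' (π i) = O.ι ≫ σ i := ⟨_, IsOpenImmersion.lift_fac _ _ (by
    rintro _ ⟨t, rfl⟩
    exact hr t)⟩
  have hl' : l = O.ι := by
    have := eq_whisker hl (pullback.fst U.hom f)
    rwa [Category.assoc, Category.assoc, hσ'.fst, hσ.fst, Category.comp_id, Category.comp_id] at this
  change O.ι ≫ σ i ≫ pullback.snd U.hom f = O.ι ≫ σ' (π i) ≫ pullback.snd U.hom f
  rw [hl'] at hl
  exact ((Category.assoc _ _ _).symm.trans ((eq_whisker hl.symm _).trans (Category.assoc _ _ _)))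

variable [IsFinite f] [Etale f]

omit [IsFinite f] in
/-- The number of sheets is the number of points of a geometric fibre. -/
theorem card_sheets {U : X.Etale} {n : ℕ} {σ : Fin n → (U.left ⟶ pullback U.hom f)}
    (hσ : IsSheets f U σ) {Ω : Type u} [Field Ω] (γ : Spec (CommRingCat.of Ω) ⟶ U.left) :
    Nat.card ↥(pullback f (γ ≫ U.hom)) = n := by
  let P := pullback f (γ ≫ U.hom)
  let q : P ⟶ pullback U.hom f := pullback.lift (pullback.snd f (γ ≫ U.hom) ≫ γ) (pullback.fst f (γ ≫ U.hom))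
    ((Category.assoc _ _ _).trans pullback.condition.symm)
  have hs : ∀ j, (γ ≫ σ j ≫ pullback.snd U.hom f) ≫ f = 𝟙 _ ≫ γ ≫ U.hom := fun j => by
    rw [Category.id_comp, Category.assoc, Category.assoc, ← pullback.condition, reassoc_of% (hσ.fst j)]
  let s : Fin n → (Spec (CommRingCat.of Ω) ⟶ P) := fun j =>
    pullback.lift (γ ≫ σ j ≫ pullback.snd U.hom f) (𝟙 _) (hs j)
  have hsq : ∀ j, s j ≫ q = γ ≫ σ j := fun j => by
    apply pullback.hom_ext
    · rw [Category.assoc, Category.assoc, hσ.fst j, Category.comp_id]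
      refine (_ ≫= pullback.lift_fst _ _ _).trans ?_
      exact ((Category.assoc _ _ _).symm.trans (eq_whisker (pullback.lift_snd _ _ _) γ)).trans (Category.id_comp γ)
    · rw [Category.assoc, Category.assoc]
      exact (_ ≫= pullback.lift_snd _ _ _).trans (pullback.lift_fst _ _ _)
  let F : Fin n → P := fun j => (s j).base default
  refine (Nat.card_eq_of_bijective F ⟨fun i j hij => ?_, fun z => ?_⟩).symm.trans (Nat.card_fin n)
  · refine hσ.disjoint i j (γ.base default) (γ.base default) ?_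
    have h1 := congrArg (fun m : Spec (CommRingCat.of Ω) ⟶ pullback U.hom f => m.base default) (hsq i)
    have h2 := congrArg (fun m : Spec (CommRingCat.of Ω) ⟶ pullback U.hom f => m.base default) (hsq j)
    exact h1.symm.trans ((congrArg q.base hij).trans h2)
  · obtain ⟨j, v, hv⟩ := hσ.exists_eq (q.base z)
    have := hσ.isOpenImmersion j
    let x := P.fromSpecResidueField z
    obtain ⟨l, hl⟩ : ∃ l, l ≫ σ j = x ≫ q := ⟨_, IsOpenImmersion.lift_fac _ _ (by
      rintro _ ⟨k, rfl⟩
      exact ⟨v, hv.trans (congrArg q.base (Scheme.fromSpecResidueField_apply z k).symm)⟩)⟩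
    have hl' : l = (x ≫ pullback.snd f (γ ≫ U.hom)) ≫ γ := by
      have := eq_whisker hl (pullback.fst U.hom f)
      rw [Category.assoc, Category.assoc, hσ.fst j, Category.comp_id] at this
      exact this.trans ((_ ≫= pullback.lift_fst _ _ _).trans (Category.assoc _ _ _).symm)
    have hx : x = (x ≫ pullback.snd f (γ ≫ U.hom)) ≫ s j := by
      apply pullback.hom_ext
      · refine Eq.trans ?_ ((_ ≫= pullback.lift_fst _ _ _).symm.trans (Category.assoc _ _ _).symm)
        rw [← Category.assoc, ← hl', ← Category.assoc, hl, Category.assoc]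
        exact congrArg (x ≫ ·) (pullback.lift_snd _ _ _).symm
      · rw [Category.assoc]
        exact ((_ ≫= pullback.lift_snd _ _ _).trans (Category.comp_id _)).symm
    refine ⟨j, ?_⟩
    let c : Spec (P.residueField z) := IsLocalRing.closedPoint _
    have h1 := congrArg (fun m : Spec (P.residueField z) ⟶ P => m.base c) hx
    refine Eq.trans ?_ (h1.symm.trans (Scheme.fromSpecResidueField_apply z c))
    exact congrArg (s j).base (Subsingleton.elim _ _)

/-- The transfer. -/
theorem exists_transfer (d : ℕ)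
    (hd : ∀ (Ω : Type u) [Field Ω] [IsSepClosed Ω] (ξ : Spec (CommRingCat.of Ω) ⟶ X),
      Nat.card ↥(pullback f ξ) = d) :
    ∃ tr : EtCoh.const X ℤ ⟶ free f, tr ≫ aug f = d • 𝟙 (EtCoh.const X ℤ) := by
  let u₀ : EtCoh.sect (free f) (obj f) := ev f _ (𝟙 (free f))
  choose U u hu n σ hσ using exists_isSheets f
  let t : ∀ x, EtCoh.sect (free f) (U x) := fun x =>
    ∑ j, (free f).obj.map (sheetPt f (hσ x) j).op u₀
  let g : ∀ x, U x ⟶ EtCoh.top X := fun x => (EtCore.topIsTerminal X).from (U x)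
  have hcov : ∀ y : (EtCoh.top X).left, ∃ (x : X) (v : (U x).left), (g x).left.base v = y := fun y => by
    refine ⟨(EtCoh.top X).hom.base y, u _, ?_⟩
    have : IsOpenImmersion (EtCoh.top X).hom := inferInstanceAs (IsOpenImmersion (𝟙 X))
    refine (EtCoh.top X).hom.isOpenEmbedding.injective ?_
    exact (congrArg (fun m : (U ((EtCoh.top X).hom.base y)).left ⟶ X => m.base (u ((EtCoh.top X).hom.base y)))
      (MorphismProperty.Over.w (g ((EtCoh.top X).hom.base y)))).trans (hu _)
  have hpt : ∀ {U' : X.Etale} {x : X} (a : U' ⟶ U x) (j : Fin (n x)),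
      a ≫ sheetPt f (hσ x) j = sheetPt f ((hσ x).comap a) j := fun a j =>
    MorphismProperty.Over.Hom.ext (pullback.lift_snd _ _ _).symm
  obtain ⟨s, hs⟩ := exists_glue (free f) U g hcov t (by
    intro x y W a b _
    choose Z o z hz π hπ using exists_perm f ((hσ x).comap a) ((hσ y).comap b)
    refine sections_ext (free f) Z o (fun w => ⟨w, z w, hz w⟩) _ _ fun w => ?_
    rw [map_sum, map_sum, map_sum, map_sum]
    refine Fintype.sum_equiv (π w) _ _ fun j => ?_
    simp only [← ConcreteCategory.comp_apply, ← Functor.map_comp, ← op_comp]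
    rw [hpt a j, hpt b (π w j), hπ w j])
  refine ⟨(Groth.Agent.Lib.EtJ.PullSec.elem X _).symm s, ?_⟩
  apply (Groth.Agent.Lib.EtJ.PullSec.elem X _).injective
  rw [Groth.Agent.Lib.EtJ.PullSec.elem_comp, AddEquiv.apply_symm_apply, map_nsmul]
  refine sections_ext _ U g hcov _ _ fun x => ?_
  refine (ConcreteCategory.congr_hom ((aug f).hom.naturality (g x).op) s).symm.trans ?_
  change (aug f).hom.app (op (U x)) ((free f).obj.map (g x).op s) = _
  rw [hs, map_sum, map_nsmul]
  have key : ∀ j : Fin (n x), (aug f).hom.app (op (U x))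
      ((free f).obj.map (sheetPt f (hσ x) j).op u₀) =
      (EtCoh.const X ℤ).obj.map (g x).op
        (Groth.Agent.Lib.EtJ.PullSec.elem X _ (𝟙 (EtCoh.const X ℤ))) := by
    intro j
    refine (ConcreteCategory.congr_hom ((aug f).hom.naturality (sheetPt f (hσ x) j).op) u₀).trans ?_
    change (EtCoh.const X ℤ).obj.map (sheetPt f (hσ x) j).op ((aug f).hom.app (op (obj f)) u₀) = _
    rw [← ev_comp, Category.id_comp, ← Category.comp_id (aug f), ev_aug]
    simp only [← ConcreteCategory.comp_apply, ← Functor.map_comp, ← op_comp]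
    rw [(EtCore.topIsTerminal X).hom_ext (sheetPt f (hσ x) j ≫ _) (g x)]
  rw [Finset.sum_congr rfl fun j _ => key j, Finset.sum_const, Finset.card_univ, Fintype.card_fin]
  let γ := Basic.geomPoint (U x).left (u x)
  rw [← hd _ (γ ≫ (U x).hom), card_sheets f (hσ x) γ]

/-- Multiplication by an integer prime to `L` is an automorphism of an `L`-torsion sheaf. -/
theorem isIso_nsmul (L : Set ℕ) (d : ℕ) (hL : ∀ p : ℕ, p.Prime → p ∈ L → ¬ p ∣ d) (F : EtCoh.Ab X)
    (hF : EtAcyc.IsLTorsion L F) : IsIso (d • 𝟙 F) := by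
  have hco : ∀ m, EtAcyc.PrimesIn L m → ∃ a : ℤ, ∀ {A : Type (u + 1)} [AddCommGroup A] (y : A),
      m • y = 0 → a • d • y = y := by
    intro m hm
    have hc : Nat.Coprime d m :=
      Nat.coprime_of_dvd fun p hp h1 h2 => hL p hp (hm.2 p hp h2) h1
    obtain ⟨a, b, hab⟩ := Nat.isCoprime_iff_coprime.2 hc
    refine ⟨a, fun y hy => ?_⟩
    conv_rhs => rw [← one_zsmul y, ← hab, add_smul, mul_smul, mul_smul]
    simp only [natCast_zsmul, hy, smul_zero, add_zero]
  have hloc : ∀ (U : X.Etale) (s : EtCoh.sect F U) (x : U.left), ∃ (V : X.Etale) (g : V ⟶ U) (a : ℤ),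
      (∃ v : V.left, g.left.base v = x) ∧ a • d • F.obj.map g.op s = F.obj.map g.op s := by
    intro U s x
    obtain ⟨V, g, m, hv, hm, hs⟩ := hF U s x
    obtain ⟨a, ha⟩ := hco m hm
    exact ⟨V, g, a, hv, ha _ hs⟩
  have hinj : ∀ (U : X.Etale) (s t : EtCoh.sect F U), d • s = d • t → s = t := by
    intro U s t hst
    choose V g a hv ha using hloc U (s - t)
    refine sub_eq_zero.1 (sections_ext F V g (fun x => ⟨x, hv x⟩) _ _ fun x => ?_)
    rw [map_zero, ← ha x, ← map_nsmul (F.obj.map (g x).op).hom, smul_sub, hst, sub_self, map_zero, smul_zero]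
  have hbij : ∀ U : X.Etale, Function.Bijective fun s : EtCoh.sect F U => d • s := by
    refine fun U => ⟨fun s t h => hinj U s t h, fun s => ?_⟩
    choose V g a hv ha using hloc U s
    obtain ⟨t, ht⟩ := exists_glue F V g (fun x => ⟨x, hv x⟩) (fun x => a x • F.obj.map (g x).op s) (by
      intro x y W p q hpq
      refine hinj W _ _ ?_
      rw [← map_nsmul (F.obj.map p.op).hom, ← map_nsmul (F.obj.map q.op).hom, smul_comm, ha x,
        smul_comm, ha y]
      simp only [← ConcreteCategory.comp_apply, ← Functor.map_comp, ← op_comp, hpq])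
    refine ⟨t, sections_ext F V g (fun x => ⟨x, hv x⟩) _ _ fun x => ?_⟩
    show F.obj.map (g x).op (d • t) = _
    rw [map_nsmul (F.obj.map (g x).op).hom, ht x, smul_comm]
    exact ha x
  have : IsIso (d • 𝟙 F : F ⟶ F).hom := by
    have : ∀ U, IsIso ((d • 𝟙 F : F ⟶ F).hom.app U) := fun U => by
      rw [ConcreteCategory.isIso_iff_bijective]
      have h : (fun s : EtCoh.sect F U.unop => d • s) = fun s => (d • 𝟙 F : F ⟶ F).hom.app U s := by
        funext s
        have h' : ∀ k : ℕ, (k • 𝟙 F : F ⟶ F).hom.app U s = k • s := fun k => by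
          induction k with
          | zero => simp
          | succ k ih => rw [succ_nsmul, succ_nsmul, ← ih]; rfl
        exact (h' d).symm
      exact (congrArg Function.Bijective h).mp (hbij U.unop)
    exact NatIso.isIso_of_isIso_app _
  have : IsIso ((sheafToPresheaf X.smallEtaleTopology AddCommGrpCat.{u + 1}).map (d • 𝟙 F)) := this
  exact isIso_of_reflects_iso (d • 𝟙 F) (sheafToPresheaf _ _)

theorem subsingleton_H (d : ℕ)
    (hd : ∀ (Ω : Type u) [Field Ω] [IsSepClosed Ω] (ξ : Spec (CommRingCat.of Ω) ⟶ X),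
      Nat.card ↥(pullback f ξ) = d)
    (L : Set ℕ) (hL : ∀ p : ℕ, p.Prime → p ∈ L → ¬ p ∣ d) (F : EtCoh.Ab X) (hF : EtAcyc.IsLTorsion L F)
    [PreservesFiniteLimits (EtCoh.pull f)] (q : ℕ)
    (h : Subsingleton (EtCoh.H X' ((EtCoh.pull f).obj F) q)) :
    Subsingleton (EtCoh.H X F q) := by
  have := isIso_nsmul L d hL F hF
  refine subsingleton_of_forall_eq 0 fun e => ?_
  have h1 : (Ext.mk₀ (aug f)).comp e (zero_add q) = 0 :=
    (Hpull_eq_zero_iff f F q e).1 (h.elim _ _)
  obtain ⟨tr, htr⟩ := exists_transfer f d hd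
  have h2 : d • e = 0 := by
    rw [← mk₀_nsmul_comp, ← htr, ← Ext.mk₀_comp_mk₀, Ext.comp_assoc_of_second_deg_zero, h1, Ext.comp_zero]
  have h3 : ∀ k : ℕ, e.comp (Ext.mk₀ (k • 𝟙 F)) (add_zero q) = k • e := by
    intro k
    induction k with
    | zero => simp
    | succ k ih => rw [add_smul, one_smul, Ext.mk₀_add, Ext.comp_add, ih, Ext.comp_mk₀_id, add_smul, one_smul]
  have h4 : e = (e.comp (Ext.mk₀ (d • 𝟙 F)) (add_zero q)).comp (Ext.mk₀ (inv (d • 𝟙 F))) (add_zero q) := by
    rw [Ext.comp_assoc_of_third_deg_zero, Ext.mk₀_comp_mk₀, IsIso.hom_inv_id, Ext.comp_mk₀_id]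
  rw [h4, h3, h2, Ext.zero_comp]

end Groth.Agent.Lib.EtSite.FiniteEtaleTransfer
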