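import Groth.Agent.H88.EtMod.Efface
import Groth.Agent.H61.FieldCoh.Free
import Groth.Agent.Lib.EtJ.ExtZero
import Groth.Agent.Lib.EtSite.FiniteEtaleTransfer
import Groth.Agent.Lib.EtSite.Stalk
import Groth.Prelude.Def_EtAcyc

/-!
# Acyclic embeddings of `L`-torsion sheaves

Every `L`-torsion sheaf embeds in an `L`-torsion sheaf whose restriction to every quasi-compact
quasi-separated étale scheme has vanishing higher cohomology, with `L`-torsion cokernel.
-/

set_option autoImplicit false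
set_option linter.style.haveILetI false

universe u

open CategoryTheory CategoryTheory.Limits CategoryTheory.Abelian AlgebraicGeometry Opposite

noncomputable section

namespace Groth.Agent.Lib.EtSite.TorsionInj

open Groth.Agent.H88.EtMod Groth.Agent.H61.FieldCoh Groth.Agent.Lib.EtJ

variable {X : Scheme.{u}}

theorem nsmul_app {F : EtCoh.Ab X} (W : X.Etaleᵒᵖ) (t : F.obj.obj W) (n : ℕ) :
    (n • 𝟙 F : F ⟶ F).hom.app W t = n • t := by
  induction n with
  | zero => rw [zero_nsmul, zero_nsmul]; rfl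
  | succ m ih => rw [succ_nsmul, succ_nsmul, ← ih]; rfl

/-- A cofinal sequence of integers with prime factors in `L`. -/
def mk (L : Set ℕ) (n : ℕ) : ℕ :=
  open Classical in (∏ p ∈ (Finset.range (n + 1)).filter (fun p => p ∈ L ∧ p.Prime), p) ^ n

theorem mk_ne_zero (L : Set ℕ) (n : ℕ) : mk L n ≠ 0 := by
  classical
  exact pow_ne_zero _ (Finset.prod_ne_zero_iff.2 fun p hp => ((Finset.mem_filter.1 hp).2.2).ne_zero)

theorem primesIn_mk (L : Set ℕ) (n : ℕ) : EtAcyc.PrimesIn L (mk L n) := by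
  classical
  refine ⟨Nat.pos_of_ne_zero (mk_ne_zero L n), fun p hp hd => ?_⟩
  obtain ⟨q, hq, hpq⟩ := (Nat.prime_iff.1 hp).exists_mem_finset_dvd (hp.dvd_of_dvd_pow hd)
  have hq' := (Finset.mem_filter.1 hq).2
  exact ((Nat.prime_dvd_prime_iff_eq hp hq'.2).1 hpq).symm ▸ hq'.1

theorem mk_dvd (L : Set ℕ) {a b : ℕ} (h : a ≤ b) : mk L a ∣ mk L b := by
  classical
  exact (pow_dvd_pow_of_dvd (Finset.prod_dvd_prod_of_subset _ _ _
    (Finset.filter_subset_filter _ (Finset.range_subset_range.2 (by omega)))) a).trans (pow_dvd_pow _ h)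

theorem dvd_mk (L : Set ℕ) {n : ℕ} (h : EtAcyc.PrimesIn L n) : n ∣ mk L n := by
  classical
  rw [Nat.dvd_iff_prime_pow_dvd_dvd]
  intro p k hp hk
  rcases Nat.eq_zero_or_pos k with rfl | hk0
  · simp
  have hpn : p ∣ n := (dvd_pow_self p (by omega)).trans hk
  have hkn : k ≤ n := le_of_lt (lt_of_lt_of_le (Nat.lt_pow_self hp.one_lt) (Nat.le_of_dvd h.1 hk))
  refine (pow_dvd_pow p hkn).trans (pow_dvd_pow_of_dvd (Finset.dvd_prod_of_mem _ ?_) n)
  exact Finset.mem_filter.2 ⟨Finset.mem_range.2 (Nat.lt_succ_of_le (Nat.le_of_dvd h.1 hpn)),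
    h.2 p hp hpn, hp⟩

theorem kernel_killed (n : ℕ) (F : EtCoh.Ab X) (W : X.Etaleᵒᵖ) (t : (kernel (n • 𝟙 F)).obj.obj W) :
    n • t = 0 := by
  have h : n • 𝟙 (kernel (n • 𝟙 F)) = 0 := by
    refine (cancel_mono (kernel.ι (n • 𝟙 F))).1 ?_
    rw [zero_comp, Preadditive.nsmul_comp, Category.id_comp]
    have := kernel.condition (n • 𝟙 F)
    rwa [Preadditive.comp_nsmul, Category.comp_id] at this
  rw [← nsmul_app W t n, h]
  rfl

/-- The subsheaves of an injective sheaf killed by the integers of the sequence. -/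
def chain (L : Set ℕ) (I : EtCoh.Ab X) : AsSmall.{u} ℕ ⥤ EtCoh.Ab X :=
  AsSmall.down ⋙
    { obj := fun k => kernel (mk L k • 𝟙 I)
      map := fun {k l} h => kernel.lift _ (kernel.ι _) (by
        obtain ⟨c, hc⟩ := mk_dvd L (leOfHom h)
        rw [hc, mul_comm, mul_nsmul', Preadditive.comp_nsmul, kernel.condition, nsmul_zero])
      map_id := fun k => equalizer.hom_ext (by simp)
      map_comp := fun f g => equalizer.hom_ext (by simp) }

/-- The cocone with point the injective sheaf. -/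
def chainCocone (L : Set ℕ) (I : EtCoh.Ab X) : Cocone (chain L I) where
  pt := I
  ι :=
    { app := fun _ => kernel.ι _
      naturality := fun k l h => by simp [chain] }

instance isFiltered_asSmall : IsFiltered (AsSmall.{u} ℕ) := IsFiltered.of_equivalence AsSmall.equiv

theorem mono_desc (L : Set ℕ) (I : EtCoh.Ab X) : Mono (colimit.desc (chain L I) (chainCocone L I)) := by
  haveI : AB5OfSize.{u, u} (EtCoh.Ab X) := AB5OfSize_shrink.{u, u, u + 1, u + 1} _
  haveI : HasExactColimitsOfShape (AsSmall.{u} ℕ) (EtCoh.Ab X) := AB5OfSize.ofShape _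
  haveI : ∀ k, Mono ((chainCocone L I).ι.app k) := fun k =>
    inferInstanceAs (Mono (kernel.ι (mk L (AsSmall.down.obj k) • 𝟙 I)))
  haveI : Mono ((chainCocone L I).ι) := NatTrans.mono_of_mono_app _
  haveI : IsConnected (AsSmall.{u} ℕ) := IsFiltered.isConnected _
  exact colim.map_mono' (chainCocone L I).ι (colimit.isColimit _)
    (isColimitConstCocone (AsSmall.{u} ℕ) I) _ (fun k =>
      (colimit.ι_desc (chainCocone L I) k).trans (Category.comp_id _).symm)

/-- Evaluation at the tautological section, as an additive map. -/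
def evHom {U : Scheme.{u}} (j : U ⟶ X) [Etale j] (G : EtCoh.Ab X) :
    (free j ⟶ G) ≃+ EtCoh.sect G (obj j) :=
  AddEquiv.mk' (ev j G) fun a b => by
    rw [ev_apply, ev_apply, ev_apply, hom_eq, hom_eq, hom_eq, Functor.map_add, Preadditive.comp_add,
      map_add, map_add]

/-- Sections over an étale scheme, corepresented by the free sheaf. -/
def sect {U : Scheme.{u}} (j : U ⟶ X) [Etale j] : ExtColim.Sect (obj j) where
  Z := free j
  e F := Ext.addEquiv₀.trans (evHom j F)
  natural {F G} φ x := by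
    obtain ⟨a, rfl⟩ := (Ext.mk₀_bijective _ _).2 x
    rw [Ext.mk₀_comp_mk₀]
    have e : ∀ {K : EtCoh.Ab X} (y : free j ⟶ K), Ext.addEquiv₀ (Ext.mk₀.{u + 1} y) = y := fun y =>
      Ext.addEquiv₀.apply_symm_apply y
    simp only [AddEquiv.trans_apply, e]
    exact (ev_comp j a φ).symm

theorem ext_kernel {U : Scheme.{u}} (j : U ⟶ X) [Etale j] (I : EtCoh.Ab X) [Injective I] {m : ℕ}
    (hm : m ≠ 0) (q : ℕ) (x : Ext.{u + 1} (free j) (kernel (m • 𝟙 I)) (q + 1)) : x = 0 := by
  haveI : PreservesLimit (parallelPair (m • 𝟙 I) 0) (EtCoh.pull j) := inferInstance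
  haveI : Injective ((EtCoh.pull j).obj I) := (EtCoh.pull j).injective_obj_of_injective ‹_›
  have e : (EtCoh.pull j).map (m • 𝟙 I) = m • 𝟙 ((EtCoh.pull j).obj I) := by
    rw [Functor.map_nsmul, CategoryTheory.Functor.map_id]
  let i : (EtCoh.pull j).obj (kernel (m • 𝟙 I)) ≅ kernel (m • 𝟙 ((EtCoh.pull j).obj I)) :=
    PreservesKernel.iso (EtCoh.pull j) _ ≪≫ kernelIsoOfEq e
  apply (Φ j _ (q + 1)).injective
  rw [map_zero]
  have h := Efface.H_kernel_nsmul ((EtCoh.pull j).obj I) hm q
    ((Φ j _ (q + 1) x).comp (Ext.mk₀ i.hom) (add_zero _))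
  have h' := congrArg (fun y => Ext.comp y (Ext.mk₀ i.inv) (add_zero (q + 1))) h
  simpa [Ext.comp_assoc_of_third_deg_zero] using h'

/-- The cokernel of a map of `L`-torsion sheaves is `L`-torsion. -/
theorem isLTorsion_of_epi {L : Set ℕ} {F G : EtCoh.Ab X} (g : F ⟶ G) [Epi g]
    (hF : EtAcyc.IsLTorsion L F) : EtAcyc.IsLTorsion L G := fun U s x => by
  have : Sheaf.IsLocallySurjective g := (Sheaf.isLocallySurjective_iff_epi' (φ := g)).2 inferInstance
  obtain ⟨V, a, ha, v, hv⟩ := (Basic.mem_topology_iff _).1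
    (Presheaf.imageSieve_mem X.smallEtaleTopology g.hom (U := op U) s) x
  obtain ⟨s', hs'⟩ := ha
  obtain ⟨W, b, m, ⟨w, hw⟩, hm, hms⟩ := hF V s' v
  refine ⟨W, b ≫ a, m, ⟨w, ?_⟩, hm, ?_⟩
  · refine Eq.trans ?_ hv
    rw [← hw]
    rfl
  · rw [op_comp, Functor.map_comp, ConcreteCategory.comp_apply, ← hs']
    refine Eq.trans ?_ ((congrArg (fun y => g.hom.app _ y) hms).trans (map_zero _))
    exact ((congrArg (m • ·) (NatTrans.naturality_apply g.hom b.op s').symm)).trans
      (map_nsmul (g.hom.app (op W)).hom m (F.obj.map b.op s')).symm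

/-- **Acyclic embeddings.** -/
theorem exists_embedding (L : Set ℕ) (F : EtCoh.Ab X) (hF : EtAcyc.IsLTorsion L F) :
    ∃ (G : EtCoh.Ab X) (u : F ⟶ G), Mono u ∧ EtAcyc.IsLTorsion L G ∧
      EtAcyc.IsLTorsion L (cokernel u) ∧
      ∀ (U : Scheme.{u}) (j : U ⟶ X) [Etale j] [CompactSpace U] [QuasiSeparatedSpace U] (q : ℕ),
        Subsingleton (EtCoh.H U ((EtCoh.pull j).obj G) (q + 1)) := by
  let I := Injective.under F
  let G := colimit (chain L I)
  let φ : G ⟶ I := colimit.desc (chain L I) (chainCocone L I)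
  haveI : Mono φ := mono_desc L I
  have hι : ∀ k, colimit.ι (chain L I) k ≫ φ = kernel.ι _ := fun k =>
    colimit.ι_desc (chainCocone L I) k
  have h0 : Injective.ι F ≫ cokernel.π φ = 0 := by
    apply Sheaf.hom_ext
    ext U s
    choose V g m hv hm hs using fun x => hF U.unop s x
    refine Groth.Agent.H61.FieldCoh.sections_ext (cokernel φ) V g (fun x => ⟨x, hv x⟩) _ _ fun x => ?_
    let k : AsSmall.{u} ℕ := AsSmall.up.obj (m x)
    have hk : mk L (m x) • F.obj.map (g x).op s = 0 := by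
      obtain ⟨c, hc⟩ := dvd_mk L (hm x)
      rw [hc, mul_comm, mul_nsmul', hs x, nsmul_zero]
    let y := (Injective.ι F).hom.app (op (V x)) (F.obj.map (g x).op s)
    have hy : (mk L (m x) • 𝟙 I : I ⟶ I).hom.app (op (V x)) y = 0 := by
      rw [nsmul_app]
      exact ((map_nsmul ((Injective.ι F).hom.app (op (V x))).hom _ _).symm).trans
        ((congrArg _ hk).trans (map_zero _))
    obtain ⟨z, hz⟩ := (ShortComplex.ab_exact_iff _).1
      ((ShortComplex.exact_of_f_is_kernel
          (ShortComplex.mk (kernel.ι (mk L (m x) • 𝟙 I)) _ (kernel.condition _))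
          (kernelIsKernel _)).map_of_mono_of_preservesKernel
        ((sheafSections X.smallEtaleTopology AddCommGrpCat.{u + 1}).obj (op (V x))) inferInstance
        inferInstance) y hy
    have e1 : (cokernel φ).obj.map (g x).op ((Injective.ι F ≫ cokernel.π φ).hom.app U s) =
        (kernel.ι (mk L (m x) • 𝟙 I) ≫ cokernel.π φ).hom.app (op (V x)) z := by
      refine (NatTrans.naturality_apply (Injective.ι F ≫ cokernel.π φ).hom (g x).op s).symm.trans ?_
      exact congrArg ((cokernel.π φ).hom.app (op (V x))) hz.symm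
    have e2 : kernel.ι (mk L (m x) • 𝟙 I) ≫ cokernel.π φ = 0 := by
      refine (eq_whisker (hι k).symm _).trans ?_
      exact (Category.assoc _ _ _).trans ((congrArg _ (cokernel.condition φ)).trans comp_zero)
    refine e1.trans ?_
    rw [e2]
    exact (map_zero _).symm
  let u : F ⟶ G := Abelian.monoLift φ (Injective.ι F) h0
  have hu : u ≫ φ = Injective.ι F := Abelian.monoLift_comp _ _ _
  haveI : Mono u := mono_of_mono_fac hu
  have hG : EtAcyc.IsLTorsion L G := fun V s x => by
    obtain ⟨W, g, w, hw, hW⟩ := FiniteGen.exists_affine_nhd V x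
    haveI := hW
    haveI : Etale W.hom := W.prop
    haveI : CompactSpace (obj W.hom).left := inferInstanceAs (CompactSpace W.left)
    haveI : QuasiSeparatedSpace (obj W.hom).left := inferInstanceAs (QuasiSeparatedSpace W.left)
    let a : obj W.hom ⟶ W := MorphismProperty.Over.homMk (𝟙 W.left)
      (by change 𝟙 W.left ≫ W.hom = 𝟙 W.left ≫ W.hom; rfl)
    let S := sect W.hom
    obtain ⟨k, y, hy⟩ := (ExtColim.good S (chain L I) 0).1 ((S.e _).symm (G.obj.map (a ≫ g).op s))
    refine ⟨obj W.hom, a ≫ g, mk L (AsSmall.down.obj k), ⟨w, hw⟩, primesIn_mk L _, ?_⟩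
    have e := congrArg (S.e G) hy
    rw [AddEquiv.apply_symm_apply] at e
    rw [← e]
    change _ • S.e G (y.comp (Ext.mk₀ (colimit.ι (chain L I) k)) (add_zero 0)) = 0
    rw [← S.natural, ← map_nsmul ((colimit.ι (chain L I) k).hom.app (op (obj W.hom))).hom]
    exact (congrArg _ (kernel_killed (mk L (AsSmall.down.obj k)) I (op (obj W.hom)) _)).trans (map_zero _)
  refine ⟨G, u, inferInstance, hG, isLTorsion_of_epi (cokernel.π u) hG, fun U j _ _ _ q => ?_⟩
  haveI : CompactSpace (obj j).left := ‹CompactSpace U›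
  haveI : QuasiSeparatedSpace (obj j).left := ‹QuasiSeparatedSpace U›
  have h : Subsingleton (Ext.{u + 1} (free j) G (q + 1)) := subsingleton_of_forall_eq 0 fun x => by
    obtain ⟨k, y, rfl⟩ := (ExtColim.good (sect j) (chain L I) (q + 1)).1 x
    rw [show y = 0 from ext_kernel j I (mk_ne_zero L _) q y, map_zero]
    rfl
  exact (Φ j G (q + 1)).toEquiv.symm.subsingleton

end Groth.Agent.Lib.EtSite.TorsionInj
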