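import Groth.Agent.Lib.EtSite.LowLeray
import Groth.Agent.Lib.EtSite.TorsionInj
import Groth.Agent.Lib.EtSite.EtBCQ
import Groth.Agent.S3513

/-!
# Direct image criterion for `n`-acyclicity
-/

set_option autoImplicit false
set_option linter.style.haveILetI false

universe u

open CategoryTheory CategoryTheory.Limits CategoryTheory.Abelian AlgebraicGeometry Opposite

noncomputable section

namespace Groth.Agent.Lib.EtSite.AcyclicCrit

open Groth.Agent.H61.FieldCoh

variable {X Y : Scheme.{u}} (g : X ⟶ Y)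

/-- The identification of `U` as an object over `X` with the base change of `W`. -/
def objIso {W : Y.Etale} {U : Scheme.{u}} {k : U ⟶ X} {p : U ⟶ W.left} [Etale k]
    (sq : IsPullback k p g W.hom) : obj k ≅ (EtCoh.bc g).obj W :=
  MorphismProperty.Over.isoMk sq.flip.isoPullback (by
    change sq.flip.isoPullback.hom ≫ pullback.snd W.hom g = 𝟙 U ≫ k
    rw [IsPullback.isoPullback_hom_snd, Category.id_comp])

theorem isZero_Rpush_of_vanish (n : ℕ) : ∀ M : EtCoh.Ab X,
    (∀ W : Y.Etale, IsAffine W.left → ∃ (U : Scheme.{u}) (k : U ⟶ X) (_ : Etale k)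
      (_ : obj k ≅ (EtCoh.bc g).obj W),
        ∀ q, 1 ≤ q → q ≤ n → Subsingleton (Ext.{u + 1} (free k) M q)) →
    ∀ q, 1 ≤ q → q ≤ n → IsZero ((EtCoh.Rpush g q).obj M) := by
  induction n with
  | zero => intro M _ q h1 h2; omega
  | succ n ih =>
    intro M hM q h1 h2
    let S := ShortComplex.mk (Injective.ι M) (cokernel.π _) (cokernel.condition _)
    have hS : S.ShortExact := { exact := ShortComplex.exact_cokernel (Injective.ι M) }
    have : Injective S.X₂ := inferInstanceAs (Injective (Injective.under M))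
    obtain ⟨r, rfl⟩ := Nat.exists_eq_add_of_le' h1
    cases r with
    | zero =>
      have : Epi ((EtCoh.push g).map S.g) := by
        rw [← Sheaf.isLocallySurjective_iff_epi']
        refine ⟨fun {V} t => (Basic.mem_topology_iff _).2 fun v => ?_⟩
        obtain ⟨W, a, w, hw, hW⟩ := H88.EtMod.FiniteGen.exists_affine_nhd V v
        obtain ⟨U, k, _, e, hvan⟩ := hM W hW
        let t' : EtCoh.sect S.X₃ (obj k) := S.X₃.obj.map e.hom.op
          (((EtCoh.push g).obj S.X₃).obj.map a.op t)
        obtain ⟨c, hc⟩ := (ev k S.X₃).surjective t'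
        have h0 : (Ext.mk₀.{u + 1} c).comp hS.extClass (zero_add 1) = 0 := (hvan 1 le_rfl h2).elim _ _
        obtain ⟨b, hb⟩ := Ext.covariant_sequence_exact₃ _ hS (Ext.mk₀ c) rfl h0
        obtain ⟨b, rfl⟩ := (Ext.mk₀_bijective _ _).2 b
        rw [Ext.mk₀_comp_mk₀] at hb
        have hb' : b ≫ S.g = c := (Ext.mk₀_bijective _ _).1 hb
        refine ⟨W, a, ⟨S.X₂.obj.map e.inv.op (ev k _ b), ?_⟩, w, hw⟩
        refine (NatTrans.naturality_apply S.g.hom e.inv.op (ev k _ b)).trans ?_
        rw [← ev_comp, hb', hc]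
        change S.X₃.obj.map e.inv.op (S.X₃.obj.map e.hom.op _) = _
        rw [← ConcreteCategory.comp_apply, ← Functor.map_comp, ← op_comp, e.inv_hom_id, op_id,
          CategoryTheory.Functor.map_id]
        rfl
      exact LowLeray.isZero_Rpush_one g hS (LowLeray.isZero_Rpush_of_injective g S.X₂ 0)
    | succ r =>
      refine LowLeray.isZero_Rpush_succ g hS r (LowLeray.isZero_Rpush_of_injective g S.X₂ _)
        (ih S.X₃ (fun W hW => ?_) (r + 1) (by omega) (by omega))
      obtain ⟨U, k, hk, e, hvan⟩ := hM W hW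
      refine ⟨U, k, hk, e, fun q hq1 hq2 => subsingleton_of_forall_eq 0 fun x => ?_⟩
      obtain ⟨q, rfl⟩ := Nat.exists_eq_add_of_le' hq1
      obtain ⟨y, hy⟩ := Ext.covariant_sequence_exact₃ _ hS x rfl
        ((hvan (q + 1 + 1) (by omega) (by omega)).elim _ _)
      rw [← hy, Ext.eq_zero_of_injective y, Ext.zero_comp]

/-- Pullback along the two sides of a commutative square. -/
def squareIso {U W : Scheme.{u}} {k : U ⟶ X} {p : U ⟶ W} {j : W ⟶ Y} (w : k ≫ g = p ≫ j)
    (F : EtCoh.Ab Y) :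
    (EtCoh.pull k).obj ((EtCoh.pull g).obj F) ≅ (EtCoh.pull p).obj ((EtCoh.pull j).obj F) :=
  (((EtCore.pullComp k g).symm ≪≫ EtCore.pullCongr w).app F) ≪≫
    (((EtCore.pullComp p j).symm ≪≫ EtCore.pullCongr rfl).app F).symm

theorem bijective_comp_iso {C : Type*} [Category C] {Z A B : C} (f : A ⟶ B) [IsIso f] :
    Function.Bijective fun c : Z ⟶ A => c ≫ f :=
  Function.bijective_iff_has_inverse.2 ⟨fun c => c ≫ inv f,
    fun c => by simp [Category.assoc], fun c => by simp [Category.assoc]⟩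

theorem bijective_unit_square {U W : Scheme.{u}} {k : U ⟶ X} {p : U ⟶ W} {j : W ⟶ Y} [Etale k] [Etale j]
    (sq : IsPullback k p g j) (F : EtCoh.Ab Y)
    (h : Function.Bijective (EtCore.Hpull p ((EtCoh.pull j).obj F) 0)) :
    Function.Bijective fun c : EtCoh.const W ℤ ⟶ (EtCoh.pull j).obj F =>
      c ≫ (EtCoh.pull j).map ((EtCoh.pullPushAdj g).unit.app F) := by
  let N := (EtCoh.pull (p ≫ j)).obj F
  let αk : (EtCoh.pull k).obj ((EtCoh.pull g).obj F) ≅ N :=
    ((EtCore.pullComp k g).symm ≪≫ EtCore.pullCongr sq.w).app F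
  let αp : (EtCoh.pull p).obj ((EtCoh.pull j).obj F) ≅ N :=
    ((EtCore.pullComp p j).symm ≪≫ EtCore.pullCongr (rfl : p ≫ j = p ≫ j)).app F
  let c0 := EtCoh.pushComp g k ≪≫ EtCoh.pushCongr sq.w ≪≫ (EtCoh.pushComp j p).symm
  let x0 : (EtCoh.push g).obj ((EtCoh.pull g).obj F) ⟶
      (EtCoh.push j).obj ((EtCoh.push p).obj ((EtCoh.pull k).obj ((EtCoh.pull g).obj F))) :=
    (EtCoh.push g).map ((EtCoh.pullPushAdj k).unit.app ((EtCoh.pull g).obj F)) ≫
      c0.hom.app ((EtCoh.pull k).obj ((EtCoh.pull g).obj F))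
  let bc0 := ((EtCoh.pullPushAdj j).homEquiv _ _).symm x0
  have : IsIso bc0 := EtBCQ.isIso_bc0_etale sq _
  let η : F ⟶ (EtCoh.push g).obj ((EtCoh.pull g).obj F) := (EtCoh.pullPushAdj g).unit.app F
  have key : (EtCoh.pull j).map η ≫ bc0 ≫ (EtCoh.push p).map αk.hom =
      (EtCoh.pullPushAdj p).unit.app _ ≫ (EtCoh.push p).map αp.hom := by
    apply ((EtCoh.pullPushAdj j).homEquiv _ _).injective
    refine ((EtCoh.pullPushAdj j).homEquiv_naturality_left η _).trans ?_
    refine (congrArg (η ≫ ·) (((EtCoh.pullPushAdj j).homEquiv_naturality_right bc0 _).trans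
      (congrArg (· ≫ (EtCoh.push j).map ((EtCoh.push p).map αk.hom)) (Equiv.apply_symm_apply _ _)))).trans ?_
    have h1 := H61.HpullFunct.homEquiv_pullVia (f := k) (g := g) sq.w (M := F) (N := N) (𝟙 N)
    have h2 := H61.HpullFunct.homEquiv_pullVia (f := p) (g := j) (rfl : p ≫ j = p ≫ j) (M := F) (N := N) (𝟙 N)
    rw [H61.HpullFunct.pushCongr_rfl, Category.comp_id] at h2
    have h3 := h1.trans h2.symm
    rw [Category.comp_id, Category.comp_id] at h3
    have hk : (EtCoh.pullPushAdj g).homEquiv _ _ ((EtCoh.pullPushAdj k).homEquiv _ _ αk.hom) =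
        η ≫ (EtCoh.push g).map ((EtCoh.pullPushAdj k).unit.app _ ≫ (EtCoh.push k).map αk.hom) := by
      rw [Adjunction.homEquiv_unit, Adjunction.homEquiv_unit]
    have hp : (EtCoh.pullPushAdj p).homEquiv _ _ αp.hom =
        (EtCoh.pullPushAdj p).unit.app _ ≫ (EtCoh.push p).map αp.hom :=
      (EtCoh.pullPushAdj p).homEquiv_unit _ _ _
    refine (cancel_mono ((EtCoh.pushComp j p).hom.app N)).1 ?_
    refine Eq.trans ?_ (h3.trans (congrArg (fun m => (EtCoh.pullPushAdj j).homEquiv _ _ m ≫
      (EtCoh.pushComp j p).hom.app N) hp))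
    refine Eq.trans ?_ (congrArg (· ≫ (EtCoh.pushComp g k).hom.app N ≫ (EtCoh.pushCongr sq.w).hom.app N) hk).symm
    simp only [x0, Functor.map_comp, Category.assoc]
    refine congrArg (_ ≫ ·) (congrArg (_ ≫ ·) ?_)
    refine (Category.assoc _ _ _).symm.trans ((eq_whisker (c0.hom.naturality αk.hom).symm _).trans ?_)
    simp [c0]
  have hb : Function.Bijective fun c : EtCoh.const W ℤ ⟶ (EtCoh.pull j).obj F =>
      c ≫ (EtCoh.pullPushAdj p).unit.app _ ≫ (EtCoh.push p).map αp.hom := by
    have h' := LowLeray.bijective_unit_top p _ h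
    have := (bijective_comp_iso (Z := EtCoh.const W ℤ) ((EtCoh.push p).map αp.hom)).comp h'
    refine Eq.mp (congrArg Function.Bijective (funext fun c => ?_)) this
    exact Category.assoc _ _ _
  refine (Function.Bijective.of_comp_iff'
    (bijective_comp_iso (Z := EtCoh.const W ℤ) (bc0 ≫ (EtCoh.push p).map αk.hom)) _).1 ?_
  refine Eq.mp (congrArg Function.Bijective (funext fun c => ?_)) hb
  exact (congrArg (c ≫ ·) key.symm).trans (Category.assoc _ _ _).symm

variable (L : Set ℕ) (n : ℕ)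

/-- The comparison condition on all étale neighbourhoods. -/
def LocComp : Prop :=
  ∀ W : Y.Etale, ∃ (U : Scheme.{u}) (k : U ⟶ X) (p : U ⟶ W.left),
    IsPullback k p g W.hom ∧ EtAcyc.CompN p L n

variable {g L n}

theorem isIso_unit (h : LocComp g L n) (F : EtCoh.Ab Y) (hF : EtAcyc.IsLTorsion L F) :
    IsIso ((EtCoh.pullPushAdj g).unit.app F) := by
  refine Stalk.isIso_of_app_bijective _ fun W => ?_
  have : Etale W.hom := W.prop
  obtain ⟨U, k, p, sq, hc⟩ := h W
  have : Etale k := MorphismProperty.of_isPullback (P := @Etale) sq.flip W.prop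
  let η := (EtCoh.pullPushAdj g).unit.app F
  have hb := bijective_unit_square g (j := W.hom) sq F
    (((hc _ (S3513.isLTorsion_pull W.hom L F hF)).1 0 (Nat.zero_le n)))
  have h1 : Function.Bijective fun c : free W.hom ⟶ F => c ≫ η := by
    refine (Function.Bijective.of_comp_iff' (hom W.hom _).bijective _).1 ?_
    refine Eq.mp (congrArg Function.Bijective (funext fun c => ?_)) (hb.comp (hom W.hom F).bijective)
    exact (hom_comp W.hom c η).symm
  have h2 : Function.Bijective (η.hom.app (op (obj W.hom))) := by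
    refine (Function.Bijective.of_comp_iff _ (ev W.hom F).bijective).1 ?_
    refine Eq.mp (congrArg Function.Bijective (funext fun c => ?_)) ((ev W.hom _).bijective.comp h1)
    exact ev_comp W.hom c η
  let a : obj W.hom ≅ W := MorphismProperty.Over.isoMk (Iso.refl W.left)
    (by change 𝟙 W.left ≫ W.hom = 𝟙 W.left ≫ W.hom; rfl)
  have : IsIso (η.hom.app (op (obj W.hom))) := (ConcreteCategory.isIso_iff_bijective _).2 h2
  have : IsIso (η.hom.app (op W)) := (NatTrans.isIso_app_iff_of_iso η.hom a.op).2 ‹_›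
  exact (ConcreteCategory.isIso_iff_bijective _).1 this

theorem subsingleton_ext (h : LocComp g L n) (G : EtCoh.Ab Y) (hG : EtAcyc.IsLTorsion L G)
    (hG' : ∀ (U : Scheme.{u}) (j : U ⟶ Y) [Etale j] [CompactSpace U] [QuasiSeparatedSpace U] (q : ℕ),
      Subsingleton (EtCoh.H U ((EtCoh.pull j).obj G) (q + 1)))
    (W : Y.Etale) (hW : IsAffine W.left) :
    ∃ (U : Scheme.{u}) (k : U ⟶ X) (_ : Etale k) (_ : obj k ≅ (EtCoh.bc g).obj W),
      ∀ q, 1 ≤ q → q ≤ n → Subsingleton (Ext.{u + 1} (free k) ((EtCoh.pull g).obj G) q) := by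
  have : Etale W.hom := W.prop
  obtain ⟨U, k, p, sq, hc⟩ := h W
  have hk : Etale k := MorphismProperty.of_isPullback (P := @Etale) sq.flip W.prop
  refine ⟨U, k, hk, objIso g sq, fun q h1 h2 => ?_⟩
  obtain ⟨q, rfl⟩ := Nat.exists_eq_add_of_le' h1
  have h0 := hG' W.left W.hom q
  have hs : Subsingleton (EtCoh.H U ((EtCoh.pull p).obj ((EtCoh.pull W.hom).obj G)) (q + 1)) :=
    ((hc _ (S3513.isLTorsion_pull W.hom L G hG)).1 (q + 1) h2).2.subsingleton
  refine subsingleton_of_forall_eq 0 fun x => (Φ k _ (q + 1)).injective ?_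
  rw [map_zero]
  have h' := congrArg (fun y => Ext.comp y (Ext.mk₀ (squareIso g sq.w G).inv) (add_zero (q + 1)))
    (hs.elim ((Φ k _ (q + 1) x).comp (Ext.mk₀ (squareIso g sq.w G).hom) (add_zero _)) 0)
  simpa [Ext.comp_assoc_of_third_deg_zero] using h'

theorem isZero_Rpush (h : LocComp g L n) : ∀ (q : ℕ), 1 ≤ q → q ≤ n →
    ∀ F : EtCoh.Ab Y, EtAcyc.IsLTorsion L F →
      IsZero ((EtCoh.Rpush g q).obj ((EtCoh.pull g).obj F)) := by
  intro q
  induction q with
  | zero => intro h1; omega
  | succ r ih =>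
    intro _ h2 F hF
    obtain ⟨G, u, hu, hG, hQ, hG'⟩ := TorsionInj.exists_embedding L F hF
    let S := ShortComplex.mk u (cokernel.π u) (cokernel.condition u)
    have hS : S.ShortExact := { exact := ShortComplex.exact_cokernel u }
    have hS' := hS.map_of_exact (EtCoh.pull g)
    have hz := isZero_Rpush_of_vanish g n _ (fun W hW => subsingleton_ext h G hG hG' W hW)
    cases r with
    | zero =>
      have := isIso_unit h G hG
      have := isIso_unit h _ hQ
      have hnat := (EtCoh.pullPushAdj g).unit.naturality S.g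
      have : Epi ((EtCoh.push g).map (S.map (EtCoh.pull g)).g) := by
        have : Epi ((EtCoh.pullPushAdj g).unit.app G ≫
            (EtCoh.push g).map ((EtCoh.pull g).map S.g)) := by
          refine (congrArg (fun m => Epi m) hnat).mp ?_
          have := hS.epi_g
          exact epi_comp _ _
        have h' : Epi ((EtCoh.pullPushAdj g).unit.app G ≫
            (EtCoh.push g).map (S.map (EtCoh.pull g)).g) := this
        exact @epi_of_epi _ _ _ _ _ ((EtCoh.pullPushAdj g).unit.app G) _ h'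
      exact LowLeray.isZero_Rpush_one g hS' (hz 1 le_rfl h2)
    | succ r =>
      exact LowLeray.isZero_Rpush_succ g hS' r (hz (r + 2) (by omega) h2)
        (ih (by omega) (by omega) _ hQ)

end Groth.Agent.Lib.EtSite.AcyclicCrit
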