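import Groth.Prelude.Def_EtAcyc
import Groth.Agent.Lib.EtSite.UnitStalk
import Groth.Agent.Lib.EtSite.Fiber
import Groth.Agent.Lib.EtSite.Push

/-!
# `(-1)`-acyclic morphisms and surjectivity
-/

universe u

open CategoryTheory CategoryTheory.Limits AlgebraicGeometry Opposite

namespace Groth.Agent.Lib.EtSite.MinusOne

open Groth.Agent.Lib.EtSite.Basic Groth.Agent.Lib.EtSite.Stalk Groth.Agent.Lib.EtSite.UnitStalk

/-- The unit along a surjective morphism is a monomorphism of sheaves of sets. -/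
theorem mono_unit_of_surjective {X Y : Scheme.{u}} (f : X ⟶ Y)
    (hf : Function.Surjective f.base) (F : EtDesc.Sh Y) : Mono ((EtDesc.adjSh f).unit.app F) := by
  refine mono_of_stalks _ fun y => ?_
  obtain ⟨x, rfl⟩ := hf y
  refine ⟨_, inferInstance, inferInstance, Push.algPoint X x ≫ f, ?_, fun a b h => ?_⟩
  · rw [Scheme.Hom.comp_apply, Push.algPoint_apply]
  · have := isIso_unitStalk f (Push.algPoint X x) (Type (u + 1)) F
    refine ((ConcreteCategory.isIso_iff_bijective (unitStalk f (Push.algPoint X x) (Type (u + 1)) F)).1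
      this).1 ?_
    exact (ConcreteCategory.comp_apply _ _ _).trans ((congrArg _ h).trans
      (ConcreteCategory.comp_apply _ _ _).symm)

/-- The presheaf of `Bool`-valued functions on the points over a subset. -/
def funPresheaf {Y : Scheme.{u}} (S : Set Y) : Y.Etaleᵒᵖ ⥤ Type (u + 1) where
  obj T := ULift.{u + 1} ({t : T.unop.left // T.unop.hom.base t ∈ S} → Bool)
  map {T T'} a := ↾fun F => ⟨fun t => F.down ⟨a.unop.left.base t.1,
    ((Scheme.Hom.comp_apply _ _ _).symm.trans
      (congrArg (fun m => m.base t.1) (Over.w a.unop.hom :))).symm ▸ t.2⟩⟩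

theorem isSheaf_funPresheaf {Y : Scheme.{u}} (S : Set Y) :
    Presheaf.IsSheaf Y.smallEtaleTopology (funPresheaf S) := by
  rw [isSheaf_iff_isSheaf_of_type]
  intro U R hR x hx
  classical
  choose V f hf v hv using fun t : {t : U.left // U.hom.base t ∈ S} => (mem_topology_iff R).1 hR t.1
  have hw : ∀ {T : Y.Etale} (g : T ⟶ U) (z : T.left), U.hom.base (g.left.base z) = T.hom.base z :=
    fun {T} g z => (Scheme.Hom.comp_apply _ _ _).symm.trans (congrArg (fun m => m.base z) (Over.w g.hom :))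
  let val : ∀ {T : Y.Etale} (g : T ⟶ U) (hg : R g) (t : {t : T.left // T.hom.base t ∈ S}), Bool :=
    fun {T} g hg t => (x g hg).down t
  refine ⟨⟨fun t => val (f t) (hf t) ⟨v t, by rw [← hw (f t), hv t]; exact t.2⟩⟩, fun T g hg => ?_,
    fun y hy => ?_⟩
  · refine ULift.ext _ _ (funext fun z => ?_)
    let t : {t : U.left // U.hom.base t ∈ S} := ⟨g.left.base z.1, (hw g z.1).symm ▸ z.2⟩
    obtain ⟨w₀, ha, hb⟩ := Scheme.Pullback.exists_preimage_pullback
      (f := (f t).left) (g := g.left) (v t) z.1 (hv t)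
    have := Fiber.etale_left g
    have : Etale (V t).hom := (V t).prop
    let W : Y.Etale := MorphismProperty.Over.mk ⊤ (pullback.fst (f t).left g.left ≫ (V t).hom)
      (show Etale _ from inferInstance)
    let a : W ⟶ V t := MorphismProperty.Over.homMk (pullback.fst (f t).left g.left) rfl
    let b : W ⟶ T := MorphismProperty.Over.homMk (pullback.snd (f t).left g.left)
      ((_ ≫= (Over.w g.hom :).symm).trans ((Category.assoc _ _ _).symm.trans
        ((congrArg (· ≫ U.hom) pullback.condition.symm).trans ((Category.assoc _ _ _).trans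
          (_ ≫= (Over.w (f t).hom :))))))
    let w : W.left := w₀
    have hab : a ≫ f t = b ≫ g := MorphismProperty.Over.Hom.ext pullback.condition
    have hS : W.hom.base w ∈ S := by
      rw [← hw (b ≫ g) w]
      change U.hom.base (g.left.base (b.left.base w)) ∈ S
      exact (congrArg (fun z' => U.hom.base (g.left.base z') ∈ S) hb).mpr t.2
    have h1 := congrArg (fun F => F.down ⟨w, hS⟩) (hx a b (hf t) hg hab)
    refine Eq.trans ?_ (h1.trans ?_)
    · exact congrArg (x (f t) (hf t)).down (Subtype.ext ha.symm)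
    · exact congrArg (x g hg).down (Subtype.ext hb)
  · refine ULift.ext _ _ (funext fun t => ?_)
    have hS : (V t).hom.base (v t) ∈ S := by rw [← hw (f t), hv t]; exact t.2
    refine Eq.trans ?_ (congrArg (fun F => F.down ⟨v t, hS⟩) (hy (f t) (hf t)))
    exact congrArg y.down (Subtype.ext (hv t).symm)

/-- The sheaf of `Bool`-valued functions on the points over a subset. -/
def funSheaf {Y : Scheme.{u}} (S : Set Y) : EtDesc.Sh Y :=
  ⟨funPresheaf S, isSheaf_funPresheaf S⟩

theorem stalk_funSheaf_eq {Y : Scheme.{u}} (S : Set Y) (hS : IsClosed S) {Ω : Type u} [Field Ω]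
    [IsSepClosed Ω] (η : Spec (CommRingCat.of Ω) ⟶ Y) (hη : η.base default ∉ S)
    (a b : (Scheme.pointSmallEtale η).sheafFiber.obj (funSheaf S)) : a = b := by
  obtain ⟨U, p, s, rfl⟩ := (Scheme.pointSmallEtale η).toPresheafFiber_jointly_surjective (P := (funSheaf S).obj) a
  obtain ⟨U', p', s', rfl⟩ := (Scheme.pointSmallEtale η).toPresheafFiber_jointly_surjective (P := (funSheaf S).obj) b
  let E := IsCofiltered.min ((Scheme.pointSmallEtale η).fiber.elementsMk U p)
    ((Scheme.pointSmallEtale η).fiber.elementsMk U' p')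
  let a₁ : E ⟶ (Scheme.pointSmallEtale η).fiber.elementsMk U p := IsCofiltered.minToLeft _ _
  let b₁ : E ⟶ (Scheme.pointSmallEtale η).fiber.elementsMk U' p' := IsCofiltered.minToRight _ _
  let T := E.1
  let q : (Scheme.pointSmallEtale η).fiber.obj T := E.2
  let O : T.left.Opens := ⟨T.hom.base ⁻¹' Sᶜ, hS.isOpen_compl.preimage T.hom.continuous⟩
  have : Etale T.hom := T.prop
  let T' : Y.Etale := MorphismProperty.Over.mk ⊤ (O.ι ≫ T.hom)
    (show Etale _ from inferInstance)
  let c : T' ⟶ T := MorphismProperty.Over.homMk O.ι rfl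
  obtain ⟨q', hq', -⟩ := Fiber.exists_fiber_map η c q
    (⟨fiberPt q, show T.hom.base (fiberPt q) ∉ S by rw [hom_fiberPt]; exact hη⟩ : O) rfl
  have : Subsingleton ((funSheaf S).obj.obj (op T')) :=
    ⟨fun F G => ULift.ext _ _ (funext fun t => absurd t.2 t.1.2)⟩
  have h1 : (Scheme.pointSmallEtale η).fiber.map (c ≫ a₁.1) q' = p := by
    rw [Functor.map_comp, ConcreteCategory.comp_apply, hq']; exact a₁.2
  have h2 : (Scheme.pointSmallEtale η).fiber.map (c ≫ b₁.1) q' = p' := by
    rw [Functor.map_comp, ConcreteCategory.comp_apply, hq']; exact b₁.2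
  rw [← h1, ← h2]
  refine ((Scheme.pointSmallEtale η).toPresheafFiber_w_apply (c ≫ a₁.1) q' _ s).symm.trans
    (Eq.trans ?_ ((Scheme.pointSmallEtale η).toPresheafFiber_w_apply (c ≫ b₁.1) q' _ s'))
  exact congrArg _ (Subsingleton.elim _ _)

/-- Near a point outside the image of a quasi-compact morphism, its closure misses the image. -/
theorem exists_open_disjoint {X Y : Scheme.{u}} (g : X ⟶ Y) [QuasiCompact g] (y : Y)
    (hy : y ∉ Set.range g.base) :
    ∃ O : Y.Opens, y ∈ O ∧ ∀ x : X, g.base x ∈ O → ¬ y ⤳ g.base x := by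
  obtain ⟨_, ⟨U, hU, rfl⟩, hyU, -⟩ :=
    Y.isBasis_affineOpens.exists_subset_of_mem_open (Set.mem_univ y) isOpen_univ
  have key : ∀ x ∈ (g ⁻¹ᵁ U : X.Opens), ∃ (V : X.Opens) (_ : x ∈ V) (O : Y.Opens), y ∈ O ∧
      ∀ x' ∈ V, g.base x' ∈ O → ¬ y ⤳ g.base x' := by
    intro x hx
    obtain ⟨_, ⟨V, hV, rfl⟩, hxV, hVU⟩ := X.isBasis_affineOpens.exists_subset_of_mem_open
      (SetLike.mem_coe.2 hx) (g ⁻¹ᵁ U).2
    let φ : Γ(Y, U) ⟶ Γ(X, V) := g.appLE U V hVU
    let p : PrimeSpectrum Γ(Y, U) := hU.primeIdealOf ⟨y, hyU⟩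
    have hp : p ∉ Set.range (PrimeSpectrum.comap φ.hom) := by
      rintro ⟨P, hP⟩
      refine hy ⟨hV.fromSpec.base P, ?_⟩
      rw [← Scheme.Hom.comp_apply, ← IsAffineOpen.SpecMap_appLE_fromSpec g hU hV hVU,
        Scheme.Hom.comp_apply, show (Spec.map φ).base P = p from hP]
      exact hU.fromSpec_primeIdealOf ⟨y, hyU⟩
    rw [PrimeSpectrum.mem_range_comap_iff] at hp
    obtain ⟨f, hf, hfp⟩ : ∃ f, f ∈ (p.asIdeal.map φ.hom).comap φ.hom ∧ f ∉ p.asIdeal := by
      by_contra hne
      push Not at hne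
      exact hp (le_antisymm hne Ideal.le_comap_map)
    refine ⟨V, hxV, Y.basicOpen f, ?_, fun x' hx' hxf hspec => ?_⟩
    · have := (hU.fromSpec_preimage_basicOpen f)
      have hpy : hU.fromSpec.base p = y := hU.fromSpec_primeIdealOf ⟨y, hyU⟩
      rw [← hpy]
      exact (SetLike.ext_iff.1 this p).2 hfp
    · let P : PrimeSpectrum Γ(X, V) := hV.primeIdealOf ⟨x', hx'⟩
      have hgx : g.base x' = hU.fromSpec.base ((Spec.map φ).base P) := by
        rw [← Scheme.Hom.comp_apply, IsAffineOpen.SpecMap_appLE_fromSpec g hU hV hVU,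
          Scheme.Hom.comp_apply]
        exact congrArg g.base (hV.fromSpec_primeIdealOf ⟨x', hx'⟩).symm
      have hpy : hU.fromSpec.base p = y := hU.fromSpec_primeIdealOf ⟨y, hyU⟩
      rw [hgx, ← hpy] at hspec
      have hle : p.asIdeal ≤ P.asIdeal.comap φ.hom :=
        (PrimeSpectrum.le_iff_specializes p (PrimeSpectrum.comap φ.hom P)).2
          ((hU.fromSpec.isOpenEmbedding.isInducing.specializes_iff).1 hspec)
      rw [hgx] at hxf
      exact (SetLike.ext_iff.1 (hU.fromSpec_preimage_basicOpen f) ((Spec.map φ).base P)).1 hxf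
        (Ideal.map_le_iff_le_comap.2 hle hf)
  choose V hV O hO hdis using key
  obtain ⟨t, htU⟩ := (g.isCompact_preimage hU.isCompact).elim_nhds_subcover'
    (fun x hx => (V x hx : Set X)) (fun x hx => (V x hx).2.mem_nhds (hV x hx))
  refine ⟨U ⊓ ⟨⋂ x ∈ t, (O x.1 x.2 : Set Y), isOpen_biInter_finset fun x _ => (O x.1 x.2).2⟩,
    ⟨hyU, Set.mem_iInter₂.2 fun x _ => hO x.1 x.2⟩, fun x hx => ?_⟩
  obtain ⟨x₀, hx₀, hxV⟩ := Set.mem_iUnion₂.1 (htU hx.1)
  exact hdis x₀.1 x₀.2 x hxV (Set.mem_iInter₂.1 hx.2 x₀ hx₀)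

theorem surjective_of_isMinusOneAcyclic {X Y : Scheme.{u}} (g : X ⟶ Y) [QuasiCompact g]
    (h : EtAcyc.IsMinusOneAcyclic g) : Function.Surjective g.base := by
  intro y
  by_contra hy
  obtain ⟨O, hyO, hO⟩ := exists_open_disjoint g y hy
  let V : Y.Etale := MorphismProperty.Over.mk ⊤ O.ι (show Etale _ from inferInstance)
  let S : Set V.left := O.ι.base ⁻¹' closure {y}
  have hS : IsClosed S := isClosed_closure.preimage O.ι.continuous
  let g' := EtAcyc.prj g V
  let F := funSheaf S
  let y₀ : V.left := (⟨y, hyO⟩ : O)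
  let s : Bool → F.obj.obj (op (EtCoh.top V.left)) := fun b => ⟨fun _ => b⟩
  let η := (EtDesc.adjSh g').unit.app F
  have : Mono η := h V F
  have hinj : Function.Injective (η.hom.app (op (EtCoh.top V.left))) := by
    have : Mono η.hom := inferInstanceAs (Mono ((sheafToPresheaf _ _).map η))
    exact (mono_iff_injective _).1 inferInstance
  suffices heq : η.hom.app (op (EtCoh.top V.left)) (s true) =
      η.hom.app (op (EtCoh.top V.left)) (s false) by
    have := congrArg (fun G => G.down ⟨y₀, subset_closure rfl⟩) (hinj heq)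
    exact Bool.noConfusion this
  refine sections_ext_of_germ ((EtDesc.pullSh g').obj F) _ _ (enoughPts_pt fun x q => ?_)
  let ξ := geomPoint _ x
  have := isIso_unitStalk g' ξ (Type (u + 1)) F
  have hsurj := ((ConcreteCategory.isIso_iff_bijective
    (unitStalk g' ξ (Type (u + 1)) F)).1 this).2
  have hx : (ξ ≫ g').base default ∉ S := by
    rw [Scheme.Hom.comp_apply, geomPoint_apply]
    intro hmem
    have hgx : O.ι.base (g'.base x) = g.base ((pullback.snd V.hom g).base x) :=
      (Scheme.Hom.comp_apply _ _ _).symm.trans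
        ((congrArg (fun m : pullback V.hom g ⟶ Y => m.base x) (pullback.condition (f := V.hom) (g := g))).trans
          (Scheme.Hom.comp_apply _ _ _))
    refine hO ((pullback.snd V.hom g).base x) ?_ ?_
    · rw [← hgx]; exact (g'.base x).2
    · rw [← hgx]; exact specializes_iff_mem_closure.2 hmem
  obtain ⟨a, ha⟩ := hsurj ((Scheme.pointSmallEtale ξ).toPresheafFiber _ q
    ((EtDesc.pullSh g').obj F).obj (η.hom.app (op (EtCoh.top V.left)) (s true)))
  obtain ⟨b, hb⟩ := hsurj ((Scheme.pointSmallEtale ξ).toPresheafFiber _ q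
    ((EtDesc.pullSh g').obj F).obj (η.hom.app (op (EtCoh.top V.left)) (s false)))
  exact ha.symm.trans ((congrArg _ (stalk_funSheaf_eq S hS (ξ ≫ g') hx a b)).trans hb)

end Groth.Agent.Lib.EtSite.MinusOne
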