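import Groth.Agent.Lib.EtSite.DerivedBCSeq
import Groth.Agent.Lib.EtSite.EtBCQ
import Groth.Agent.Lib.EtSite.Push
import Groth.Agent.Lib.EtSite.MinusOne
import Groth.Agent.Lib.RDer.Connecting
import Groth.Agent.H88.EtMod.Efface
import Groth.Agent.Lib.EtJ.PullExact

/-!
Injectivity of base change maps one degree above the range where they are isomorphisms, and base
change along an integral morphism above.
-/

set_option autoImplicit false
set_option linter.style.haveILetI false
set_option backward.isDefEq.respectTransparency.types false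
set_option maxHeartbeats 1000000

universe u

open CategoryTheory CategoryTheory.Limits AlgebraicGeometry Opposite

noncomputable section

namespace Groth.Agent.Lib.EtSite.BCSeq

open Groth.Agent.Lib.EtSite Groth.Agent.Lib.EtSite.Stalk

theorem nsmul_app {X : Scheme.{u}} {F G : EtCoh.Ab X} (f : F ⟶ G) (W : X.Etaleᵒᵖ) (t : F.obj.obj W)
    (n : ℕ) : (n • f).hom.app W t = n • f.hom.app W t := by
  induction n with
  | zero => rw [zero_nsmul, zero_nsmul]; rfl
  | succ m ih => rw [succ_nsmul, succ_nsmul, ← ih]; rfl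

theorem killedBy_iff {X : Scheme.{u}} (n : ℕ) (F : EtCoh.Ab X) :
    EtCoh.KilledBy n F ↔ n • 𝟙 F = 0 := by
  constructor
  · intro h
    apply Sheaf.hom_ext
    ext W t
    exact (nsmul_app (𝟙 F) W t n).trans (h W.unop t)
  · intro h U s
    refine (nsmul_app (𝟙 F) (op U) s n).symm.trans ?_
    exact congrArg (fun z : F ⟶ F => z.hom.app (op U) s) h

theorem killed_of_mono {C : Type*} [Category C] [Preadditive C] {F G : C} (f : F ⟶ G) [Mono f] {n : ℕ}
    (h : n • 𝟙 G = 0) : n • 𝟙 F = 0 := by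
  rw [← cancel_mono f, Preadditive.nsmul_comp, Category.id_comp, zero_comp, ← Category.comp_id f,
    ← Preadditive.comp_nsmul, h, comp_zero]

theorem killed_of_epi {C : Type*} [Category C] [Preadditive C] {F G : C} (f : F ⟶ G) [Epi f] {n : ℕ}
    (h : n • 𝟙 F = 0) : n • 𝟙 G = 0 := by
  rw [← cancel_epi f, Preadditive.comp_nsmul, Category.comp_id, comp_zero, ← Category.id_comp f,
    ← Preadditive.nsmul_comp, h, zero_comp]

theorem killed_map {C D : Type*} [Category C] [Category D] [Preadditive C] [Preadditive D] (L : C ⥤ D)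
    [L.Additive] {F : C} {n : ℕ} (h : n • 𝟙 F = 0) : n • 𝟙 (L.obj F) = 0 := by
  rw [← L.map_id, ← L.map_nsmul, h, L.map_zero]

/-- The `n`-torsion of an injective sheaf has no higher direct images. -/
theorem isZero_Rpush_kernel {T S : Scheme.{u}} (g : T ⟶ S) (J : EtCoh.Ab T) [Injective J] {n : ℕ}
    (hn : n ≠ 0) (q : ℕ) : IsZero ((EtCoh.Rpush g (q + 1)).obj (kernel (n • 𝟙 J))) := by
  haveI := H88.EtMod.Efface.epi_nsmul J hn
  let Sq := ShortComplex.mk (kernel.ι (n • 𝟙 J)) (n • 𝟙 J) (kernel.condition _)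
  have hS : Sq.ShortExact := { exact := ShortComplex.exact_of_f_is_kernel _ (kernelIsKernel _) }
  obtain ⟨L⟩ := Groth.Agent.Lib.RDer.Connecting.nonempty_derivedLES (EtCoh.push g)
  refine (L.exact₁ Sq hS q (q + 1) rfl).isZero_X₂ ?_
    (IsZero.eq_of_tgt (Functor.isZero_rightDerived_obj_injective_succ _ _ _) _ _)
  haveI : Epi ((EtCoh.Rpush g q).map Sq.g) := by
    rcases q with _ | q
    · haveI : Injective ((EtCoh.push g).obj J) := (EtCoh.push g).injective_obj J
      haveI := H88.EtMod.Efface.epi_nsmul ((EtCoh.push g).obj J) hn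
      haveI : PreservesFiniteLimits (EtCoh.push g) :=
        have : PreservesLimitsOfSize.{0, 0} (EtCoh.push g) :=
          (EtCoh.pullPushAdj g).rightAdjoint_preservesLimits
        PreservesLimitsOfSize.preservesFiniteLimits _
      haveI : Epi ((EtCoh.push g).map (n • 𝟙 J)) := by
        rw [Functor.map_nsmul, CategoryTheory.Functor.map_id]
        infer_instance
      exact ((MorphismProperty.epimorphisms _).arrow_mk_iso_iff
        (Arrow.isoMk ((EtCoh.push g).rightDerivedZeroIsoSelf.app J)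
          ((EtCoh.push g).rightDerivedZeroIsoSelf.app J)
          ((EtCoh.push g).rightDerivedZeroIsoSelf.hom.naturality (n • 𝟙 J)).symm)).2
        (inferInstanceAs (Epi ((EtCoh.push g).map (n • 𝟙 J))))
    · refine ⟨fun a b _ => IsZero.eq_of_src (Functor.isZero_rightDerived_obj_injective_succ _ _ _) a b⟩
  refine (cancel_epi ((EtCoh.Rpush g q).map Sq.g)).1 ?_
  rw [L.comp_δ Sq hS q (q + 1) rfl, comp_zero]

/-- A sheaf killed by `n` embeds into one killed by `n` without higher direct images. -/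
theorem exists_embedding {T S : Scheme.{u}} (g : T ⟶ S) {n : ℕ} (F : EtCoh.Ab T)
    (hF : n • 𝟙 F = 0) :
    ∃ (I : EtCoh.Ab T) (ι : F ⟶ I), Mono ι ∧ n • 𝟙 I = 0 ∧
      ∀ q : ℕ, IsZero ((EtCoh.Rpush g (q + 1)).obj I) := by
  rcases Nat.eq_zero_or_pos n with rfl | hn
  · exact ⟨Injective.under F, Injective.ι F, inferInstance, zero_nsmul _,
      fun q => Functor.isZero_rightDerived_obj_injective_succ _ _ _⟩
  let J := Injective.under F
  let v : F ⟶ kernel (n • 𝟙 J) := kernel.lift _ (Injective.ι F) (by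
    rw [Preadditive.comp_nsmul, Category.comp_id, ← Category.id_comp (Injective.ι F),
      ← Preadditive.nsmul_comp, hF, zero_comp])
  haveI : Mono v := mono_of_mono_fac (kernel.lift_ι _ _ _)
  refine ⟨_, v, inferInstance, ?_, fun q => isZero_Rpush_kernel g J hn.ne' q⟩
  refine (cancel_mono (kernel.ι _)).1 ?_
  rw [Preadditive.nsmul_comp, Category.id_comp, zero_comp]
  refine Eq.trans ?_ (kernel.condition (n • 𝟙 J))
  rw [Preadditive.comp_nsmul, Category.comp_id]

variable {S X T Y : Scheme.{u}} (g : T ⟶ S) (f : X ⟶ S) (h : Y ⟶ X) (e : Y ⟶ T) (w : e ≫ g = h ≫ f)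
  [PreservesFiniteLimits (EtCoh.pull e)]

theorem four {Sh : ShortComplex (EtCoh.Ab T)} (hS : Sh.ShortExact) (q : ℕ) :
    (Epi (EtBC.bcQ g f h e w q Sh.X₂) → Mono (EtBC.bcQ g f h e w q Sh.X₃) →
        Mono (EtBC.bcQ g f h e w (q + 1) Sh.X₂) → Mono (EtBC.bcQ g f h e w (q + 1) Sh.X₁)) ∧
    (Epi (EtBC.bcQ g f h e w q Sh.X₃) → Epi (EtBC.bcQ g f h e w (q + 1) Sh.X₂) →
      Mono (EtBC.bcQ g f h e w (q + 1) Sh.X₃) → Epi (EtBC.bcQ g f h e w (q + 1) Sh.X₁)) := by
  haveI : PreservesFiniteLimits (EtCoh.pull f) := Groth.Agent.Lib.EtJ.PullExact.pull_preservesFiniteLimits f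
  haveI : PreservesFiniteColimits (EtCoh.pull f) :=
    have : PreservesColimitsOfSize.{0, 0} (EtCoh.pull f) :=
      (EtCoh.pullPushAdj f).leftAdjoint_preservesColimits
    PreservesColimitsOfSize.preservesFiniteColimits _
  haveI : PreservesFiniteColimits (EtCoh.pull e) :=
    have : PreservesColimitsOfSize.{0, 0} (EtCoh.pull e) :=
      (EtCoh.pullPushAdj e).leftAdjoint_preservesColimits
    PreservesColimitsOfSize.preservesFiniteColimits _
  haveI := (EtCoh.pullPushAdj f).left_adjoint_additive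
  haveI := (EtCoh.pullPushAdj e).left_adjoint_additive
  exact DerivedBC.mono_and_epi_bcT (Φ := EtCoh.push e) (Ψ := EtCoh.push g) (Φ' := EtCoh.push h)
    (Ψ' := EtCoh.push f) (EtCoh.pullPushAdj f)
    (EtCoh.pushComp g e ≪≫ EtCoh.pushCongr w ≪≫ (EtCoh.pushComp f h).symm).hom
    (EtCoh.pullPushAdj e) hS q

/-- Base change maps are injective one degree above the range where they are isomorphisms. -/
theorem mono_bcQ {n : ℕ} (q : ℕ)
    (hiso : ∀ G : EtCoh.Ab T, n • 𝟙 G = 0 → IsIso (EtBC.bcQ g f h e w q G))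
    (F : EtCoh.Ab T) (hF : n • 𝟙 F = 0) : Mono (EtBC.bcQ g f h e w (q + 1) F) := by
  obtain ⟨I, ι, hι, hI, hI0⟩ := exists_embedding g F hF
  have hS : (ShortComplex.mk ι (cokernel.π ι) (cokernel.condition _)).ShortExact :=
    { exact := ShortComplex.exact_of_g_is_cokernel _ (cokernelIsCokernel _) }
  refine (four g f h e w hS q).1 ?_ ?_ ?_
  · haveI := hiso I hI
    infer_instance
  · haveI := hiso (cokernel ι) (killed_of_epi (cokernel.π ι) hI)
    infer_instance
  · haveI := (EtCoh.pullPushAdj f).left_adjoint_additive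
    exact ⟨fun a b _ => IsZero.eq_of_tgt (Functor.map_isZero (EtCoh.pull f) (hI0 q)) a b⟩

variable {T' Y' : Scheme.{u}} (π : T' ⟶ T) [IsIntegralHom π] (π' : Y' ⟶ Y) (e' : Y' ⟶ T')

/-- Base change for a direct image along an integral morphism. -/
theorem isIso_bcQ_push (c' : IsPullback e' π' π e) (w'' : e' ≫ π ≫ g = (π' ≫ h) ≫ f)
    [PreservesFiniteLimits (EtCoh.pull e')] (M : EtCoh.Ab T') (q : ℕ)
    (hiso : IsIso (EtBC.bcQ (π ≫ g) f (π' ≫ h) e' w'' q M)) :
    IsIso (EtBC.bcQ g f h e w q ((EtCoh.push π).obj M)) := by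
  haveI : PreservesFiniteLimits (EtCoh.pull f) := Groth.Agent.Lib.EtJ.PullExact.pull_preservesFiniteLimits f
  haveI : PreservesFiniteColimits (EtCoh.pull f) :=
    have : PreservesColimitsOfSize.{0, 0} (EtCoh.pull f) :=
      (EtCoh.pullPushAdj f).leftAdjoint_preservesColimits
    PreservesColimitsOfSize.preservesFiniteColimits _
  haveI := (EtCoh.pullPushAdj f).left_adjoint_additive
  haveI : IsIntegralHom π' := MorphismProperty.of_isPullback (P := @IsIntegralHom) c' ‹_›
  haveI := Push.preservesHomology_push π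
  haveI := (EtCoh.push π).preservesFiniteColimits_of_preservesHomology
  haveI := Push.preservesHomology_push π'
  haveI := (EtCoh.push π').preservesFiniteColimits_of_preservesHomology
  have wk : e' ≫ π = π' ≫ e := c'.w
  let α : EtCoh.push e ⋙ EtCoh.push g ⟶ EtCoh.push h ⋙ EtCoh.push f :=
    (EtCoh.pushComp g e ≪≫ EtCoh.pushCongr w ≪≫ (EtCoh.pushComp f h).symm).hom
  let α' : EtCoh.push e' ⋙ EtCoh.push (π ≫ g) ⟶ EtCoh.push (π' ≫ h) ⋙ EtCoh.push f :=
    (EtCoh.pushComp (π ≫ g) e' ≪≫ EtCoh.pushCongr w'' ≪≫ (EtCoh.pushComp f (π' ≫ h)).symm).hom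
  let κ : EtCoh.push e' ⋙ EtCoh.push π ⟶ EtCoh.push π' ⋙ EtCoh.push e :=
    (EtCoh.pushComp π e' ≪≫ EtCoh.pushCongr wk ≪≫ (EtCoh.pushComp e π').symm).hom
  have sq : ∀ H, ((EtCoh.push g).map (κ.app H) ≫ α.app ((EtCoh.push π').obj H)) ≫
      (EtCoh.push f).map ((EtCoh.pushComp h π').hom.app H) =
      (EtCoh.pushComp g π).hom.app ((EtCoh.push e').obj H) ≫ α'.app H := by
    intro H
    apply Sheaf.hom_ext
    apply NatTrans.ext
    funext V
    obtain ⟨V⟩ := V
    have q1 := EtBCQ.sqIso_app wk H ((EtCoh.bc g).obj V)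
    have q2 := EtBCQ.sqIso_app w ((EtCoh.push π').obj H) V
    have q3 := EtBCQ.pushComp_app h π' H ((EtCoh.bc f).obj V)
    have q4 := EtBCQ.pushComp_app g π ((EtCoh.push e').obj H) V
    have q5 := EtBCQ.sqIso_app w'' H V
    refine (congrArg₂ (· ≫ ·) (congrArg₂ (· ≫ ·) q1 q2) q3).trans
      (Eq.trans ?_ (congrArg₂ (· ≫ ·) q4 q5).symm)
    let i₁ := (MorphismProperty.Over.pullbackComp (P := EtCoh.etaleMP) (Q := ⊤) π' h).hom.app
      ((EtCoh.bc f).obj V)
    let i₂ := (MorphismProperty.Over.pullbackComp (P := EtCoh.etaleMP) (Q := ⊤) π g).hom.app V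
    have em : i₁ ≫ (EtCoh.bc π').map (BaseChange.cmp w V).hom ≫
        (BaseChange.cmp wk ((EtCoh.bc g).obj V)).hom =
        (BaseChange.cmp w'' V).hom ≫ (EtCoh.bc e').map i₂ := by
      apply EtBCQ.ext3
      have c1 := (BaseChange.cmp w V).fst_fst
      have c2 := (BaseChange.cmp wk ((EtCoh.bc g).obj V)).fst_fst
      have c3 := (BaseChange.cmp w'' V).fst_fst
      have p1 := MorphismProperty.Over.pullbackComp_left_fst_fst (P := EtCoh.etaleMP) (Q := ⊤) π' h
        ((EtCoh.bc f).obj V)
      have p2 := MorphismProperty.Over.pullbackComp_left_fst_fst (P := EtCoh.etaleMP) (Q := ⊤) π g V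
      have m1 : ((EtCoh.bc π').map (BaseChange.cmp w V).hom).left ≫
          pullback.fst ((EtCoh.bc e).obj ((EtCoh.bc g).obj V)).hom π' =
          pullback.fst _ π' ≫ (BaseChange.cmp w V).hom.left := pullback.lift_fst _ _ _
      have m2 : ((EtCoh.bc e').map i₂).left ≫
          pullback.fst ((EtCoh.bc π).obj ((EtCoh.bc g).obj V)).hom e' =
          pullback.fst _ e' ≫ i₂.left := pullback.lift_fst _ _ _
      change (i₁.left ≫ ((EtCoh.bc π').map (BaseChange.cmp w V).hom).left ≫
        (BaseChange.cmp wk ((EtCoh.bc g).obj V)).hom.left) ≫ _ =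
        ((BaseChange.cmp w'' V).hom.left ≫ ((EtCoh.bc e').map i₂).left) ≫ _
      refine ((Category.assoc _ _ _).trans (_ ≫= ((Category.assoc _ _ _).trans (_ ≫=
        ((_ ≫= (Category.assoc _ _ _).symm).trans ((Category.assoc _ _ _).symm.trans
          ((eq_whisker c2 _).trans (Category.assoc _ _ _)))))))).trans ?_
      refine ((_ ≫= ((Category.assoc _ _ _).symm.trans ((eq_whisker m1 _).trans
        ((Category.assoc _ _ _).trans (_ ≫= c1))))).trans
          ((_ ≫= (Category.assoc _ _ _).symm).trans ((Category.assoc _ _ _).symm.trans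
            (eq_whisker p1 _)))).trans ?_
      refine Eq.symm ((Category.assoc _ _ _).trans ((_ ≫= ((Category.assoc _ _ _).symm.trans
        ((eq_whisker m2 _).trans ((Category.assoc _ _ _).trans (_ ≫= p2))))).trans ?_))
      exact c3
    refine ((H.obj.map_comp _ _).symm =≫ _).trans ((H.obj.map_comp _ _).symm.trans
      ((congrArg (fun m => H.obj.map m.op) em).trans (H.obj.map_comp _ _)))
  let X₁ := (EtCoh.push π').obj ((EtCoh.pull e').obj M)
  let a : (EtCoh.push π).obj M ⟶ (EtCoh.push e).obj X₁ :=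
    (EtCoh.push π).map ((EtCoh.pullPushAdj e').unit.app M) ≫ κ.app _
  let θ : (EtCoh.pull e).obj ((EtCoh.push π).obj M) ⟶ X₁ := EtCoh.baseChange0 π e π' e' wk M
  haveI hθ : IsIso θ := BaseChange.isIso_baseChange0 c' M
  have ha : (EtCoh.pullPushAdj e).unit.app _ ≫ (EtCoh.push e).map θ = a := by
    refine ((EtCoh.pullPushAdj e).homEquiv_unit (f := θ)).symm.trans ?_
    exact Equiv.apply_symm_apply _ _
  -- reduce to the pair `(a, M)`
  let I := injectiveResolution M
  let J := injectiveResolution ((EtCoh.pull e').obj M)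
  let R : InjectiveResolution ((EtCoh.push π).obj M) :=
    { cocomplex := ((EtCoh.push π).mapHomologicalComplex (ComplexShape.up ℕ)).obj I.cocomplex
      injective := fun n => (EtCoh.push π).injective_obj (I.cocomplex.X n)
      ι := RDer.mapAug (EtCoh.push π) I.ι
      quasiIso := by
        have : QuasiIso (((EtCoh.push π).mapHomologicalComplex (ComplexShape.up ℕ)).map I.ι) :=
          inferInstance
        dsimp only [RDer.mapAug]
        infer_instance }
  let R' : InjectiveResolution X₁ :=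
    { cocomplex := ((EtCoh.push π').mapHomologicalComplex (ComplexShape.up ℕ)).obj J.cocomplex
      injective := fun n => (EtCoh.push π').injective_obj (J.cocomplex.X n)
      ι := RDer.mapAug (EtCoh.push π') J.ι
      quasiIso := by
        have : QuasiIso (((EtCoh.push π').mapHomologicalComplex (ComplexShape.up ℕ)).map J.ι) :=
          inferInstance
        dsimp only [RDer.mapAug]
        infer_instance }
  let φ' := DerivedBC.liftRes (Φ := EtCoh.push e') I J ((EtCoh.pullPushAdj e').unit.app M)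
  have hφ' := DerivedBC.liftRes_spec (Φ := EtCoh.push e') I J ((EtCoh.pullPushAdj e').unit.app M)
  let φ : R.cocomplex ⟶ ((EtCoh.push e).mapHomologicalComplex _).obj R'.cocomplex :=
    ((EtCoh.push π).mapHomologicalComplex (ComplexShape.up ℕ)).map φ' ≫
      (NatTrans.mapHomologicalComplex κ (ComplexShape.up ℕ)).app J.cocomplex
  have hφ : RDer.Horseshoe.aug R ≫ φ.f 0 = a ≫ (EtCoh.push e).map (RDer.Horseshoe.aug R') := by
    have r1 : RDer.Horseshoe.aug R = (EtCoh.push π).map (RDer.Horseshoe.aug I) :=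
      DerivedBC.mapAug_f_zero (EtCoh.push π) I.ι
    have r2 : RDer.Horseshoe.aug R' = (EtCoh.push π').map (RDer.Horseshoe.aug J) :=
      DerivedBC.mapAug_f_zero (EtCoh.push π') J.ι
    refine (eq_whisker r1 _).trans ?_
    refine (Category.assoc _ _ _).symm.trans ((eq_whisker (((EtCoh.push π).map_comp _ _).symm.trans
      ((congrArg (EtCoh.push π).map hφ').trans ((EtCoh.push π).map_comp _ _))) _).trans ?_)
    refine (Category.assoc _ _ _).trans ((_ ≫= κ.naturality (RDer.Horseshoe.aug J)).trans ?_)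
    exact (Category.assoc _ _ _).symm.trans (_ ≫= congrArg (EtCoh.push e).map r2.symm)
  let c := DerivedBC.bcChain (EtCoh.pullPushAdj f) α φ
  let c₀ := DerivedBC.bcChain (EtCoh.pullPushAdj f) α' φ'
  have h0 : IsIso (HomologicalComplex.homologyMap c₀ q) :=
    (DerivedBC.prop_transpose_iff (EtCoh.pullPushAdj f) α' ((EtCoh.pullPushAdj e').unit.app M) I J φ'
      hφ' q (MorphismProperty.isomorphisms _)).1 hiso
  let u₁ := ((EtCoh.pull f).mapHomologicalComplex (ComplexShape.up ℕ)).map
    ((NatTrans.mapHomologicalComplex (EtCoh.pushComp g π).hom (ComplexShape.up ℕ)).app I.cocomplex)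
  let u₂ : ((EtCoh.push h).mapHomologicalComplex (ComplexShape.up ℕ)).obj R'.cocomplex ⟶
      ((EtCoh.push (π' ≫ h)).mapHomologicalComplex (ComplexShape.up ℕ)).obj J.cocomplex :=
    (NatTrans.mapHomologicalComplex (EtCoh.pushComp h π').hom (ComplexShape.up ℕ)).app J.cocomplex
  have hc : c ≫ u₂ = u₁ ≫ c₀ := by
    refine HomologicalComplex.hom_ext _ _ fun k => ?_
    refine (eq_whisker (DerivedBC.bcChain_f (Ψl := EtCoh.pull f) (EtCoh.pullPushAdj f) α φ k) _).trans ?_
    refine Eq.trans ?_ (_ ≫= DerivedBC.bcChain_f (Ψl := EtCoh.pull f) (EtCoh.pullPushAdj f) α' φ' k).symm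
    refine ((EtCoh.pullPushAdj f).homEquiv_naturality_right_symm _ _).symm.trans
      (Eq.trans ?_ ((EtCoh.pullPushAdj f).homEquiv_naturality_left_symm _ _))
    refine congrArg _ ?_
    refine ((Category.assoc _ _ _).trans (((EtCoh.push g).map_comp _ _) =≫ _)).trans ?_
    refine (Category.assoc _ _ _).trans ((_ ≫= ((Category.assoc _ _ _).symm.trans (sq _))).trans ?_)
    refine (Category.assoc _ _ _).symm.trans
      ((eq_whisker ((EtCoh.pushComp g π).hom.naturality (φ'.f k)) _).trans (Category.assoc _ _ _))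
  haveI : IsIso u₁ :=
    haveI : IsIso ((NatTrans.mapHomologicalComplex (EtCoh.pushComp g π).hom
      (ComplexShape.up ℕ)).app I.cocomplex) :=
      haveI : ∀ k, IsIso (((NatTrans.mapHomologicalComplex (EtCoh.pushComp g π).hom
        (ComplexShape.up ℕ)).app I.cocomplex).f k) := fun k =>
        inferInstanceAs (IsIso ((EtCoh.pushComp g π).hom.app _))
      HomologicalComplex.Hom.isIso_of_components _
    Functor.map_isIso _ _
  haveI : IsIso u₂ :=
    haveI : ∀ k, IsIso (u₂.f k) := fun k => inferInstanceAs (IsIso ((EtCoh.pushComp h π').hom.app _))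
    HomologicalComplex.Hom.isIso_of_components _
  have h1 : IsIso (HomologicalComplex.homologyMap c q) := by
    haveI : IsIso (HomologicalComplex.homologyMap u₂ q) :=
      ((HomologicalComplex.homologyFunctor _ _ q).mapIso (asIso u₂)).isIso_hom
    have hu₁ : IsIso (HomologicalComplex.homologyMap u₁ q) :=
      ((HomologicalComplex.homologyFunctor _ _ q).mapIso (asIso u₁)).isIso_hom
    have he := ((HomologicalComplex.homologyMap_comp c u₂ q).symm.trans
      (congrArg (fun m => HomologicalComplex.homologyMap m q) hc)).trans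
        (HomologicalComplex.homologyMap_comp u₁ c₀ q)
    haveI : IsIso (HomologicalComplex.homologyMap c q ≫ HomologicalComplex.homologyMap u₂ q) :=
      (congrArg (fun m => IsIso m) he).mpr (@IsIso.comp_isIso _ _ _ _ _ _ _ hu₁ h0)
    exact IsIso.of_isIso_comp_right _ (HomologicalComplex.homologyMap u₂ q)
  have h2 : IsIso (((EtCoh.pullPushAdj f).homEquiv _ _).symm (DerivedBC.bcMor α a q)) :=
    (DerivedBC.prop_transpose_iff (EtCoh.pullPushAdj f) α a R R' φ hφ q
      (MorphismProperty.isomorphisms _)).2 h1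
  rw [← ha, ← DerivedBC.bcMor_map α, Adjunction.homEquiv_naturality_right_symm] at h2
  exact @IsIso.of_isIso_comp_right _ _ _ _ _ (EtBC.bcQ g f h e w q ((EtCoh.push π).obj M))
    ((EtCoh.Rpush h q).map θ) inferInstance h2

/-- The unit along a surjective morphism is injective. -/
theorem mono_unit (hπ : Function.Surjective π.base) (F : EtCoh.Ab T) :
    Mono ((EtCoh.pullPushAdj π).unit.app F) := by
  refine mono_of_stalks _ fun y => ?_
  obtain ⟨x, rfl⟩ := hπ y
  refine ⟨_, inferInstance, inferInstance, Push.algPoint T' x ≫ π, ?_, fun a b h => ?_⟩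
  · rw [Scheme.Hom.comp_apply, Push.algPoint_apply]
  · have := UnitStalk.isIso_unitStalk π (Push.algPoint T' x) AddCommGrpCat.{u + 1} F
    refine ((ConcreteCategory.isIso_iff_bijective
      (UnitStalk.unitStalk π (Push.algPoint T' x) AddCommGrpCat.{u + 1} F)).1 this).1 ?_
    exact (ConcreteCategory.comp_apply _ _ _).trans ((congrArg _ h).trans
      (ConcreteCategory.comp_apply _ _ _).symm)

/-- Descent of base change along an integral surjection. -/
theorem isIso_bcQ_of_integral_surjective [Surjective π] (c' : IsPullback e' π' π e)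
    (w'' : e' ≫ π ≫ g = (π' ≫ h) ≫ f) [PreservesFiniteLimits (EtCoh.pull e')] {n : ℕ} (q : ℕ)
    (hlow : ∀ G : EtCoh.Ab T, n • 𝟙 G = 0 → IsIso (EtBC.bcQ g f h e w q G))
    (F : EtCoh.Ab T) (hF : n • 𝟙 F = 0)
    (hiso : IsIso (EtBC.bcQ (π ≫ g) f (π' ≫ h) e' w'' (q + 1) ((EtCoh.pull π).obj F))) :
    IsIso (EtBC.bcQ g f h e w (q + 1) F) := by
  haveI := (EtCoh.pullPushAdj π).left_adjoint_additive
  haveI := (EtCoh.pullPushAdj π).right_adjoint_additive
  let η := (EtCoh.pullPushAdj π).unit.app F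
  haveI : Mono η := mono_unit π π.surjective F
  have hS : (ShortComplex.mk η (cokernel.π η) (cokernel.condition _)).ShortExact :=
    { exact := ShortComplex.exact_of_g_is_cokernel _ (cokernelIsCokernel _) }
  have hG : n • 𝟙 ((EtCoh.push π).obj ((EtCoh.pull π).obj F)) = 0 :=
    killed_map _ (killed_map _ hF)
  have hQ : n • 𝟙 (cokernel η) = 0 := killed_of_epi (cokernel.π η) hG
  haveI := mono_bcQ g f h e w q hlow F hF
  haveI : Epi (EtBC.bcQ g f h e w (q + 1) F) := by
    refine (four g f h e w hS q).2 ?_ ?_ (mono_bcQ g f h e w q hlow _ hQ)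
    · exact @IsIso.epi_of_iso _ _ _ _ _ (hlow _ hQ)
    · exact @IsIso.epi_of_iso _ _ _ _ _
        (isIso_bcQ_push g f h e w π π' e' c' w'' ((EtCoh.pull π).obj F) (q + 1) hiso)
  exact isIso_of_mono_of_epi _

end Groth.Agent.Lib.EtSite.BCSeq
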