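import Groth.Agent.Lib.EtSite.DerivedBCCoker
import Groth.Agent.Lib.EtSite.BCSeq

/-!
The cokernel of the base change map one degree above the range where base change holds.
-/

set_option autoImplicit false
set_option linter.style.haveILetI false
set_option backward.isDefEq.respectTransparency.types false
set_option maxHeartbeats 1000000

universe u

open CategoryTheory CategoryTheory.Limits AlgebraicGeometry

noncomputable section

namespace Groth.Agent.Lib.EtSite.BCCoker

open Groth.Agent.Lib.EtSite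

variable {S X T Y : Scheme.{u}} (g : T ⟶ S) (f : X ⟶ S) (h : Y ⟶ X) (e : Y ⟶ T) (w : e ≫ g = h ≫ f)
  [PreservesFiniteLimits (EtCoh.pull e)]

theorem bcQ_natural (q : ℕ) {F G : EtCoh.Ab T} (ι : F ⟶ G) :
    (EtCoh.pull f).map ((EtCoh.Rpush g q).map ι) ≫ EtBC.bcQ g f h e w q G =
      EtBC.bcQ g f h e w q F ≫ (EtCoh.Rpush h q).map ((EtCoh.pull e).map ι) := by
  let α : EtCoh.push e ⋙ EtCoh.push g ⟶ EtCoh.push h ⋙ EtCoh.push f :=
    (EtCoh.pushComp g e ≪≫ EtCoh.pushCongr w ≪≫ (EtCoh.pushComp f h).symm).hom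
  change (EtCoh.pull f).map _ ≫ ((EtCoh.pullPushAdj f).homEquiv _ _).symm
      (DerivedBC.bcMor α ((EtCoh.pullPushAdj e).unit.app G) q) =
    ((EtCoh.pullPushAdj f).homEquiv _ _).symm
      (DerivedBC.bcMor α ((EtCoh.pullPushAdj e).unit.app F) q) ≫ _
  refine ((EtCoh.pullPushAdj f).homEquiv_naturality_left_symm _ _).symm.trans
    (Eq.trans ?_ ((EtCoh.pullPushAdj f).homEquiv_naturality_right_symm _ _))
  refine congrArg _ ?_
  refine Eq.trans ?_ (DerivedBC.bcMor_map α _ _ q).symm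
  refine Eq.trans ?_ (congrArg (fun a => DerivedBC.bcMor α a q)
    ((EtCoh.pullPushAdj e).unit.naturality ι))
  dsimp only [DerivedBC.bcMor]
  exact (Category.assoc _ _ _).symm.trans (eq_whisker (Functor.map_comp _ _ _).symm _)

/-- The map on cokernels induced by a monomorphism is a monomorphism. -/
theorem exists_mono_coker {n : ℕ} (q : ℕ)
    (hlow : ∀ G : EtCoh.Ab T, n • 𝟙 G = 0 → IsIso (EtBC.bcQ g f h e w q G))
    {F G : EtCoh.Ab T} (ι : F ⟶ G) [Mono ι] (hG : n • 𝟙 G = 0) :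
    ∃ φ : cokernel (EtBC.bcQ g f h e w (q + 1) F) ⟶ cokernel (EtBC.bcQ g f h e w (q + 1) G), Mono φ ∧
      cokernel.π (EtBC.bcQ g f h e w (q + 1) F) ≫ φ =
        (EtCoh.Rpush h (q + 1)).map ((EtCoh.pull e).map ι) ≫
          cokernel.π (EtBC.bcQ g f h e w (q + 1) G) := by
  haveI : PreservesFiniteLimits (EtCoh.pull f) := Groth.Agent.Lib.EtJ.PullExact.pull_preservesFiniteLimits f
  haveI : PreservesFiniteColimits (EtCoh.pull f) :=
    have : PreservesColimitsOfSize.{0, 0} (EtCoh.pull f) :=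
      (EtCoh.pullPushAdj f).leftAdjoint_preservesColimits
    PreservesColimitsOfSize.preservesFiniteColimits _
  haveI : PreservesFiniteColimits (EtCoh.pull e) :=
    have : PreservesColimitsOfSize.{0, 0} (EtCoh.pull e) :=
      (EtCoh.pullPushAdj e).leftAdjoint_preservesColimits
    PreservesColimitsOfSize.preservesFiniteColimits _
  haveI := (EtCoh.pullPushAdj f).left_adjoint_additive
  haveI := (EtCoh.pullPushAdj e).left_adjoint_additive
  obtain ⟨I, j, hj, hI, hI0⟩ := BCSeq.exists_embedding g G hG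
  have key : ∀ {K : EtCoh.Ab T} (k : K ⟶ I) [Mono k],
      ∃ wk : EtBC.bcQ g f h e w (q + 1) K ≫ (EtCoh.Rpush h (q + 1)).map ((EtCoh.pull e).map k) = 0,
        (ShortComplex.mk _ _ wk).Exact := fun {K} k _ => by
    have hS : (ShortComplex.mk k (cokernel.π k) (cokernel.condition _)).ShortExact :=
      { exact := ShortComplex.exact_of_g_is_cokernel _ (cokernelIsCokernel _) }
    exact DerivedBC.exact_bcT (Φ := EtCoh.push e) (Ψ := EtCoh.push g) (Φ' := EtCoh.push h)
      (Ψ' := EtCoh.push f) (EtCoh.pullPushAdj f)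
      (EtCoh.pushComp g e ≪≫ EtCoh.pushCongr w ≪≫ (EtCoh.pushComp f h).symm).hom
      (EtCoh.pullPushAdj e) hS q (hI0 q)
      (@IsIso.epi_of_iso _ _ _ _ _ (hlow _ (BCSeq.killed_of_epi (cokernel.π k) hI)))
  obtain ⟨wF, eF⟩ := key (ι ≫ j)
  obtain ⟨wG, -⟩ := key j
  let φ : cokernel (EtBC.bcQ g f h e w (q + 1) F) ⟶ cokernel (EtBC.bcQ g f h e w (q + 1) G) :=
    cokernel.map _ _ ((EtCoh.pull f).map ((EtCoh.Rpush g (q + 1)).map ι))
      ((EtCoh.Rpush h (q + 1)).map ((EtCoh.pull e).map ι)) (bcQ_natural g f h e w (q + 1) ι).symm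
  refine ⟨φ, ?_, cokernel.π_desc _ _ _⟩
  have hfac : φ ≫ cokernel.desc _ _ wG = cokernel.desc _ _ wF := by
    refine (cancel_epi (cokernel.π _)).1 ?_
    refine ((Category.assoc _ _ _).symm.trans ((cokernel.π_desc _ _ _ =≫ _).trans
      ((Category.assoc _ _ _).trans (_ ≫= cokernel.π_desc _ _ _)))).trans ?_
    refine Eq.trans ?_ (cokernel.π_desc _ _ _).symm
    rw [← Functor.map_comp, ← Functor.map_comp]
  haveI : Mono (cokernel.desc _ _ wF) := eF.mono_cokernelDesc
  exact mono_of_mono_fac hfac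

end Groth.Agent.Lib.EtSite.BCCoker
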