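import Groth.Agent.Lib.EtSite.Push
import Groth.Agent.Lib.EtSite.PushStalk

/-!
Direct image along an integral morphism reflects isomorphisms of abelian étale sheaves.
-/

set_option autoImplicit false
set_option linter.style.haveILetI false
set_option backward.isDefEq.respectTransparency false

universe u

open CategoryTheory CategoryTheory.Limits AlgebraicGeometry Opposite

noncomputable section

namespace Groth.Agent.Lib.EtSite.IntegralReflect

open Groth.Agent.Lib.EtSite Groth.Agent.Lib.EtSite.Basic Groth.Agent.Lib.EtSite.Stalk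
  Groth.Agent.Lib.EtSite.DisjointCover Groth.Agent.Lib.EtSite.PushStalk

variable {Ω : Type u} [Field Ω]

/-- Points of a scheme integral over a field are closed. -/
theorem isClosed_point {Q : Scheme.{u}} (r : Q ⟶ Spec (CommRingCat.of Ω)) [IsIntegralHom r]
    (z : Q) : IsClosed ({z} : Set Q) := by
  haveI : IsAffine Q := isAffine_of_isAffineHom r
  obtain ⟨φ, hφ⟩ := Spec.map_surjective (Q.isoSpec.inv ≫ r)
  have hint : IsIntegralHom (Spec.map φ) := hφ ▸ inferInstance
  have hi : φ.hom.IsIntegral := (IsIntegralHom.SpecMap_iff).1 hint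
  algebraize [φ.hom]
  haveI : Algebra.IsIntegral Ω Γ(Q, ⊤) := ⟨hi⟩
  have hcl : IsClosed ({Q.isoSpec.hom.base z} : Set (Spec Γ(Q, ⊤))) :=
    (PrimeSpectrum.isClosed_singleton_iff_isMaximal _).2
      (Ideal.isMaximal_of_isIntegral_of_isMaximal_comap (R := Ω) _
        (Ideal.IsPrime.isMaximal' inferInstance))
  convert hcl.preimage Q.isoSpec.hom.continuous using 1
  ext y
  exact ⟨fun h => congrArg Q.isoSpec.hom.base h, fun h =>
    (Scheme.homeoOfIso Q.isoSpec).injective h⟩

/-- Two rational points with the same image are equal. -/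
theorem section_ext {Q : Scheme.{u}} (r : Q ⟶ Spec (CommRingCat.of Ω))
    {s s' : Spec (CommRingCat.of Ω) ⟶ Q} (hs : s ≫ r = 𝟙 _) (hs' : s' ≫ r = 𝟙 _)
    (h : s.base default = s'.base default) : s = s' := by
  exact (FieldExt.eq_comp_section hs' s h).trans ((hs =≫ s').trans (Category.id_comp s'))

/-- Subsets of a fibre over a closed point of a quasi-finite morphism are closed. -/
theorem isClosed_subset {Q Q' : Scheme.{u}} (e : Q' ⟶ Q) [LocallyQuasiFinite e] {z : Q}
    (hz : IsClosed ({z} : Set Q)) {T : Set Q'} (hT : T ⊆ e.base ⁻¹' {z}) : IsClosed T := by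
  have hd : _root_.IsDiscrete (e.base ⁻¹' {z}) := e.isDiscrete_preimage_singleton z
  have hc : IsClosed (e.base ⁻¹' {z}) := hz.preimage e.continuous
  haveI := hd.to_subtype
  have h1 : IsClosed (Subtype.val ⁻¹' T : Set (e.base ⁻¹' {z})) := isClosed_discrete _
  have h2 := hc.isClosedEmbedding_subtypeVal.isClosedMap _ h1
  rwa [Subtype.image_preimage_coe, Set.inter_eq_right.2 hT] at h2

variable [IsSepClosed Ω]

/-- An abelian sheaf with vanishing direct image along an integral morphism has vanishing stalks. -/
theorem stalk_eq_zero {X Y : Scheme.{u}} (f : X ⟶ Y) [IsIntegralHom f] [IsAlgClosed Ω]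
    (F : EtCoh.Ab X) (hF : IsZero ((EtCoh.push f).obj F))
    (ξ : Spec (CommRingCat.of Ω) ⟶ X) (W : X.Etale) (q : (Scheme.pointSmallEtale ξ).fiber.obj W)
    (s : ToType (F.obj.obj (op W))) :
    (Scheme.pointSmallEtale ξ).toPresheafFiber W q F.obj s = 0 := by
  classical
  let V := EtCoh.top Y
  let η := ξ ≫ f
  let p : (Scheme.pointSmallEtale η).fiber.obj V := mkFiber η V η (Category.comp_id _)
  let B := (EtCoh.bc f).obj V
  let x₀ : Spec (CommRingCat.of Ω) ⟶ B.left := pullback.lift η ξ (Category.comp_id _)
  have hx₀ : x₀ ≫ pullback.fst V.hom f = fiberHom p := pullback.lift_fst _ _ _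
  let g : W ⟶ B := MorphismProperty.Over.homMk (pullback.lift (W.hom ≫ f) W.hom (Category.comp_id _))
    (pullback.lift_snd _ _ _)
  haveI hge : Etale g.left := Fiber.etale_left g
  let x : Spec (CommRingCat.of Ω) ⟶ W.left := fiberHom q
  have hxg : x ≫ g.left = x₀ := by
    apply pullback.hom_ext
    · refine (Category.assoc _ _ _).trans ((x ≫= pullback.lift_fst _ _ _).trans ?_)
      exact (Category.assoc _ _ _).symm.trans ((fiberHom_comp q =≫ f).trans (pullback.lift_fst _ _ _).symm)
    · refine (Category.assoc _ _ _).trans ((x ≫= pullback.lift_snd _ _ _).trans ?_)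
      exact (fiberHom_comp q).trans (pullback.lift_snd _ _ _).symm
  let U : ULift.{u} Bool → X.Etale := fun i => bif i.down then W else B
  let gU : ∀ i, U i ⟶ B := fun i => match i with
    | ⟨true⟩ => g
    | ⟨false⟩ => 𝟙 B
  let S : ∀ i, Set (Spec (CommRingCat.of Ω) ⟶ (U i).left) := fun i => match i with
    | ⟨true⟩ => {l | l = x ∨ l ≫ g.left ≠ x₀}
    | ⟨false⟩ => {l | l ≠ x₀}
  -- the fibre over the geometric point
  let f₁ := pullback.fst V.hom f
  let Q₁ := pullback f₁ (fiberHom p)
  let z₀ : Spec (CommRingCat.of Ω) ⟶ Q₁ := pullback.lift x₀ (𝟙 _) (hx₀.trans (Category.id_comp _).symm)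
  haveI : IsIntegralHom (pullback.snd f₁ (fiberHom p)) := inferInstance
  have hpt : ∀ z : Q₁, IsClosed ({z} : Set Q₁) := isClosed_point (pullback.snd f₁ (fiberHom p))
  have hopen : ∀ i, ∀ l ∈ S i,
      ∃ O : Set ↥(pullback ((gU i).left ≫ f₁) (fiberHom p)), IsOpen O ∧
        (∀ t : Spec (CommRingCat.of Ω) ⟶ pullback ((gU i).left ≫ f₁) (fiberHom p),
          t ≫ pullback.snd _ _ = 𝟙 _ → t ≫ pullback.fst _ _ = l → t.base default ∈ O) ∧
        ∀ t : Spec (CommRingCat.of Ω) ⟶ pullback ((gU i).left ≫ f₁) (fiberHom p),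
          t ≫ pullback.snd _ _ = 𝟙 _ → t.base default ∈ O → t ≫ pullback.fst _ _ ∈ S i := by
    intro i
    match i with
    | ⟨true⟩ =>
      intro l hl
      let e : pullback (g.left ≫ f₁) (fiberHom p) ⟶ Q₁ :=
        pullback.lift (pullback.fst _ _ ≫ g.left) (pullback.snd _ _)
          ((Category.assoc _ _ _).trans pullback.condition)
      have hs : IsPullback (pullback.fst (g.left ≫ f₁) (fiberHom p))
          (e ≫ pullback.snd f₁ (fiberHom p)) (g.left ≫ f₁) (fiberHom p) := by
        rw [show e ≫ pullback.snd f₁ (fiberHom p) = pullback.snd _ _ from pullback.lift_snd _ _ _]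
        exact IsPullback.of_hasPullback _ _
      haveI : Etale e := MorphismProperty.of_isPullback (P := @Etale)
        (IsPullback.of_bot hs (pullback.lift_fst _ _ _).symm
          (IsPullback.of_hasPullback f₁ (fiberHom p))) hge
      haveI : LocallyQuasiFinite e := FieldExt.locallyQuasiFinite_of_etale e
      let zx : Spec (CommRingCat.of Ω) ⟶ pullback (g.left ≫ f₁) (fiberHom p) :=
        pullback.lift x (𝟙 _) ((Category.assoc _ _ _).symm.trans
          ((hxg =≫ f₁).trans (hx₀.trans (Category.id_comp _).symm)))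
      have hzx : zx ≫ e = z₀ := by
        apply pullback.hom_ext
        · simp [e, zx, z₀, hxg]
        · simp [e, zx, z₀]
      have key : ∀ t : Spec (CommRingCat.of Ω) ⟶ pullback (g.left ≫ f₁) (fiberHom p),
          t ≫ pullback.snd _ _ = 𝟙 _ →
          (e.base (t.base default) = z₀.base default ↔ (t ≫ pullback.fst _ _) ≫ g.left = x₀) := by
        intro t ht
        constructor
        · intro hb
          have := section_ext (pullback.snd f₁ (fiberHom p)) (s := t ≫ e) (s' := z₀)
            (by simp [e, ht]) (by simp [z₀]) hb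
          simpa [e, z₀] using congrArg (· ≫ pullback.fst f₁ (fiberHom p)) this
        · intro hb
          have : t ≫ e = z₀ := by
            apply pullback.hom_ext
            · simpa [e, z₀] using hb
            · simpa [e, z₀] using ht
          exact congrArg (fun m => m.base default) this
      refine ⟨(e.base ⁻¹' {z₀.base default} \ {zx.base default})ᶜ,
        (isClosed_subset e (hpt _) Set.diff_subset).isOpen_compl, fun t ht htl hm => ?_,
        fun t ht hm => ?_⟩
      · have h1 := (key t ht).1 hm.1
        rw [htl] at h1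
        rcases hl with rfl | hl
        · refine hm.2 ?_
          have : t = zx := pullback.hom_ext (htl.trans (pullback.lift_fst _ _ _).symm)
            (ht.trans (pullback.lift_snd _ _ _).symm)
          rw [this]
          exact Set.mem_singleton _
        · exact hl h1
      · by_contra hn
        have hn' := not_or.1 hn
        refine hm ⟨(key t ht).2 (not_not.1 hn'.2), fun hb => hn'.1 ?_⟩
        have := section_ext _ ht (pullback.lift_snd _ _ _) hb
        exact (congrArg (· ≫ pullback.fst (g.left ≫ f₁) (fiberHom p)) this).trans (pullback.lift_fst _ _ _)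
    | ⟨false⟩ =>
      intro l hl
      let e : pullback ((𝟙 B : B ⟶ B).left ≫ f₁) (fiberHom p) ⟶ Q₁ :=
        pullback.lift (pullback.fst _ _) (pullback.snd _ _)
          ((congrArg (pullback.fst _ _ ≫ ·) (Category.id_comp f₁)).symm.trans pullback.condition)
      refine ⟨e.base ⁻¹' {z₀.base default}ᶜ, (hpt _).isOpen_compl.preimage e.continuous,
        fun t ht htl hm => ?_, fun t ht hm hb => ?_⟩
      · have := section_ext (pullback.snd f₁ (fiberHom p)) (s := t ≫ e) (s' := z₀)
          ((Category.assoc _ _ _).trans ((t ≫= pullback.lift_snd _ _ _).trans ht))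
          (pullback.lift_snd _ _ _) hm
        refine hl (htl.symm.trans ?_)
        exact ((t ≫= (pullback.lift_fst _ _ _).symm).trans (Category.assoc _ _ _).symm).trans
          ((this =≫ _).trans (pullback.lift_fst _ _ _))
      · have : t ≫ e = z₀ := by
          apply pullback.hom_ext
          · exact (Category.assoc _ _ _).trans ((t ≫= pullback.lift_fst _ _ _).trans
              (hb.trans (pullback.lift_fst _ _ _).symm))
          · exact (Category.assoc _ _ _).trans ((t ≫= pullback.lift_snd _ _ _).trans
              (ht.trans (pullback.lift_snd _ _ _).symm))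
        exact hm (congrArg (fun m : Spec (CommRingCat.of Ω) ⟶ Q₁ => m.base default) this)
  obtain ⟨V', a, p', hp', n, D, o, i, b, hD, hb, hW⟩ :=
    IntegralRefine.exists_refinement f V p U gU S hopen (fun l hl => by
      by_cases h : l = x₀
      · exact ⟨⟨true⟩, x, Or.inl rfl, hxg.trans h.symm⟩
      · exact ⟨⟨false⟩, l, h, Category.comp_id _⟩)
  let s' : ∀ i, ToType (F.obj.obj (op (U i))) := fun i => match i with
    | ⟨true⟩ => s
    | ⟨false⟩ => 0
  obtain ⟨t, ht⟩ := hD.exists_glue F fun j => F.obj.map (b j).op (s' (i j))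
  have ht0 : t = 0 := by
    have h2 : IsZero (F.obj.obj (op ((EtCoh.bc f).obj V'))) :=
      Functor.map_isZero (sheafToPresheaf _ _ ⋙ (evaluation _ _).obj (op V')) hF
    haveI := AddCommGrpCat.subsingleton_of_isZero h2
    exact Subsingleton.elim _ _
  obtain ⟨j, l, hl⟩ := hD.exists_fac (fiberHom (liftPt f rfl V' p'))
  have hla : l ≫ (o j).left ≫ pullback.fst V'.hom f = fiberHom p' :=
    (Category.assoc _ _ _).symm.trans ((hl =≫ _).trans (pullback.lift_fst _ _ _))
  have hlb := hW j l hla
  have hbx : (l ≫ (b j).left) ≫ (gU (i j)).left = x₀ := by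
    refine (Category.assoc _ _ _).trans ((l ≫= congrArg (fun m => m.left) (hb j)).trans ?_)
    refine (Category.assoc _ _ _).symm.trans ((hl =≫ _).trans ?_)
    have := map_liftPt f (ξ := ξ) (η := η) rfl a p'
    rw [hp'] at this
    exact congrArg (fun m => m.left) this
  obtain ⟨q₀, hq₀⟩ : ∃ q₀ : (Scheme.pointSmallEtale ξ).fiber.obj (D j), q₀.left = l := by
    refine ⟨mkFiber ξ (D j) l ?_, rfl⟩
    have h1 : (o j).left ≫ ((EtCoh.bc f).obj V').hom = (D j).hom := Over.w (o j).hom
    rw [← h1, ← Category.assoc, hl]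
    exact fiberHom_comp (liftPt f rfl V' p')
  have htj : F.obj.map (b j).op (s' (i j)) = 0 := by rw [← ht j, ht0, map_zero]
  revert hbx hlb htj
  generalize b j = bj
  revert bj
  generalize i j = k
  match k with
  | ⟨false⟩ =>
    intro bj hlb hbx _
    exact absurd ((Category.comp_id _).symm.trans hbx) hlb
  | ⟨true⟩ =>
    intro bj hlb hbx htj
    have hx : l ≫ bj.left = x := hlb.resolve_right (not_not.2 hbx)
    have hmap : (Scheme.pointSmallEtale ξ).fiber.map bj q₀ = q := by
      apply Over.OverMorphism.ext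
      exact (fiber_map_left ξ bj q₀).trans ((hq₀ =≫ _).trans hx)
    have h3 := GrothendieckTopology.Point.toPresheafFiber_w_apply
      (Scheme.pointSmallEtale ξ) bj q₀ F.obj s
    rw [hmap] at h3
    refine h3.symm.trans ?_
    exact (congrArg _ htj).trans (map_zero _)

theorem isZero_of_isZero_push {X Y : Scheme.{u}} (f : X ⟶ Y) [IsIntegralHom f]
    (F : EtCoh.Ab X) (hF : IsZero ((EtCoh.push f).obj F)) : IsZero F := by
  rw [IsZero.iff_id_eq_zero]
  apply Sheaf.hom_ext
  apply NatTrans.ext
  funext U
  obtain ⟨U⟩ := U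
  refine ConcreteCategory.hom_ext _ _ fun s => ?_
  refine Eq.trans ?_ (rfl : (0 : ToType (F.obj.obj (op U))) = _)
  exact sections_ext_of_germ F (s : ToType (F.obj.obj (op U))) 0 fun y =>
    ⟨_, inferInstance, inferInstance, Push.algPoint X y, Push.algPoint_apply X y _, fun p =>
      (stalk_eq_zero f F hF _ U p s).trans (map_zero _).symm⟩

/-- Direct image along an integral morphism reflects isomorphisms. -/
theorem isIso_of_isIso_push {X Y : Scheme.{u}} (f : X ⟶ Y) [IsIntegralHom f] [EtCoh.BCCont f]
    {F G : EtCoh.Ab X} (φ : F ⟶ G) [IsIso ((EtCoh.push f).map φ)] : IsIso φ := by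
  haveI := Push.preservesHomology_push f
  haveI := (EtCoh.push f).preservesFiniteColimits_of_preservesHomology
  haveI : Mono φ := Preadditive.mono_of_isZero_kernel φ (isZero_of_isZero_push f _
    (IsZero.of_iso (isZero_kernel_of_mono ((EtCoh.push f).map φ))
      (PreservesKernel.iso (EtCoh.push f) φ)))
  haveI : Epi φ := Preadditive.epi_of_isZero_cokernel φ (isZero_of_isZero_push f _
    (IsZero.of_iso (isZero_cokernel_of_epi ((EtCoh.push f).map φ))
      (PreservesCokernel.iso (EtCoh.push f) φ)))
  exact isIso_of_mono_of_epi φ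

end Groth.Agent.Lib.EtSite.IntegralReflect
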