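import Groth.Agent.Lib.EtSite.DerivedBCHoriz
import Groth.Agent.Lib.EtSite.EtBCQ
import Groth.Agent.Lib.EtSite.IntegralReflect

/-!
Base change maps for a composite with an integral morphism.
-/

set_option autoImplicit false
set_option linter.style.haveILetI false
set_option backward.isDefEq.respectTransparency.types false
set_option maxHeartbeats 1000000

universe u

open CategoryTheory CategoryTheory.Limits AlgebraicGeometry Opposite

noncomputable section

namespace Groth.Agent.Lib.EtSite.BCHoriz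

open Groth.Agent.Lib.EtSite

theorem ext2 {S T Y : Scheme.{u}} {g : T ⟶ S} {e : Y ⟶ T} {V : S.Etale} {A : Y.Etale}
    (a b : A ⟶ (EtCoh.bc e).obj ((EtCoh.bc g).obj V))
    (he : a.left ≫ pullback.fst ((EtCoh.bc g).obj V).hom e ≫ pullback.fst V.hom g =
      b.left ≫ pullback.fst ((EtCoh.bc g).obj V).hom e ≫ pullback.fst V.hom g) : a = b := by
  have h1 : a.left ≫ pullback.snd ((EtCoh.bc g).obj V).hom e =
      b.left ≫ pullback.snd ((EtCoh.bc g).obj V).hom e :=
    (Over.w a.hom).trans (Over.w b.hom).symm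
  have h4 : a.left ≫ pullback.fst ((EtCoh.bc g).obj V).hom e ≫ pullback.snd V.hom g =
      b.left ≫ pullback.fst ((EtCoh.bc g).obj V).hom e ≫ pullback.snd V.hom g := by
    have h5 := congrArg (· ≫ e) h1
    simp only [Category.assoc] at h5
    exact (a.left ≫= pullback.condition).trans (h5.trans (b.left ≫= pullback.condition).symm)
  refine MorphismProperty.Over.Hom.ext (pullback.hom_ext (pullback.hom_ext ?_ ?_) h1)
  · exact (Category.assoc _ _ _).trans (he.trans (Category.assoc _ _ _).symm)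
  · exact (Category.assoc _ _ _).trans (h4.trans (Category.assoc _ _ _).symm)

theorem pushComp_inv_app {X Y Z : Scheme.{u}} (f : X ⟶ Y) (g : Z ⟶ X) (F : EtCoh.Ab Z) (V : Y.Etale) :
    ((EtCoh.pushComp f g).inv.app F).hom.app (op V) =
      F.obj.map ((MorphismProperty.Over.pullbackComp (P := EtCoh.etaleMP) (Q := ⊤) g f).inv.app V).op := by
  simp only [EtCoh.pushComp]
  simp
  rfl

/-- Comparing base change maps for `g'` and for `g' ≫ π` with `π` integral. -/
theorem isIso_of_comp_integral {S' X' S'' X'' T Y : Scheme.{u}} (f' : X' ⟶ S')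
    (π : S'' ⟶ S') [IsIntegralHom π] (f'' : X'' ⟶ S'') (π' : X'' ⟶ X')
    (hX : IsPullback π' f'' f' π) (g' : T ⟶ S'') (h' : Y ⟶ X'') (e : Y ⟶ T) (w : e ≫ g' = h' ≫ f'')
    (w' : e ≫ g' ≫ π = (h' ≫ π') ≫ f') [PreservesFiniteLimits (EtCoh.pull e)] (F : EtCoh.Ab T)
    (q : ℕ) (hiso : IsIso (EtBC.bcQ (g' ≫ π) f' (h' ≫ π') e w' q F)) :
    IsIso (EtBC.bcQ g' f'' h' e w q F) := by
  haveI : IsIntegralHom π' := MorphismProperty.of_isPullback (P := @IsIntegralHom) hX.flip ‹_›
  haveI := Push.preservesHomology_push π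
  haveI := (EtCoh.push π).preservesFiniteColimits_of_preservesHomology
  haveI := Push.preservesHomology_push π'
  haveI := (EtCoh.push π').preservesFiniteColimits_of_preservesHomology
  have wB : f'' ≫ π = π' ≫ f' := hX.w.symm
  haveI : PreservesFiniteLimits (EtCoh.push f'' ⋙ EtCoh.push π) := comp_preservesFiniteLimits _ _
  haveI : PreservesFiniteLimits (EtCoh.push π' ⋙ EtCoh.push f') := comp_preservesFiniteLimits _ _
  let α : EtCoh.push e ⋙ EtCoh.push g' ⟶ EtCoh.push h' ⋙ EtCoh.push f'' :=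
    (EtCoh.pushComp g' e ≪≫ EtCoh.pushCongr w ≪≫ (EtCoh.pushComp f'' h').symm).hom
  let α₂ : EtCoh.push e ⋙ EtCoh.push (g' ≫ π) ⟶ EtCoh.push (h' ≫ π') ⋙ EtCoh.push f' :=
    (EtCoh.pushComp (g' ≫ π) e ≪≫ EtCoh.pushCongr w' ≪≫ (EtCoh.pushComp f' (h' ≫ π')).symm).hom
  let ε : EtCoh.push (g' ≫ π) ⟶ EtCoh.push g' ⋙ EtCoh.push π := (EtCoh.pushComp π g').inv
  let ε' : EtCoh.push (h' ≫ π') ⟶ EtCoh.push h' ⋙ EtCoh.push π' := (EtCoh.pushComp π' h').inv
  let δ : EtCoh.push f'' ⋙ EtCoh.push π ⟶ EtCoh.push π' ⋙ EtCoh.push f' :=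
    (EtCoh.pushComp π f'' ≪≫ EtCoh.pushCongr wB ≪≫ (EtCoh.pushComp f' π').symm).hom
  have hcomp : ∀ H, α₂.app H ≫ (EtCoh.push f').map (ε'.app H) =
      ε.app ((EtCoh.push e).obj H) ≫ (EtCoh.push π).map (α.app H) ≫
        δ.app ((EtCoh.push h').obj H) := by
    intro H
    apply Sheaf.hom_ext
    apply NatTrans.ext
    funext V
    obtain ⟨V⟩ := V
    have e1 := EtBCQ.sqIso_app w' H V
    have e2 := pushComp_inv_app π' h' H ((EtCoh.bc f').obj V)
    have e3 := pushComp_inv_app π g' ((EtCoh.push e).obj H) V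
    have e4 := EtBCQ.sqIso_app w H ((EtCoh.bc π).obj V)
    have e5 := EtBCQ.sqIso_app wB ((EtCoh.push h').obj H) V
    refine (congrArg₂ (· ≫ ·) e1 e2).trans (Eq.trans ?_
      (congrArg₂ (· ≫ ·) e3 (congrArg₂ (· ≫ ·) e4 e5)).symm)
    let i₁ := (MorphismProperty.Over.pullbackComp (P := EtCoh.etaleMP) (Q := ⊤) h' π').inv.app
      ((EtCoh.bc f').obj V)
    let i₂ := (MorphismProperty.Over.pullbackComp (P := EtCoh.etaleMP) (Q := ⊤) g' π).inv.app V
    have em : i₁ ≫ (BaseChange.cmp w' V).hom =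
        ((EtCoh.bc h').map (BaseChange.cmp wB V).hom ≫
          (BaseChange.cmp w ((EtCoh.bc π).obj V)).hom) ≫ (EtCoh.bc e).map i₂ := by
      apply ext2
      have c1 := (BaseChange.cmp w' V).fst_fst
      have c2 := (BaseChange.cmp w ((EtCoh.bc π).obj V)).fst_fst
      have c3 := (BaseChange.cmp wB V).fst_fst
      have p1 := BaseChange.pullbackComp_inv_fst h' π' ((EtCoh.bc f').obj V)
      have p2 := BaseChange.pullbackComp_inv_fst g' π V
      have m1 : ((EtCoh.bc e).map i₂).left ≫ pullback.fst ((EtCoh.bc (g' ≫ π)).obj V).hom e =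
          pullback.fst _ e ≫ i₂.left := pullback.lift_fst _ _ _
      have m2 : ((EtCoh.bc h').map (BaseChange.cmp wB V).hom).left ≫
          pullback.fst ((EtCoh.bc f'').obj ((EtCoh.bc π).obj V)).hom h' =
          pullback.fst _ h' ≫ (BaseChange.cmp wB V).hom.left := pullback.lift_fst _ _ _
      change (i₁.left ≫ (BaseChange.cmp w' V).hom.left) ≫ _ =
        ((((EtCoh.bc h').map (BaseChange.cmp wB V).hom).left ≫
          (BaseChange.cmp w ((EtCoh.bc π).obj V)).hom.left) ≫ ((EtCoh.bc e).map i₂).left) ≫ _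
      refine ((Category.assoc _ _ _).trans ((_ ≫= c1).trans ((Category.assoc _ _ _).symm.trans
        ((eq_whisker p1 _).trans (Category.assoc _ _ _))))).trans ?_
      refine Eq.symm ((Category.assoc _ _ _).trans ((_ ≫= ((Category.assoc _ _ _).symm.trans
        ((eq_whisker m1 _).trans ((Category.assoc _ _ _).trans (_ ≫= p2))))).trans ?_))
      refine ((Category.assoc _ _ _).trans (_ ≫= ((_ ≫= (Category.assoc _ _ _).symm).trans
        ((Category.assoc _ _ _).symm.trans ((eq_whisker c2 _).trans (Category.assoc _ _ _)))))).trans ?_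
      exact (Category.assoc _ _ _).symm.trans ((eq_whisker m2 _).trans
        ((Category.assoc _ _ _).trans (_ ≫= c3)))
    refine (H.obj.map_comp _ _).symm.trans ((congrArg (fun m => H.obj.map m.op) em).trans ?_)
    exact (H.obj.map_comp _ _).trans (_ ≫= H.obj.map_comp _ _)
  let a := (EtCoh.pullPushAdj e).unit.app F
  have key := DerivedBC.bcMor_horiz α α₂ ε ε' δ hcomp a q
  set To := DerivedBC.outMor ε q F (injectiveResolution F)
  set To' := DerivedBC.outMor ε' q ((EtCoh.pull e).obj F) (injectiveResolution _)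
  haveI : IsIso To := DerivedBC.isIso_outMor ε q F _
  haveI : IsIso To' := DerivedBC.isIso_outMor ε' q _ _
  let b := EtBC.bcQ g' f'' h' e w q F
  have tr : EtBC.bcQ (g' ≫ π) f' (h' ≫ π') e w' q F ≫ To' =
      (EtCoh.pull f').map To ≫
        EtCoh.baseChange0 π f' π' f'' wB ((EtCoh.Rpush g' q).obj F) ≫ (EtCoh.push π').map b := by
    apply ((EtCoh.pullPushAdj f').homEquiv _ _).injective
    dsimp only [EtBC.bcQ, EtCoh.baseChange0, b]
    rw [Adjunction.homEquiv_naturality_right, Adjunction.homEquiv_naturality_left,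
      Adjunction.homEquiv_naturality_right, Equiv.apply_symm_apply, Equiv.apply_symm_apply]
    refine key.trans (congrArg (_ ≫ ·) ?_)
    let c := ((EtCoh.pullPushAdj f'').homEquiv _ _).symm (EtBC.bcQAdj g' f'' h' e w q F)
    change (EtCoh.push π).map (EtBC.bcQAdj g' f'' h' e w q F) ≫ δ.app _ =
      ((EtCoh.push π).map ((EtCoh.pullPushAdj f'').unit.app _) ≫ δ.app _) ≫
        (EtCoh.push f').map ((EtCoh.push π').map c)
    have hu : EtBC.bcQAdj g' f'' h' e w q F =
        (EtCoh.pullPushAdj f'').unit.app _ ≫ (EtCoh.push f'').map c :=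
      (Equiv.apply_symm_apply _ _).symm.trans ((EtCoh.pullPushAdj f'').homEquiv_unit (f := _))
    conv_lhs => rw [hu, Functor.map_comp]
    exact (Category.assoc _ _ _).trans ((_ ≫= δ.naturality c).trans (Category.assoc _ _ _).symm)
  haveI : IsIso (EtCoh.baseChange0 π f' π' f'' wB ((EtCoh.Rpush g' q).obj F)) :=
    BaseChange.isIso_baseChange0 hX.flip _
  haveI := hiso
  haveI h3 : IsIso (EtCoh.baseChange0 π f' π' f'' wB ((EtCoh.Rpush g' q).obj F) ≫
      (EtCoh.push π').map b) := IsIso.of_isIso_fac_left tr.symm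
  haveI : IsIso ((EtCoh.push π').map b) := IsIso.of_isIso_comp_left
    (EtCoh.baseChange0 π f' π' f'' wB ((EtCoh.Rpush g' q).obj F)) _
  exact IntegralReflect.isIso_of_isIso_push π' b

end Groth.Agent.Lib.EtSite.BCHoriz
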