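import Groth.Agent.Lib.EtSite.LowLeray
import Groth.Agent.Lib.EtSite.TorsionInj
import Groth.Agent.Lib.EtSite.AcyclicCrit
import Groth.Agent.S3513
import Groth.Agent.S8560
import Groth.Agent.S14622
import Groth.Prelude.Def_EtBC2

/-!
# The comparison condition along a base change with bijective base change maps
-/

set_option autoImplicit false
set_option linter.style.haveILetI false

universe u

open CategoryTheory CategoryTheory.Limits CategoryTheory.Abelian AlgebraicGeometry Opposite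

noncomputable section

namespace Groth.Agent.Lib.EtSite.CompBC

open Groth.Agent.H61.FieldCoh

variable {X Y Xb Yb : Scheme.{u}} {h : Y ⟶ X} {p : Xb ⟶ X} {hb : Yb ⟶ Xb} {pY : Yb ⟶ Y}

/-- The two iterated pullback functors along a commutative square. -/
def σN (w : hb ≫ p = pY ≫ h) :
    EtCoh.pull p ⋙ EtCoh.pull hb ≅ EtCoh.pull h ⋙ EtCoh.pull pY :=
  ((EtCore.pullComp hb p).symm ≪≫ EtCore.pullCongr w) ≪≫
    ((EtCore.pullComp pY h).symm ≪≫ EtCore.pullCongr rfl).symm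

/-- The two iterated pullbacks along a commutative square. -/
abbrev σ (w : hb ≫ p = pY ≫ h) (F : EtCoh.Ab X) :
    (EtCoh.pull hb).obj ((EtCoh.pull p).obj F) ≅ (EtCoh.pull pY).obj ((EtCoh.pull h).obj F) :=
  (σN w).app F

theorem app_natural {A B B' C : Type*} [Category A] [Category B] [Category B'] [Category C]
    {F₁ : A ⥤ B} {G₁ : B ⥤ C} {F₂ : A ⥤ B'} {G₂ : B' ⥤ C} (α : F₁ ⋙ G₁ ≅ F₂ ⋙ G₂) {M N : A}
    (φ : M ⟶ N) :
    (α.app M).hom ≫ G₂.map (F₂.map φ) = G₁.map (F₁.map φ) ≫ (α.app N).hom :=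
  (α.hom.naturality φ).symm

theorem app_eq {A B : Type*} [Category A] [Category B] {F G H : A ⥤ B} (α : F ≅ G) (β : H ≅ G) (M : A) :
    (α ≪≫ β.symm).app M = α.app M ≪≫ (β.app M).symm := rfl

theorem σ_natural (w : hb ≫ p = pY ≫ h) {F G : EtCoh.Ab X} (φ : F ⟶ G) :
    (σ w F).hom ≫ (EtCoh.pull pY).map ((EtCoh.pull h).map φ) =
      (EtCoh.pull hb).map ((EtCoh.pull p).map φ) ≫ (σ w G).hom :=
  app_natural (σN w) φ

/-- The degree zero base change map, transposed twice. -/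
theorem baseChange0_spec (w : hb ≫ p = pY ≫ h) (F : EtCoh.Ab Xb) :
    (σ w ((EtCoh.push p).obj F)).hom ≫ (EtCoh.pull pY).map (EtCoh.baseChange0 p h pY hb w F) ≫
        (EtCoh.pullPushAdj pY).counit.app ((EtCoh.pull hb).obj F) =
      (EtCoh.pull hb).map ((EtCoh.pullPushAdj p).counit.app F) := by
  let a₁ := ((EtCore.pullComp hb p).symm ≪≫ EtCore.pullCongr w).app ((EtCoh.push p).obj F)
  let a₂ := ((EtCore.pullComp pY h).symm ≪≫ EtCore.pullCongr (rfl : pY ≫ h = pY ≫ h)).app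
    ((EtCoh.push p).obj F)
  let φ : (EtCoh.pull (pY ≫ h)).obj ((EtCoh.push p).obj F) ⟶ (EtCoh.pull hb).obj F :=
    a₁.inv ≫ (EtCoh.pull hb).map ((EtCoh.pullPushAdj p).counit.app F)
  have h1 := H61.HpullFunct.homEquiv_pullVia (f := hb) (g := p) w φ
  have h2 := H61.HpullFunct.homEquiv_pullVia (f := pY) (g := h) (rfl : pY ≫ h = pY ≫ h) φ
  rw [H61.HpullFunct.pushCongr_rfl, Category.comp_id] at h2
  have e0 : (EtCoh.pullPushAdj hb).homEquiv _ _ (a₁.hom ≫ φ) =
      (EtCoh.pullPushAdj p).counit.app F ≫ (EtCoh.pullPushAdj hb).unit.app F := by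
    refine ((EtCoh.pullPushAdj hb).homEquiv_unit _ _ _).trans ?_
    refine Eq.trans ?_ ((EtCoh.pullPushAdj hb).unit.naturality ((EtCoh.pullPushAdj p).counit.app F)).symm
    exact congrArg (fun m => (EtCoh.pullPushAdj hb).unit.app _ ≫ (EtCoh.push hb).map m)
      (a₁.hom_inv_id_assoc _)
  have e1 : (EtCoh.pullPushAdj p).homEquiv _ _ ((EtCoh.pullPushAdj hb).homEquiv _ _ (a₁.hom ≫ φ)) =
      (EtCoh.push p).map ((EtCoh.pullPushAdj hb).unit.app F) := by
    refine (congrArg _ e0).trans (((EtCoh.pullPushAdj p).homEquiv_unit _ _ _).trans ?_)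
    rw [Functor.map_comp]
    exact (EtCoh.pullPushAdj p).right_triangle_components_assoc _ _
  have e2 : (EtCoh.pullPushAdj pY).homEquiv _ _ (a₂.hom ≫ φ) = EtCoh.baseChange0 p h pY hb w F := by
    refine ((EtCoh.pullPushAdj h).homEquiv _ _).injective ?_
    refine Eq.trans ?_ (Equiv.apply_symm_apply _ _).symm
    refine (cancel_mono ((EtCoh.pushComp h pY).hom.app ((EtCoh.pull hb).obj F))).1 ?_
    refine (h2.trans h1.symm).trans ?_
    refine (congrArg (fun m => m ≫ (EtCoh.pushComp p hb).hom.app _ ≫ (EtCoh.pushCongr w).hom.app _) e1).trans ?_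
    simp
  have e3 : (EtCoh.pull pY).map (EtCoh.baseChange0 p h pY hb w F) ≫
      (EtCoh.pullPushAdj pY).counit.app ((EtCoh.pull hb).obj F) = a₂.hom ≫ φ :=
    ((EtCoh.pullPushAdj pY).homEquiv_counit _ _ _).symm.trans
      ((congrArg _ e2.symm).trans (Equiv.symm_apply_apply _ _))
  refine (congrArg (fun m => (σ w ((EtCoh.push p).obj F)).hom ≫ m) e3).trans ?_
  rw [show σ w ((EtCoh.push p).obj F) = a₁ ≪≫ a₂.symm from app_eq _ _ _, Iso.trans_hom, Iso.symm_hom]
  rw [Category.assoc, Iso.inv_hom_id_assoc]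
  exact a₁.hom_inv_id_assoc _

/-- Pullback in the two ways around the square agree. -/
theorem Hpull_square (w : hb ≫ p = pY ≫ h) (F : EtCoh.Ab X) (q : ℕ) (x : EtCoh.H X F q) :
    EtCore.HpullVia pY h (pY ≫ h) rfl F q (EtCore.Hpull h F q x) =
      EtCore.HpullVia hb p (pY ≫ h) w F q (EtCore.Hpull p F q x) :=
  (H61.HpullFunct.HpullVia_Hpull pY h _ rfl F q x).trans
    (H61.HpullFunct.HpullVia_Hpull hb p _ w F q x).symm

theorem HpullVia_eq {Z U V : Scheme.{u}} (f : U ⟶ V) (t : V ⟶ Z) (f₀ : U ⟶ Z) (e : f ≫ t = f₀)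
    (F : EtCoh.Ab Z) (q : ℕ) (x : EtCoh.H V ((EtCoh.pull t).obj F) q) :
    EtCore.HpullVia f t f₀ e F q x = (EtCore.Hpull f _ q x).comp
      (Ext.mk₀ (((EtCore.pullComp f t).symm ≪≫ EtCore.pullCongr e).app F).hom) (add_zero q) := rfl

theorem Hpull_square' (w : hb ≫ p = pY ≫ h) (F : EtCoh.Ab X) (q : ℕ) (ξ : EtCoh.H Y ((EtCoh.pull h).obj F) q)
    (η : EtCoh.H Xb ((EtCoh.pull p).obj F) q)
    (e : EtCore.HpullVia hb p (pY ≫ h) w F q η = EtCore.HpullVia pY h (pY ≫ h) rfl F q ξ) :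
    EtCore.Hpull pY _ q ξ = (EtCore.Hpull hb _ q η).comp (Ext.mk₀ (σ w F).hom) (add_zero q) := by
  rw [HpullVia_eq, HpullVia_eq] at e
  rw [show σ w F = ((EtCore.pullComp hb p).symm ≪≫ EtCore.pullCongr w).app F ≪≫
    (((EtCore.pullComp pY h).symm ≪≫ EtCore.pullCongr rfl).app F).symm from app_eq _ _ _,
    Iso.trans_hom, Iso.symm_hom]
  let a₂ := ((EtCore.pullComp pY h).symm ≪≫ EtCore.pullCongr (rfl : pY ≫ h = pY ≫ h)).app F
  have e' := congrArg (fun y => Ext.comp y (Ext.mk₀ a₂.inv) (add_zero q)) e.symm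
  simp only [Ext.comp_assoc_of_third_deg_zero, Ext.mk₀_comp_mk₀] at e'
  rw [show (((EtCore.pullComp pY h).symm ≪≫ EtCore.pullCongr rfl).app F).hom ≫ a₂.inv = 𝟙 _ from
    a₂.hom_inv_id] at e'
  exact (Ext.comp_mk₀_id _).symm.trans e'

/-- From `H^q(Y, h⁻¹ p_* F)` to `H^q(Yb, hb⁻¹ F)`. -/
def tau (w : hb ≫ p = pY ≫ h) (F : EtCoh.Ab Xb) (q : ℕ)
    (x : EtCoh.H Y ((EtCoh.pull h).obj ((EtCoh.push p).obj F)) q) :
    EtCoh.H Yb ((EtCoh.pull hb).obj F) q :=
  LowLeray.lam pY _ q (x.comp (Ext.mk₀ (EtCoh.baseChange0 p h pY hb w F)) (add_zero q))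

theorem tau_eq (w : hb ≫ p = pY ≫ h) (F : EtCoh.Ab Xb) (q : ℕ)
    (x : EtCoh.H Y ((EtCoh.pull h).obj ((EtCoh.push p).obj F)) q) :
    tau w F q x = (EtCore.Hpull pY _ q x).comp
      (Ext.mk₀ ((σ w ((EtCoh.push p).obj F)).inv ≫ (EtCoh.pull hb).map ((EtCoh.pullPushAdj p).counit.app F)))
      (add_zero q) := by
  refine (LowLeray.Tr_comp pY _ _ q x).trans ?_
  rw [LowLeray.Tr_apply, ← baseChange0_spec w F, Iso.inv_hom_id_assoc]

/-- The square of comparison maps commutes. -/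
theorem tau_Hpull (w : hb ≫ p = pY ≫ h) (F : EtCoh.Ab Xb) (q : ℕ)
    (x : EtCoh.H X ((EtCoh.push p).obj F) q) :
    tau w F q (EtCore.Hpull h _ q x) = EtCore.Hpull hb F q (LowLeray.lam p F q x) := by
  rw [tau_eq, Hpull_square' w _ q (EtCore.Hpull h _ q x) (EtCore.Hpull p _ q x) (Hpull_square w _ q x).symm,
    Ext.comp_assoc_of_third_deg_zero, Ext.mk₀_comp_mk₀, Iso.hom_inv_id_assoc, ← LowLeray.Hpull_comp hb]
  rfl

theorem isLTorsion_push [CompactSpace Xb] [QuasiSeparatedSpace Xb] [QuasiSeparatedSpace X] (p : Xb ⟶ X)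
    (L : Set ℕ) (F : EtCoh.Ab Xb) (hF : EtAcyc.IsLTorsion L F) :
    EtAcyc.IsLTorsion L ((EtCoh.push p).obj F) := by
  exact TorsionInj.isLTorsion_of_epi ((EtCoh.push p).rightDerivedZeroIsoSelf.app F).hom
    (S8560.result p L F hF 0)

theorem isIso_baseChange0 (w : hb ≫ p = pY ≫ h) (F : EtCoh.Ab Xb)
    (hi : IsIso (EtBC.bcQ p h pY hb w 0 F)) : IsIso (EtCoh.baseChange0 p h pY hb w F) := by
  have : IsIso ((EtCoh.push p).toRightDerivedZero.app F) := inferInstance
  have : IsIso ((EtCoh.push pY).toRightDerivedZero.app ((EtCoh.pull hb).obj F)) := inferInstance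
  have : IsIso (EtCoh.baseChange0 p h pY hb w F ≫
      (EtCoh.push pY).toRightDerivedZero.app ((EtCoh.pull hb).obj F)) := by
    rw [← EtBC.bcQ_zero_compat]
    infer_instance
  exact IsIso.of_isIso_comp_right _ ((EtCoh.push pY).toRightDerivedZero.app ((EtCoh.pull hb).obj F))

theorem bijective_comp_mk₀ {U : Scheme.{u}} {F G : EtCoh.Ab U} (φ : F ⟶ G) [IsIso φ] (q : ℕ) :
    Function.Bijective fun x : EtCoh.H U F q => x.comp (Ext.mk₀ φ) (add_zero q) :=
  Function.bijective_iff_has_inverse.2 ⟨fun y => y.comp (Ext.mk₀ (inv φ)) (add_zero q),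
    fun x => by simp, fun y => by simp⟩

theorem Hpull_zero_bijective (w : hb ≫ p = pY ≫ h) (F : EtCoh.Ab Xb)
    [IsIso (EtCoh.baseChange0 p h pY hb w F)]
    (hh : Function.Bijective (EtCore.Hpull h ((EtCoh.push p).obj F) 0)) :
    Function.Bijective (EtCore.Hpull hb F 0) := by
  have ht : Function.Bijective (tau w F 0) :=
    (LowLeray.lam_zero_bijective pY _).comp (bijective_comp_mk₀ _ 0)
  refine (Function.Bijective.of_comp_iff _ (LowLeray.lam_zero_bijective p F)).1 ?_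
  have e : tau w F 0 ∘ (EtCore.Hpull h ((EtCoh.push p).obj F) 0) =
      (EtCore.Hpull hb F 0 : _ → _) ∘ (LowLeray.lam p F 0 : _ → _) := funext fun x => tau_Hpull w F 0 x
  exact e ▸ ht.comp hh

/-- The standing assumption on the base change maps. -/
def BCIso (w : hb ≫ p = pY ≫ h) (L : Set ℕ) (n : ℕ) : Prop :=
  ∀ Fb : EtCoh.Ab Xb, EtAcyc.IsLTorsion L Fb → ∀ i : ℕ, i ≤ n → IsIso (EtBC.bcQ p h pY hb w i Fb)

variable [CompactSpace Xb] [QuasiSeparatedSpace Xb] [CompactSpace X] [QuasiSeparatedSpace X]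

/-- The higher direct images of an acyclic sheaf vanish. -/
theorem isZero_Rpush_acyclic (p : Xb ⟶ X) (G : EtCoh.Ab Xb)
    (hG : ∀ (U : Scheme.{u}) (j : U ⟶ Xb) [Etale j] [CompactSpace U] [QuasiSeparatedSpace U] (q : ℕ),
      Subsingleton (EtCoh.H U ((EtCoh.pull j).obj G) (q + 1))) (q : ℕ) (hq : 1 ≤ q) :
    IsZero ((EtCoh.Rpush p q).obj G) := by
  refine AcyclicCrit.isZero_Rpush_of_vanish p q G (fun W hW => ?_) q hq le_rfl
  have : Etale W.hom := W.prop
  have := hW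
  have : QuasiSeparatedSpace W.left := inferInstance
  have : QuasiCompact W.hom := @quasiCompact_of_compactSpace W.left X W.hom inferInstance inferInstance
  have : QuasiSeparated W.hom := @QuasiSeparated.of_quasiSeparatedSpace W.left X W.hom inferInstance
  let sq := (IsPullback.of_hasPullback W.hom p).flip
  have hk : Etale (pullback.snd W.hom p) :=
    MorphismProperty.pullback_snd (P := @Etale) W.hom p W.prop
  have : CompactSpace ↑(pullback W.hom p) :=
    QuasiCompact.compactSpace_of_compactSpace (pullback.snd W.hom p)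
  have : QuasiSeparatedSpace ↑(pullback W.hom p) :=
    quasiSeparatedSpace_of_quasiSeparated (pullback.snd W.hom p)
  refine ⟨_, pullback.snd W.hom p, hk, AcyclicCrit.objIso p sq, fun r h1 _ => ?_⟩
  obtain ⟨r, rfl⟩ := Nat.exists_eq_add_of_le' h1
  have := hG _ (pullback.snd W.hom p) r
  exact (Φ (pullback.snd W.hom p) G (r + 1)).toEquiv.subsingleton

theorem subsingleton_H_push (p : Xb ⟶ X) (G : EtCoh.Ab Xb)
    (hG : ∀ (U : Scheme.{u}) (j : U ⟶ Xb) [Etale j] [CompactSpace U] [QuasiSeparatedSpace U] (q : ℕ),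
      Subsingleton (EtCoh.H U ((EtCoh.pull j).obj G) (q + 1))) (q : ℕ) :
    Subsingleton (EtCoh.H X ((EtCoh.push p).obj G) (q + 1)) ∧ Subsingleton (EtCoh.H Xb G (q + 1)) := by
  have h1 := hG Xb (𝟙 Xb) q
  have hs : Subsingleton (EtCoh.H Xb G (q + 1)) := (S0642.result (𝟙 Xb) G (q + 1)).1.subsingleton
  obtain ⟨hb', -⟩ := LowLeray.lam_bijective p (q + 1) G fun r hr _ => isZero_Rpush_acyclic p G hG r hr
  exact ⟨(hb' (q + 1) le_rfl).1.subsingleton, hs⟩

/-- Properties of an acyclic `L`-torsion sheaf under base change. -/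
theorem acyclic {w : hb ≫ p = pY ≫ h} {L : Set ℕ} {n : ℕ} (hh : EtAcyc.CompN h L n)
    (hbc : BCIso w L n) (G : EtCoh.Ab Xb) (hGt : EtAcyc.IsLTorsion L G)
    (hG : ∀ (U : Scheme.{u}) (j : U ⟶ Xb) [Etale j] [CompactSpace U] [QuasiSeparatedSpace U] (q : ℕ),
      Subsingleton (EtCoh.H U ((EtCoh.pull j).obj G) (q + 1))) :
    (∀ q, 1 ≤ q → q ≤ n → Subsingleton (EtCoh.H Yb ((EtCoh.pull hb).obj G) q)) ∧
      Function.Injective (tau w G (n + 1)) := by
  have := isIso_baseChange0 w G (hbc G hGt 0 (Nat.zero_le n))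
  obtain ⟨hl, hl'⟩ := LowLeray.lam_bijective pY n ((EtCoh.pull hb).obj G) fun q h1 h2 => by
    have := hbc G hGt q h2
    exact ((EtCoh.pull h).map_isZero (isZero_Rpush_acyclic p G hG q h1)).of_iso
      (asIso (EtBC.bcQ p h pY hb w q G)).symm
  refine ⟨fun q h1 h2 => ?_, hl'.comp
    (bijective_comp_mk₀ (EtCoh.baseChange0 p h pY hb w G) (n + 1)).1⟩
  obtain ⟨q, rfl⟩ := Nat.exists_eq_add_of_le' h1
  have h0 := (subsingleton_H_push p G hG q).1
  have hh' := ((hh _ (isLTorsion_push p L G hGt)).1 (q + 1) h2).2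
  exact (((hl (q + 1) h2).comp
    (bijective_comp_mk₀ (EtCoh.baseChange0 p h pY hb w G) (q + 1))).2.comp hh').subsingleton

/-- The connecting map commutes with pullback. -/
theorem Hpull_δ {U V : Scheme.{u}} (f : U ⟶ V) {S : ShortComplex (EtCoh.Ab V)} (hS : S.ShortExact)
    (q : ℕ) (x : EtCoh.H V S.X₃ q) :
    EtCore.Hpull f S.X₁ (q + 1) (x.comp hS.extClass rfl) =
      (EtCore.Hpull f S.X₃ q x).comp (hS.map_of_exact (EtCoh.pull f)).extClass rfl := by
  simp only [EtCore.Hpull, AddMonoidHom.comp_apply, AddMonoidHom.mk'_apply,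
    Functor.mapExtAddHom_coe, Ext.mapExactFunctor_comp, Ext.mapExactFunctor_extClass]
  exact (Ext.comp_assoc _ _ _ _ _ (by lia)).symm

section Shift

variable {U V : Scheme.{u}} (f : U ⟶ V) {S : ShortComplex (EtCoh.Ab V)} (hS : S.ShortExact)
include hS

theorem injective_shift {q : ℕ} (h0 : Subsingleton (EtCoh.H V S.X₂ (q + 1)))
    (h2 : Function.Surjective (EtCore.Hpull f S.X₂ q)) (h3 : Function.Injective (EtCore.Hpull f S.X₃ q)) :
    Function.Injective (EtCore.Hpull f S.X₁ (q + 1)) := by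
  refine (injective_iff_map_eq_zero _).2 fun x hx => ?_
  obtain ⟨y, rfl⟩ := Ext.covariant_sequence_exact₁ _ hS x (h0.elim _ _) (n₀ := q) rfl
  obtain ⟨z, hz⟩ := Ext.covariant_sequence_exact₃ _ (hS.map_of_exact (EtCoh.pull f))
    (EtCore.Hpull f S.X₃ q y) rfl ((Hpull_δ f hS q y).symm.trans hx)
  obtain ⟨z, rfl⟩ := h2 z
  obtain rfl := h3 ((LowLeray.Hpull_comp f S.g q z).trans hz)
  rw [Ext.comp_assoc_of_second_deg_zero, hS.comp_extClass, Ext.comp_zero]

theorem surjective_shift {q : ℕ} (h0 : Subsingleton (EtCoh.H U ((EtCoh.pull f).obj S.X₂) (q + 1)))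
    (h3 : Function.Surjective (EtCore.Hpull f S.X₃ q)) :
    Function.Surjective (EtCore.Hpull f S.X₁ (q + 1)) := fun x => by
  obtain ⟨y, rfl⟩ := Ext.covariant_sequence_exact₁ _ (hS.map_of_exact (EtCoh.pull f)) x (h0.elim _ _)
    (n₀ := q) rfl
  obtain ⟨y, rfl⟩ := h3 y
  exact ⟨_, Hpull_δ f hS q y⟩

end Shift

/-- **Base change for the comparison condition.** -/
theorem compN {w : hb ≫ p = pY ≫ h} {L : Set ℕ} {n : ℕ} (hh : EtAcyc.CompN h L n)
    (hbc : BCIso w L n) : EtAcyc.CompN hb L n := by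
  have h0 : ∀ F, EtAcyc.IsLTorsion L F → Function.Bijective (EtCore.Hpull hb F 0) := fun F hF => by
    have := isIso_baseChange0 w F (hbc F hF 0 (Nat.zero_le n))
    exact Hpull_zero_bijective w F ((hh _ (isLTorsion_push p L F hF)).1 0 (Nat.zero_le n))
  have main : ∀ q, ∀ F, EtAcyc.IsLTorsion L F →
      (q ≤ n → Function.Bijective (EtCore.Hpull hb F q)) ∧
        (q ≤ n + 1 → Function.Injective (EtCore.Hpull hb F q)) := by
    intro q
    induction q with
    | zero => exact fun F hF => ⟨fun _ => h0 F hF, fun _ => (h0 F hF).1⟩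
    | succ q ih =>
      intro F hF
      obtain ⟨G, u, hu, hG, hQ, hG'⟩ := TorsionInj.exists_embedding L F hF
      let S := ShortComplex.mk u (cokernel.π u) (cokernel.condition u)
      have hS : S.ShortExact := { exact := ShortComplex.exact_cokernel u }
      have hinj : q + 1 ≤ n + 1 → Function.Injective (EtCore.Hpull hb F (q + 1)) := fun hq =>
        injective_shift hb hS (subsingleton_H_push p G hG' q).2 ((ih G hG).1 (by omega)).2
          ((ih _ hQ).1 (by omega)).1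
      refine ⟨fun hq => ⟨hinj (by omega), ?_⟩, hinj⟩
      exact surjective_shift hb hS ((acyclic hh hbc G hG hG').1 (q + 1) (by omega) hq)
        ((ih _ hQ).1 (by omega)).2
  intro F hF _
  exact ⟨fun q hq => (main q F hF).1 hq, (main (n + 1) F hF).2 le_rfl⟩

/-- **Descent of cohomology classes in the critical degree.** -/
theorem mem_range_iff {w : hb ≫ p = pY ≫ h} {L : Set ℕ} {n : ℕ} (hp : Function.Surjective p.base)
    (hh : EtAcyc.CompN h L n) (hbc : BCIso w L n) (F : EtCoh.Ab X) (hF : EtAcyc.IsLTorsion L F)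
    (ξ : EtCoh.H Y ((EtCoh.pull h).obj F) (n + 1)) :
    ξ ∈ Set.range (EtCore.Hpull h F (n + 1)) ↔
      EtCore.HpullVia pY h (pY ≫ h) rfl F (n + 1) ξ ∈
        Set.range (EtCore.HpullVia hb p (pY ≫ h) w F (n + 1)) := by
  constructor
  · rintro ⟨x, rfl⟩
    exact ⟨EtCore.Hpull p F (n + 1) x, (Hpull_square w F (n + 1) x).symm⟩
  · rintro ⟨η, hη⟩
    obtain ⟨G, u, hu, hG, -, hG'⟩ :=
      TorsionInj.exists_embedding L _ (S3513.isLTorsion_pull p L F hF)
    let Φ₀ : F ⟶ (EtCoh.push p).obj G := (EtCoh.pullPushAdj p).homEquiv _ _ u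
    have : Mono Φ₀ := by
      have : Surjective p := ⟨hp⟩
      have := S14622.result p F
      have := (EtCoh.push p).map_mono u
      rw [show Φ₀ = (EtCoh.pullPushAdj p).unit.app F ≫ (EtCoh.push p).map u from
        Adjunction.homEquiv_unit _ _ _ _]
      exact mono_comp _ _
    have hM := isLTorsion_push p L G hG
    let S := ShortComplex.mk Φ₀ (cokernel.π Φ₀) (cokernel.condition Φ₀)
    have hS : S.ShortExact := { exact := ShortComplex.exact_cokernel Φ₀ }
    have hQ : EtAcyc.IsLTorsion L S.X₃ := TorsionInj.isLTorsion_of_epi (cokernel.π Φ₀) hM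
    have hzero : ξ.comp (Ext.mk₀ ((EtCoh.pull h).map Φ₀)) (add_zero _) = 0 := by
      refine (acyclic hh hbc G hG hG').2 ?_
      refine Eq.trans ?_ (show tau w G (n + 1) 0 = 0 by simp [tau]).symm
      rw [tau_eq, LowLeray.Hpull_comp pY, Ext.comp_assoc_of_third_deg_zero, Ext.mk₀_comp_mk₀,
        Hpull_square' w F (n + 1) ξ η hη, Ext.comp_assoc_of_third_deg_zero, Ext.mk₀_comp_mk₀,
        reassoc_of% (σ_natural w Φ₀), Iso.hom_inv_id_assoc, ← Functor.map_comp, ← LowLeray.Hpull_comp hb]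
      rw [(subsingleton_H_push p G hG' n).2.elim (η.comp _ _) 0, map_zero]
    obtain ⟨y, rfl⟩ := Ext.covariant_sequence_exact₁ _ (hS.map_of_exact (EtCoh.pull h)) ξ hzero
      (n₀ := n) rfl
    obtain ⟨y, rfl⟩ := ((hh _ hQ).1 n le_rfl).2 y
    exact ⟨_, Hpull_δ h hS n y⟩

end Groth.Agent.Lib.EtSite.CompBC
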