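import Groth.Agent.Lib.EtSite.CompBC

/-!
# The comparison condition descends along a surjection with bijective base change maps
-/

set_option autoImplicit false
set_option linter.style.haveILetI false
set_option linter.unusedSectionVars false

universe u

open CategoryTheory CategoryTheory.Limits CategoryTheory.Abelian AlgebraicGeometry Opposite

noncomputable section

namespace Groth.Agent.Lib.EtSite.CompDescent

open Groth.Agent.H61.FieldCoh Groth.Agent.H88.EtMod

variable {X Y Xb Yb : Scheme.{u}} {h : Y ⟶ X} {p : Xb ⟶ X} {hb : Yb ⟶ Xb} {pY : Yb ⟶ Y}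

theorem nsmul_id_map {C D : Type*} [Category C] [Category D] [Preadditive C] [Preadditive D]
    (F : C ⥤ D) [F.Additive] {A : C} {m : ℕ} (e : m • 𝟙 A = 0) : m • 𝟙 (F.obj A) = 0 := by
  rw [← CategoryTheory.Functor.map_id, ← Functor.map_nsmul, e, Functor.map_zero]

theorem nsmul_id_kernel {C : Type*} [Category C] [Preadditive C] (A : C) (m : ℕ)
    [HasKernel (m • 𝟙 A)] : m • 𝟙 (kernel (m • 𝟙 A)) = 0 := by
  refine (cancel_mono (kernel.ι (m • 𝟙 A))).1 ?_
  rw [zero_comp, Preadditive.nsmul_comp, Category.id_comp]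
  have := kernel.condition (m • 𝟙 A)
  rwa [Preadditive.comp_nsmul, Category.comp_id] at this

theorem nsmul_id_of_epi {C : Type*} [Category C] [Preadditive C] {A B : C} (g : A ⟶ B) [Epi g] {m : ℕ}
    (e : m • 𝟙 A = 0) : m • 𝟙 B = 0 := by
  refine (cancel_epi g).1 ?_
  rw [comp_zero, Preadditive.comp_nsmul, Category.comp_id]
  rw [show m • g = (m • 𝟙 A) ≫ g by simp, e, zero_comp]

theorem isLTorsion_of_nsmul {U : Scheme.{u}} {L : Set ℕ} {G : EtCoh.Ab U} {m : ℕ}
    (hm : EtAcyc.PrimesIn L m) (e : m • 𝟙 G = 0) : EtAcyc.IsLTorsion L G := fun V s x => by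
  refine ⟨V, 𝟙 V, m, ⟨x, rfl⟩, hm, ?_⟩
  rw [← TorsionInj.nsmul_app, e]
  rfl

/-- An acyclic sheaf killed by `m` containing a given one. -/
theorem exists_embedding_killed {U : Scheme.{u}} (F : EtCoh.Ab U) {m : ℕ} (hm : m ≠ 0)
    (e : m • 𝟙 F = 0) :
    ∃ (G : EtCoh.Ab U) (u : F ⟶ G), Mono u ∧ m • 𝟙 G = 0 ∧
      (∀ (V : Scheme.{u}) (j : V ⟶ U) [Etale j] (q : ℕ) (x : Ext.{u + 1} (free j) G (q + 1)), x = 0) ∧
      ∀ q, Subsingleton (EtCoh.H U G (q + 1)) := by
  let I := Injective.under F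
  have h0 : Injective.ι F ≫ (m • 𝟙 I) = 0 := by
    rw [Preadditive.comp_nsmul, Category.comp_id,
      show m • Injective.ι F = (m • 𝟙 F) ≫ Injective.ι F by simp, e, zero_comp]
  refine ⟨kernel (m • 𝟙 I), kernel.lift _ (Injective.ι F) h0,
    mono_of_mono_fac (kernel.lift_ι _ _ h0), nsmul_id_kernel I m,
    fun V j _ q x => TorsionInj.ext_kernel j I hm q x,
    fun q => subsingleton_of_forall_eq 0 fun x => Efface.H_kernel_nsmul I hm q x⟩

section Killed

variable {L : Set ℕ} {n m : ℕ}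

/-- The data attached to a sheaf killed by `m`. -/
theorem exists_cover_embedding (w : hb ≫ p = pY ≫ h) (hp : Function.Surjective p.base) (hn : 1 ≤ n)
    (hhb : EtAcyc.CompN hb L n)
    (hbc : ∀ Fb : EtCoh.Ab Xb, EtAcyc.IsLTorsion L Fb → ∀ i : ℕ, i + 1 ≤ n →
      IsIso (EtBC.bcQ p h pY hb w i Fb))
    (hm : EtAcyc.PrimesIn L m) (F : EtCoh.Ab X) (e : m • 𝟙 F = 0) :
    ∃ (M : EtCoh.Ab X) (φ : F ⟶ M), Mono φ ∧ m • 𝟙 M = 0 ∧
      (∀ q, Subsingleton (EtCoh.H X M (q + 1))) ∧
      Function.Bijective (EtCore.Hpull h M 0) ∧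
      ∀ q, 1 ≤ q → q ≤ n → Subsingleton (EtCoh.H Y ((EtCoh.pull h).obj M) q) := by
  have hm0 : m ≠ 0 := by have := hm.1; omega
  have : (EtCoh.pull p).Additive := EtCore.pull_additive p
  obtain ⟨G, u, hu, hG, hGe, hGH⟩ := exists_embedding_killed ((EtCoh.pull p).obj F) hm0
    (nsmul_id_map (EtCoh.pull p) e)
  let φ : F ⟶ (EtCoh.push p).obj G := (EtCoh.pullPushAdj p).homEquiv _ _ u
  have : Mono φ := by
    have : Surjective p := ⟨hp⟩
    have := S14622.result p F
    have := (EtCoh.push p).map_mono u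
    rw [show φ = (EtCoh.pullPushAdj p).unit.app F ≫ (EtCoh.push p).map u from
      Adjunction.homEquiv_unit _ _ _ _]
    exact mono_comp _ _
  have hGt := isLTorsion_of_nsmul hm hG
  have hR : ∀ q, 1 ≤ q → IsZero ((EtCoh.Rpush p q).obj G) := fun q hq => by
    refine AcyclicCrit.isZero_Rpush_of_vanish p q G (fun W _ => ?_) q hq le_rfl
    let sq := (IsPullback.of_hasPullback W.hom p).flip
    have hk : Etale (pullback.snd W.hom p) :=
      MorphismProperty.pullback_snd (P := @Etale) W.hom p W.prop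
    refine ⟨_, pullback.snd W.hom p, hk, AcyclicCrit.objIso p sq, fun r h1 _ => ?_⟩
    obtain ⟨r, rfl⟩ := Nat.exists_eq_add_of_le' h1
    exact subsingleton_of_forall_eq 0 (hGe _ (pullback.snd W.hom p) r)
  refine ⟨(EtCoh.push p).obj G, φ, this, nsmul_id_map (EtCoh.push p) hG, fun q => ?_, ?_⟩
  · have := hGH q
    exact ((LowLeray.lam_bijective p (q + 1) G fun r hr _ => hR r hr).1 (q + 1) le_rfl).1.subsingleton
  have := CompBC.isIso_baseChange0 w G (hbc G hGt 0 (by omega))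
  obtain ⟨n, rfl⟩ := Nat.exists_eq_add_of_le' hn
  obtain ⟨hl, hl'⟩ := LowLeray.lam_bijective pY n ((EtCoh.pull hb).obj G) fun q h1 h2 => by
    have := hbc G hGt q (by omega)
    exact ((EtCoh.pull h).map_isZero (hR q h1)).of_iso (asIso (EtBC.bcQ p h pY hb w q G)).symm
  have hb0 := CompBC.bijective_comp_mk₀ (EtCoh.baseChange0 p h pY hb w G)
  refine ⟨?_, fun q h1 h2 => ?_⟩
  · have ht : Function.Bijective (CompBC.tau w G 0) := (hl 0 (Nat.zero_le n)).comp (hb0 0)
    refine (Function.Bijective.of_comp_iff' ht _).1 ?_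
    have e : CompBC.tau w G 0 ∘ (EtCore.Hpull h ((EtCoh.push p).obj G) 0) =
        (EtCore.Hpull hb G 0 : _ → _) ∘ (LowLeray.lam p G 0 : _ → _) :=
      funext fun x => CompBC.tau_Hpull w G 0 x
    rw [e]
    exact ((hhb G hGt).1 0 (Nat.zero_le _)).comp (LowLeray.lam_zero_bijective p G)
  · obtain ⟨q, rfl⟩ := Nat.exists_eq_add_of_le' h1
    have := hGH q
    have hs : Subsingleton (EtCoh.H Yb ((EtCoh.pull hb).obj G) (q + 1)) :=
      ((hhb G hGt).1 (q + 1) h2).2.subsingleton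
    by_cases hq : q + 1 ≤ n
    · exact ((hl (q + 1) hq).comp (hb0 (q + 1))).1.subsingleton
    · obtain rfl : q = n := by omega
      exact (hl'.comp (hb0 (q + 1)).1).subsingleton

/-- The comparison for sheaves killed by an `L`-number. -/
theorem main_killed (w : hb ≫ p = pY ≫ h) (hp : Function.Surjective p.base) (hn : 1 ≤ n)
    (hhb : EtAcyc.CompN hb L n)
    (hbc : ∀ Fb : EtCoh.Ab Xb, EtAcyc.IsLTorsion L Fb → ∀ i : ℕ, i + 1 ≤ n →
      IsIso (EtBC.bcQ p h pY hb w i Fb))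
    (hm : EtAcyc.PrimesIn L m) : ∀ (q : ℕ) (F : EtCoh.Ab X), m • 𝟙 F = 0 →
      (q ≤ n → Function.Bijective (EtCore.Hpull h F q)) ∧
        (q ≤ n + 1 → Function.Injective (EtCore.Hpull h F q)) := by
  have inj0 : ∀ F : EtCoh.Ab X, m • 𝟙 F = 0 → Function.Injective (EtCore.Hpull h F 0) := fun F e => by
    obtain ⟨M, φ, hφ, -, -, hM, -⟩ := exists_cover_embedding w hp hn hhb hbc hm F e
    intro a b hab
    refine Ext.postcomp_mk₀_injective_of_mono _ φ (hM.1 ?_)
    change EtCore.Hpull h M 0 (a.comp (Ext.mk₀ φ) (add_zero 0)) =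
      EtCore.Hpull h M 0 (b.comp (Ext.mk₀ φ) (add_zero 0))
    rw [LowLeray.Hpull_comp, LowLeray.Hpull_comp, hab]
  intro q
  induction q with
  | zero =>
    intro F e
    refine ⟨fun _ => ⟨inj0 F e, fun x => ?_⟩, fun _ => inj0 F e⟩
    obtain ⟨M, φ, hφ, eM, -, hM, -⟩ := exists_cover_embedding w hp hn hhb hbc hm F e
    let S := ShortComplex.mk φ (cokernel.π φ) (cokernel.condition φ)
    have hS : S.ShortExact := { exact := ShortComplex.exact_cokernel φ }
    obtain ⟨z, hz⟩ := hM.2 (x.comp (Ext.mk₀ ((EtCoh.pull h).map φ)) (add_zero 0))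
    have hz' : z.comp (Ext.mk₀ S.g) (add_zero 0) = 0 := by
      refine inj0 _ (nsmul_id_of_epi (cokernel.π φ) eM) ?_
      rw [map_zero, LowLeray.Hpull_comp, hz, Ext.comp_assoc_of_third_deg_zero, Ext.mk₀_comp_mk₀,
        ← Functor.map_comp, show φ ≫ S.g = 0 from S.zero, Functor.map_zero, Ext.mk₀_zero, Ext.comp_zero]
    obtain ⟨y, rfl⟩ := Ext.covariant_sequence_exact₂ _ hS z hz'
    refine ⟨y, ?_⟩
    have : Mono ((EtCoh.pull h).map φ) := (EtCoh.pull h).map_mono φ
    refine Ext.postcomp_mk₀_injective_of_mono _ ((EtCoh.pull h).map φ) ?_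
    exact (LowLeray.Hpull_comp h φ 0 y).symm.trans hz
  | succ q ih =>
    intro F e
    obtain ⟨M, φ, hφ, eM, hH, -, hH'⟩ := exists_cover_embedding w hp hn hhb hbc hm F e
    let S := ShortComplex.mk φ (cokernel.π φ) (cokernel.condition φ)
    have hS : S.ShortExact := { exact := ShortComplex.exact_cokernel φ }
    have eQ : m • 𝟙 S.X₃ = 0 := nsmul_id_of_epi (cokernel.π φ) eM
    have hinj : q + 1 ≤ n + 1 → Function.Injective (EtCore.Hpull h F (q + 1)) := fun hq =>
      CompBC.injective_shift h hS (hH q) ((ih M eM).1 (by omega)).2 ((ih _ eQ).1 (by omega)).1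
    refine ⟨fun hq => ⟨hinj (by omega), ?_⟩, hinj⟩
    exact CompBC.surjective_shift h hS (hH' (q + 1) (by omega) hq) ((ih _ eQ).1 (by omega)).2

end Killed

section Colim

variable [CompactSpace X] [QuasiSeparatedSpace X] [CompactSpace Y] [QuasiSeparatedSpace Y]

/-- An `L`-torsion sheaf is the union of its subsheaves killed by `L`-numbers. -/
theorem isIso_desc (L : Set ℕ) (F : EtCoh.Ab X) (hF : EtAcyc.IsLTorsion L F) :
    IsIso (colimit.desc (TorsionInj.chain L F) (TorsionInj.chainCocone L F)) := by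
  let φ := colimit.desc (TorsionInj.chain L F) (TorsionInj.chainCocone L F)
  haveI : Mono φ := TorsionInj.mono_desc L F
  have h0 : cokernel.π φ = 0 := by
    apply Sheaf.hom_ext
    ext U s
    choose V g m hv hm hs using fun x => hF U.unop s x
    refine sections_ext (cokernel φ) V g (fun x => ⟨x, hv x⟩) _ _ fun x => ?_
    let k : AsSmall.{u} ℕ := AsSmall.up.obj (m x)
    have hy : (TorsionInj.mk L (m x) • 𝟙 F : F ⟶ F).hom.app (op (V x)) (F.obj.map (g x).op s) = 0 := by
      obtain ⟨c, hc⟩ := TorsionInj.dvd_mk L (hm x)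
      rw [TorsionInj.nsmul_app, hc, mul_comm, mul_nsmul', hs x, nsmul_zero]
    obtain ⟨z, hz⟩ := (ShortComplex.ab_exact_iff _).1
      ((ShortComplex.exact_of_f_is_kernel
          (ShortComplex.mk (kernel.ι (TorsionInj.mk L (m x) • 𝟙 F)) _ (kernel.condition _))
          (kernelIsKernel _)).map_of_mono_of_preservesKernel
        ((sheafSections X.smallEtaleTopology AddCommGrpCat.{u + 1}).obj (op (V x))) inferInstance
        inferInstance) _ hy
    have e1 : (cokernel φ).obj.map (g x).op ((cokernel.π φ).hom.app U s) =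
        (kernel.ι (TorsionInj.mk L (m x) • 𝟙 F) ≫ cokernel.π φ).hom.app (op (V x)) z := by
      refine (NatTrans.naturality_apply (cokernel.π φ).hom (g x).op s).symm.trans ?_
      exact congrArg ((cokernel.π φ).hom.app (op (V x))) hz.symm
    have e2 : kernel.ι (TorsionInj.mk L (m x) • 𝟙 F) ≫ cokernel.π φ = 0 := by
      refine (eq_whisker (colimit.ι_desc (TorsionInj.chainCocone L F) k).symm _).trans ?_
      exact (Category.assoc _ _ _).trans ((congrArg _ (cokernel.condition φ)).trans comp_zero)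
    refine e1.trans ?_
    rw [e2]
    exact (map_zero _).symm
  haveI : Epi φ := Preadditive.epi_of_isZero_cokernel φ
    (IsZero.of_epi_eq_zero (cokernel.π φ) h0)
  exact isIso_of_mono_of_epi φ

theorem Hpull_comp_factor {A B : EtCoh.Ab X} {C : EtCoh.Ab Y} (q : ℕ) (y : EtCoh.H X A q) (c : A ⟶ B)
    (c' : (EtCoh.pull h).obj A ⟶ C) (d : C ⟶ (EtCoh.pull h).obj B) (e : (EtCoh.pull h).map c = c' ≫ d) :
    EtCore.Hpull h B q (y.comp (Ext.mk₀ c) (add_zero q)) =
      ((EtCore.Hpull h A q y).comp (Ext.mk₀ c') (add_zero q)).comp (Ext.mk₀ d) (add_zero q) := by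
  rw [LowLeray.Hpull_comp, e, ← Ext.mk₀_comp_mk₀, ← Ext.comp_assoc_of_third_deg_zero]

theorem bijective_of_killed (L : Set ℕ) (q : ℕ) (F : EtCoh.Ab X) (hF : EtAcyc.IsLTorsion L F) :
    ((∀ k : ℕ, Function.Injective (EtCore.Hpull h ((TorsionInj.chain L F).obj (AsSmall.up.obj k)) q)) →
      Function.Injective (EtCore.Hpull h F q)) ∧
    ((∀ k : ℕ, Function.Surjective (EtCore.Hpull h ((TorsionInj.chain L F).obj (AsSmall.up.obj k)) q)) →
      Function.Surjective (EtCore.Hpull h F q)) := by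
  haveI := isIso_desc L F hF
  haveI : PreservesColimitsOfSize.{u, u} (EtCoh.pull h) :=
    (EtCoh.pullPushAdj h).leftAdjoint_preservesColimits
  let D := TorsionInj.chain L F
  let φ := colimit.desc D (TorsionInj.chainCocone L F)
  let i := preservesColimitIso (EtCoh.pull h) D
  have hι : ∀ k, (EtCoh.pull h).map (colimit.ι D k) ≫ i.hom =
      colimit.ι (D ⋙ EtCoh.pull h) k := fun k => ι_preservesColimitIso_hom (EtCoh.pull h) D k
  refine ⟨fun hk => ?_, fun hk x => ?_⟩
  · refine (injective_iff_map_eq_zero _).2 fun x hx => ?_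
    obtain ⟨x, rfl⟩ := (CompBC.bijective_comp_mk₀ φ q).2 x
    obtain ⟨k, y, rfl⟩ := (ExtColim.good ExtColim.global D q).1 x
    have h1 : (EtCore.Hpull h (D.obj k) q y).comp (Ext.mk₀ (colimit.ι (D ⋙ EtCoh.pull h) k))
        (add_zero q) = 0 := by
      rw [← hι, ← Ext.mk₀_comp_mk₀, ← Ext.comp_assoc_of_third_deg_zero, ← LowLeray.Hpull_comp]
      have : Function.Injective fun z : EtCoh.H Y ((EtCoh.pull h).obj (colimit D)) q =>
          z.comp (Ext.mk₀ ((EtCoh.pull h).map φ)) (add_zero q) := (CompBC.bijective_comp_mk₀ _ q).1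
      have h2 : EtCore.Hpull h (colimit D) q (ExtColim.map ExtColim.global (colimit.ι D k) q y) = 0 := by
        refine this ?_
        refine (LowLeray.Hpull_comp h φ q _).symm.trans (hx.trans ?_)
        simp
        rfl
      refine (congrArg (fun z => Ext.comp z (Ext.mk₀ i.hom) (add_zero q)) h2).trans ?_
      simp
    obtain ⟨l, a, ha⟩ := (ExtColim.good ExtColim.global (D ⋙ EtCoh.pull h) q).2 k
      (EtCore.Hpull h (D.obj k) q y) h1
    have h3 : y.comp (Ext.mk₀ (D.map a)) (add_zero q) = 0 := by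
      refine hk (AsSmall.down.obj l) ?_
      refine Eq.trans ?_ (map_zero _).symm
      exact (LowLeray.Hpull_comp h (D.map a) q y).trans ha
    change ((y.comp (Ext.mk₀ (colimit.ι D k)) (add_zero q)).comp (Ext.mk₀ φ) (add_zero q)) = 0
    rw [← colimit.w D a, ← Ext.mk₀_comp_mk₀, ← Ext.comp_assoc_of_third_deg_zero, h3, Ext.zero_comp,
      Ext.zero_comp]
  · obtain ⟨x', hx'⟩ := (CompBC.bijective_comp_mk₀ (i.inv ≫ (EtCoh.pull h).map φ) q).2 x
    obtain ⟨k, y, rfl⟩ := (ExtColim.good ExtColim.global (D ⋙ EtCoh.pull h) q).1 x'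
    obtain ⟨y, rfl⟩ := hk (AsSmall.down.obj k) y
    refine ⟨y.comp (Ext.mk₀ (colimit.ι D k ≫ φ)) (add_zero q), ?_⟩
    refine (Hpull_comp_factor q y (colimit.ι D k ≫ φ) (colimit.ι (D ⋙ EtCoh.pull h) k)
      (i.inv ≫ (EtCoh.pull h).map φ) ?_).trans hx'
    rw [Functor.map_comp, ← Category.assoc]
    exact eq_whisker ((Iso.eq_comp_inv i).2 (hι k)) _

/-- **Descent of the comparison condition.** -/
theorem compN {L : Set ℕ} {n : ℕ} (w : hb ≫ p = pY ≫ h) (hp : Function.Surjective p.base) (hn : 1 ≤ n)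
    (hhb : EtAcyc.CompN hb L n)
    (hbc : ∀ Fb : EtCoh.Ab Xb, EtAcyc.IsLTorsion L Fb → ∀ i : ℕ, i + 1 ≤ n →
      IsIso (EtBC.bcQ p h pY hb w i Fb)) :
    EtAcyc.CompN h L n := by
  intro F hF _
  have hk : ∀ (q k : ℕ),
      (q ≤ n → Function.Bijective (EtCore.Hpull h ((TorsionInj.chain L F).obj (AsSmall.up.obj k)) q)) ∧
      (q ≤ n + 1 → Function.Injective (EtCore.Hpull h ((TorsionInj.chain L F).obj (AsSmall.up.obj k)) q)) :=
    fun q k => main_killed w hp hn hhb hbc (TorsionInj.primesIn_mk L k) q _ (nsmul_id_kernel F _)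
  exact ⟨fun q hq => ⟨(bijective_of_killed L q F hF).1 fun k => ((hk q k).1 hq).1,
    (bijective_of_killed L q F hF).2 fun k => ((hk q k).1 hq).2⟩,
    (bijective_of_killed L (n + 1) F hF).1 fun k => (hk (n + 1) k).2 le_rfl⟩

end Colim

end Groth.Agent.Lib.EtSite.CompDescent
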