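import Groth.Agent.S2156
import Groth.Agent.H60.LinUniq.Total
import Groth.Agent.Lib.EtSite.Basic
import Groth.Agent.H2.Rigid.SmoothDense
import Groth.Agent.H75.BaseChange.OverField
import Groth.Agent.Lib.GrpSch.SepPoints
import Groth.Agent.Lib.Flat55.EtaleSlice
import Groth.Agent.H46.SectOpenFlat
import Groth.Agent.H46.GeomSpread.SectionCons
import Groth.Agent.H54.SectionComp
import Groth.Agent.Lib.Spectral.Constructible
import Mathlib.AlgebraicGeometry.Morphisms.UniversallyOpen
import Mathlib.AlgebraicGeometry.Geometrically.Reduced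

/-!
A flat morphism, locally of finite presentation, with geometrically reduced fibres factors, étale
locally on the source, through quasi-compact flat morphisms with connected geometric fibres over
schemes étale over the base.
-/

set_option autoImplicit false
set_option backward.isDefEq.respectTransparency false
set_option linter.style.haveILetI false

universe u

open CategoryTheory CategoryTheory.Limits AlgebraicGeometry Topology TopologicalSpace

noncomputable section

namespace Groth.Agent.Lib.EtSite.ConnCover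

/-- A nonempty smooth scheme over a field has a point with separable residue field. -/
theorem exists_sep_mem {k : Type u} [Field k] {X : Scheme.{u}} (f : X ⟶ Spec (CommRingCat.of k))
    [Smooth f] [Nonempty X] :
    ∃ (c : X) (φ : X.residueField c ⟶ CommRingCat.of (SeparableClosure k)),
      Spec.map φ ≫ X.fromSpecResidueField c ≫ f =
        Spec.map (CommRingCat.ofHom (algebraMap k (SeparableClosure k))) := by
  let g := Spec.map (CommRingCat.ofHom (algebraMap k (SeparableClosure k)))
  haveI : Nonempty ↥(pullback f g) := by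
    obtain ⟨x⟩ := ‹Nonempty X›
    obtain ⟨w, -, -⟩ := Scheme.Pullback.exists_preimage_pullback (f := f) (g := g) x
      (IsLocalRing.closedPoint (SeparableClosure k)) (Subsingleton.elim (α := PrimeSpectrum k) _ _)
    exact ⟨w⟩
  obtain ⟨t, ht⟩ := Lib.GrpSch.exists_section_of_smooth (pullback.snd f g)
  obtain ⟨⟨c, φ⟩, hφ⟩ := (Scheme.SpecToEquivOfField _ _).symm.surjective (t ≫ pullback.fst f g)
  refine ⟨c, φ, ?_⟩
  have hφ' : Spec.map φ ≫ X.fromSpecResidueField c = t ≫ pullback.fst f g := hφ
  rw [← Category.assoc, hφ', Category.assoc, pullback.condition, reassoc_of% ht]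

theorem isSeparable_of_factor {X S : Scheme.{u}} (f : X ⟶ S) (s : S) (c : X) (hfc : f c = s)
    (L : Type u) [Field L] [Algebra (S.residueField s) L] [Algebra.IsSeparable (S.residueField s) L]
    (φ : X.residueField c ⟶ CommRingCat.of L)
    (h : Spec.map φ ≫ X.fromSpecResidueField c ≫ f =
      Spec.map (CommRingCat.ofHom (algebraMap (S.residueField s) L)) ≫ S.fromSpecResidueField s) :
    @Algebra.IsSeparable (S.residueField (f c)) (X.residueField c) _ _ (f.residueFieldMap c).hom.toAlgebra := by
  subst hfc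
  rw [← f.SpecMap_residueFieldMap_fromSpecResidueField, ← Category.assoc, ← Spec.map_comp] at h
  have h' := Spec.map_injective ((cancel_mono (S.fromSpecResidueField (f c))).1 h)
  letI := (f.residueFieldMap c).hom.toAlgebra
  letI : Algebra (X.residueField c) L := φ.hom.toAlgebra
  haveI : IsScalarTower (S.residueField (f c)) (X.residueField c) L :=
    .of_algebraMap_eq fun r => (ConcreteCategory.congr_hom h' r).symm
  exact Algebra.isSeparable_tower_bot_of_isSeparable (S.residueField (f c)) (X.residueField c) L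

/-- Through every point of a flat morphism with geometrically reduced fibres there is, in an
irreducible component of its fibre, a point of the smooth locus with separable residue field. -/
theorem exists_sep_point {X S : Scheme.{u}} [IsAffine X] [IsAffine S] (f : X ⟶ S) [Flat f]
    [LocallyOfFinitePresentation f] [GeometricallyReduced f] (x : X) :
    ∃ η c : X, η ⤳ x ∧ η ⤳ c ∧ f η = f x ∧ f c = f x ∧ c ∈ f.smoothLocus ∧
      @Algebra.IsSeparable (S.residueField (f c)) (X.residueField c) _ _ (f.residueFieldMap c).hom.toAlgebra := by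
  classical
  let s := f x
  let F := f.fiber s
  let fF : F ⟶ Spec (S.residueField s) := f.fiberToSpecResidueField s
  let k : Type u := S.residueField s
  letI : F.Over (Spec (CommRingCat.of k)) := ⟨fF⟩
  haveI : LocallyOfFinitePresentation fF :=
    inferInstanceAs (LocallyOfFinitePresentation (pullback.snd f (S.fromSpecResidueField s)))
  haveI : LocallyOfFinitePresentation (F ↘ Spec (CommRingCat.of k)) := ‹LocallyOfFinitePresentation fF›
  haveI : GeometricallyReduced fF := inferInstanceAs (GeometricallyReduced (pullback.snd f (S.fromSpecResidueField s)))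
  haveI : GeometricallyReduced (F ↘ Spec (CommRingCat.of k)) := ‹GeometricallyReduced fF›
  haveI : AlgebraicGeometry.IsReduced F := GeometricallyReduced.geometrically_isReduced (f := f)
    (S.fromSpecResidueField s) _ _ (IsPullback.of_hasPullback _ _)
  haveI : IsLocallyNoetherian F := LocallyOfFiniteType.isLocallyNoetherian fF
  haveI : CompactSpace F := QuasiCompact.compactSpace_of_compactSpace fF
  haveI : IsNoetherian F := {}
  let a : F := f.asFiber x
  let Z := irreducibleComponent a
  have hfin := NoetherianSpace.finite_irreducibleComponents (α := F)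
  let O : Set F := (⋃₀ (irreducibleComponents F \ {Z}))ᶜ
  have hOo : IsOpen O := by
    show IsOpen (⋃₀ (irreducibleComponents F \ {Z}))ᶜ
    rw [Set.sUnion_eq_biUnion, isOpen_compl_iff]
    exact hfin.sdiff.isClosed_biUnion fun W hW => isClosed_of_mem_irreducibleComponents W hW.1
  have hOcl : closure O = Z :=
    closure_sUnion_irreducibleComponents_sdiff_singleton hfin _ (irreducibleComponent_mem_irreducibleComponents a)
  have hOne : O.Nonempty := by
    by_contra h
    rw [Set.not_nonempty_iff_eq_empty.1 h, closure_empty] at hOcl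
    exact (Set.notMem_empty a) (hOcl ▸ (mem_irreducibleComponent : a ∈ Z))
  obtain ⟨e, he⟩ := (H2.Rigid.SmoothDense.dense_smoothLocus k F).inter_open_nonempty O hOo hOne
  let U : F.Opens := fF.smoothLocus ⊓ ⟨O, hOo⟩
  haveI : Nonempty (U : Scheme.{u}) := ⟨⟨e, he.2, he.1⟩⟩
  haveI : Smooth (U.ι ≫ fF) := by
    rw [← Scheme.Hom.smoothLocus_eq_top_iff, ← Scheme.Hom.preimage_smoothLocus_eq]
    exact top_le_iff.1 fun z _ => z.2.1
  obtain ⟨c₀, φ, hφ⟩ := exists_sep_mem (k := k) (U.ι ≫ fF)
  let c := f.fiberι s (U.ι c₀)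
  have hfc : f c = s := by
    show (f.fiberι s ≫ f) (U.ι c₀) = s
    rw [show f.fiberι s ≫ f = fF ≫ S.fromSpecResidueField s from pullback.condition, Scheme.Hom.comp_apply]
    exact Scheme.fromSpecResidueField_apply _ _
  have hc : c ∈ f.smoothLocus := by
    refine (H75.BaseChange.mem_smoothLocus_snd_iff f (S.fromSpecResidueField s) (U.ι c₀) (Or.inl ?_)).mp c₀.2.1
    exact Flat.stalkMap f _
  let η₀ := isIrreducible_irreducibleComponent (x := a)
  obtain ⟨η, hη⟩ := QuasiSober.sober η₀ isClosed_irreducibleComponent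
  refine ⟨f.fiberι s η, c, ?_, ?_, ?_, hfc, hc, ?_⟩
  · have := (hη.specializes mem_irreducibleComponent).map (f.fiberι s).continuous
    rwa [f.fiberι_asFiber] at this
  · refine (hη.specializes ?_).map (f.fiberι s).continuous
    show U.ι c₀ ∈ Z
    rw [← hOcl]
    exact subset_closure c₀.2.2
  · show (f.fiberι s ≫ f) η = s
    rw [show f.fiberι s ≫ f = fF ≫ S.fromSpecResidueField s from pullback.condition, Scheme.Hom.comp_apply]
    exact Scheme.fromSpecResidueField_apply _ _
  · obtain ⟨⟨c', ψ⟩, hψ⟩ := (Scheme.SpecToEquivOfField _ _).symm.surjective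
      (Spec.map φ ≫ (U : Scheme.{u}).fromSpecResidueField c₀ ≫ U.ι ≫ f.fiberι s)
    have hψ' : Spec.map ψ ≫ X.fromSpecResidueField c' =
        Spec.map φ ≫ (U : Scheme.{u}).fromSpecResidueField c₀ ≫ U.ι ≫ f.fiberι s := hψ
    have hc' : c' = c := by
      have h1 := congrArg (fun q : Spec (CommRingCat.of (SeparableClosure k)) ⟶ X =>
        q (IsLocalRing.closedPoint (SeparableClosure k))) hψ'
      simpa only [Scheme.Hom.comp_apply, Scheme.fromSpecResidueField_apply] using h1
    subst hc'
    refine isSeparable_of_factor f s _ hfc (SeparableClosure k) ψ ?_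
    rw [← Category.assoc, hψ']
    simp only [Category.assoc]
    rw [show f.fiberι s ≫ f = fF ≫ S.fromSpecResidueField s from pullback.condition, ← hφ]
    simp only [Category.assoc]

theorem isIntegralHom_residueField {X S V : Scheme.{u}} (f : X ⟶ S) (τ : V ⟶ X) [IsPreimmersion τ] (p : V ⟶ S)
    (hτ : τ ≫ f = p) (v : V) (c : X) (hv : τ v = c)
    (hsep : @Algebra.IsSeparable (S.residueField (f c)) (X.residueField c) _ _ (f.residueFieldMap c).hom.toAlgebra) :
    IsIntegralHom (Spec.map (p.residueFieldMap v)) := by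
  subst hτ hv
  rw [Scheme.residueFieldMap_comp, Spec.map_comp]
  haveI : IsIso (τ.residueFieldMap v) := (ConcreteCategory.isIso_iff_bijective _).2
    ⟨(τ.residueFieldMap v).hom.injective, fun y => by
      obtain ⟨a, rfl⟩ := IsLocalRing.residue_surjective y
      obtain ⟨b, rfl⟩ := τ.stalkMap_surjective v a
      exact ⟨IsLocalRing.residue _ b, IsLocalRing.ResidueField.map_residue _ b⟩⟩
  haveI h1 : IsIntegralHom (Spec.map (f.residueFieldMap (τ v))) := by
    rw [HasAffineProperty.iff_of_isAffine (P := @IsIntegralHom)]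
    refine ⟨inferInstance, ?_⟩
    refine (RingHom.isIntegral_respectsIso.arrow_mk_iso_iff (arrowIsoΓSpecOfIsAffine (f.residueFieldMap (τ v)))).1 ?_
    letI := (f.residueFieldMap (τ v)).hom.toAlgebra
    intro z
    exact (Algebra.IsSeparable.isSeparable (S.residueField (f (τ v))) z).isIntegral
  infer_instance

set_option maxHeartbeats 1000000 in
/-- Through every point, an open subscheme of an étale base change with connected geometric fibres. -/
theorem exists_nhd {X S : Scheme.{u}} [IsAffine X] [IsAffine S] (f : X ⟶ S) [Flat f]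
    [LocallyOfFinitePresentation f] [GeometricallyReduced f] (x : X) :
    ∃ (V : Scheme.{u}) (p : V ⟶ S) (_ : Etale p) (_ : IsAffine V) (W : (pullback f p).Opens),
      IsCompact (W : Set ↑(pullback f p)) ∧ (∃ w ∈ W, pullback.fst f p w = x) ∧
      ∀ (Ω : Type u) [Field Ω] (s : Spec (CommRingCat.of Ω) ⟶ V),
        ConnectedSpace ↥(pullback (W.ι ≫ pullback.snd f p) s) := by
  classical
  obtain ⟨η, c, hηx, hηc, hfη, hfc, hc, hsep⟩ := exists_sep_point f x
  let X₁ := f.smoothLocus
  haveI : Smooth (X₁.ι ≫ f) := by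
    rw [← Scheme.Hom.smoothLocus_eq_top_iff, ← Scheme.Hom.preimage_smoothLocus_eq]
    exact top_le_iff.1 fun z _ => z.2
  let c₁ : (X₁ : Scheme.{u}) := ⟨c, hc⟩
  have hsep₁ : @Algebra.IsSeparable (S.residueField ((X₁.ι ≫ f) c₁)) ((X₁ : Scheme.{u}).residueField c₁) _ _
      ((X₁.ι ≫ f).residueFieldMap c₁).hom.toAlgebra := by
    letI aC : Algebra (S.residueField (f c)) (X.residueField c) := (f.residueFieldMap c).hom.toAlgebra
    letI a1 : Algebra (S.residueField (f c)) ((X₁ : Scheme.{u}).residueField c₁) :=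
      ((X₁.ι ≫ f).residueFieldMap c₁).hom.toAlgebra
    let e : X.residueField c ≃+* (X₁ : Scheme.{u}).residueField c₁ :=
      (asIso (X₁.ι.residueFieldMap c₁)).commRingCatIsoToRingEquiv
    let e' : X.residueField c ≃ₐ[S.residueField (f c)] (X₁ : Scheme.{u}).residueField c₁ :=
      AlgEquiv.ofRingEquiv (f := e) fun r =>
        (ConcreteCategory.congr_hom (Scheme.residueFieldMap_comp X₁.ι f c₁) r).symm
    haveI := hsep
    exact (AlgEquiv.Algebra.isSeparable e' : @Algebra.IsSeparable (S.residueField (f c)) ((X₁ : Scheme.{u}).residueField c₁) _ _ a1)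
  obtain ⟨Z, i, z, hi, het, hiz, -⟩ := Flat55.EtaleSlice.exists_slice (X₁.ι ≫ f) c₁ hsep₁
  haveI := hi; haveI := het
  obtain ⟨V₀, hV₀, hzV, -⟩ := exists_isAffineOpen_mem_and_subset (X := Z) (x := z) (U := ⊤) trivial
  let V : Scheme.{u} := V₀
  haveI : IsAffine V := hV₀
  let τ : V ⟶ X := V₀.ι ≫ i ≫ X₁.ι
  let p : V ⟶ S := τ ≫ f
  haveI : Etale p := by
    show Etale ((V₀.ι ≫ i ≫ X₁.ι) ≫ f)
    simp only [Category.assoc]
    infer_instance
  let v : V := ⟨z, hzV⟩
  have hτv : τ v = c := by
    simp only [τ, Scheme.Hom.comp_apply]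
    exact congrArg X₁.ι hiz
  have hpv : p v = f x := by
    rw [Scheme.Hom.comp_apply, hτv, hfc]
  let XV := pullback f p
  let fT : XV ⟶ V := pullback.snd f p
  let σ : V ⟶ XV := pullback.lift τ (𝟙 _) (by rw [Category.id_comp])
  have hσ : σ ≫ fT = 𝟙 _ := pullback.lift_snd _ _ _
  haveI : GeometricallyReduced fT := inferInstanceAs (GeometricallyReduced (pullback.snd f p))
  haveI : Flat fT := inferInstanceAs (Flat (pullback.snd f p))
  haveI : LocallyOfFinitePresentation fT := inferInstanceAs (LocallyOfFinitePresentation (pullback.snd f p))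
  haveI : IsAffine XV := inferInstanceAs (IsAffine (pullback f p))
  let W₀ : Set XV := MoreMor.sectionComponents fT σ
  have hWo : IsOpen W₀ := by
    rw [← subset_interior_iff_isOpen]
    intro w hw
    refine H46.SectOpenFlat.subset_interior fT σ hσ (fT w) (fun z _ K _ g q _ => ?_) hw
    haveI : AlgebraicGeometry.IsReduced (pullback fT g) :=
      GeometricallyReduced.geometrically_isReduced g _ _ (IsPullback.of_hasPullback fT g)
    infer_instance
  have hWc : IsCompact W₀ := by
    have h1 : IsConstructible W₀ :=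
      (H46.GeomSpread.isLocallyConstructible_sectionComponents fT σ hσ).isConstructible
    exact (Lib.Spectral.Constructible.isRetrocompact h1).isCompact
  refine ⟨V, p, inferInstance, inferInstance, ⟨W₀, hWo⟩, hWc, ?_, fun Ω _ s => ?_⟩
  · -- a point over `x` in the component of the section
    let sF := S.fromSpecResidueField (f x)
    let t : Spec (V.residueField v) ⟶ S := V.fromSpecResidueField v ≫ p
    let Q := pullback f t
    let m : Q ⟶ XV := pullback.lift (pullback.fst f t) (pullback.snd f t ≫ V.fromSpecResidueField v)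
      (by rw [pullback.condition, Category.assoc])
    have hm1 : m ≫ pullback.fst f p = pullback.fst f t := pullback.lift_fst _ _ _
    have hm2 : m ≫ fT = pullback.snd f t ≫ V.fromSpecResidueField v := pullback.lift_snd _ _ _
    have ht : t = Spec.map (p.residueFieldMap v) ≫ S.fromSpecResidueField (p v) :=
      (p.SpecMap_residueFieldMap_fromSpecResidueField v).symm
    haveI hint : IsIntegralHom (Spec.map (p.residueFieldMap v)) :=
      isIntegralHom_residueField f τ p rfl v c hτv hsep
    let π : Q ⟶ f.fiber (p v) := pullback.lift (pullback.fst f t) (pullback.snd f t ≫ Spec.map (p.residueFieldMap v))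
      (by rw [pullback.condition, Category.assoc, ← ht])
    have hπι : π ≫ f.fiberι (p v) = pullback.fst f t := pullback.lift_fst _ _ _
    have hπsq : IsPullback π (pullback.snd f t) (f.fiberToSpecResidueField (p v)) (Spec.map (p.residueFieldMap v)) := by
      refine IsPullback.of_right ?_ (pullback.lift_snd _ _ _) (IsPullback.of_hasPullback f (S.fromSpecResidueField (p v)))
      rw [show π ≫ pullback.fst f (S.fromSpecResidueField (p v)) = pullback.fst f t from pullback.lift_fst _ _ _, ← ht]
      exact IsPullback.of_hasPullback f t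
    haveI : Flat (Spec.map (p.residueFieldMap v)) := H46.GRAt.flat_specMap_field _
    haveI : Flat π := MorphismProperty.of_isPullback (P := @Flat) hπsq.flip ‹_›
    haveI : IsIntegralHom π := MorphismProperty.of_isPullback (P := @IsIntegralHom) hπsq.flip hint
    obtain ⟨pt⟩ : Nonempty ↥(Spec (V.residueField v)) := inferInstance
    obtain ⟨a, ha, -⟩ := Scheme.Pullback.exists_preimage_pullback (f := f) (g := t) c pt
      (by rw [Scheme.Hom.comp_apply, Scheme.fromSpecResidueField_apply, hpv, hfc])
    -- choose the preimage of `c` to be the value of the section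
    let a' : Spec (V.residueField v) ⟶ Q := pullback.lift (V.fromSpecResidueField v ≫ τ) (𝟙 _)
      (by rw [Category.assoc, Category.id_comp])
    have ha'm : m (a' pt) = σ v := by
      rw [← Scheme.Hom.comp_apply, show a' ≫ m = V.fromSpecResidueField v ≫ σ from ?_, Scheme.Hom.comp_apply,
        Scheme.fromSpecResidueField_apply]
      apply pullback.hom_ext
      · rw [Category.assoc, hm1, show a' ≫ pullback.fst f t = _ from pullback.lift_fst _ _ _, Category.assoc,
          show σ ≫ pullback.fst f p = τ from pullback.lift_fst _ _ _]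
      · show (a' ≫ m) ≫ fT = (V.fromSpecResidueField v ≫ σ) ≫ fT
        rw [Category.assoc, hm2, Category.assoc, hσ, ← Category.assoc,
          show a' ≫ pullback.snd f t = 𝟙 _ from pullback.lift_snd _ _ _, Category.id_comp, Category.comp_id]
    have hmem : ∀ y : X, f y = f x → ∃ y' : f.fiber (p v), f.fiberι (p v) y' = y := fun y hy =>
      (f.range_fiberι (p v)).ge (show f y = p v from hy.trans hpv.symm)
    obtain ⟨η₁, hη₁⟩ := hmem η hfη
    obtain ⟨x₁, hx₁⟩ := hmem x rfl
    have hspx : η₁ ⤳ x₁ := (f.fiberι (p v)).isEmbedding.isInducing.specializes_iff.1 (by rw [hη₁, hx₁]; exact hηx)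
    have hspc : η₁ ⤳ π (a' pt) := (f.fiberι (p v)).isEmbedding.isInducing.specializes_iff.1 (by
      rw [hη₁, ← Scheme.Hom.comp_apply π, hπι, ← Scheme.Hom.comp_apply,
        show a' ≫ pullback.fst f t = V.fromSpecResidueField v ≫ τ from pullback.lift_fst _ _ _,
        Scheme.Hom.comp_apply, Scheme.fromSpecResidueField_apply, hτv]
      exact hηc)
    obtain ⟨η₂, hη₂a, hη₂⟩ := Flat.generalizingMap π hspc
    obtain ⟨x₂, hη₂x, hx₂⟩ := π.isClosedMap.specializingMap (hη₂ ▸ hspx : π η₂ ⤳ x₁)
    have hfib : ∀ q : Q, fT (m q) = v := fun q => by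
      rw [← Scheme.Hom.comp_apply, hm2, Scheme.Hom.comp_apply]
      exact Scheme.fromSpecResidueField_apply _ _
    refine ⟨m x₂, ?_, ?_⟩
    · show m x₂ ∈ connectedComponentIn (fT ⁻¹' {fT (m x₂)}) (σ (fT (m x₂)))
      rw [hfib, ← ha'm]
      have hpre : _root_.IsPreconnected ({m (a' pt), m η₂, m x₂} : Set XV) := by
        refine isPreconnected_singleton.subset_closure (s := {m η₂}) (by simp) ?_
        rintro w (rfl | rfl | rfl)
        · exact (hη₂a.map m.continuous).mem_closure
        · exact subset_closure rfl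
        · exact (hη₂x.map m.continuous).mem_closure
      refine hpre.subset_connectedComponentIn (by simp) ?_ (by simp)
      rintro w (rfl | rfl | rfl) <;> exact hfib _
    · show pullback.fst f p (m x₂) = x
      rw [← Scheme.Hom.comp_apply, hm1, ← hπι, Scheme.Hom.comp_apply, hx₂, hx₁]
  · -- geometric fibres
    let P := pullback fT s
    let fP : P ⟶ Spec (CommRingCat.of Ω) := pullback.snd fT s
    let σP : Spec (CommRingCat.of Ω) ⟶ P :=
      pullback.lift (s ≫ σ) (𝟙 _) (by rw [Category.assoc, hσ, Category.comp_id, Category.id_comp])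
    have hWP : MoreMor.sectionComponents fP σP = pullback.fst fT s ⁻¹' W₀ :=
      H54.SectionComp.result fT σ hσ fP (pullback.fst fT s) s (IsPullback.of_hasPullback fT s) σP
        (pullback.lift_snd _ _ _) (pullback.lift_fst _ _ _)
    let p₀ : Spec (CommRingCat.of Ω) := IsLocalRing.closedPoint Ω
    let W : XV.Opens := ⟨W₀, hWo⟩
    let WP : P.Opens := pullback.fst fT s ⁻¹ᵁ W
    have hWP' : (WP : Set P) = connectedComponent (σP p₀) := by
      show pullback.fst fT s ⁻¹' W₀ = _
      rw [← hWP]
      ext b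
      show b ∈ connectedComponentIn (fP ⁻¹' {fP b}) (σP (fP b)) ↔ _
      rw [show fP ⁻¹' {fP b} = Set.univ from
          Set.eq_univ_of_forall fun _ => Subsingleton.elim (α := PrimeSpectrum Ω) _ _,
        connectedComponentIn_univ, Subsingleton.elim (α := PrimeSpectrum Ω) (fP b) p₀]
    haveI : ConnectedSpace (WP : Scheme.{u}) :=
      isConnected_iff_connectedSpace.1 (hWP' ▸ isConnected_connectedComponent : _root_.IsConnected (WP : Set P))
    let e : (WP : Scheme.{u}) ≅ pullback (W.ι ≫ fT) s :=
      ((isPullback_morphismRestrict (pullback.fst fT s) W).paste_vert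
        (IsPullback.of_hasPullback fT s)).isoPullback
    exact e.hom.homeomorph.surjective.connectedSpace e.hom.homeomorph.continuous

/-- Every étale scheme over `X` is covered by ones with a quasi-compact flat factorization with
connected geometric fibres over schemes étale over `S`. -/
theorem exists_cover {X S : Scheme.{u}} (f : X ⟶ S) [Flat f] [LocallyOfFinitePresentation f]
    [GeometricallyReduced f] (U : X.Etale) (y : U.left) :
    ∃ (Uc : X.Etale) (m : Uc ⟶ U) (V : S.Etale) (a : Uc.left ⟶ V.left),
      a ≫ V.hom = Uc.hom ≫ f ∧ QuasiCompact a ∧ Flat a ∧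
      (∀ (Ω : Type u) [Field Ω] (s : Spec (CommRingCat.of Ω) ⟶ V.left), ConnectedSpace ↥(pullback a s)) ∧
      ∃ z : Uc.left, m.left.base z = y := by
  haveI : Etale U.hom := U.prop
  obtain ⟨S₀, hS₀, hyS₀, -⟩ := exists_isAffineOpen_mem_and_subset (X := S) (x := f (U.hom y)) (U := ⊤) trivial
  obtain ⟨U₀, hU₀, hyU₀, hU₀S⟩ :=
    exists_isAffineOpen_mem_and_subset (X := U.left) (x := y) (U := (U.hom ≫ f) ⁻¹ᵁ S₀) hyS₀
  haveI : IsAffine (S₀ : Scheme.{u}) := hS₀
  haveI : IsAffine (U₀ : Scheme.{u}) := hU₀
  let f₀ : (U₀ : Scheme.{u}) ⟶ (S₀ : Scheme.{u}) := (U.hom ≫ f).resLE S₀ U₀ hU₀S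
  have hf₀ : f₀ ≫ S₀.ι = U₀.ι ≫ U.hom ≫ f := Scheme.Hom.resLE_comp_ι _ _
  haveI : Flat f₀ := inferInstanceAs (Flat ((U.hom ≫ f).resLE S₀ U₀ hU₀S))
  haveI : LocallyOfFinitePresentation f₀ :=
    inferInstanceAs (LocallyOfFinitePresentation ((U.hom ≫ f).resLE S₀ U₀ hU₀S))
  haveI : GeometricallyReduced f₀ := by
    refine ⟨fun K _ k P fst snd hP => ?_⟩
    have hP' : IsPullback fst snd (U₀.ι ≫ U.hom ≫ f) (k ≫ S₀.ι) := by
      rw [← hf₀]
      exact IsPullback.of_isLimit (PullbackCone.isLimitOfCompMono f₀ k S₀.ι _ hP.isLimit)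
    haveI : IsReduced (pullback f (k ≫ S₀.ι)) :=
      GeometricallyReduced.geometrically_isReduced (f := f) (k ≫ S₀.ι) _ _ (IsPullback.of_hasPullback _ _)
    have hsq : (fst ≫ U₀.ι ≫ U.hom) ≫ f = snd ≫ k ≫ S₀.ι := by
      simp only [Category.assoc]
      exact hP'.w
    let l : P ⟶ pullback f (k ≫ S₀.ι) := pullback.lift (fst ≫ U₀.ι ≫ U.hom) snd hsq
    have hl : IsPullback fst l (U₀.ι ≫ U.hom) (pullback.fst f (k ≫ S₀.ι)) := by
      refine IsPullback.of_bot ?_ (pullback.lift_fst _ _ _).symm (IsPullback.of_hasPullback f (k ≫ S₀.ι))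
      rw [pullback.lift_snd, Category.assoc]
      exact hP'
    haveI : Etale l := MorphismProperty.of_isPullback (P := @Etale) hl (inferInstance : Etale (U₀.ι ≫ U.hom))
    exact H60.LinUniq.isReduced_of_smooth_over l
  obtain ⟨V, p, hp, hV, W, hWc, ⟨w, hwW, hwy⟩, hconn⟩ := exists_nhd f₀ ⟨y, hyU₀⟩
  haveI := hp
  haveI := hV
  let m₀ : (W : Scheme.{u}) ⟶ U.left := W.ι ≫ pullback.fst f₀ p ≫ U₀.ι
  haveI : Etale (pullback.fst f₀ p) := MorphismProperty.pullback_fst _ _ hp
  haveI : Etale (m₀ ≫ U.hom) := inferInstance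
  haveI : Etale (p ≫ S₀.ι) := inferInstance
  let a : (W : Scheme.{u}) ⟶ V := W.ι ≫ pullback.snd f₀ p
  haveI : Flat a := inferInstanceAs (Flat (W.ι ≫ pullback.snd f₀ p))
  haveI : CompactSpace ↥(W : Scheme.{u}) := isCompact_iff_compactSpace.mp hWc
  haveI : QuasiCompact a := quasiCompact_of_compactSpace a
  refine ⟨Scheme.Etale.mk (m₀ ≫ U.hom), MorphismProperty.Over.homMk m₀ rfl trivial, Scheme.Etale.mk (p ≫ S₀.ι), a, ?_,
    ‹QuasiCompact a›, ‹Flat a›, hconn, ⟨w, hwW⟩, ?_⟩
  · show (W.ι ≫ pullback.snd f₀ p) ≫ p ≫ S₀.ι = ((W.ι ≫ pullback.fst f₀ p ≫ U₀.ι) ≫ U.hom) ≫ f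
    simp only [Category.assoc]
    rw [← pullback.condition_assoc, hf₀]
  · show m₀ _ = y
    simp only [m₀, Scheme.Hom.comp_apply]
    exact congrArg U₀.ι hwy

end Groth.Agent.Lib.EtSite.ConnCover
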