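import Groth.Prelude.Def_RDer

/-!
Abstract base change maps of right derived functors, `R^q Ψ G ⟶ Ψ' (R^q Φ' X)`, and their vertical
composition.
-/

set_option autoImplicit false
set_option backward.isDefEq.respectTransparency.types false

universe v₁ v₂ v₃ v₄ v₅ u₁ u₂ u₃ u₄ u₅

open CategoryTheory CategoryTheory.Limits HomologicalComplex

noncomputable section

namespace Groth.Agent.Lib.EtSite.DerivedBC

section Uniq

variable {A : Type u₁} [Category.{v₁} A] [Abelian A]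

/-- A map from a resolution into a complex of injectives vanishing on the augmentation is
null-homotopic. -/
def homotopyZero {Y : A} (I : InjectiveResolution Y) {L : CochainComplex A ℕ}
    [∀ n, Injective (L.X n)] (f : I.cocomplex ⟶ L) (comm : I.ι.f 0 ≫ f.f 0 = 0) : Homotopy f 0 :=
  let z0 : I.cocomplex.X 1 ⟶ L.X 0 := I.exact₀.descToInjective (f.f 0) comm
  have hz0 : I.cocomplex.d 0 1 ≫ z0 = f.f 0 := I.exact₀.comp_descToInjective _ _
  let z1 : I.cocomplex.X 2 ⟶ L.X 1 := (I.exact_succ 0).descToInjective (f.f 1 - z0 ≫ L.d 0 1) (by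
    rw [Preadditive.comp_sub, ← Category.assoc, hz0, HomologicalComplex.Hom.comm, sub_self])
  have hz1 : I.cocomplex.d 1 2 ≫ z1 = f.f 1 - z0 ≫ L.d 0 1 := (I.exact_succ 0).comp_descToInjective _ _
  Homotopy.mkCoinductive f z0 hz0.symm z1 (by rw [hz1]; abel) fun n p =>
    ⟨(I.exact_succ (n + 1)).descToInjective (f.f (n + 2) - p.2.1 ≫ L.d (n + 1) (n + 2)) (by
      dsimp
      rw [Preadditive.comp_sub, ← Category.assoc, eq_sub_of_add_eq' p.2.2.symm, Preadditive.sub_comp,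
        Category.assoc, HomologicalComplex.d_comp_d, comp_zero, sub_zero,
        HomologicalComplex.Hom.comm, sub_self]), by
      rw [(I.exact_succ (n + 1)).comp_descToInjective]; abel⟩

/-- Two maps from a resolution into a complex of injectives agreeing on the augmentation agree in
homology after any additive functor. -/
theorem homologyMap_map_eq {B : Type u₂} [Category.{v₂} B] [Abelian B] (Ψ : A ⥤ B) [Ψ.Additive]
    {Y : A} (I : InjectiveResolution Y) {L : CochainComplex A ℕ} [∀ n, Injective (L.X n)]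
    (g h : I.cocomplex ⟶ L) (e : I.ι.f 0 ≫ g.f 0 = I.ι.f 0 ≫ h.f 0) (q : ℕ) :
    (homologyFunctor B (ComplexShape.up ℕ) q).map ((Ψ.mapHomologicalComplex _).map g) =
      (homologyFunctor B (ComplexShape.up ℕ) q).map ((Ψ.mapHomologicalComplex _).map h) :=
  (Ψ.mapHomotopy (Homotopy.equivSubZero.invFun (homotopyZero I (g - h) (by
    rw [HomologicalComplex.sub_f_apply, Preadditive.comp_sub, e, sub_self])))).homologyMap_eq q

/-- The degree zero component of a mapped augmentation. -/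
theorem mapAug_f_zero {B : Type u₂} [Category.{v₂} B] [Abelian B] (Φ : A ⥤ B) [Φ.Additive] {Y : A} {I : CochainComplex A ℕ} (ι : (CochainComplex.single₀ A).obj Y ⟶ I) :
    (RDer.mapAug Φ ι).f 0 = Φ.map (ι.f 0) := by
  simp [RDer.mapAug, singleObjXSelf, singleMapHomologicalComplex_inv_app_self]
  rw [show (singleObjXIsoOfEq (ComplexShape.up ℕ) 0 (Φ.obj Y) 0 rfl).hom = 𝟙 (Φ.obj Y) from rfl,
    show (singleObjXIsoOfEq (ComplexShape.up ℕ) 0 Y 0 rfl).inv = 𝟙 Y from rfl]
  simp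
  exact Category.id_comp _

end Uniq

section Natural

set_option backward.isDefEq.respectTransparency false

variable {B : Type u₂} [Category.{v₂} B] [Abelian B] {C : Type u₃} [Category.{v₃} C] [Abelian C]
  {D : Type u₄} [Category.{v₄} D] [Abelian D]
  {ι' : Type*} {c : ComplexShape ι'}

theorem cyclesComparison_natural (Ψ : B ⥤ C) [Ψ.Additive] [PreservesFiniteLimits Ψ]
    {K L : HomologicalComplex B c} (φ : K ⟶ L) (i : ι') :
    cyclesMap ((Ψ.mapHomologicalComplex c).map φ) i ≫ RDer.cyclesComparison Ψ L i =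
      RDer.cyclesComparison Ψ K i ≫ Ψ.map (cyclesMap φ i) := by
  refine (cancel_mono (Ψ.map (L.iCycles i))).1 ?_
  refine ((Category.assoc _ _ _).trans ((_ ≫= RDer.cyclesComparison_i Ψ L i).trans
    (cyclesMap_i ((Ψ.mapHomologicalComplex c).map φ) i))).trans ?_
  refine Eq.trans ?_ (Category.assoc _ _ _).symm
  refine Eq.trans ?_ (_ ≫= ((congrArg Ψ.map (cyclesMap_i φ i)).symm.trans (Ψ.map_comp _ _)))
  refine Eq.trans ?_ (_ ≫= (Ψ.map_comp _ _)).symm
  exact (RDer.cyclesComparison_i_assoc Ψ K i (Ψ.map (φ.f i))).symm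

theorem cyclesComparison_app {Ψ Ψ' : B ⥤ C} [Ψ.Additive] [PreservesFiniteLimits Ψ] [Ψ'.Additive]
    [PreservesFiniteLimits Ψ'] (δ : Ψ ⟶ Ψ') (K : HomologicalComplex B c) (i : ι') :
    cyclesMap ((NatTrans.mapHomologicalComplex δ c).app K) i ≫ RDer.cyclesComparison Ψ' K i =
      RDer.cyclesComparison Ψ K i ≫ δ.app (K.cycles i) := by
  refine (cancel_mono (Ψ'.map (K.iCycles i))).1 ?_
  refine ((Category.assoc _ _ _).trans ((_ ≫= RDer.cyclesComparison_i Ψ' K i).trans
    (cyclesMap_i ((NatTrans.mapHomologicalComplex δ c).app K) i))).trans ?_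
  refine Eq.trans ?_ (Category.assoc _ _ _).symm
  refine Eq.trans ?_ (_ ≫= δ.naturality (K.iCycles i))
  exact (RDer.cyclesComparison_i_assoc Ψ K i (δ.app (K.X i))).symm

/-- Naturality of the homology comparison in the complex. -/
theorem homologyComparison_natural (Ψ : B ⥤ C) [Ψ.Additive] [PreservesFiniteLimits Ψ]
    {K L : HomologicalComplex B c} (φ : K ⟶ L) (i : ι') :
    (homologyFunctor C c i).map ((Ψ.mapHomologicalComplex c).map φ) ≫ RDer.homologyComparison Ψ L i =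
      RDer.homologyComparison Ψ K i ≫ Ψ.map ((homologyFunctor B c i).map φ) := by
  change homologyMap _ i ≫ _ = _
  refine (cancel_epi (((Ψ.mapHomologicalComplex c).obj K).homologyπ i)).1 ?_
  simp only [homologyFunctor_map, homologyπ_naturality_assoc, RDer.homologyπ_homologyComparison,
    RDer.homologyπ_homologyComparison_assoc]
  rw [← Category.assoc, cyclesComparison_natural, Category.assoc, ← Ψ.map_comp, ← Ψ.map_comp,
    homologyπ_naturality]

/-- Naturality of the homology comparison in the functor. -/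
theorem homologyComparison_app {Ψ Ψ' : B ⥤ C} [Ψ.Additive] [PreservesFiniteLimits Ψ] [Ψ'.Additive]
    [PreservesFiniteLimits Ψ'] (δ : Ψ ⟶ Ψ') (K : HomologicalComplex B c) (i : ι') :
    (homologyFunctor C c i).map ((NatTrans.mapHomologicalComplex δ c).app K) ≫
        RDer.homologyComparison Ψ' K i =
      RDer.homologyComparison Ψ K i ≫ δ.app (K.homology i) := by
  change homologyMap _ i ≫ _ = _
  rw [← cancel_epi (((Ψ.mapHomologicalComplex c).obj K).homologyπ i)]
  simp only [homologyFunctor_map, homologyπ_naturality_assoc, RDer.homologyπ_homologyComparison,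
    RDer.homologyπ_homologyComparison_assoc]
  rw [← Category.assoc, cyclesComparison_app, Category.assoc, δ.naturality]

theorem cyclesComparison_comp (Ψ : B ⥤ C) [Ψ.Additive] [PreservesFiniteLimits Ψ] (Ω : C ⥤ D)
    [Ω.Additive] [PreservesFiniteLimits Ω] [(Ψ ⋙ Ω).Additive] [PreservesFiniteLimits (Ψ ⋙ Ω)]
    (K : HomologicalComplex B c) (i : ι') :
    RDer.cyclesComparison (Ψ ⋙ Ω) K i =
      RDer.cyclesComparison Ω ((Ψ.mapHomologicalComplex c).obj K) i ≫
        Ω.map (RDer.cyclesComparison Ψ K i) := by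
  refine (cancel_mono ((Ψ ⋙ Ω).map (K.iCycles i))).1 ?_
  rw [RDer.cyclesComparison_i, Category.assoc, Functor.comp_map]
  refine Eq.trans ?_ (_ ≫= Ω.map_comp _ _)
  rw [RDer.cyclesComparison_i]
  exact (RDer.cyclesComparison_i Ω ((Ψ.mapHomologicalComplex c).obj K) i).symm

/-- The homology comparison of a composite. -/
theorem homologyComparison_comp (Ψ : B ⥤ C) [Ψ.Additive] [PreservesFiniteLimits Ψ] (Ω : C ⥤ D)
    [Ω.Additive] [PreservesFiniteLimits Ω] [(Ψ ⋙ Ω).Additive] [PreservesFiniteLimits (Ψ ⋙ Ω)]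
    (K : HomologicalComplex B c) (i : ι') :
    RDer.homologyComparison (Ψ ⋙ Ω) K i =
      RDer.homologyComparison Ω ((Ψ.mapHomologicalComplex c).obj K) i ≫
        Ω.map (RDer.homologyComparison Ψ K i) := by
  refine (cancel_epi ((((Ψ ⋙ Ω).mapHomologicalComplex c).obj K).homologyπ i)).1 ?_
  rw [RDer.homologyπ_homologyComparison, cyclesComparison_comp]
  refine Eq.trans ?_ (RDer.homologyπ_homologyComparison_assoc Ω
    ((Ψ.mapHomologicalComplex c).obj K) i _).symm
  rw [Functor.comp_map, Category.assoc, ← Ω.map_comp, ← Ω.map_comp,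
    RDer.homologyπ_homologyComparison]

end Natural

section BC

variable {A : Type u₁} [Category.{v₁} A] [Abelian A] [HasInjectiveResolutions A]
  {B : Type u₂} [Category.{v₂} B] [Abelian B] [HasInjectiveResolutions B]
  {C : Type u₃} [Category.{v₃} C] [Abelian C]
  {D : Type u₄} [Category.{v₄} D] [Abelian D]
  {Φ : A ⥤ B} [Φ.Additive] [Φ.PreservesInjectiveObjects] {Ψ : B ⥤ C} [Ψ.Additive]
  {Φ' : A ⥤ D} [Φ'.Additive] {Ψ' : D ⥤ C} [Ψ'.Additive] [PreservesFiniteLimits Ψ']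

/-- The derived base change map attached to a transformation `Φ ⋙ Ψ ⟶ Φ' ⋙ Ψ'` and a map
`a : G ⟶ Φ X`. -/
def bcMor (α : Φ ⋙ Ψ ⟶ Φ' ⋙ Ψ') {G : B} {X : A} (a : G ⟶ Φ.obj X) (q : ℕ) :
    (Ψ.rightDerived q).obj G ⟶ Ψ'.obj ((Φ'.rightDerived q).obj X) :=
  (Ψ.rightDerived q).map a ≫ RDer.edgeIn Φ Ψ q X ≫ (NatTrans.rightDerived α q).app X ≫
    RDer.edgeOut Φ' Ψ' q X

/-- The derived base change map computed from any lift of `a` to resolutions. -/
theorem bcMor_eq (α : Φ ⋙ Ψ ⟶ Φ' ⋙ Ψ') {G : B} {X : A} (a : G ⟶ Φ.obj X) (q : ℕ)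
    (I : InjectiveResolution G)
    (φ : I.cocomplex ⟶ (Φ.mapHomologicalComplex _).obj (injectiveResolution X).cocomplex)
    (hφ : I.ι.f 0 ≫ φ.f 0 = a ≫ (RDer.mapAug Φ (injectiveResolution X).ι).f 0) :
    bcMor α a q = (I.isoRightDerivedObj Ψ q).hom ≫
      (homologyFunctor C (ComplexShape.up ℕ) q).map ((Ψ.mapHomologicalComplex _).map φ ≫
        (NatTrans.mapHomologicalComplex α _).app (injectiveResolution X).cocomplex) ≫
      RDer.homologyComparison Ψ' ((Φ'.mapHomologicalComplex _).obj (injectiveResolution X).cocomplex) q ≫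
      Ψ'.map ((injectiveResolution X).isoRightDerivedObj Φ' q).inv := by
  let R := injectiveResolution (Φ.obj X)
  let J := injectiveResolution X
  let d := InjectiveResolution.desc a R I
  have hd : I.ι.f 0 ≫ d.f 0 = a ≫ R.ι.f 0 := InjectiveResolution.desc_commutes_zero a R I
  let φ₀ := RDer.descToInjectives (𝟙 (Φ.obj X)) R.cocomplex R.ι
    ((Φ.mapHomologicalComplex _).obj J.cocomplex) (RDer.mapAug Φ J.ι)
  have h0 : R.ι.f 0 ≫ φ₀.f 0 = (RDer.mapAug Φ J.ι).f 0 :=
    (RDer.ι_descToInjectives_f_zero (𝟙 (Φ.obj X)) R.cocomplex R.ι _ (RDer.mapAug Φ J.ι)).trans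
      (Category.id_comp _)
  have key := homologyMap_map_eq Ψ I (d ≫ φ₀) φ
    ((Category.assoc _ _ _).symm.trans ((congrArg (· ≫ φ₀.f 0) hd).trans
      ((Category.assoc _ _ _).trans ((a ≫= h0).trans hφ.symm)))) q
  rw [Functor.map_comp, Functor.map_comp] at key
  rw [bcMor, RDer.edgeIn, RDer.edgeOut, InjectiveResolution.rightDerived_app_eq α J q]
  simp only [Category.assoc]
  refine (InjectiveResolution.isoRightDerivedObj_hom_naturality_assoc a I R d hd Ψ q _).trans ?_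
  refine congrArg (_ ≫ ·) ?_
  refine ((_ ≫= (_ ≫= (Iso.inv_hom_id_assoc _ _).trans
    (_ ≫= Iso.inv_hom_id_assoc _ _)))).trans ?_
  refine (Category.assoc _ _ _).symm.trans ((eq_whisker key _).trans ?_)
  refine (Category.assoc _ _ _).symm.trans ?_
  exact eq_whisker ((homologyFunctor C (ComplexShape.up ℕ) q).map_comp _ _).symm _

/-- A lift of `a` to resolutions. -/
def lift (Φ : A ⥤ B) [Φ.Additive] [Φ.PreservesInjectiveObjects] {G : B} {X : A} (a : G ⟶ Φ.obj X) :
    (injectiveResolution G).cocomplex ⟶ (Φ.mapHomologicalComplex _).obj (injectiveResolution X).cocomplex :=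
  RDer.descToInjectives a (injectiveResolution G).cocomplex (injectiveResolution G).ι _
    (RDer.mapAug Φ (injectiveResolution X).ι)

theorem lift_spec (Φ : A ⥤ B) [Φ.Additive] [Φ.PreservesInjectiveObjects] {G : B} {X : A}
    (a : G ⟶ Φ.obj X) :
    (injectiveResolution G).ι.f 0 ≫ (lift Φ a).f 0 =
      a ≫ (RDer.mapAug Φ (injectiveResolution X).ι).f 0 :=
  RDer.ι_descToInjectives_f_zero a _ _ _ _

/-- Change of the object `X`. -/
theorem bcMor_map (α : Φ ⋙ Ψ ⟶ Φ' ⋙ Ψ') {G : B} {X X' : A} (a : G ⟶ Φ.obj X) (θ : X ⟶ X') (q : ℕ) :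
    bcMor α a q ≫ Ψ'.map ((Φ'.rightDerived q).map θ) = bcMor α (a ≫ Φ.map θ) q := by
  let J := injectiveResolution X
  let J' := injectiveResolution X'
  let d := InjectiveResolution.desc θ J' J
  have hd : J.ι.f 0 ≫ d.f 0 = θ ≫ J'.ι.f 0 := InjectiveResolution.desc_commutes_zero θ J' J
  rw [bcMor_eq α a q _ (lift Φ a) (lift_spec Φ a),
    bcMor_eq α (a ≫ Φ.map θ) q _ (lift Φ a ≫ (Φ.mapHomologicalComplex _).map d) (by
      rw [HomologicalComplex.comp_f, reassoc_of% lift_spec Φ a]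
      change (a ≫ (RDer.mapAug Φ J.ι).f 0) ≫ Φ.map (d.f 0) = (a ≫ Φ.map θ) ≫ (RDer.mapAug Φ J'.ι).f 0
      rw [mapAug_f_zero, mapAug_f_zero]
      exact (Category.assoc _ _ _).trans ((a ≫= ((Φ.map_comp _ _).symm.trans
        ((congrArg Φ.map hd).trans (Φ.map_comp _ _)))).trans (Category.assoc _ _ _).symm))]
  simp only [Category.assoc, ← Ψ'.map_comp]
  have h1 : (J.isoRightDerivedObj Φ' q).inv ≫ (Φ'.rightDerived q).map θ =
      (homologyFunctor D (ComplexShape.up ℕ) q).map ((Φ'.mapHomologicalComplex _).map d) ≫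
        (J'.isoRightDerivedObj Φ' q).inv := by
    rw [Iso.inv_comp_eq, Functor.rightDerived_map_eq Φ' q θ d (by
      apply HomologicalComplex.from_single_hom_ext
      simpa using hd)]
    rfl
  refine congrArg (_ ≫ ·) ((_ ≫= (_ ≫= (congrArg Ψ'.map h1).trans (Ψ'.map_comp _ _))).trans ?_)
  refine (_ ≫= (Category.assoc _ _ _).symm.trans ((eq_whisker
    (homologyComparison_natural Ψ' ((Φ'.mapHomologicalComplex _).map d) q).symm _).trans
      (Category.assoc _ _ _))).trans ?_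
  refine (Category.assoc _ _ _).symm.trans (eq_whisker ?_ _)
  refine ((homologyFunctor C (ComplexShape.up ℕ) q).map_comp _ _).symm.trans (congrArg _ ?_)
  refine (Category.assoc _ _ _).trans ?_
  refine Eq.trans ?_ (eq_whisker ((Ψ.mapHomologicalComplex _).map_comp _ _).symm _)
  refine Eq.trans ?_ (Category.assoc _ _ _).symm
  exact _ ≫= ((NatTrans.mapHomologicalComplex α _).naturality d).symm

/-- Change of the functors. -/
theorem bcMor_iso {Φ₂ : A ⥤ B} [Φ₂.Additive] [Φ₂.PreservesInjectiveObjects]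
    {Ψ₂ : D ⥤ C} [Ψ₂.Additive] [PreservesFiniteLimits Ψ₂]
    (α : Φ ⋙ Ψ ⟶ Φ' ⋙ Ψ') (α₂ : Φ₂ ⋙ Ψ ⟶ Φ' ⋙ Ψ₂) (γ : Φ ⟶ Φ₂) (δ : Ψ' ⟶ Ψ₂)
    (h : ∀ X, α.app X ≫ δ.app (Φ'.obj X) = Ψ.map (γ.app X) ≫ α₂.app X)
    {G : B} {X : A} (a : G ⟶ Φ.obj X) (q : ℕ) :
    bcMor α a q ≫ δ.app _ = bcMor α₂ (a ≫ γ.app X) q := by
  let J := injectiveResolution X
  rw [bcMor_eq α a q _ (lift Φ a) (lift_spec Φ a),
    bcMor_eq α₂ (a ≫ γ.app X) q _ (lift Φ a ≫ (NatTrans.mapHomologicalComplex γ _).app J.cocomplex) (by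
      rw [HomologicalComplex.comp_f, reassoc_of% lift_spec Φ a]
      change (a ≫ (RDer.mapAug Φ J.ι).f 0) ≫ γ.app _ = (a ≫ γ.app X) ≫ (RDer.mapAug Φ₂ J.ι).f 0
      rw [mapAug_f_zero, mapAug_f_zero]
      exact (Category.assoc _ _ _).trans ((a ≫= γ.naturality _).trans (Category.assoc _ _ _).symm))]
  simp only [Category.assoc]
  refine congrArg (_ ≫ ·) ((_ ≫= (_ ≫= δ.naturality _)).trans ?_)
  refine (_ ≫= (Category.assoc _ _ _).symm.trans ((eq_whisker
    (homologyComparison_app δ ((Φ'.mapHomologicalComplex _).obj J.cocomplex) q).symm _).trans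
      (Category.assoc _ _ _))).trans ?_
  refine (Category.assoc _ _ _).symm.trans (eq_whisker ?_ _)
  refine ((homologyFunctor C (ComplexShape.up ℕ) q).map_comp _ _).symm.trans (congrArg _ ?_)
  refine (Category.assoc _ _ _).trans ?_
  refine Eq.trans ?_ (eq_whisker ((Ψ.mapHomologicalComplex _).map_comp _ _).symm _)
  refine Eq.trans ?_ (Category.assoc _ _ _).symm
  refine congrArg (_ ≫ ·) ?_
  ext n
  exact h _

variable {E : Type u₅} [Category.{v₅} E] [Abelian E]

/-- Vertical composition. -/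
theorem bcMor_comp {A' : Type u₁} [Category.{v₁} A'] [Abelian A'] [HasInjectiveResolutions A']
    [HasInjectiveResolutions D] {Φk : A' ⥤ A} [Φk.Additive] [Φk.PreservesInjectiveObjects]
    {Φj : A' ⥤ E} [Φj.Additive] {Ψi : E ⥤ D} [Ψi.Additive] [PreservesFiniteLimits Ψi]
    [(Φk ⋙ Φ).PreservesInjectiveObjects] [PreservesFiniteLimits (Ψi ⋙ Ψ')]
    (α : Φ ⋙ Ψ ⟶ Φ' ⋙ Ψ') (α' : Φk ⋙ Φ' ⟶ Φj ⋙ Ψi) (β : (Φk ⋙ Φ) ⋙ Ψ ⟶ Φj ⋙ Ψi ⋙ Ψ')
    (hβ : ∀ X, β.app X = α.app (Φk.obj X) ≫ Ψ'.map (α'.app X))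
    {G : B} {X : A} {H : A'} (a : G ⟶ Φ.obj X) (a' : X ⟶ Φk.obj H) (q : ℕ) :
    bcMor α a q ≫ Ψ'.map (bcMor α' a' q) =
      bcMor (Φ := Φk ⋙ Φ) (Ψ' := Ψi ⋙ Ψ') β (a ≫ Φ.map a') q := by
  let K := injectiveResolution H
  have hφ : (injectiveResolution G).ι.f 0 ≫ (lift Φ a).f 0 ≫ Φ.map ((lift Φk a').f 0) =
      (a ≫ Φ.map a') ≫ (RDer.mapAug (Φk ⋙ Φ) K.ι).f 0 := by
    refine (Category.assoc _ _ _).symm.trans ((eq_whisker (lift_spec Φ a) _).trans ?_)
    rw [mapAug_f_zero, mapAug_f_zero]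
    refine (Category.assoc _ _ _).trans (Eq.trans ?_ (Category.assoc _ _ _).symm)
    refine a ≫= ((Φ.map_comp _ _).symm.trans ((congrArg Φ.map ?_).trans (Φ.map_comp _ _)))
    exact (lift_spec Φk a').trans (a' ≫= mapAug_f_zero Φk K.ι)
  rw [bcMor_eq α a q _ (lift Φ a) (lift_spec Φ a),
    bcMor_eq α' a' q _ (lift Φk a') (lift_spec Φk a'),
    bcMor_eq (Φ := Φk ⋙ Φ) (Ψ' := Ψi ⋙ Ψ') β (a ≫ Φ.map a') q _
      (lift Φ a ≫ (Φ.mapHomologicalComplex _).map (lift Φk a')) hφ]
  simp only [Category.assoc]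
  refine congrArg (_ ≫ ·) ((_ ≫= (_ ≫= (Ψ'.map_comp _ _).symm.trans
    ((congrArg Ψ'.map (Iso.inv_hom_id_assoc _ _)).trans (Ψ'.map_comp _ _)))).trans ?_)
  refine (_ ≫= (Category.assoc _ _ _).symm.trans ((eq_whisker
    (homologyComparison_natural Ψ' ((Φ'.mapHomologicalComplex _).map (lift Φk a') ≫
      (NatTrans.mapHomologicalComplex α' _).app K.cocomplex) q).symm _).trans
      (Category.assoc _ _ _))).trans ?_
  refine (Category.assoc _ _ _).symm.trans (congrArg₂ (· ≫ ·) ?_ ?_)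
  · refine ((homologyFunctor C (ComplexShape.up ℕ) q).map_comp _ _).symm.trans (congrArg _ ?_)
    ext n
    have e1 := α.naturality ((lift Φk a').f n)
    change (Ψ.map ((lift Φ a).f n) ≫ α.app _) ≫ Ψ'.map (Φ'.map ((lift Φk a').f n) ≫ α'.app _) =
      Ψ.map ((lift Φ a).f n ≫ Φ.map ((lift Φk a').f n)) ≫ β.app _
    rw [hβ]
    refine (_ ≫= Ψ'.map_comp _ _).trans ?_
    refine Eq.trans ?_ (eq_whisker (Ψ.map_comp _ _).symm _)
    refine (Category.assoc _ _ _).trans ((_ ≫= (Category.assoc _ _ _).symm).trans ?_)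
    refine (_ ≫= eq_whisker e1.symm _).trans ?_
    exact (_ ≫= Category.assoc _ _ _).trans (Category.assoc _ _ _).symm
  · refine Eq.trans ?_ (eq_whisker (homologyComparison_comp Ψi Ψ'
      ((Φj.mapHomologicalComplex _).obj K.cocomplex) q).symm _)
    exact (_ ≫= Ψ'.map_comp _ _).trans (Category.assoc _ _ _).symm

end BC

end Groth.Agent.Lib.EtSite.DerivedBC
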