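import Groth.Agent.Lib.EtSite.DerivedBC
import Mathlib.CategoryTheory.Adjunction.Additive

/-!
The transpose of the derived base change map is an isomorphism when the inverse image functors are
exact, the upper one preserves injectives, and the degree zero map is invertible on injectives.
-/

set_option autoImplicit false

universe v₁ v₂ v₃ v₄ u₁ u₂ u₃ u₄

open CategoryTheory CategoryTheory.Limits HomologicalComplex

noncomputable section

namespace Groth.Agent.Lib.EtSite.DerivedBC

section Exact

variable {B : Type u₂} [Category.{v₂} B] [Abelian B] {C : Type u₃} [Category.{v₃} C] [Abelian C]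
  {ι' : Type*} {c : ComplexShape ι'}

theorem cyclesComparison_id (K : HomologicalComplex B c) (i : ι') :
    RDer.cyclesComparison (𝟭 B) K i = 𝟙 (K.cycles i) := by
  refine (cancel_mono (K.iCycles i)).1 ?_
  refine ((RDer.cyclesComparison_i (𝟭 B) K i).trans ?_).trans (Category.id_comp _).symm
  rfl

theorem homologyComparison_id (K : HomologicalComplex B c) (i : ι') :
    RDer.homologyComparison (𝟭 B) K i = 𝟙 (K.homology i) := by
  refine (cancel_epi (K.homologyπ i)).1 ?_
  refine (RDer.homologyπ_homologyComparison (𝟭 B) K i).trans ?_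
  rw [cyclesComparison_id]
  exact (Category.id_comp _).trans (Category.comp_id _).symm

theorem isIso_cyclesComparison (Ψ : B ⥤ C) [Ψ.Additive] [PreservesFiniteLimits Ψ]
    (K : HomologicalComplex B c) (i : ι') : IsIso (RDer.cyclesComparison Ψ K i) :=
  (IsLimit.conePointUniqueUpToIso (((Ψ.mapHomologicalComplex c).obj K).cyclesIsKernel i (c.next i) rfl)
    (KernelFork.mapIsLimit _ (K.cyclesIsKernel i (c.next i) rfl) Ψ)).isIso_hom

theorem isIso_homologyComparison (Ψ : B ⥤ C) [Ψ.Additive] [PreservesFiniteLimits Ψ]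
    [PreservesFiniteColimits Ψ] (K : HomologicalComplex B c) (i : ι') :
    IsIso (RDer.homologyComparison Ψ K i) := by
  have := isIso_cyclesComparison Ψ K i
  let hK := CokernelCofork.mapIsColimit _ (K.homologyIsCokernel (c.prev i) i rfl) Ψ
  obtain ⟨back, hback⟩ := CokernelCofork.IsColimit.desc' hK
    (inv (RDer.cyclesComparison Ψ K i) ≫ ((Ψ.mapHomologicalComplex c).obj K).homologyπ i) (by
      rw [← Category.assoc, ← RDer.toCycles_cyclesComparison]
      refine eq_whisker (IsIso.eq_comp_inv _ |>.2 rfl).symm _ |>.trans ?_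
      exact toCycles_comp_homologyπ _ _ _)
  have hback' : Ψ.map (K.homologyπ i) ≫ back =
      inv (RDer.cyclesComparison Ψ K i) ≫ ((Ψ.mapHomologicalComplex c).obj K).homologyπ i := hback
  refine ⟨back, ?_, ?_⟩
  · refine (cancel_epi (((Ψ.mapHomologicalComplex c).obj K).homologyπ i)).1 ?_
    refine (RDer.homologyπ_homologyComparison_assoc Ψ K i back).trans ?_
    rw [hback', IsIso.hom_inv_id_assoc]
    exact (Category.comp_id _).symm
  · haveI : Epi (Ψ.map (K.homologyπ i)) := epi_of_isColimit_cofork hK
    refine (cancel_epi (Ψ.map (K.homologyπ i))).1 ?_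
    rw [← Category.assoc, hback', Category.assoc, RDer.homologyπ_homologyComparison,
      IsIso.inv_hom_id_assoc]
    exact (Category.comp_id _).symm

/-- The transpose of a comparison map. -/
theorem homologyComparison_counit {F : B ⥤ C} {G : C ⥤ B} (adj : F ⊣ G) [F.Additive] [G.Additive]
    [PreservesFiniteLimits F] [PreservesFiniteLimits G] {K : HomologicalComplex B c}
    {L : HomologicalComplex C c} (x : K ⟶ (G.mapHomologicalComplex c).obj L) (i : ι') :
    RDer.homologyComparison F K i ≫
        (adj.homEquiv (K.homology i) (L.homology i)).symm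
          ((homologyFunctor B c i).map x ≫ RDer.homologyComparison G L i) =
      (homologyFunctor C c i).map ((F.mapHomologicalComplex c).map x ≫
        (NatTrans.mapHomologicalComplex adj.counit c).app L) := by
  have : PreservesFiniteLimits (G ⋙ F) := comp_preservesFiniteLimits G F
  rw [Adjunction.homEquiv_counit, Functor.map_comp, Category.assoc]
  refine (Category.assoc _ _ _).symm.trans
    ((eq_whisker (homologyComparison_natural F x i).symm _).trans ?_)
  refine (Category.assoc _ _ _).trans ?_
  refine Eq.trans ?_ ((homologyFunctor C c i).map_comp _ _).symm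
  refine congrArg (_ ≫ ·) ?_
  refine (Category.assoc _ _ _).symm.trans ((eq_whisker (homologyComparison_comp G F L i).symm _).trans ?_)
  refine (homologyComparison_app adj.counit L i).symm.trans ?_
  exact (_ ≫= homologyComparison_id L i).trans (Category.comp_id _)

end Exact

variable {A : Type u₁} [Category.{v₁} A] [Abelian A] [HasInjectiveResolutions A]
  {B : Type u₂} [Category.{v₂} B] [Abelian B] [HasInjectiveResolutions B]
  {C : Type u₃} [Category.{v₃} C] [Abelian C]
  {D : Type u₄} [Category.{v₄} D] [Abelian D]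
  {Φ : A ⥤ B} [Φ.Additive] [Φ.PreservesInjectiveObjects] {Ψ : B ⥤ C} [Ψ.Additive]
  {Φ' : A ⥤ D} [Φ'.Additive] {Ψ' : D ⥤ C} [Ψ'.Additive] [PreservesFiniteLimits Ψ']
  {Φl : B ⥤ A} [Φl.Additive] [PreservesFiniteLimits Φl] [Φl.PreservesInjectiveObjects]
  [PreservesFiniteColimits Φl]
  {Ψl : C ⥤ D} [Ψl.Additive] [PreservesFiniteLimits Ψl] [PreservesFiniteColimits Ψl]

/-- Criterion for the transposed derived base change map to be an isomorphism. -/
theorem isIso_transpose_bcMor (aΦ : Φl ⊣ Φ) (aΨ : Ψl ⊣ Ψ') (α : Φ ⋙ Ψ ⟶ Φ' ⋙ Ψ')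
    (h : ∀ I : B, Injective I →
      IsIso ((aΨ.homEquiv (Ψ.obj I) (Φ'.obj (Φl.obj I))).symm
        (Ψ.map (aΦ.unit.app I) ≫ α.app (Φl.obj I))))
    (G : B) (q : ℕ) :
    IsIso ((aΨ.homEquiv _ _).symm (bcMor α (aΦ.unit.app G) q)) := by
  let I := injectiveResolution G
  let X := Φl.obj G
  let J := injectiveResolution X
  let R : InjectiveResolution X :=
    { cocomplex := (Φl.mapHomologicalComplex (ComplexShape.up ℕ)).obj I.cocomplex
      injective := fun n => Φl.injective_obj (I.cocomplex.X n)
      ι := RDer.mapAug Φl I.ι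
      quasiIso := by
        have : QuasiIso ((Φl.mapHomologicalComplex (ComplexShape.up ℕ)).map I.ι) := inferInstance
        dsimp only [RDer.mapAug]
        infer_instance }
  let e : R.cocomplex ⟶ J.cocomplex := (InjectiveResolution.homotopyEquiv R J).hom
  have he : R.ι.f 0 ≫ e.f 0 = J.ι.f 0 :=
    (InjectiveResolution.desc_commutes_zero (𝟙 X) J R).trans (Category.id_comp _)
  let φ : I.cocomplex ⟶ (Φ.mapHomologicalComplex _).obj J.cocomplex :=
    { f := fun n => aΦ.unit.app (I.cocomplex.X n) ≫ Φ.map (e.f n)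
      comm' := fun i j _ => by
        refine (Category.assoc _ _ _).trans ((_ ≫= ((Φ.map_comp _ _).symm.trans
          ((congrArg Φ.map (e.comm i j)).trans (Φ.map_comp _ _)))).trans ?_)
        exact ((Category.assoc _ _ _).symm.trans (eq_whisker (aΦ.unit.naturality (I.cocomplex.d i j)).symm _)).trans
          (Category.assoc _ _ _) }
  have hφ : I.ι.f 0 ≫ φ.f 0 = aΦ.unit.app G ≫ (RDer.mapAug Φ J.ι).f 0 := by
    rw [mapAug_f_zero]
    change I.ι.f 0 ≫ aΦ.unit.app (I.cocomplex.X 0) ≫ Φ.map (e.f 0) = _
    refine (Category.assoc _ _ _).symm.trans ((eq_whisker (aΦ.unit.naturality _) _).trans ?_)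
    refine (Category.assoc _ _ _).trans (congrArg (_ ≫ ·) ?_)
    refine (Φ.map_comp _ _).symm.trans (congrArg Φ.map ?_)
    exact (eq_whisker (mapAug_f_zero Φl I.ι).symm _).trans he
  rw [bcMor_eq α (aΦ.unit.app G) q I φ hφ]
  rw [Adjunction.homEquiv_naturality_left_symm]
  refine @IsIso.comp_isIso _ _ _ _ _ _ _ inferInstance ?_
  rw [← Category.assoc, Adjunction.homEquiv_naturality_right_symm]
  refine @IsIso.comp_isIso _ _ _ _ _ _ _ ?_ inferInstance
  let x := (Ψ.mapHomologicalComplex _).map φ ≫
    (NatTrans.mapHomologicalComplex α (ComplexShape.up ℕ)).app J.cocomplex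
  have := isIso_homologyComparison Ψl ((Ψ.mapHomologicalComplex _).obj I.cocomplex) q
  refine @IsIso.of_isIso_fac_left _ _ _ _ _ (RDer.homologyComparison Ψl _ q) _ _ _ ?_
    (homologyComparison_counit aΨ (L := (Φ'.mapHomologicalComplex _).obj J.cocomplex) x q)
  let b : (Ψl.mapHomologicalComplex _).obj ((Ψ.mapHomologicalComplex _).obj I.cocomplex) ⟶
      (Φ'.mapHomologicalComplex _).obj R.cocomplex :=
    { f := fun n => (aΨ.homEquiv (Ψ.obj (I.cocomplex.X n)) (Φ'.obj (Φl.obj (I.cocomplex.X n)))).symm
        (Ψ.map (aΦ.unit.app (I.cocomplex.X n)) ≫ α.app (Φl.obj (I.cocomplex.X n)))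
      comm' := fun i j _ => by
        change _ ≫ Φ'.map (Φl.map (I.cocomplex.d i j)) = Ψl.map (Ψ.map (I.cocomplex.d i j)) ≫ _
        rw [← Adjunction.homEquiv_naturality_right_symm, ← Adjunction.homEquiv_naturality_left_symm]
        refine congrArg _ ?_
        refine (Category.assoc _ _ _).trans ((_ ≫= (α.naturality _).symm).trans ?_)
        refine (Category.assoc _ _ _).symm.trans ((eq_whisker ?_ _).trans (Category.assoc _ _ _))
        refine (Ψ.map_comp _ _).symm.trans (Eq.trans ?_ (Ψ.map_comp _ _))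
        exact congrArg Ψ.map (aΦ.unit.naturality _).symm }
  have hb : (Ψl.mapHomologicalComplex _).map x ≫
      (NatTrans.mapHomologicalComplex aΨ.counit _).app ((Φ'.mapHomologicalComplex _).obj J.cocomplex) =
      b ≫ (Φ'.mapHomologicalComplex _).map e := by
    ext n
    change Ψl.map (Ψ.map (aΦ.unit.app (I.cocomplex.X n) ≫ Φ.map (e.f n)) ≫ α.app (J.cocomplex.X n)) ≫
        aΨ.counit.app _ = (aΨ.homEquiv _ _).symm _ ≫ Φ'.map (e.f n)
    refine (aΨ.homEquiv_counit _ _ _).symm.trans ?_
    refine Eq.trans ?_ (aΨ.homEquiv_naturality_right_symm _ _)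
    refine congrArg (aΨ.homEquiv _ _).symm ?_
    refine (eq_whisker (Ψ.map_comp _ _) _).trans ?_
    exact (Category.assoc _ _ _).trans ((_ ≫= α.naturality (e.f n)).trans (Category.assoc _ _ _).symm)
  refine (congrArg (fun z => IsIso ((homologyFunctor D (ComplexShape.up ℕ) q).map z)) hb).mpr ?_
  refine (congrArg IsIso ((homologyFunctor D (ComplexShape.up ℕ) q).map_comp b
    ((Φ'.mapHomologicalComplex _).map e))).mpr ?_
  have : IsIso b :=
    haveI : ∀ n, IsIso (b.f n) := fun n => h _ (I.injective n)
    HomologicalComplex.Hom.isIso_of_components b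
  exact @IsIso.comp_isIso _ _ _ _ _ _ _ inferInstance
    ((Φ'.mapHomotopyEquiv (InjectiveResolution.homotopyEquiv R J)).toHomologyIso q).isIso_hom

end Groth.Agent.Lib.EtSite.DerivedBC
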