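import Groth.Agent.Lib.EtSite.DerivedBCSeq

/-!
The image of a base change map one degree above the range where base change holds.
-/

set_option autoImplicit false
set_option linter.style.haveILetI false
set_option linter.unusedSectionVars false
set_option backward.isDefEq.respectTransparency.types false

universe v₁ v₂ v₃ v₄ u₁ u₂ u₃ u₄

open CategoryTheory CategoryTheory.Limits HomologicalComplex

noncomputable section

namespace Groth.Agent.Lib.EtSite.DerivedBC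

open Groth.Agent.Lib.RDer.Horseshoe (aug)

theorem exact_precomp {C : Type*} [Category C] [Abelian C] {W X Y Z : C} (p : W ⟶ X) [Epi p]
    (f : X ⟶ Y) (g : Y ⟶ Z) (w : f ≫ g = 0) :
    (ShortComplex.mk f g w).Exact ↔
      (ShortComplex.mk (p ≫ f) g (by rw [Category.assoc, w, comp_zero])).Exact := by
  let φ : ShortComplex.mk (p ≫ f) g (by rw [Category.assoc, w, comp_zero]) ⟶ ShortComplex.mk f g w :=
    { τ₁ := p
      τ₂ := 𝟙 _
      τ₃ := 𝟙 _ }
  exact (ShortComplex.exact_iff_of_epi_of_isIso_of_mono φ).symm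

variable {A : Type u₁} [Category.{v₁} A] [Abelian A] [HasInjectiveResolutions A]
  {B : Type u₂} [Category.{v₂} B] [Abelian B] [HasInjectiveResolutions B]
  {C : Type u₃} [Category.{v₃} C] [Abelian C]
  {D : Type u₄} [Category.{v₄} D] [Abelian D]
  {Φ : A ⥤ B} [Φ.Additive] [Φ.PreservesInjectiveObjects] {Ψ : B ⥤ C} [Ψ.Additive]
  {Φ' : A ⥤ D} [Φ'.Additive] {Ψ' : D ⥤ C} [Ψ'.Additive] [PreservesFiniteLimits Ψ']
  {Ψl : C ⥤ D} [Ψl.Additive] [PreservesFiniteLimits Ψl] [PreservesFiniteColimits Ψl]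
  (aΨ : Ψl ⊣ Ψ') (α : Φ ⋙ Ψ ⟶ Φ' ⋙ Ψ')

/-- The transposed base change map through `bcChain`, as an equation. -/
theorem transpose_eq {G : B} {X : A} (a : G ⟶ Φ.obj X) (I : InjectiveResolution G)
    (J : InjectiveResolution X) (φ : I.cocomplex ⟶ (Φ.mapHomologicalComplex _).obj J.cocomplex)
    (hφ : aug I ≫ φ.f 0 = a ≫ Φ.map (aug J)) (q : ℕ) :
    ∃ (u : Ψl.obj ((Ψ.rightDerived q).obj G) ⟶
        ((Ψl.mapHomologicalComplex _).obj ((Ψ.mapHomologicalComplex _).obj I.cocomplex)).homology q),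
      IsIso u ∧ (aΨ.homEquiv _ _).symm (bcMor α a q) =
        u ≫ homologyMap (bcChain aΨ α φ) q ≫ (J.isoRightDerivedObj Φ' q).inv := by
  let J₀ := injectiveResolution X
  let e : J.cocomplex ⟶ J₀.cocomplex := (InjectiveResolution.homotopyEquiv J J₀).hom
  have he : aug J ≫ e.f 0 = aug J₀ :=
    (InjectiveResolution.desc_commutes_zero (𝟙 X) J₀ J).trans (Category.id_comp _)
  let φ₀ := φ ≫ (Φ.mapHomologicalComplex _).map e
  have hφ₀ : I.ι.f 0 ≫ φ₀.f 0 = a ≫ (RDer.mapAug Φ J₀.ι).f 0 := by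
    rw [mapAug_f_zero]
    refine (Category.assoc _ _ _).symm.trans ((eq_whisker hφ _).trans ?_)
    exact (Category.assoc _ _ _).trans (a ≫= ((Φ.map_comp _ _).symm.trans (congrArg Φ.map he)))
  have hnat := bcChain_natural aΨ α φ φ₀ (𝟙 _) e (Category.id_comp _)
  haveI := isIso_homologyComparison Ψl ((Ψ.mapHomologicalComplex _).obj I.cocomplex) q
  refine ⟨Ψl.map (I.isoRightDerivedObj Ψ q).hom ≫
    @CategoryTheory.inv _ _ _ _ (RDer.homologyComparison Ψl ((Ψ.mapHomologicalComplex _).obj I.cocomplex) q)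
      (isIso_homologyComparison Ψl _ q), inferInstance, ?_⟩
  rw [bcMor_eq α a q I φ₀ hφ₀, Adjunction.homEquiv_naturality_left_symm]
  refine Eq.trans ?_ (Category.assoc _ _ _).symm
  refine congrArg (_ ≫ ·) ?_
  rw [← Category.assoc, Adjunction.homEquiv_naturality_right_symm, IsIso.eq_inv_comp]
  let x := (Ψ.mapHomologicalComplex _).map φ₀ ≫
    (NatTrans.mapHomologicalComplex α (ComplexShape.up ℕ)).app J₀.cocomplex
  refine (Category.assoc _ _ _).symm.trans ((eq_whisker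
    (homologyComparison_counit aΨ (L := (Φ'.mapHomologicalComplex _).obj J₀.cocomplex) x q) _).trans ?_)
  have h2 : bcChain aΨ α φ₀ = bcChain aΨ α φ ≫ (Φ'.mapHomologicalComplex _).map e := by
    rw [hnat]
    simp
  refine ((congrArg (fun m => homologyMap m q) h2).trans (homologyMap_comp _ _ q) =≫ _).trans ?_
  refine (Category.assoc _ _ _).trans (congrArg (_ ≫ ·) ?_)
  have hn := Groth.Agent.Lib.RDer.Connecting.cmp_natural Φ' (f := 𝟙 X) J J₀ (φ := e)
    (he.trans (Category.id_comp _).symm) q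
  rw [CategoryTheory.Functor.map_id, Category.id_comp] at hn
  rw [Iso.comp_inv_eq, Iso.eq_inv_comp]
  exact hn.symm

variable {Φl : B ⥤ A} (aΦ : Φl ⊣ Φ) [PreservesFiniteLimits Φl] [PreservesFiniteColimits Φl]
  [Φl.Additive]

theorem exact_bcT {S : ShortComplex B} (hS : S.ShortExact) (q : ℕ)
    (hz : IsZero ((Ψ.rightDerived (q + 1)).obj S.X₂)) (h3 : Epi (bcT aΨ α aΦ S.X₃ q)) :
    ∃ w : bcT aΨ α aΦ S.X₁ (q + 1) ≫ (Φ'.rightDerived (q + 1)).map (Φl.map S.f) = 0,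
      (ShortComplex.mk (bcT aΨ α aΦ S.X₁ (q + 1))
        ((Φ'.rightDerived (q + 1)).map (Φl.map S.f)) w).Exact := by
  obtain ⟨T⟩ := Groth.Agent.Lib.RDer.Horseshoe.nonempty_sesRes hS
  obtain ⟨T'⟩ := Groth.Agent.Lib.RDer.Horseshoe.nonempty_sesRes (hS.map_of_exact Φl)
  obtain ⟨f₁, f₂, f₃, h12, h23, e₁, e₂, e₃⟩ := exists_lifts aΦ hS T T'
  let M₁ := Ψ.mapHomologicalComplex (ComplexShape.up ℕ) ⋙ Ψl.mapHomologicalComplex (ComplexShape.up ℕ)
  have hA : (T.cx.map M₁).ShortExact := (T.map_shortExact Ψ).map_of_exact (Ψl.mapHomologicalComplex _)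
  have hB : (T'.cx.map (Φ'.mapHomologicalComplex (ComplexShape.up ℕ))).ShortExact := T'.map_shortExact Φ'
  let ψ : T.cx.map M₁ ⟶ T'.cx.map (Φ'.mapHomologicalComplex (ComplexShape.up ℕ)) :=
    { τ₁ := bcChain aΨ α f₁
      τ₂ := bcChain aΨ α f₂
      τ₃ := bcChain aΨ α f₃
      comm₁₂ := bcChain_natural aΨ α f₁ f₂ T.f T'.f h12.symm
      comm₂₃ := bcChain_natural aΨ α f₂ f₃ T.g T'.g h23.symm }
  have hδ := HomologicalComplex.HomologySequence.δ_naturality ψ hA hB q (q + 1) rfl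
  haveI := isIso_homologyComparison Ψl ((Ψ.mapHomologicalComplex _).obj T.I₂.cocomplex) (q + 1)
  have hA2 : IsZero ((T.cx.map M₁).X₂.homology (q + 1)) :=
    IsZero.of_iso (Ψl.map_isZero (hz.of_iso (T.I₂.isoRightDerivedObj Ψ (q + 1)).symm))
      (@asIso _ _ _ _ (RDer.homologyComparison Ψl ((Ψ.mapHomologicalComplex _).obj T.I₂.cocomplex) (q + 1))
        ‹_›)
  haveI : Epi (hA.δ q (q + 1) rfl) := (hA.homology_exact₁ q (q + 1) rfl).epi_f (hA2.eq_of_tgt _ _)
  haveI : Epi (homologyMap ψ.τ₃ q) :=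
    (prop_transpose_iff aΨ α (aΦ.unit.app S.X₃) T.I₃ T'.I₃ f₃ e₃ q (MorphismProperty.epimorphisms D)).1 h3
  have exB := hB.homology_exact₁ q (q + 1) rfl
  have w₁ : homologyMap ψ.τ₁ (q + 1) ≫
      homologyMap (T'.cx.map (Φ'.mapHomologicalComplex (ComplexShape.up ℕ))).f (q + 1) = 0 := by
    rw [← cancel_epi (hA.δ q (q + 1) rfl), ← Category.assoc, hδ, Category.assoc, hB.δ_comp, comp_zero,
      comp_zero]
  have ex₁ : (ShortComplex.mk _ _ w₁).Exact := by
    rw [exact_precomp (hA.δ q (q + 1) rfl)]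
    simp only [hδ]
    exact (exact_precomp (homologyMap ψ.τ₃ q) _ _ _).1 exB
  obtain ⟨u, hu, he⟩ := transpose_eq aΨ α (aΦ.unit.app S.X₁) T.I₁ T'.I₁ f₁ e₁ (q + 1)
  have hn := Groth.Agent.Lib.RDer.Connecting.map_natural Φ' T'.I₁ T'.I₂ T'.ι_f (q + 1)
  let K₁ := T'.I₁.isoRightDerivedObj Φ' (q + 1)
  let K₂ := T'.I₂.isoRightDerivedObj Φ' (q + 1)
  have he' : bcT aΨ α aΦ S.X₁ (q + 1) = u ≫ homologyMap ψ.τ₁ (q + 1) ≫ K₁.inv := he
  have hn' : K₁.inv ≫ (Φ'.rightDerived (q + 1)).map (Φl.map S.f) =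
      homologyMap (T'.cx.map (Φ'.mapHomologicalComplex (ComplexShape.up ℕ))).f (q + 1) ≫ K₂.inv := by
    rw [Iso.inv_comp_eq]
    exact (Iso.eq_comp_inv K₂).2 hn |>.trans (Category.assoc _ _ _)
  have w : bcT aΨ α aΦ S.X₁ (q + 1) ≫ (Φ'.rightDerived (q + 1)).map (Φl.map S.f) = 0 := by
    refine (eq_whisker he' _).trans ?_
    refine (Category.assoc _ _ _).trans ((_ ≫= (Category.assoc _ _ _).trans (_ ≫= hn')).trans ?_)
    exact (_ ≫= ((Category.assoc _ _ _).symm.trans ((eq_whisker w₁ _).trans zero_comp))).trans comp_zero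
  refine ⟨w, ?_⟩
  let φ : ShortComplex.mk _ _ w ⟶ ShortComplex.mk _ _ w₁ :=
    { τ₁ := u
      τ₂ := K₁.hom
      τ₃ := K₂.hom
      comm₁₂ := by
        refine Eq.symm ((eq_whisker he' _).trans ?_)
        exact ((Category.assoc _ _ _).trans (_ ≫= (Category.assoc _ _ _).trans
          ((_ ≫= K₁.inv_hom_id).trans (Category.comp_id _))))
      comm₂₃ := hn.symm }
  haveI : Epi φ.τ₁ := @IsIso.epi_of_iso _ _ _ _ u hu
  haveI : IsIso φ.τ₂ := inferInstanceAs (IsIso K₁.hom)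
  haveI : Mono φ.τ₃ := inferInstanceAs (Mono K₂.hom)
  exact (ShortComplex.exact_iff_of_epi_of_isIso_of_mono φ).2 ex₁

end Groth.Agent.Lib.EtSite.DerivedBC
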