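import Groth.Agent.Lib.EtSite.DerivedBCAdj

/-!
Horizontal composition of derived base change maps with exact direct images.
-/

set_option autoImplicit false
set_option linter.style.haveILetI false
set_option backward.isDefEq.respectTransparency.types false

universe v₁ v₂ v₃ v₄ v₅ v₆ u₁ u₂ u₃ u₄ u₅ u₆

open CategoryTheory CategoryTheory.Limits HomologicalComplex

noncomputable section

namespace Groth.Agent.Lib.EtSite.DerivedBC

section Cmp

variable {A : Type u₁} [Category.{v₁} A] [Abelian A] [HasInjectiveResolutions A]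
  {B : Type u₂} [Category.{v₂} B] [Abelian B] {C : Type u₃} [Category.{v₃} C] [Abelian C]
  {Φ : A ⥤ B} [Φ.Additive] {Ω : B ⥤ C} [Ω.Additive] [PreservesFiniteLimits Ω]
  {Φ₂ : A ⥤ C} [Φ₂.Additive]

/-- The comparison `R^q Φ₂ ⟶ Ω ∘ R^q Φ` attached to `Φ₂ ⟶ Φ ⋙ Ω`. -/
def outMor (ε : Φ₂ ⟶ Φ ⋙ Ω) (q : ℕ) (X : A) (I : InjectiveResolution X) :
    (Φ₂.rightDerived q).obj X ⟶ Ω.obj ((Φ.rightDerived q).obj X) :=
  (I.isoRightDerivedObj Φ₂ q).hom ≫
    (homologyFunctor C (ComplexShape.up ℕ) q).map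
      ((NatTrans.mapHomologicalComplex ε _).app I.cocomplex) ≫
    RDer.homologyComparison Ω ((Φ.mapHomologicalComplex _).obj I.cocomplex) q ≫
    Ω.map (I.isoRightDerivedObj Φ q).inv

theorem isIso_outMor (ε : Φ₂ ⟶ Φ ⋙ Ω) [∀ Y, IsIso (ε.app Y)] [PreservesFiniteColimits Ω] (q : ℕ)
    (X : A) (I : InjectiveResolution X) : IsIso (outMor ε q X I) := by
  haveI := isIso_homologyComparison Ω ((Φ.mapHomologicalComplex _).obj I.cocomplex) q
  haveI : ∀ n, IsIso (((NatTrans.mapHomologicalComplex ε (ComplexShape.up ℕ)).app I.cocomplex).f n) :=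
    fun n => inferInstanceAs (IsIso (ε.app _))
  haveI : IsIso ((NatTrans.mapHomologicalComplex ε (ComplexShape.up ℕ)).app I.cocomplex) :=
    HomologicalComplex.Hom.isIso_of_components _
  dsimp only [outMor]
  refine @IsIso.comp_isIso _ _ _ _ _ _ _ inferInstance (@IsIso.comp_isIso _ _ _ _ _ _ _ ?_
    (@IsIso.comp_isIso _ _ _ _ _ _ _ ‹_› inferInstance))
  exact Functor.map_isIso _ _

end Cmp

section Horiz

variable {A : Type u₁} [Category.{v₁} A] [Abelian A] [HasInjectiveResolutions A]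
  {B : Type u₂} [Category.{v₂} B] [Abelian B] [HasInjectiveResolutions B]
  {C : Type u₃} [Category.{v₃} C] [Abelian C]
  {D : Type u₄} [Category.{v₄} D] [Abelian D]
  {C₂ : Type u₅} [Category.{v₅} C₂] [Abelian C₂]
  {D₂ : Type u₆} [Category.{v₆} D₂] [Abelian D₂]
  {Φ : A ⥤ B} [Φ.Additive] [Φ.PreservesInjectiveObjects] {Ψ : B ⥤ C} [Ψ.Additive]
  {Φ' : A ⥤ D} [Φ'.Additive] {Ψ' : D ⥤ C} [Ψ'.Additive] [PreservesFiniteLimits Ψ']
  {Ω : C ⥤ C₂} [Ω.Additive] [PreservesFiniteLimits Ω]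
  {Ω' : D ⥤ D₂} [Ω'.Additive] [PreservesFiniteLimits Ω']
  {Ψ₀ : D₂ ⥤ C₂} [Ψ₀.Additive] [PreservesFiniteLimits Ψ₀]
  {Ψ₂ : B ⥤ C₂} [Ψ₂.Additive] {Φ₂ : A ⥤ D₂} [Φ₂.Additive]
  [PreservesFiniteLimits (Ψ' ⋙ Ω)] [PreservesFiniteLimits (Ω' ⋙ Ψ₀)]

/-- Horizontal composition. -/
theorem bcMor_horiz (α : Φ ⋙ Ψ ⟶ Φ' ⋙ Ψ') (α₂ : Φ ⋙ Ψ₂ ⟶ Φ₂ ⋙ Ψ₀) (ε : Ψ₂ ⟶ Ψ ⋙ Ω)
    (ε' : Φ₂ ⟶ Φ' ⋙ Ω') (δ : Ψ' ⋙ Ω ⟶ Ω' ⋙ Ψ₀)
    (h : ∀ Y, α₂.app Y ≫ Ψ₀.map (ε'.app Y) =
      ε.app (Φ.obj Y) ≫ Ω.map (α.app Y) ≫ δ.app (Φ'.obj Y))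
    {G : B} {X : A} (a : G ⟶ Φ.obj X) (q : ℕ) :
    bcMor α₂ a q ≫ Ψ₀.map (outMor ε' q X (injectiveResolution X)) =
      outMor ε q G (injectiveResolution G) ≫ Ω.map (bcMor α a q) ≫ δ.app _ := by
  let I := injectiveResolution G
  let J := injectiveResolution X
  let φ := lift Φ a
  rw [bcMor_eq α₂ a q I φ (lift_spec Φ a), bcMor_eq α a q I φ (lift_spec Φ a)]
  dsimp only [outMor]
  simp only [Category.assoc]
  refine congrArg (_ ≫ ·) ?_
  set L := (Φ'.mapHomologicalComplex (ComplexShape.up ℕ)).obj J.cocomplex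
  set H := homologyFunctor C₂ (ComplexShape.up ℕ) q
  let x : (Ψ.mapHomologicalComplex (ComplexShape.up ℕ)).obj I.cocomplex ⟶
      (Ψ'.mapHomologicalComplex _).obj L :=
    (Ψ.mapHomologicalComplex _).map φ ≫ (NatTrans.mapHomologicalComplex α _).app J.cocomplex
  let e₂ := (Ψ₂.mapHomologicalComplex (ComplexShape.up ℕ)).map φ ≫
    (NatTrans.mapHomologicalComplex α₂ _).app J.cocomplex
  let e' : (Φ₂.mapHomologicalComplex (ComplexShape.up ℕ)).obj J.cocomplex ⟶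
      (Ω'.mapHomologicalComplex _).obj L := (NatTrans.mapHomologicalComplex ε' _).app J.cocomplex
  -- left hand side
  have hl : H.map e₂ ≫ RDer.homologyComparison Ψ₀
      ((Φ₂.mapHomologicalComplex (ComplexShape.up ℕ)).obj J.cocomplex) q ≫
      Ψ₀.map ((J.isoRightDerivedObj Φ₂ q).inv) ≫ Ψ₀.map ((J.isoRightDerivedObj Φ₂ q).hom ≫
        (homologyFunctor D₂ (ComplexShape.up ℕ) q).map e' ≫ RDer.homologyComparison Ω' L q ≫
          Ω'.map (J.isoRightDerivedObj Φ' q).inv) =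
      H.map (e₂ ≫ (Ψ₀.mapHomologicalComplex _).map e') ≫
        RDer.homologyComparison (Ω' ⋙ Ψ₀) L q ≫
          (Ω' ⋙ Ψ₀).map (J.isoRightDerivedObj Φ' q).inv := by
    refine (_ ≫= (_ ≫= ((Ψ₀.map_comp _ _).symm.trans ((congrArg Ψ₀.map (Iso.inv_hom_id_assoc _ _)).trans
      ((Ψ₀.map_comp _ _).trans (_ ≫= Ψ₀.map_comp _ _)))))).trans ?_
    refine (_ ≫= ((Category.assoc _ _ _).symm.trans
      ((eq_whisker (homologyComparison_natural Ψ₀ e' q).symm _).trans (Category.assoc _ _ _)))).trans ?_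
    refine Eq.trans ?_ (eq_whisker (H.map_comp _ _).symm _)
    refine Eq.trans ?_ (Category.assoc _ _ _).symm
    refine congrArg (_ ≫ ·) (congrArg (_ ≫ ·) ?_)
    refine Eq.trans ?_ (eq_whisker (homologyComparison_comp Ω' Ψ₀ L q).symm _)
    exact (Category.assoc _ _ _).symm
  -- right hand side
  have hr : H.map ((NatTrans.mapHomologicalComplex ε _).app I.cocomplex) ≫
      RDer.homologyComparison Ω ((Ψ.mapHomologicalComplex _).obj I.cocomplex) q ≫
      Ω.map (I.isoRightDerivedObj Ψ q).inv ≫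
      Ω.map ((I.isoRightDerivedObj Ψ q).hom ≫
        (homologyFunctor C (ComplexShape.up ℕ) q).map x ≫ RDer.homologyComparison Ψ' L q ≫
          Ψ'.map (J.isoRightDerivedObj Φ' q).inv) ≫ δ.app _ =
      H.map ((NatTrans.mapHomologicalComplex ε _).app I.cocomplex ≫
        (Ω.mapHomologicalComplex _).map x ≫ (NatTrans.mapHomologicalComplex δ _).app L) ≫
        RDer.homologyComparison (Ω' ⋙ Ψ₀) L q ≫
          (Ω' ⋙ Ψ₀).map (J.isoRightDerivedObj Φ' q).inv := by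
    refine (_ ≫= (_ ≫= ((Category.assoc _ _ _).symm.trans
      ((eq_whisker ((Ω.map_comp _ _).symm.trans ((congrArg Ω.map (Iso.inv_hom_id_assoc _ _)).trans
        ((Ω.map_comp _ _).trans (_ ≫= Ω.map_comp _ _)))) _).trans
          ((Category.assoc _ _ _).trans (_ ≫= Category.assoc _ _ _)))))).trans ?_
    refine Eq.trans ?_ (eq_whisker ((H.map_comp _ _).trans (_ ≫= H.map_comp _ _)).symm _)
    refine Eq.trans ?_ ((Category.assoc _ _ _).trans (_ ≫= Category.assoc _ _ _)).symm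
    refine congrArg (_ ≫ ·) ?_
    refine ((Category.assoc _ _ _).symm.trans
      ((eq_whisker (homologyComparison_natural Ω x q).symm _).trans (Category.assoc _ _ _))).trans ?_
    refine congrArg (_ ≫ ·) ?_
    refine Eq.trans ?_ ((Category.assoc _ _ _).symm.trans
      ((eq_whisker (homologyComparison_app δ L q).symm _).trans (Category.assoc _ _ _)))
    refine Eq.trans ?_ (eq_whisker (homologyComparison_comp Ψ' Ω L q).symm _)
    refine Eq.trans ?_ (Category.assoc _ _ _).symm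
    exact congrArg (_ ≫ ·) (congrArg (_ ≫ ·) (δ.naturality _))
  refine hl.trans (Eq.trans ?_ hr.symm)
  refine congrArg (fun m => H.map m ≫ _) ?_
  ext n
  change (Ψ₂.map (φ.f n) ≫ α₂.app _) ≫ Ψ₀.map (ε'.app _) =
    ε.app _ ≫ Ω.map (Ψ.map (φ.f n) ≫ α.app _) ≫ δ.app _
  refine (Category.assoc _ _ _).trans ((Ψ₂.map (φ.f n) ≫= h _).trans ?_)
  refine Eq.trans ?_ (_ ≫= ((eq_whisker (Ω.map_comp _ _) _).trans (Category.assoc _ _ _))).symm
  exact (Category.assoc _ _ _).symm.trans ((eq_whisker (ε.naturality (φ.f n)) _).trans (Category.assoc _ _ _))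

end Horiz

end Groth.Agent.Lib.EtSite.DerivedBC
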