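import Groth.Agent.Lib.EtSite.DerivedBCAdj
import Groth.Agent.Lib.RDer.Connecting

/-!
The base change maps on the long exact sequence of a short exact sequence.
-/

set_option autoImplicit false
set_option linter.style.haveILetI false
set_option linter.unusedSectionVars false
set_option backward.isDefEq.respectTransparency.types false

universe v₁ v₂ v₃ v₄ u₁ u₂ u₃ u₄

open CategoryTheory CategoryTheory.Limits HomologicalComplex

noncomputable section

namespace Groth.Agent.Lib.EtSite.DerivedBC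

open Groth.Agent.Lib.RDer.Horseshoe (aug)

variable {A : Type u₁} [Category.{v₁} A] [Abelian A] [HasInjectiveResolutions A]
  {B : Type u₂} [Category.{v₂} B] [Abelian B] [HasInjectiveResolutions B]
  {C : Type u₃} [Category.{v₃} C] [Abelian C]
  {D : Type u₄} [Category.{v₄} D] [Abelian D]
  {Φ : A ⥤ B} [Φ.Additive] [Φ.PreservesInjectiveObjects] {Ψ : B ⥤ C} [Ψ.Additive]
  {Φ' : A ⥤ D} [Φ'.Additive] {Ψ' : D ⥤ C} [Ψ'.Additive] [PreservesFiniteLimits Ψ']
  {Ψl : C ⥤ D} [Ψl.Additive] [PreservesFiniteLimits Ψl] [PreservesFiniteColimits Ψl]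
  (aΨ : Ψl ⊣ Ψ') (α : Φ ⋙ Ψ ⟶ Φ' ⋙ Ψ')

/-- The chain map computing the transposed base change map. -/
def bcChain {K : CochainComplex B ℕ} {L : CochainComplex A ℕ}
    (φ : K ⟶ (Φ.mapHomologicalComplex _).obj L) :
    (Ψl.mapHomologicalComplex _).obj ((Ψ.mapHomologicalComplex _).obj K) ⟶
      (Φ'.mapHomologicalComplex _).obj L :=
  (Ψl.mapHomologicalComplex _).map ((Ψ.mapHomologicalComplex _).map φ ≫
      (NatTrans.mapHomologicalComplex α _).app L) ≫
    (NatTrans.mapHomologicalComplex aΨ.counit _).app ((Φ'.mapHomologicalComplex _).obj L)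

theorem bcChain_f {K : CochainComplex B ℕ} {L : CochainComplex A ℕ}
    (φ : K ⟶ (Φ.mapHomologicalComplex _).obj L) (n : ℕ) :
    (bcChain aΨ α φ).f n =
      (aΨ.homEquiv _ _).symm (Ψ.map (φ.f n) ≫ α.app (L.X n)) :=
  (aΨ.homEquiv_counit _ _ _).symm

theorem bcChain_natural {K K' : CochainComplex B ℕ} {L L' : CochainComplex A ℕ}
    (φ : K ⟶ (Φ.mapHomologicalComplex _).obj L) (φ' : K' ⟶ (Φ.mapHomologicalComplex _).obj L')
    (k : K ⟶ K') (l : L ⟶ L') (h : k ≫ φ' = φ ≫ (Φ.mapHomologicalComplex _).map l) :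
    bcChain aΨ α φ ≫ (Φ'.mapHomologicalComplex _).map l =
      (Ψl.mapHomologicalComplex _).map ((Ψ.mapHomologicalComplex _).map k) ≫ bcChain aΨ α φ' := by
  ext n
  simp only [HomologicalComplex.comp_f, Functor.mapHomologicalComplex_map_f, bcChain_f]
  refine (aΨ.homEquiv_naturality_right_symm _ _).symm.trans
    (Eq.trans ?_ (aΨ.homEquiv_naturality_left_symm _ _))
  refine congrArg _ ?_
  refine (Category.assoc _ _ _).trans ((_ ≫= (α.naturality (l.f n)).symm).trans ?_)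
  refine (Category.assoc _ _ _).symm.trans (Eq.trans ?_ (Category.assoc _ _ _))
  refine eq_whisker ((Ψ.map_comp _ _).symm.trans (Eq.trans ?_ (Ψ.map_comp _ _))) _
  exact congrArg Ψ.map (congrArg (fun m => m.f n) h).symm

/-- The transposed base change map is the homology of `bcChain`, for any resolutions and lift. -/
theorem prop_transpose_iff {G : B} {X : A} (a : G ⟶ Φ.obj X) (I : InjectiveResolution G)
    (J : InjectiveResolution X) (φ : I.cocomplex ⟶ (Φ.mapHomologicalComplex _).obj J.cocomplex)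
    (hφ : aug I ≫ φ.f 0 = a ≫ Φ.map (aug J)) (q : ℕ)
    (P : MorphismProperty D) [P.RespectsIso] :
    P ((aΨ.homEquiv _ _).symm (bcMor α a q)) ↔ P (homologyMap (bcChain aΨ α φ) q) := by
  let J₀ := injectiveResolution X
  let e : J.cocomplex ⟶ J₀.cocomplex := (InjectiveResolution.homotopyEquiv J J₀).hom
  have he : J.ι.f 0 ≫ e.f 0 = J₀.ι.f 0 :=
    (InjectiveResolution.desc_commutes_zero (𝟙 X) J₀ J).trans (Category.id_comp _)
  let φ₀ := φ ≫ (Φ.mapHomologicalComplex _).map e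
  have hφ₀ : I.ι.f 0 ≫ φ₀.f 0 = a ≫ (RDer.mapAug Φ J₀.ι).f 0 := by
    rw [mapAug_f_zero]
    refine (Category.assoc _ _ _).symm.trans ((eq_whisker hφ _).trans ?_)
    exact (Category.assoc _ _ _).trans (a ≫= ((Φ.map_comp _ _).symm.trans (congrArg Φ.map he)))
  have hnat := bcChain_natural aΨ α φ φ₀ (𝟙 _) e (Category.id_comp _)
  haveI : IsIso (homologyMap ((Φ'.mapHomologicalComplex (ComplexShape.up ℕ)).map e) q) :=
    ((Φ'.mapHomotopyEquiv (InjectiveResolution.homotopyEquiv J J₀)).toHomologyIso q).isIso_hom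
  have hc : P (homologyMap (bcChain aΨ α φ) q) ↔ P (homologyMap (bcChain aΨ α φ₀) q) := by
    have h2 : bcChain aΨ α φ₀ = bcChain aΨ α φ ≫ (Φ'.mapHomologicalComplex _).map e := by
      rw [hnat]
      simp
    rw [h2, homologyMap_comp]
    exact (P.cancel_right_of_respectsIso _ _).symm
  rw [hc, bcMor_eq α a q I φ₀ hφ₀, Adjunction.homEquiv_naturality_left_symm]
  refine (P.cancel_left_of_respectsIso _ _).trans ?_
  rw [← Category.assoc, Adjunction.homEquiv_naturality_right_symm]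
  refine (P.cancel_right_of_respectsIso _ _).trans ?_
  let x := (Ψ.mapHomologicalComplex _).map φ₀ ≫
    (NatTrans.mapHomologicalComplex α (ComplexShape.up ℕ)).app J₀.cocomplex
  haveI := isIso_homologyComparison Ψl ((Ψ.mapHomologicalComplex _).obj I.cocomplex) q
  refine (P.cancel_left_of_respectsIso (RDer.homologyComparison Ψl _ q) _).symm.trans ?_
  exact iff_of_eq (congrArg (fun z => P z)
    (homologyComparison_counit aΨ (L := (Φ'.mapHomologicalComplex _).obj J₀.cocomplex) x q))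

variable {Φl : B ⥤ A} (aΦ : Φl ⊣ Φ) [PreservesFiniteLimits Φl] [PreservesFiniteColimits Φl]
  [Φl.Additive]

/-- A lift of a map to resolutions. -/
def liftRes {G : B} {X : A} (I : InjectiveResolution G) (J : InjectiveResolution X) (a : G ⟶ Φ.obj X) :
    I.cocomplex ⟶ (Φ.mapHomologicalComplex _).obj J.cocomplex :=
  haveI : ∀ n, Injective (((Φ.mapHomologicalComplex (ComplexShape.up ℕ)).obj J.cocomplex).X n) :=
    fun n => Φ.injective_obj (J.cocomplex.X n)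
  RDer.descToInjectives a I.cocomplex I.ι _ (RDer.mapAug Φ J.ι)

theorem liftRes_spec {G : B} {X : A} (I : InjectiveResolution G) (J : InjectiveResolution X)
    (a : G ⟶ Φ.obj X) : aug I ≫ (liftRes I J a).f 0 = a ≫ Φ.map (aug J) :=
  haveI : ∀ n, Injective (((Φ.mapHomologicalComplex (ComplexShape.up ℕ)).obj J.cocomplex).X n) :=
    fun n => Φ.injective_obj (J.cocomplex.X n)
  (RDer.ι_descToInjectives_f_zero _ _ _ _ _).trans (a ≫= mapAug_f_zero Φ J.ι)

/-- Compatible lifts of the units to resolutions of a short exact sequence. -/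
theorem exists_lifts {S : ShortComplex B} (hS : S.ShortExact) (T : _root_.RDer.SESRes S)
    (T' : _root_.RDer.SESRes (S.map Φl)) :
    ∃ (f₁ : T.I₁.cocomplex ⟶ (Φ.mapHomologicalComplex _).obj T'.I₁.cocomplex)
      (f₂ : T.I₂.cocomplex ⟶ (Φ.mapHomologicalComplex _).obj T'.I₂.cocomplex)
      (f₃ : T.I₃.cocomplex ⟶ (Φ.mapHomologicalComplex _).obj T'.I₃.cocomplex),
      f₁ ≫ (Φ.mapHomologicalComplex _).map T'.f = T.f ≫ f₂ ∧
      f₂ ≫ (Φ.mapHomologicalComplex _).map T'.g = T.g ≫ f₃ ∧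
      aug T.I₁ ≫ f₁.f 0 = aΦ.unit.app S.X₁ ≫ Φ.map (aug T'.I₁) ∧
      aug T.I₂ ≫ f₂.f 0 = aΦ.unit.app S.X₂ ≫ Φ.map (aug T'.I₂) ∧
      aug T.I₃ ≫ f₃.f 0 = aΦ.unit.app S.X₃ ≫ Φ.map (aug T'.I₃) := by
  haveI := hS.epi_g
  haveI : ∀ n, Injective (((Φ.mapHomologicalComplex (ComplexShape.up ℕ)).obj T'.I₂.cocomplex).X n) :=
    fun n => Φ.injective_obj (T'.I₂.cocomplex.X n)
  let M := Φ.mapHomologicalComplex (ComplexShape.up ℕ)
  let f₁ := liftRes T.I₁ T'.I₁ (aΦ.unit.app S.X₁)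
  let f₂ := liftRes T.I₂ T'.I₂ (aΦ.unit.app S.X₂)
  have h₁ : aug T.I₁ ≫ f₁.f 0 = aΦ.unit.app S.X₁ ≫ Φ.map (aug T'.I₁) :=
    liftRes_spec _ _ _
  have h₂ : aug T.I₂ ≫ f₂.f 0 = aΦ.unit.app S.X₂ ≫ Φ.map (aug T'.I₂) :=
    liftRes_spec _ _ _
  have cf : aug T.I₁ ≫ T.f.f 0 = S.f ≫ aug T.I₂ :=
    Groth.Agent.Lib.RDer.Connecting.comm_zero T.ι_f
  have cg : aug T.I₂ ≫ T.g.f 0 = S.g ≫ aug T.I₃ :=
    Groth.Agent.Lib.RDer.Connecting.comm_zero T.ι_g
  have cf' : aug T'.I₁ ≫ T'.f.f 0 = Φl.map S.f ≫ aug T'.I₂ :=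
    Groth.Agent.Lib.RDer.Connecting.comm_zero T'.ι_f
  have cg' : aug T'.I₂ ≫ T'.g.f 0 = Φl.map S.g ≫ aug T'.I₃ :=
    Groth.Agent.Lib.RDer.Connecting.comm_zero T'.ι_g
  have key : aug T.I₁ ≫ (T.f ≫ f₂).f 0 = aug T.I₁ ≫ (f₁ ≫ M.map T'.f).f 0 := by
    refine ((Category.assoc _ _ _).symm.trans ((eq_whisker cf _).trans ((Category.assoc _ _ _).trans
      (_ ≫= h₂)))).trans ?_
    refine Eq.trans ?_ ((Category.assoc _ _ _).symm.trans ((eq_whisker h₁ _).trans ((Category.assoc _ _ _).trans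
      (_ ≫= ((Φ.map_comp _ _).symm.trans ((congrArg Φ.map cf').trans (Φ.map_comp _ _))))))).symm
    exact (Category.assoc _ _ _).symm.trans
      ((eq_whisker (aΦ.unit.naturality S.f) _).trans (Category.assoc _ _ _))
  let h := homotopyZero T.I₁ (T.f ≫ f₂ - f₁ ≫ M.map T'.f) (by
    rw [HomologicalComplex.sub_f_apply]
    exact (Preadditive.comp_sub _ _ _).trans (sub_eq_zero.2 key))
  let r : ∀ n, T.I₂.cocomplex.X n ⟶ T.I₁.cocomplex.X n := fun n => (T.splitting n).r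
  have hr : ∀ n, T.f.f n ≫ r n = 𝟙 _ := fun n => (T.splitting n).f_r
  let k : ∀ i j, T.I₂.cocomplex.X i ⟶ (M.obj T'.I₂.cocomplex).X j := fun i j => r i ≫ h.hom i j
  let N := Homotopy.nullHomotopicMap k
  have hN : T.f ≫ N = T.f ≫ f₂ - f₁ ≫ M.map T'.f := by
    rw [Homotopy.comp_nullHomotopicMap]
    ext n
    simp only [k, reassoc_of% hr]
    refine Eq.symm ((h.comm n).trans ?_)
    simp [Homotopy.nullHomotopicMap]
    rfl
  let f₂' := f₂ - N
  have h12 : f₁ ≫ M.map T'.f = T.f ≫ f₂' := by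
    simp only [f₂', Preadditive.comp_sub, hN]
    abel
  have h13 : T.f ≫ f₂' ≫ M.map T'.g = 0 := by
    rw [← reassoc_of% h12, ← M.map_comp, T'.zero, M.map_zero, comp_zero]
  let f₃ := T.shortExact.gIsCokernel.desc (CokernelCofork.ofπ _ h13)
  have h23 : T.g ≫ f₃ = f₂' ≫ M.map T'.g :=
    T.shortExact.gIsCokernel.fac (CokernelCofork.ofπ _ h13) WalkingParallelPair.one
  have hN0 : aug T.I₂ ≫ N.f 0 = 0 := by
    simp only [N]
    rw [Homotopy.nullHomotopicMap_f_of_not_rel_right (show (ComplexShape.up ℕ).Rel 0 1 from rfl)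
      (fun l hl => Nat.succ_ne_zero l hl)]
    refine (Category.assoc _ _ _).symm.trans ?_
    rw [Groth.Agent.Lib.RDer.Horseshoe.aug_d]
    exact zero_comp
  have hf₂ : aug T.I₂ ≫ f₂'.f 0 = aΦ.unit.app S.X₂ ≫ Φ.map (aug T'.I₂) := by
    simp only [f₂', HomologicalComplex.sub_f_apply, Preadditive.comp_sub, hN0, sub_zero]
    exact h₂
  refine ⟨f₁, f₂', f₃, h12, h23.symm, h₁, hf₂, ?_⟩
  rw [← cancel_epi S.g, ← reassoc_of% cg]
  have h23' : T.g.f 0 ≫ f₃.f 0 = f₂'.f 0 ≫ Φ.map (T'.g.f 0) := congrArg (fun t => t.f 0) h23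
  rw [h23']
  refine ((Category.assoc _ _ _).symm.trans ((eq_whisker hf₂ _).trans ((Category.assoc _ _ _).trans
    (_ ≫= ((Φ.map_comp _ _).symm.trans ((congrArg Φ.map cg').trans (Φ.map_comp _ _))))))).trans ?_
  exact (Category.assoc _ _ _).symm.trans
    ((eq_whisker (aΦ.unit.naturality S.g).symm _).trans (Category.assoc _ _ _))

/-- The transposed base change map of a sheaf. -/
def bcT (G : B) (q : ℕ) : Ψl.obj ((Ψ.rightDerived q).obj G) ⟶ (Φ'.rightDerived q).obj (Φl.obj G) :=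
  (aΨ.homEquiv _ _).symm (bcMor α (aΦ.unit.app G) q)

variable {S : ShortComplex B} (hS : S.ShortExact)

include hS in
/-- Four lemmas for base change maps. -/
theorem mono_and_epi_bcT (q : ℕ) :
    (Epi (bcT aΨ α aΦ S.X₂ q) → Mono (bcT aΨ α aΦ S.X₃ q) → Mono (bcT aΨ α aΦ S.X₂ (q + 1)) →
        Mono (bcT aΨ α aΦ S.X₁ (q + 1))) ∧
    (Epi (bcT aΨ α aΦ S.X₃ q) → Epi (bcT aΨ α aΦ S.X₂ (q + 1)) →
      Mono (bcT aΨ α aΦ S.X₃ (q + 1)) → Epi (bcT aΨ α aΦ S.X₁ (q + 1))) := by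
  obtain ⟨T⟩ := Groth.Agent.Lib.RDer.Horseshoe.nonempty_sesRes hS
  obtain ⟨T'⟩ := Groth.Agent.Lib.RDer.Horseshoe.nonempty_sesRes (hS.map_of_exact Φl)
  obtain ⟨f₁, f₂, f₃, h12, h23, e₁, e₂, e₃⟩ := exists_lifts aΦ hS T T'
  let c₁ := bcChain aΨ α f₁
  let c₂ := bcChain aΨ α f₂
  let c₃ := bcChain aΨ α f₃
  let M₁ := Ψ.mapHomologicalComplex (ComplexShape.up ℕ) ⋙ Ψl.mapHomologicalComplex (ComplexShape.up ℕ)
  have hA : (T.cx.map M₁).ShortExact := (T.map_shortExact Ψ).map_of_exact (Ψl.mapHomologicalComplex _)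
  have hB : (T'.cx.map (Φ'.mapHomologicalComplex (ComplexShape.up ℕ))).ShortExact := T'.map_shortExact Φ'
  let ψ : T.cx.map M₁ ⟶ T'.cx.map (Φ'.mapHomologicalComplex (ComplexShape.up ℕ)) :=
    { τ₁ := c₁
      τ₂ := c₂
      τ₃ := c₃
      comm₁₂ := bcChain_natural aΨ α f₁ f₂ T.f T'.f h12.symm
      comm₂₃ := bcChain_natural aΨ α f₂ f₃ T.g T'.g h23.symm }
  let m := MorphismProperty.monomorphisms D
  let p := MorphismProperty.epimorphisms D
  have t₁ := fun (P : MorphismProperty D) [P.RespectsIso] r =>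
    prop_transpose_iff aΨ α (aΦ.unit.app S.X₁) T.I₁ T'.I₁ f₁ e₁ r P
  have t₂ := fun (P : MorphismProperty D) [P.RespectsIso] r =>
    prop_transpose_iff aΨ α (aΦ.unit.app S.X₂) T.I₂ T'.I₂ f₂ e₂ r P
  have t₃ := fun (P : MorphismProperty D) [P.RespectsIso] r =>
    prop_transpose_iff aΨ α (aΦ.unit.app S.X₃) T.I₃ T'.I₃ f₃ e₃ r P
  let sq := HomologicalComplex.HomologySequence.mapComposableArrows₅ ψ hA hB q (q + 1) rfl
  have hx := HomologicalComplex.HomologySequence.composableArrows₅_exact hA q (q + 1) rfl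
  have hy := HomologicalComplex.HomologySequence.composableArrows₅_exact hB q (q + 1) rfl
  refine ⟨fun a b c => (t₁ m (q + 1)).2 ?_, fun a b c => (t₁ p (q + 1)).2 ?_⟩
  · exact Abelian.mono_of_epi_of_mono_of_mono
      ((ComposableArrows.δ₀Functor ⋙ ComposableArrows.δlastFunctor).map sq) hx.δ₀.δlast hy.δ₀.δlast
      ((t₂ p q).1 a) ((t₃ m q).1 b) ((t₂ m (q + 1)).1 c)
  · exact Abelian.epi_of_epi_of_epi_of_mono
      ((ComposableArrows.δ₀Functor ⋙ ComposableArrows.δ₀Functor).map sq) hx.δ₀.δ₀ hy.δ₀.δ₀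
      ((t₃ p q).1 a) ((t₂ p (q + 1)).1 b) ((t₃ m (q + 1)).1 c)

end Groth.Agent.Lib.EtSite.DerivedBC
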