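import Groth.Agent.Lib.EtSite.SubSheaf

/-!
Effectivity of descent data for sheaves of sets on small étale sites: transport of stalks along a
descent datum, the sheaf of compatible sections, and the reduction of effectivity to the existence
of compatible sections through a given germ.
-/

set_option autoImplicit false

universe u

open CategoryTheory CategoryTheory.Limits AlgebraicGeometry Opposite

noncomputable section

namespace Groth.Agent.Lib.EtSite.Effective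

open Groth.Agent.Lib.EtSite Groth.Agent.Lib.EtSite.Basic Groth.Agent.Lib.EtSite.SubDescent
open Groth.Agent.Lib.EtSite.PushStalk Groth.Agent.Lib.EtSite.SubSheaf

variable {X S : Scheme.{u}} (f : X ⟶ S) (F' : EtDesc.Sh X)
  (φ : (EtDesc.pullSh (pullback.fst f f)).obj F' ≅ (EtDesc.pullSh (pullback.snd f f)).obj F')

/-- Two morphisms agreeing on the stalks at a point over every point are equal. -/
theorem hom_ext_of_stalks {Z : Scheme.{u}} {G H : EtDesc.Sh Z} (a b : G ⟶ H)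
    (h : ∀ z : Z, ∃ (Ω : Type u) (_ : Field Ω) (_ : IsSepClosed Ω)
      (ξ : Spec (CommRingCat.of Ω) ⟶ Z), ξ.base default = z ∧
        ∀ x : stalk ξ G, stalkMap ξ a x = stalkMap ξ b x) : a = b := by
  ext V s
  refine Stalk.sections_ext_of_germ H _ _ fun z => ?_
  obtain ⟨Ω, i1, i2, ξ, hξ, e⟩ := h z
  exact ⟨Ω, i1, i2, ξ, hξ, fun p =>
    (stalkMap_germ ξ a p s).symm.trans ((e _).trans (stalkMap_germ ξ b p s))⟩

/-- The stalk of the transpose of a morphism into a direct image. -/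
theorem stalkMap_symm_germUnit {G : EtDesc.Sh S} (w : G ⟶ (EtDesc.pushSh f).obj F') {Ω : Type u}
    [Field Ω] [IsSepClosed Ω] {η : Spec (CommRingCat.of Ω) ⟶ S} {ξ : Spec (CommRingCat.of Ω) ⟶ X}
    (h : ξ ≫ f = η) {V : S.Etale} (p : (Scheme.pointSmallEtale η).fiber.obj V)
    (t : EtDesc.sect G V) :
    stalkMap ξ (((EtDesc.adjSh f).homEquiv G F').symm w) (germUnit f G h (germ η G p t)) =
      germ ξ F' (liftPt f h V p) (w.hom.app (op V) t) := by
  rw [germUnit_germ, stalkMap_germ]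
  refine congrArg (germ ξ F' (liftPt f h V p)) ?_
  have e := ((EtDesc.adjSh f).homEquiv G F').apply_symm_apply w
  rw [Adjunction.homEquiv_unit] at e
  exact congrArg (fun m : G ⟶ (EtDesc.pushSh f).obj F' => m.hom.app (op V) t) e

section

variable {Ω : Type u} [Field Ω] [IsSepClosed Ω] {η : Spec (CommRingCat.of Ω) ⟶ S}

/-- Transport of stalks along the descent datum. -/
def transport {ξ₁ ξ₂ : Spec (CommRingCat.of Ω) ⟶ X} (h₁ : ξ₁ ≫ f = η) (h₂ : ξ₂ ≫ f = η)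
    (x : stalk ξ₁ F') : stalk ξ₂ F' :=
  (Equiv.ofBijective _ (bijective_germUnit (pullback.snd f f) F'
    (pullback.lift_snd ξ₁ ξ₂ (h₁.trans h₂.symm)))).symm
    (stalkMap (pullback.lift ξ₁ ξ₂ (h₁.trans h₂.symm)) φ.hom
      (germUnit (pullback.fst f f) F' (pullback.lift_fst ξ₁ ξ₂ (h₁.trans h₂.symm)) x))

theorem transport_spec {ξ₁ ξ₂ : Spec (CommRingCat.of Ω) ⟶ X}
    {ζ : Spec (CommRingCat.of Ω) ⟶ EtDesc.X2 f} (k₁ : ζ ≫ pullback.fst f f = ξ₁)
    (k₂ : ζ ≫ pullback.snd f f = ξ₂) (h₁ : ξ₁ ≫ f = η) (h₂ : ξ₂ ≫ f = η) (x : stalk ξ₁ F') :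
    stalkMap ζ φ.hom (germUnit (pullback.fst f f) F' k₁ x) =
      germUnit (pullback.snd f f) F' k₂ (transport f F' φ h₁ h₂ x) := by
  obtain rfl : ζ = pullback.lift ξ₁ ξ₂ (h₁.trans h₂.symm) :=
    pullback.hom_ext (k₁.trans (pullback.lift_fst _ _ _).symm)
      (k₂.trans (pullback.lift_snd _ _ _).symm)
  exact ((Equiv.ofBijective _ (bijective_germUnit (pullback.snd f f) F' k₂)).apply_symm_apply _).symm

theorem transport_bijective {ξ₁ ξ₂ : Spec (CommRingCat.of Ω) ⟶ X} (h₁ : ξ₁ ≫ f = η)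
    (h₂ : ξ₂ ≫ f = η) : Function.Bijective (transport f F' φ h₁ h₂) := by
  unfold transport
  exact (Equiv.bijective _).comp (((isIso_iff_bijective
    ((Scheme.pointSmallEtale (pullback.lift ξ₁ ξ₂ (h₁.trans h₂.symm))).sheafFiber.map φ.hom)).1
      inferInstance).comp (bijective_germUnit _ _ _))

theorem pullIsoVia_germUnit (g : EtDesc.X3 f ⟶ EtDesc.X2 f) (b₁ b₂ : EtDesc.X3 f ⟶ X)
    (w₁ : g ≫ pullback.fst f f = b₁) (w₂ : g ≫ pullback.snd f f = b₂)
    {θ : Spec (CommRingCat.of Ω) ⟶ EtDesc.X3 f} {ξ₁ ξ₂ : Spec (CommRingCat.of Ω) ⟶ X}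
    (e₁ : θ ≫ b₁ = ξ₁) (e₂ : θ ≫ b₂ = ξ₂) (h₁ : ξ₁ ≫ f = η) (h₂ : ξ₂ ≫ f = η) (x : stalk ξ₁ F') :
    stalkMap θ (EtDesc.pullIsoVia g b₁ b₂ w₁ w₂ F' φ).hom (germUnit b₁ F' e₁ x) =
      germUnit b₂ F' e₂ (transport f F' φ h₁ h₂ x) := by
  have k₁ : (θ ≫ g) ≫ pullback.fst f f = ξ₁ := by rw [Category.assoc, w₁, e₁]
  have k₂ : (θ ≫ g) ≫ pullback.snd f f = ξ₂ := by rw [Category.assoc, w₂, e₂]
  rw [EtDesc.pullIsoVia, Iso.trans_hom, Iso.trans_hom, stalkMap_comp, stalkMap_comp,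
    ← pullVia_germUnit (pullback.fst f f) g b₁ w₁ F' rfl k₁ e₁ x, ← stalkMap_comp θ
      (EtDesc.pullVia g (pullback.fst f f) b₁ w₁ F').hom, Iso.symm_hom, Iso.hom_inv_id, stalkMap_id,
    Functor.mapIso_hom, germUnit_naturality, transport_spec f F' φ k₁ k₂ h₁ h₂,
    pullVia_germUnit (pullback.snd f f) g b₂ w₂ F' rfl k₂ e₂]

theorem transport_trans (hφ : EtDesc.IsCocycle F' φ) {ξ₁ ξ₂ ξ₃ : Spec (CommRingCat.of Ω) ⟶ X}
    (h₁ : ξ₁ ≫ f = η) (h₂ : ξ₂ ≫ f = η) (h₃ : ξ₃ ≫ f = η) (x : stalk ξ₁ F') :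
    transport f F' φ h₂ h₃ (transport f F' φ h₁ h₂ x) = transport f F' φ h₁ h₃ x := by
  let θ : Spec (CommRingCat.of Ω) ⟶ EtDesc.X3 f :=
    pullback.lift (pullback.lift ξ₁ ξ₂ (h₁.trans h₂.symm)) (pullback.lift ξ₂ ξ₃ (h₂.trans h₃.symm))
      (by rw [pullback.lift_snd, pullback.lift_fst])
  have e₁ : θ ≫ EtDesc.q1 (f := f) = ξ₁ := by
    simp only [θ, EtDesc.q1, EtDesc.p12, pullback.lift_fst_assoc, pullback.lift_fst]
  have e₂ : θ ≫ EtDesc.q2 (f := f) = ξ₂ := by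
    simp only [θ, EtDesc.q2, EtDesc.p12, pullback.lift_fst_assoc, pullback.lift_snd]
  have e₃ : θ ≫ EtDesc.q3 (f := f) = ξ₃ := by
    simp only [θ, EtDesc.q3, EtDesc.p23, pullback.lift_snd_assoc, pullback.lift_snd]
  apply (bijective_germUnit _ F' e₃).1
  rw [← pullIsoVia_germUnit f F' φ (EtDesc.p23 f) EtDesc.q2 EtDesc.q3 EtDesc.p23_fst rfl e₂ e₃ h₂ h₃,
    ← pullIsoVia_germUnit f F' φ (EtDesc.p12 f) EtDesc.q1 EtDesc.q2 rfl rfl e₁ e₂ h₁ h₂,
    ← pullIsoVia_germUnit f F' φ (EtDesc.p13 f) EtDesc.q1 EtDesc.q3 EtDesc.p13_fst EtDesc.p13_snd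
      e₁ e₃ h₁ h₃, ← stalkMap_comp]
  exact congrArg (fun m => stalkMap θ m (germUnit _ F' e₁ x)) hφ

theorem transport_refl (hφ : EtDesc.IsCocycle F' φ) {ξ : Spec (CommRingCat.of Ω) ⟶ X}
    (h : ξ ≫ f = η) (x : stalk ξ F') : transport f F' φ h h x = x :=
  (transport_bijective f F' φ h h).1 (transport_trans f F' φ hφ h h h x)

end

/-- A section over the base change of `V` is compatible with the datum at all geometric points. -/
def Compat (V : S.Etale) (t : EtDesc.sect F' ((EtCoh.bc f).obj V)) : Prop :=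
  ∀ (Ω : Type u) [Field Ω] [IsSepClosed Ω] (η : Spec (CommRingCat.of Ω) ⟶ S)
    (ξ₁ ξ₂ : Spec (CommRingCat.of Ω) ⟶ X) (h₁ : ξ₁ ≫ f = η) (h₂ : ξ₂ ≫ f = η)
    (p : (Scheme.pointSmallEtale η).fiber.obj V),
    transport f F' φ h₁ h₂ (germ ξ₁ F' (liftPt f h₁ V p) t) = germ ξ₂ F' (liftPt f h₂ V p) t

theorem germ_bc_map {Ω : Type u} [Field Ω] [IsSepClosed Ω] {η : Spec (CommRingCat.of Ω) ⟶ S}
    {ξ : Spec (CommRingCat.of Ω) ⟶ X} (h : ξ ≫ f = η) {V W : S.Etale} (g : W ⟶ V)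
    (q : (Scheme.pointSmallEtale η).fiber.obj W) (t : EtDesc.sect F' ((EtCoh.bc f).obj V)) :
    germ ξ F' (liftPt f h W q) (F'.obj.map ((EtCoh.bc f).map g).op t) =
      germ ξ F' (liftPt f h V ((Scheme.pointSmallEtale η).fiber.map g q)) t :=
  (germ_map ξ F' _ _ t).trans (congrArg (fun r => germ ξ F' r t) (map_liftPt f h g q))

/-- The compatible sections. -/
def descendedSub : Subfunctor ((EtDesc.pushSh f).obj F').obj where
  obj V := {t | Compat f F' φ V.unop t}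
  map {V W} i := by
    intro t ht Ω _ _ η ξ₁ ξ₂ h₁ h₂ p
    change transport f F' φ h₁ h₂
      (germ ξ₁ F' (liftPt f h₁ _ p) (F'.obj.map ((EtCoh.bc f).map i.unop).op t)) =
      germ ξ₂ F' (liftPt f h₂ _ p) (F'.obj.map ((EtCoh.bc f).map i.unop).op t)
    rw [germ_bc_map, germ_bc_map]
    exact ht Ω η ξ₁ ξ₂ h₁ h₂ _

theorem isSheaf_descendedSub :
    Presieve.IsSheaf S.smallEtaleTopology (descendedSub f F' φ).toFunctor := by
  refine (Subfunctor.isSheaf_iff _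
    ((isSheaf_iff_isSheaf_of_type _ _).1 ((EtDesc.pushSh f).obj F').2)).2 fun V t ht => ?_
  intro Ω _ _ η ξ₁ ξ₂ h₁ h₂ p
  obtain ⟨W, g, hg, w, hw⟩ := (mem_topology_iff _).1 ht (fiberPt p)
  obtain ⟨q, rfl, -⟩ := Fiber.exists_fiber_map η g p w hw
  have h := (show Compat f F' φ W (F'.obj.map ((EtCoh.bc f).map g).op t) from hg) Ω η ξ₁ ξ₂ h₁ h₂ q
  rw [germ_bc_map, germ_bc_map] at h
  exact h

/-- The descended sheaf. -/
def descended : EtDesc.Sh S :=
  ⟨(descendedSub f F' φ).toFunctor,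
    (isSheaf_iff_isSheaf_of_type _ _).2 (isSheaf_descendedSub f F' φ)⟩

/-- Its inclusion into the direct image. -/
def descendedι : descended f F' φ ⟶ (EtDesc.pushSh f).obj F' where
  hom := (descendedSub f F' φ).ι

/-- The agreement of a compatible pair at a point, spread over a neighbourhood. -/
theorem exists_eq_nhd (hf : EtDesc.IsUnivSubmersive f) (V : S.Etale)
    (t t' : EtDesc.sect F' ((EtCoh.bc f).obj V)) (ht : Compat f F' φ V t) (ht' : Compat f F' φ V t')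
    {Ω : Type u} [Field Ω] [IsSepClosed Ω] {η : Spec (CommRingCat.of Ω) ⟶ S}
    {ξ : Spec (CommRingCat.of Ω) ⟶ X} (h : ξ ≫ f = η)
    (p : (Scheme.pointSmallEtale η).fiber.obj V)
    (e : germ ξ F' (liftPt f h V p) t = germ ξ F' (liftPt f h V p) t') :
    ∃ (W : S.Etale) (g : W ⟶ V) (q : (Scheme.pointSmallEtale η).fiber.obj W),
      (Scheme.pointSmallEtale η).fiber.map g q = p ∧
      F'.obj.map ((EtCoh.bc f).map g).op t = F'.obj.map ((EtCoh.bc f).map g).op t' := by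
  let O := {x : ((EtCoh.bc f).obj V).left | ∃ (W' : X.Etale) (b : W' ⟶ (EtCoh.bc f).obj V),
    F'.obj.map b.op t = F'.obj.map b.op t' ∧ x ∈ Set.range b.left.base}
  obtain ⟨E, hE⟩ := exists_open_sub f hf V O (BaseChange.isOpen_agree F'.obj _ t t')
    fun w₁ w₂ h12 hw₁ => by
      obtain ⟨Ω', _, _, η', ξ₁, ξ₂, h₁, h₂, r, rfl, rfl⟩ := exists_geom_pair f w₁ w₂ h12
      refine (BaseChange.toPresheafFiber_eq_iff_mem (ξ := ξ₂) F'.obj _ t t' (liftPt f h₂ V r)).1 ?_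
      have e' : germ ξ₁ F' (liftPt f h₁ V r) t = germ ξ₁ F' (liftPt f h₁ V r) t' :=
        (BaseChange.toPresheafFiber_eq_iff_mem F'.obj _ t t' _).2 hw₁
      exact (ht Ω' η' ξ₁ ξ₂ h₁ h₂ r).symm.trans
        ((congrArg (transport f F' φ h₁ h₂) e').trans (ht' Ω' η' ξ₁ ξ₂ h₁ h₂ r))
  have hpE : fiberPt p ∈ E := by
    rw [← fiberPt_liftPt f h V p]
    exact (hE _).2 ((BaseChange.toPresheafFiber_eq_iff_mem F'.obj _ t t' _).1 e)
  have : Etale V.hom := V.prop
  let W : S.Etale := Scheme.Etale.mk (E.ι ≫ V.hom)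
  let g : W ⟶ V := MorphismProperty.Over.homMk E.ι rfl
  obtain ⟨q, hq, -⟩ := Fiber.exists_fiber_map η g p ⟨fiberPt p, hpE⟩ rfl
  refine ⟨W, g, q, hq, Stalk.sections_ext_of_germ F' _ _ fun x => ?_⟩
  refine ⟨_, inferInstance, inferInstance, Push.algPoint X x, Push.algPoint_apply X x default,
    fun pw => ?_⟩
  refine (germ_map _ F' _ pw t).trans (Eq.trans ?_ (germ_map _ F' _ pw t').symm)
  refine (BaseChange.toPresheafFiber_eq_iff_mem _ _ _ _ _).2 ((hE _).1 ?_)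
  rw [fiberPt_map]
  have he := congrArg (fun q => q.base (fiberPt pw)) (EtCoh.isPullback_bc_map f g).w
  exact (he : _) ▸ ((pullback.fst W.hom f).base (fiberPt pw)).2

/-- Effectivity follows from the existence of compatible sections through every germ. -/
theorem isEffective_of_extend (hf : EtDesc.IsUnivSubmersive f)
    (hext : ∀ x : X, ∃ (Ω : Type u) (_ : Field Ω) (_ : IsSepClosed Ω)
      (ξ : Spec (CommRingCat.of Ω) ⟶ X), ξ.base default = x ∧ ∀ g : stalk ξ F',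
        ∃ (V : S.Etale) (p : (Scheme.pointSmallEtale (ξ ≫ f)).fiber.obj V)
          (t : EtDesc.sect F' ((EtCoh.bc f).obj V)),
          Compat f F' φ V t ∧ germ ξ F' (liftPt f rfl V p) t = g) :
    EtDesc.IsEffective f F' φ := by
  let G := descended f F' φ
  let ψ₀ : (EtDesc.pullSh f).obj G ⟶ F' :=
    ((EtDesc.adjSh f).homEquiv G F').symm (descendedι f F' φ)
  have hψ : ∀ (Ω : Type u) [Field Ω] [IsSepClosed Ω] (η : Spec (CommRingCat.of Ω) ⟶ S)
      (ξ : Spec (CommRingCat.of Ω) ⟶ X) (h : ξ ≫ f = η) (V : S.Etale)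
      (p : (Scheme.pointSmallEtale η).fiber.obj V) (t : EtDesc.sect G V),
      stalkMap ξ ψ₀ (germUnit f G h (germ η G p t)) = germ ξ F' (liftPt f h V p) t.1 :=
    fun Ω _ _ η ξ h V p t => stalkMap_symm_germUnit f F' (descendedι f F' φ) h p t
  have hiso : IsIso ψ₀ := by
    refine Stalk.isIso_of_stalks ψ₀ fun x => ?_
    obtain ⟨Ω, i1, i2, ξ, hξ, hg⟩ := hext x
    refine ⟨Ω, i1, i2, ξ, hξ, ?_, fun g => ?_⟩
    · intro y₁ y₂ e
      obtain ⟨z₁, rfl⟩ := (bijective_germUnit f G (rfl : ξ ≫ f = _)).2 y₁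
      obtain ⟨z₂, rfl⟩ := (bijective_germUnit f G (rfl : ξ ≫ f = _)).2 y₂
      refine congrArg _ ?_
      obtain ⟨V₁, p₁, t₁, rfl⟩ :=
        (Scheme.pointSmallEtale (ξ ≫ f)).toPresheafFiber_jointly_surjective (P := G.obj) z₁
      obtain ⟨V₂, p₂, t₂, rfl⟩ :=
        (Scheme.pointSmallEtale (ξ ≫ f)).toPresheafFiber_jointly_surjective (P := G.obj) z₂
      let M := IsCofiltered.min ((Scheme.pointSmallEtale (ξ ≫ f)).fiber.elementsMk V₁ p₁)
        ((Scheme.pointSmallEtale (ξ ≫ f)).fiber.elementsMk V₂ p₂)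
      let a : M ⟶ (Scheme.pointSmallEtale (ξ ≫ f)).fiber.elementsMk V₁ p₁ := IsCofiltered.minToLeft _ _
      let b : M ⟶ (Scheme.pointSmallEtale (ξ ≫ f)).fiber.elementsMk V₂ p₂ := IsCofiltered.minToRight _ _
      have ha : (Scheme.pointSmallEtale (ξ ≫ f)).fiber.map a.1 M.2 = p₁ := a.2
      have hb : (Scheme.pointSmallEtale (ξ ≫ f)).fiber.map b.1 M.2 = p₂ := b.2
      let u₁ : EtDesc.sect G M.1 := G.obj.map a.1.op t₁
      let u₂ : EtDesc.sect G M.1 := G.obj.map b.1.op t₂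
      have e₁ : germ (ξ ≫ f) G M.2 u₁ = germ (ξ ≫ f) G p₁ t₁ := by rw [germ_map, ha]
      have e₂ : germ (ξ ≫ f) G M.2 u₂ = germ (ξ ≫ f) G p₂ t₂ := by rw [germ_map, hb]
      refine e₁.symm.trans (Eq.trans ?_ e₂)
      have e' : stalkMap ξ ψ₀ (germUnit f G rfl (germ (ξ ≫ f) G M.2 u₁)) =
          stalkMap ξ ψ₀ (germUnit f G rfl (germ (ξ ≫ f) G M.2 u₂)) := by
        rw [e₁, e₂]; exact e
      rw [hψ, hψ] at e'
      obtain ⟨W, c, q, hq, ec⟩ := exists_eq_nhd f F' φ hf M.1 u₁.1 u₂.1 u₁.2 u₂.2 rfl M.2 e'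
      rw [← hq, ← germ_map, ← germ_map]
      exact congrArg (germ (ξ ≫ f) G q) (Subtype.ext ec)
    · obtain ⟨V, p, t, ht, htg⟩ := hg g
      exact ⟨germUnit f G rfl (germ (ξ ≫ f) G p (⟨t, ht⟩ : EtDesc.sect G V)),
        (hψ Ω _ ξ rfl V p ⟨t, ht⟩).trans htg⟩
  refine ⟨G, asIso ψ₀, ?_⟩
  have key : (EtDesc.canIso f G).hom ≫ (EtDesc.pullSh (pullback.snd f f)).map ψ₀ =
      (EtDesc.pullSh (pullback.fst f f)).map ψ₀ ≫ φ.hom := by
    refine hom_ext_of_stalks _ _ fun z => ?_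
    refine ⟨_, inferInstance, inferInstance, Push.algPoint (EtDesc.X2 f) z,
      Push.algPoint_apply _ z default, fun x => ?_⟩
    let ζ := Push.algPoint (EtDesc.X2 f) z
    have h₂ : (ζ ≫ pullback.snd f f) ≫ f = (ζ ≫ pullback.fst f f) ≫ f := by
      rw [Category.assoc, Category.assoc, pullback.condition]
    obtain ⟨y, hy⟩ := (bijective_germUnit (pullback.fst f f) ((EtDesc.pullSh f).obj G)
      (rfl : ζ ≫ pullback.fst f f = _)).2 x
    rw [← hy]
    obtain ⟨c, rfl⟩ := (bijective_germUnit f G (rfl : (ζ ≫ pullback.fst f f) ≫ f = _)).2 y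
    obtain ⟨V, p, t, rfl⟩ := (Scheme.pointSmallEtale ((ζ ≫ pullback.fst f f) ≫ f)).toPresheafFiber_jointly_surjective
      (P := G.obj) c
    rw [stalkMap_comp, stalkMap_comp, canIso_germUnit f G rfl rfl rfl h₂, germUnit_naturality,
      germUnit_naturality, hψ, hψ, transport_spec f F' φ rfl rfl rfl h₂]
    exact congrArg _ (t.2 _ _ _ _ rfl h₂ p).symm
  apply Iso.ext
  change ((EtDesc.pullSh (pullback.fst f f)).mapIso (asIso ψ₀)).inv ≫ (EtDesc.canIso f G).hom ≫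
    ((EtDesc.pullSh (pullback.snd f f)).mapIso (asIso ψ₀)).hom = φ.hom
  rw [Iso.inv_comp_eq]
  exact key

/-- The locus where a section is compatible. -/
theorem exists_compat_locus (V : S.Etale) (t : EtDesc.sect F' ((EtCoh.bc f).obj V)) :
    ∃ O : Set ↥(pullback V.hom (pullback.fst f f ≫ f)), IsOpen O ∧
      ∀ (Ω : Type u) [Field Ω] [IsSepClosed Ω] (η : Spec (CommRingCat.of Ω) ⟶ S)
        (ξ₁ ξ₂ : Spec (CommRingCat.of Ω) ⟶ X) (h₁ : ξ₁ ≫ f = η) (h₂ : ξ₂ ≫ f = η)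
        (ζ : Spec (CommRingCat.of Ω) ⟶ EtDesc.X2 f) (_ : ζ ≫ pullback.fst f f = ξ₁)
        (_ : ζ ≫ pullback.snd f f = ξ₂) (hb : ζ ≫ pullback.fst f f ≫ f = η)
        (p : (Scheme.pointSmallEtale η).fiber.obj V),
        (fiberPt (liftPt (pullback.fst f f ≫ f) hb V p) ∈ O ↔
          transport f F' φ h₁ h₂ (germ ξ₁ F' (liftPt f h₁ V p) t) =
            germ ξ₂ F' (liftPt f h₂ V p) t) := by
  let b := pullback.fst f f ≫ f
  let W := (EtCoh.bc b).obj V
  let a₁ : W ⟶ (EtCoh.bc (pullback.fst f f)).obj ((EtCoh.bc f).obj V) :=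
    MorphismProperty.Over.homMk (pullback.lift (pullback.lift (pullback.fst V.hom b)
      (pullback.snd V.hom b ≫ pullback.fst f f) (pullback.condition.trans (Category.assoc _ _ _).symm))
      (pullback.snd V.hom b) (pullback.lift_snd _ _ _)) (pullback.lift_snd _ _ _)
  let a₂ : W ⟶ (EtCoh.bc (pullback.snd f f)).obj ((EtCoh.bc f).obj V) :=
    MorphismProperty.Over.homMk (pullback.lift (pullback.lift (pullback.fst V.hom b)
      (pullback.snd V.hom b ≫ pullback.snd f f)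
      (pullback.condition.trans ((_ ≫= pullback.condition).trans (Category.assoc _ _ _).symm)))
      (pullback.snd V.hom b) (pullback.lift_snd _ _ _)) (pullback.lift_snd _ _ _)
  let H := (EtDesc.pullSh (pullback.snd f f)).obj F'
  let s₁ : EtDesc.sect H W :=
    H.obj.map a₁.op (φ.hom.hom.app _ (unitSh (pullback.fst f f) F' _ t))
  let s₂ : EtDesc.sect H W := H.obj.map a₂.op (unitSh (pullback.snd f f) F' _ t)
  refine ⟨_, BaseChange.isOpen_agree H.obj W s₁ s₂, ?_⟩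
  intro Ω _ _ η ξ₁ ξ₂ h₁ h₂ ζ k₁ k₂ hb p
  have e₁ : germ ζ H (liftPt b hb V p) s₁ = germUnit (pullback.snd f f) F' k₂
      (transport f F' φ h₁ h₂ (germ ξ₁ F' (liftPt f h₁ V p) t)) := by
    rw [← transport_spec f F' φ k₁ k₂ h₁ h₂, germUnit_germ, stalkMap_germ]
    refine (germ_map ζ H a₁ _ _).trans (congrArg (fun r => germ ζ H r _) ?_)
    apply Over.OverMorphism.ext
    show pullback.lift (fiberHom p) ζ _ ≫ pullback.lift (pullback.lift (pullback.fst V.hom b)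
      (pullback.snd V.hom b ≫ _) _) (pullback.snd V.hom b) (pullback.lift_snd _ _ _) =
        pullback.lift (pullback.lift (fiberHom p) ξ₁ _) ζ _
    apply pullback.hom_ext
    · rw [Category.assoc, pullback.lift_fst, pullback.lift_fst]
      apply pullback.hom_ext
      · rw [Category.assoc, pullback.lift_fst, pullback.lift_fst, pullback.lift_fst]
      · rw [Category.assoc, pullback.lift_snd, ← Category.assoc, pullback.lift_snd, k₁,
          pullback.lift_snd]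
    · rw [Category.assoc, pullback.lift_snd, pullback.lift_snd, pullback.lift_snd]
  have e₂ : germ ζ H (liftPt b hb V p) s₂ = germUnit (pullback.snd f f) F' k₂
      (germ ξ₂ F' (liftPt f h₂ V p) t) := by
    rw [germUnit_germ]
    refine (germ_map ζ H a₂ _ _).trans (congrArg (fun r => germ ζ H r _) ?_)
    apply Over.OverMorphism.ext
    show pullback.lift (fiberHom p) ζ _ ≫ pullback.lift (pullback.lift (pullback.fst V.hom b)
      (pullback.snd V.hom b ≫ _) _) (pullback.snd V.hom b) (pullback.lift_snd _ _ _) =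
        pullback.lift (pullback.lift (fiberHom p) ξ₂ _) ζ _
    apply pullback.hom_ext
    · rw [Category.assoc, pullback.lift_fst, pullback.lift_fst]
      apply pullback.hom_ext
      · rw [Category.assoc, pullback.lift_fst, pullback.lift_fst, pullback.lift_fst]
      · rw [Category.assoc, pullback.lift_snd, ← Category.assoc, pullback.lift_snd, k₂,
          pullback.lift_snd]
    · rw [Category.assoc, pullback.lift_snd, pullback.lift_snd, pullback.lift_snd]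
  refine (BaseChange.toPresheafFiber_eq_iff_mem H.obj W s₁ s₂ (liftPt b hb V p)).symm.trans
    ⟨fun e => (bijective_germUnit _ F' k₂).1 (e₁.symm.trans (e.trans e₂)),
      fun e => e₁.trans ((congrArg _ e).trans e₂.symm)⟩

end Groth.Agent.Lib.EtSite.Effective
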