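import Groth.Agent.Lib.EtSite.IntegralDescent
import Groth.Agent.Lib.QFRefine.Etale

/-!
Descent of étale sheaves of sets along fppf morphisms is effective: reduce to finite surjective
morphisms over étale neighbourhoods.
-/

set_option autoImplicit false

universe u

open CategoryTheory CategoryTheory.Limits AlgebraicGeometry Opposite

noncomputable section

namespace Groth.Agent.Lib.EtSite.FppfDescent

open Groth.Agent.Lib.EtSite Groth.Agent.Lib.EtSite.Basic Groth.Agent.Lib.EtSite.SubDescent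
open Groth.Agent.Lib.EtSite.PushStalk Groth.Agent.Lib.EtSite.SubSheaf
open Groth.Agent.Lib.EtSite.Effective

/-- Descent of a global section. -/
theorem exists_secPull_eq {X S : Scheme.{u}} (f : X ⟶ S) (hf : EtDesc.IsUnivSubmersive f)
    (F : EtDesc.Sh S) (s' : EtDesc.sect ((EtDesc.pullSh f).obj F) (EtCoh.top X))
    (hc : ∀ (Ω : Type u) [Field Ω] [IsSepClosed Ω] (η : Spec (CommRingCat.of Ω) ⟶ S)
      (ξ₁ ξ₂ : Spec (CommRingCat.of Ω) ⟶ X) (h₁ : ξ₁ ≫ f = η) (h₂ : ξ₂ ≫ f = η) (c : stalk η F),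
      germ ξ₁ _ (topPt ξ₁) s' = germUnit f F h₁ c → germ ξ₂ _ (topPt ξ₂) s' = germUnit f F h₂ c) :
    ∃ s, EtDesc.secPull f F s = s' := by
  obtain ⟨s, hs⟩ := exists_unitSh_eq f hf F (EtCoh.top S)
    (((EtDesc.pullSh f).obj F).obj.map (EtCore.bcTopIso f).hom.op s')
    fun Ω _ _ η ξ₁ ξ₂ h₁ h₂ p c e => by
      rw [germ_map_bcTop] at e ⊢
      exact hc Ω η ξ₁ ξ₂ h₁ h₂ c e
  exact ⟨s, (congrArg (((EtDesc.pullSh f).obj F).obj.map (EtCore.bcTopIso f).inv.op) hs).trans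
    (map_bcTop_inv_hom f _ s')⟩

section Etale

variable {X : Scheme.{u}} (U : X.Etale) (F : EtDesc.Sh X)

/-- The tautological section of the base change of `U` to itself. -/
def diag : EtCoh.top U.left ⟶ (EtCoh.bc U.hom).obj U :=
  MorphismProperty.Over.homMk (pullback.lift (𝟙 _) (𝟙 _) rfl) (pullback.lift_snd _ _ _)

/-- A section over `U` as a global section on `U`. -/
def toTopSec (s : EtDesc.sect F U) :
    EtDesc.sect ((EtDesc.pullSh U.hom).obj F) (EtCoh.top U.left) :=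
  ((EtDesc.pullSh U.hom).obj F).obj.map (diag U).op (unitSh U.hom F U s)

theorem germ_toTopSec (s : EtDesc.sect F U) {Ω : Type u} [Field Ω] [IsSepClosed Ω]
    {ξ : Spec (CommRingCat.of Ω) ⟶ X} (p : (Scheme.pointSmallEtale ξ).fiber.obj U) :
    germ (fiberHom p) _ (topPt (fiberHom p)) (toTopSec U F s) =
      germUnit U.hom F (fiberHom_comp p) (germ ξ F p s) := by
  rw [germUnit_germ]
  refine (germ_map _ _ (diag U) _ _).trans (congrArg (fun r => germ (fiberHom p) _ r _) ?_)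
  apply Over.OverMorphism.ext
  show fiberHom p ≫ pullback.lift (𝟙 _) (𝟙 _) _ = pullback.lift (fiberHom p) (fiberHom p) _
  apply pullback.hom_ext
  · rw [Category.assoc, pullback.lift_fst, pullback.lift_fst, Category.comp_id]
  · rw [Category.assoc, pullback.lift_snd, pullback.lift_snd, Category.comp_id]

/-- Global sections on `U` come from sections over `U`. -/
theorem exists_sect_of_pull (s : EtDesc.sect ((EtDesc.pullSh U.hom).obj F) (EtCoh.top U.left)) :
    ∃ v : EtDesc.sect F U, toTopSec U F v = s := by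
  classical
  let H := (EtDesc.pullSh U.hom).obj F
  have hloc : ∀ z : U.left, ∃ (W : X.Etale) (g : W ⟶ U) (a : EtDesc.sect F W),
      (∀ (Ω : Type u) [Field Ω] [IsSepClosed Ω] (ξ : Spec (CommRingCat.of Ω) ⟶ X)
        (q : (Scheme.pointSmallEtale ξ).fiber.obj W),
        germUnit U.hom F (fiberHom_comp ((Scheme.pointSmallEtale ξ).fiber.map g q))
          (germ ξ F q a) =
          germ (fiberHom ((Scheme.pointSmallEtale ξ).fiber.map g q)) H (topPt _) s) ∧
      ∃ w : W.left, g.left.base w = z := by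
    intro z
    let m := Push.algPoint U.left z
    let ξ := m ≫ U.hom
    let p : (Scheme.pointSmallEtale ξ).fiber.obj U := mkFiber ξ U m rfl
    obtain ⟨c, hc⟩ := (bijective_germUnit U.hom F (fiberHom_comp p)).2
      (germ (fiberHom p) H (topPt _) s)
    obtain ⟨V', q', a', rfl⟩ :=
      (Scheme.pointSmallEtale ξ).toPresheafFiber_jointly_surjective (P := F.obj) c
    let M := IsCofiltered.min ((Scheme.pointSmallEtale ξ).fiber.elementsMk U p)
      ((Scheme.pointSmallEtale ξ).fiber.elementsMk V' q')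
    let g : M ⟶ (Scheme.pointSmallEtale ξ).fiber.elementsMk U p := IsCofiltered.minToLeft _ _
    let g' : M ⟶ (Scheme.pointSmallEtale ξ).fiber.elementsMk V' q' := IsCofiltered.minToRight _ _
    let W : X.Etale := M.1
    let q : (Scheme.pointSmallEtale ξ).fiber.obj W := M.2
    have hg : (Scheme.pointSmallEtale ξ).fiber.map g.1 q = p := g.2
    have hg' : (Scheme.pointSmallEtale ξ).fiber.map g'.1 q = q' := g'.2
    let a : EtDesc.sect F W := F.obj.map g'.1.op a'
    have : Etale g.1.left := Fiber.etale_left g.1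
    let W' : U.left.Etale := Scheme.Etale.mk g.1.left
    let toTop : W' ⟶ EtCoh.top U.left :=
      MorphismProperty.Over.homMk g.1.left (Category.comp_id _)
    let toBc : W' ⟶ (EtCoh.bc U.hom).obj W := MorphismProperty.Over.homMk
      (pullback.lift (𝟙 _) g.1.left ((Category.id_comp _).trans (Over.w g.1.hom).symm))
      (pullback.lift_snd _ _ _)
    let s₁ : EtDesc.sect H W' := H.obj.map toTop.op s
    let s₂ : EtDesc.sect H W' := H.obj.map toBc.op (unitSh U.hom F W a)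
    let O := {x : W'.left | ∃ (T : U.left.Etale) (b : T ⟶ W'),
      H.obj.map b.op s₁ = H.obj.map b.op s₂ ∧ x ∈ Set.range b.left.base}
    have key : ∀ (Ω : Type u) [Field Ω] [IsSepClosed Ω] (ξ' : Spec (CommRingCat.of Ω) ⟶ X)
        (r : (Scheme.pointSmallEtale ξ').fiber.obj W),
        (fiberPt r ∈ O ↔ germUnit U.hom F
          (fiberHom_comp ((Scheme.pointSmallEtale ξ').fiber.map g.1 r)) (germ ξ' F r a) =
          germ (fiberHom ((Scheme.pointSmallEtale ξ').fiber.map g.1 r)) H (topPt _) s) := by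
      intro Ω _ _ ξ' r
      let l := fiberHom r
      let r' : (Scheme.pointSmallEtale
          (fiberHom ((Scheme.pointSmallEtale ξ').fiber.map g.1 r))).fiber.obj W' :=
        mkFiber (fiberHom ((Scheme.pointSmallEtale ξ').fiber.map g.1 r)) W' l (by rfl)
      have e₁ : germ _ H r' s₁ =
          germ (fiberHom ((Scheme.pointSmallEtale ξ').fiber.map g.1 r)) H (topPt _) s :=
        (germ_map _ H toTop r' s).trans (congrArg (fun k => germ _ H k s) (eq_topPt _ _))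
      have e₂ : germ _ H r' s₂ = germUnit U.hom F
          (fiberHom_comp ((Scheme.pointSmallEtale ξ').fiber.map g.1 r)) (germ ξ' F r a) := by
        rw [germUnit_germ]
        refine (germ_map _ H toBc r' _).trans (congrArg (fun k => germ _ H k _) ?_)
        apply Over.OverMorphism.ext
        show fiberHom r ≫ pullback.lift (𝟙 _) g.1.left _ = pullback.lift (fiberHom r) _ _
        apply pullback.hom_ext
        · rw [Category.assoc, pullback.lift_fst, pullback.lift_fst, Category.comp_id]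
        · rw [Category.assoc, pullback.lift_snd, pullback.lift_snd]
          rfl
      rw [← e₁, ← e₂]
      exact (BaseChange.toPresheafFiber_eq_iff_mem H.obj W' s₁ s₂ r').symm.trans
        ⟨Eq.symm, Eq.symm⟩
    have hqO : fiberPt q ∈ O := by
      refine (key _ ξ q).2 ?_
      have e : ∀ p' : (Scheme.pointSmallEtale ξ).fiber.obj U, p' = p →
          germUnit U.hom F (fiberHom_comp p') (germ ξ F q' a') =
            germ (fiberHom p') H (topPt _) s := by
        intro p' hp'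
        subst hp'
        exact hc
      rw [germ_map, hg']
      exact e _ hg
    have hO : IsOpen O := BaseChange.isOpen_agree (Z := U.left) (A := Type (u + 1)) H.obj W' s₁ s₂
    let E : W.left.Opens := ⟨O, hO⟩
    have : Etale W.hom := W.prop
    let W₁ : X.Etale := Scheme.Etale.mk (E.ι ≫ W.hom)
    let e : W₁ ⟶ W := MorphismProperty.Over.homMk E.ι rfl
    refine ⟨W₁, e ≫ g.1, F.obj.map e.op a, ?_, ⟨fiberPt q, hqO⟩, ?_⟩
    · intro Ω _ _ ξ' r
      have h := (key Ω ξ' ((Scheme.pointSmallEtale ξ').fiber.map e r)).1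
        (by rw [fiberPt_map]; exact (fiberPt r).2)
      rw [← germ_map] at h
      have e' : (Scheme.pointSmallEtale ξ').fiber.map g.1
          ((Scheme.pointSmallEtale ξ').fiber.map e r) =
          (Scheme.pointSmallEtale ξ').fiber.map (e ≫ g.1) r := by
        rw [Functor.map_comp]; rfl
      exact (e' ▸ h :)
    · change g.1.left.base (fiberPt q) = z
      rw [← fiberPt_map, hg]
      exact Push.algPoint_apply U.left z default
  choose W g a ha w hw using hloc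
  have hF : Presieve.IsSheaf X.smallEtaleTopology F.obj := (isSheaf_iff_isSheaf_of_type _ _).1 F.2
  have hS := (Presieve.isSheafFor_arrows_iff F.obj g).1
    ((Presieve.isSheafFor_iff_generate _).2 (hF _ (ofArrows_mem W g fun z => ⟨z, w z, hw z⟩)))
  obtain ⟨v, hv, -⟩ := hS a fun i j Z gi gj hij => by
    refine Stalk.sections_ext_of_germ F _ _ fun x => ?_
    refine ⟨_, inferInstance, inferInstance, Push.algPoint X x, Push.algPoint_apply X x default,
      fun r => ?_⟩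
    refine (germ_map _ F gi r _).trans (Eq.trans ?_ (germ_map _ F gj r _).symm)
    have h₁ := ha i _ (Push.algPoint X x) ((Scheme.pointSmallEtale (Push.algPoint X x)).fiber.map gi r)
    have h₂ := ha j _ (Push.algPoint X x) ((Scheme.pointSmallEtale (Push.algPoint X x)).fiber.map gj r)
    have e : (Scheme.pointSmallEtale (Push.algPoint X x)).fiber.map (g i)
        ((Scheme.pointSmallEtale (Push.algPoint X x)).fiber.map gi r) =
        (Scheme.pointSmallEtale (Push.algPoint X x)).fiber.map (g j)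
          ((Scheme.pointSmallEtale (Push.algPoint X x)).fiber.map gj r) := by
      rw [← ConcreteCategory.comp_apply, ← Functor.map_comp, hij, Functor.map_comp]
      rfl
    have main : ∀ (c₁ c₂ : stalk (Push.algPoint X x) F)
        (p₁ p₂ : (Scheme.pointSmallEtale (Push.algPoint X x)).fiber.obj U), p₁ = p₂ →
        germUnit U.hom F (fiberHom_comp p₁) c₁ = germ (fiberHom p₁) H (topPt _) s →
        germUnit U.hom F (fiberHom_comp p₂) c₂ = germ (fiberHom p₂) H (topPt _) s → c₁ = c₂ := by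
      intro c₁ c₂ p₁ p₂ hp h₁ h₂
      subst hp
      exact (bijective_germUnit U.hom F (fiberHom_comp p₁)).1 (h₁.trans h₂.symm)
    exact main _ _ _ _ e h₁ h₂
  refine ⟨v, top_ext _ _ _ fun z => ?_⟩
  let m := Push.algPoint U.left z
  let ξ := m ≫ U.hom
  obtain ⟨q, hq, -⟩ := Fiber.exists_fiber_map ξ (g z) (mkFiber ξ U m rfl) (w z)
    ((hw z).trans (Push.algPoint_apply U.left z default).symm)
  refine ⟨_, inferInstance, inferInstance, m, Push.algPoint_apply U.left z default, ?_⟩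
  have h := ha z _ ξ q
  rw [← hv z, germ_map] at h
  exact (show ∀ p' : (Scheme.pointSmallEtale ξ).fiber.obj U, p' = mkFiber ξ U m rfl →
    germUnit U.hom F (fiberHom_comp p') (germ ξ F p' v) = germ (fiberHom p') H (topPt _) s →
    germ m H (topPt _) (toTopSec U F v) = germ m H (topPt _) s by
      intro p' hp' h'
      subst hp'
      exact (germ_toTopSec U F v (mkFiber ξ U m rfl)).trans h') _ hq h

end Etale

variable {X S : Scheme.{u}} (f : X ⟶ S) (F' : EtDesc.Sh X)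
  (φ : (EtDesc.pullSh (pullback.fst f f)).obj F' ≅ (EtDesc.pullSh (pullback.snd f f)).obj F')

/-- Compatibility may be tested at algebraically closed fields. -/
theorem compat_of_algClosed (V : S.Etale) (t : EtDesc.sect F' ((EtCoh.bc f).obj V))
    (h : ∀ (Ω : Type u) [Field Ω] [IsAlgClosed Ω] (η : Spec (CommRingCat.of Ω) ⟶ S)
      (ξ₁ ξ₂ : Spec (CommRingCat.of Ω) ⟶ X) (h₁ : ξ₁ ≫ f = η) (h₂ : ξ₂ ≫ f = η)
      (p : (Scheme.pointSmallEtale η).fiber.obj V),
      transport f F' φ h₁ h₂ (germ ξ₁ F' (liftPt f h₁ V p) t) = germ ξ₂ F' (liftPt f h₂ V p) t) :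
    Compat f F' φ V t := by
  obtain ⟨O, -, hmem⟩ := exists_compat_locus f F' φ V t
  have hall : ∀ w, w ∈ O := by
    intro w
    let b := pullback.fst f f ≫ f
    let m := Push.algPoint (pullback V.hom b) w
    let ζ := m ≫ pullback.snd V.hom b
    let η := m ≫ pullback.fst V.hom b ≫ V.hom
    have hb : ζ ≫ pullback.fst f f ≫ f = η :=
      (Category.assoc _ _ _).trans (m ≫= pullback.condition.symm)
    have h₁ : (ζ ≫ pullback.fst f f) ≫ f = η := (Category.assoc _ _ _).trans hb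
    have h₂ : (ζ ≫ pullback.snd f f) ≫ f = η := by
      rw [Category.assoc, ← pullback.condition]; exact hb
    let p : (Scheme.pointSmallEtale η).fiber.obj V :=
      mkFiber η V (m ≫ pullback.fst V.hom b) (Category.assoc _ _ _)
    have e : fiberPt (liftPt b hb V p) = w := by
      have e' : fiberHom (liftPt b hb V p) = m :=
        pullback.hom_ext (pullback.lift_fst _ _ _) (pullback.lift_snd _ _ _)
      exact (congrArg (fun r : Spec (CommRingCat.of _) ⟶ pullback V.hom b => r.base default) e').trans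
        (Push.algPoint_apply _ w default)
    exact e ▸ (hmem _ η _ _ h₁ h₂ ζ rfl rfl hb p).2 (h _ η _ _ h₁ h₂ p)
  intro Ω _ _ η ξ₁ ξ₂ h₁ h₂ p
  exact (hmem Ω η ξ₁ ξ₂ h₁ h₂ _ (pullback.lift_fst ξ₁ ξ₂ (h₁.trans h₂.symm))
    (pullback.lift_snd _ _ _) (by rw [← Category.assoc, pullback.lift_fst, h₁]) p).1 (hall _)

/-- Restriction of a datum along `r` to a morphism `v` refining `f` over `u`. -/
theorem exists_restricted (hφ : EtDesc.IsCocycle F' φ) {Z T : Scheme.{u}} (v : Z ⟶ T)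
    (u : T ⟶ S) (r : Z ⟶ X) (w : r ≫ f = v ≫ u) :
    ∃ φ' : (EtDesc.pullSh (pullback.fst v v)).obj ((EtDesc.pullSh r).obj F') ≅
        (EtDesc.pullSh (pullback.snd v v)).obj ((EtDesc.pullSh r).obj F'),
      EtDesc.IsCocycle ((EtDesc.pullSh r).obj F') φ' ∧
      ∀ (Ω : Type u) [Field Ω] [IsSepClosed Ω] (θ : Spec (CommRingCat.of Ω) ⟶ T)
        (ζ₁ ζ₂ : Spec (CommRingCat.of Ω) ⟶ Z) (η : Spec (CommRingCat.of Ω) ⟶ S)
        (h₁ : ζ₁ ≫ v = θ) (h₂ : ζ₂ ≫ v = θ) (k₁ : (ζ₁ ≫ r) ≫ f = η) (k₂ : (ζ₂ ≫ r) ≫ f = η)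
        (x : stalk (ζ₁ ≫ r) F'),
        transport v _ φ' h₁ h₂ (germUnit r F' rfl x) =
          germUnit r F' rfl (transport f F' φ k₁ k₂ x) := by
  let m : EtDesc.X2 v ⟶ EtDesc.X2 f :=
    pullback.lift (pullback.fst v v ≫ r) (pullback.snd v v ≫ r) (by
      rw [Category.assoc, Category.assoc, w, ← Category.assoc, pullback.condition, Category.assoc])
  have w₁ : m ≫ pullback.fst f f = pullback.fst v v ≫ r := pullback.lift_fst _ _ _
  have w₂ : m ≫ pullback.snd f f = pullback.snd v v ≫ r := pullback.lift_snd _ _ _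
  let φ' : (EtDesc.pullSh (pullback.fst v v)).obj ((EtDesc.pullSh r).obj F') ≅
      (EtDesc.pullSh (pullback.snd v v)).obj ((EtDesc.pullSh r).obj F') :=
    EtDesc.pullVia (pullback.fst v v) r _ rfl F' ≪≫
      (EtDesc.pullVia m (pullback.fst f f) _ w₁ F').symm ≪≫ (EtDesc.pullSh m).mapIso φ ≪≫
        EtDesc.pullVia m (pullback.snd f f) _ w₂ F' ≪≫
          (EtDesc.pullVia (pullback.snd v v) r _ rfl F').symm
  have htr : ∀ (Ω : Type u) [Field Ω] [IsSepClosed Ω] (θ : Spec (CommRingCat.of Ω) ⟶ T)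
      (ζ₁ ζ₂ : Spec (CommRingCat.of Ω) ⟶ Z) (η : Spec (CommRingCat.of Ω) ⟶ S)
      (h₁ : ζ₁ ≫ v = θ) (h₂ : ζ₂ ≫ v = θ) (k₁ : (ζ₁ ≫ r) ≫ f = η) (k₂ : (ζ₂ ≫ r) ≫ f = η)
      (x : stalk (ζ₁ ≫ r) F'),
      transport v _ φ' h₁ h₂ (germUnit r F' rfl x) =
        germUnit r F' rfl (transport f F' φ k₁ k₂ x) := by
    intro Ω _ _ θ ζ₁ ζ₂ η h₁ h₂ k₁ k₂ x
    let ρ := pullback.lift ζ₁ ζ₂ (h₁.trans h₂.symm)
    have r₁ : ρ ≫ pullback.fst v v = ζ₁ := pullback.lift_fst _ _ _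
    have r₂ : ρ ≫ pullback.snd v v = ζ₂ := pullback.lift_snd _ _ _
    have m₁ : (ρ ≫ m) ≫ pullback.fst f f = ζ₁ ≫ r := by
      rw [Category.assoc, w₁, ← Category.assoc, r₁]
    have m₂ : (ρ ≫ m) ≫ pullback.snd f f = ζ₂ ≫ r := by
      rw [Category.assoc, w₂, ← Category.assoc, r₂]
    have b₁ : ρ ≫ pullback.fst v v ≫ r = ζ₁ ≫ r := by rw [← Category.assoc, r₁]
    have b₂ : ρ ≫ pullback.snd v v ≫ r = ζ₂ ≫ r := by rw [← Category.assoc, r₂]
    apply (bijective_germUnit (pullback.snd v v) _ r₂).1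
    rw [← transport_spec v _ φ' r₁ r₂ h₁ h₂]
    simp only [φ', Iso.trans_hom, Iso.symm_hom, Functor.mapIso_hom, stalkMap_comp]
    rw [pullVia_germUnit r (pullback.fst v v) _ rfl F' r₁ rfl b₁,
      ← pullVia_germUnit (pullback.fst f f) m _ w₁ F' rfl m₁ b₁,
      ← stalkMap_comp ρ (EtDesc.pullVia m (pullback.fst f f) _ w₁ F').hom,
      Iso.hom_inv_id, stalkMap_id, germUnit_naturality,
      transport_spec f F' φ m₁ m₂ k₁ k₂, pullVia_germUnit (pullback.snd f f) m _ w₂ F' rfl m₂ b₂,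
      ← pullVia_germUnit r (pullback.snd v v) _ rfl F' r₂ rfl b₂, ← stalkMap_comp,
      Iso.hom_inv_id, stalkMap_id]
  refine ⟨φ', hom_ext_of_stalks _ _ fun z => ?_, htr⟩
  refine ⟨_, inferInstance, inferInstance, Push.algPoint (EtDesc.X3 v) z,
    Push.algPoint_apply _ z default, fun x => ?_⟩
  let θ := Push.algPoint (EtDesc.X3 v) z
  have h₂ : (θ ≫ EtDesc.q2 (f := v)) ≫ v = (θ ≫ EtDesc.q1 (f := v)) ≫ v := by
    change (θ ≫ EtDesc.p12 v ≫ pullback.snd v v) ≫ v = (θ ≫ EtDesc.p12 v ≫ pullback.fst v v) ≫ v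
    rw [Category.assoc, Category.assoc, Category.assoc, Category.assoc,
      pullback.condition (f := v) (g := v)]
  have h₃ : (θ ≫ EtDesc.q3 (f := v)) ≫ v = (θ ≫ EtDesc.q1 (f := v)) ≫ v := by
    rw [Category.assoc, Category.assoc]
    exact θ ≫= (EtDesc.p13_comm v).symm
  have kk : ∀ ζ : Spec (CommRingCat.of _) ⟶ Z, ζ ≫ v = (θ ≫ EtDesc.q1 (f := v)) ≫ v →
      (ζ ≫ r) ≫ f = ((θ ≫ EtDesc.q1 (f := v)) ≫ v) ≫ u := fun ζ hζ => by
    rw [← hζ, Category.assoc, w, Category.assoc]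
  obtain ⟨y, hy⟩ := (bijective_germUnit (EtDesc.q1 (f := v)) ((EtDesc.pullSh r).obj F')
    (rfl : θ ≫ EtDesc.q1 (f := v) = _)).2 x
  rw [← hy]
  obtain ⟨c, rfl⟩ := (bijective_germUnit r F' (rfl : (θ ≫ EtDesc.q1 (f := v)) ≫ r = _)).2 y
  rw [stalkMap_comp, pullIsoVia_germUnit v _ φ' (EtDesc.p12 v) EtDesc.q1 EtDesc.q2 rfl rfl rfl rfl
      rfl h₂, pullIsoVia_germUnit v _ φ' (EtDesc.p23 v) EtDesc.q2 EtDesc.q3 EtDesc.p23_fst rfl rfl
      rfl h₂ h₃, pullIsoVia_germUnit v _ φ' (EtDesc.p13 v) EtDesc.q1 EtDesc.q3 EtDesc.p13_fst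
      EtDesc.p13_snd rfl rfl rfl h₃,
    htr _ _ _ _ _ rfl h₂ (kk _ rfl) (kk _ h₂), htr _ _ _ _ _ h₂ h₃ (kk _ h₂) (kk _ h₃),
    htr _ _ _ _ _ rfl h₃ (kk _ rfl) (kk _ h₃), transport_trans f F' φ hφ]

/-- A compatible section through a germ, from a finite surjective refinement of an étale nbhd. -/
theorem exists_compat_of_refinement (hφ : EtDesc.IsCocycle F' φ) (V : S.Etale) {Z : Scheme.{u}}
    (v : Z ⟶ V.left) [IsIntegralHom v] [Surjective v] (r : Z ⟶ X) (w : r ≫ f = v ≫ V.hom)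
    {Ω : Type u} [Field Ω] [IsAlgClosed Ω] (ξ₀ : Spec (CommRingCat.of Ω) ⟶ X)
    (p : (Scheme.pointSmallEtale (ξ₀ ≫ f)).fiber.obj V) (g : stalk ξ₀ F') :
    ∃ (W : S.Etale) (q : (Scheme.pointSmallEtale (ξ₀ ≫ f)).fiber.obj W)
      (t : EtDesc.sect F' ((EtCoh.bc f).obj W)),
      Compat f F' φ W t ∧ germ ξ₀ F' (liftPt f rfl W q) t = g := by
  obtain ⟨φ', hφ', htr⟩ := exists_restricted f F' φ hφ v V.hom r w
  obtain ⟨z, hz⟩ := (pullback.snd v (fiberHom p)).surjective default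
  obtain ⟨σ, hσ, -⟩ := FieldExt.exists_section_of_isIntegralHom (pullback.snd v (fiberHom p)) z
  let ζ₀ := σ ≫ pullback.fst v (fiberHom p)
  have hζ₀ : ζ₀ ≫ v = fiberHom p := by
    simp only [ζ₀, Category.assoc, pullback.condition]
    rw [← Category.assoc, hσ, Category.id_comp]
  have k₀ : (ζ₀ ≫ r) ≫ f = ξ₀ ≫ f := by
    rw [Category.assoc, w, ← Category.assoc, hζ₀]
    exact fiberHom_comp p
  obtain ⟨W', q', τ, hτc, hτ⟩ := IntegralDescent.exists_compat v _ φ' hφ' hζ₀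
    (germUnit r F' rfl (transport f F' φ rfl k₀ g))
  have : Etale W'.hom := W'.prop
  have : Etale V.hom := V.prop
  let W : S.Etale := Scheme.Etale.mk (W'.hom ≫ V.hom)
  let U := (EtCoh.bc f).obj W
  let ZW := (EtCoh.bc v).obj W'
  let π : ZW.left ⟶ W.left := pullback.fst W'.hom v
  let ρ : U.left ⟶ W.left := pullback.fst W.hom f
  let a := pullback.fst π ρ
  let k := pullback.snd π ρ
  have : IsIntegralHom π := inferInstanceAs (IsIntegralHom (pullback.fst W'.hom v))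
  have : Surjective π := inferInstanceAs (Surjective (pullback.fst W'.hom v))
  have hk : EtDesc.IsUnivSubmersive k := IntegralDescent.isUnivSubmersive_of_integral k
  let A := a ≫ ZW.hom ≫ r
  let B := k ≫ U.hom
  have hAB : A ≫ f = B ≫ f := by
    have e₁ : (ZW.hom ≫ r) ≫ f = π ≫ W.hom := by
      change (pullback.snd W'.hom v ≫ r) ≫ f = pullback.fst W'.hom v ≫ W'.hom ≫ V.hom
      rw [Category.assoc, w, pullback.condition_assoc]
    have e₂ : U.hom ≫ f = ρ ≫ W.hom := pullback.condition.symm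
    change (a ≫ ZW.hom ≫ r) ≫ f = (k ≫ U.hom) ≫ f
    rw [Category.assoc a, e₁, Category.assoc k, e₂, ← Category.assoc, ← Category.assoc k,
      pullback.condition (f := π) (g := ρ)]
  let m : pullback π ρ ⟶ EtDesc.X2 f := pullback.lift A B hAB
  have w₁ : m ≫ pullback.fst f f = A := pullback.lift_fst _ _ _
  have w₂ : m ≫ pullback.snd f f = B := pullback.lift_snd _ _ _
  let Φ : (EtDesc.pullSh a).obj ((EtDesc.pullSh ZW.hom).obj ((EtDesc.pullSh r).obj F')) ⟶
      (EtDesc.pullSh k).obj ((EtDesc.pullSh U.hom).obj F') :=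
    (EtDesc.pullVia a ZW.hom _ rfl ((EtDesc.pullSh r).obj F')).hom ≫
      (EtDesc.pullVia (a ≫ ZW.hom) r A (Category.assoc _ _ _) F').hom ≫
        (EtDesc.pullVia m (pullback.fst f f) A w₁ F').inv ≫ (EtDesc.pullSh m).map φ.hom ≫
          (EtDesc.pullVia m (pullback.snd f f) B w₂ F').hom ≫
            (EtDesc.pullVia k U.hom B rfl F').inv
  let sY := Φ.hom.app (op (EtCoh.top _)) (EtDesc.secPull a _ (toTopSec ZW _ τ))
  -- germs of the glued section
  have hsY : ∀ (Ω' : Type u) [Field Ω'] [IsSepClosed Ω'] (θ : Spec (CommRingCat.of Ω') ⟶ pullback π ρ)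
      (μ : Spec (CommRingCat.of Ω') ⟶ U.left) (η' : Spec (CommRingCat.of Ω') ⟶ S)
      (hμ : θ ≫ k = μ) (q : (Scheme.pointSmallEtale ((θ ≫ a ≫ ZW.hom))).fiber.obj ZW)
      (hq : fiberHom q = θ ≫ a) (y : stalk ((θ ≫ a ≫ ZW.hom) ≫ r) F')
      (_ : germ _ _ q τ = germUnit r F' rfl y)
      (k₁ : ((θ ≫ a ≫ ZW.hom) ≫ r) ≫ f = η') (k₂ : (μ ≫ U.hom) ≫ f = η'),
      germ θ _ (topPt θ) sY =
        germUnit k _ hμ (germUnit U.hom F' rfl (transport f F' φ k₁ k₂ y)) := by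
    intro Ω' _ _ θ μ η' hμ q hq y hy k₁ k₂
    have e0 : ∀ (μ₀ : Spec (CommRingCat.of Ω') ⟶ ZW.left) (_ : μ₀ = θ ≫ a)
        (hh : μ₀ ≫ ZW.hom = θ ≫ a ≫ ZW.hom),
        germ μ₀ _ (topPt μ₀) (toTopSec ZW _ τ) =
          germUnit ZW.hom _ hh (germUnit r F' rfl y) →
        germ (θ ≫ a) _ (topPt _) (toTopSec ZW _ τ) =
          germUnit ZW.hom _ (Category.assoc _ _ _) (germUnit r F' rfl y) := by
      intro μ₀ e hh h
      subst e
      exact h
    have e1 := e0 _ hq _ ((germ_toTopSec ZW _ τ q).trans (congrArg _ hy))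
    have c₁ : θ ≫ a ≫ ZW.hom = θ ≫ a ≫ ZW.hom := rfl
    have cA : θ ≫ A = (θ ≫ a ≫ ZW.hom) ≫ r := by simp only [A, Category.assoc]
    have m₁ : (θ ≫ m) ≫ pullback.fst f f = (θ ≫ a ≫ ZW.hom) ≫ r := by
      rw [Category.assoc, w₁, cA]
    have cB : θ ≫ B = μ ≫ U.hom := by rw [← hμ, Category.assoc]
    have m₂ : (θ ≫ m) ≫ pullback.snd f f = μ ≫ U.hom := by rw [Category.assoc, w₂, cB]
    refine (stalkMap_germ θ Φ (topPt θ) _).symm.trans ?_
    rw [germ_secPull a _ rfl, e1]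
    simp only [Φ, stalkMap_comp]
    rw [pullVia_germUnit ZW.hom a _ rfl _ rfl (Category.assoc _ _ _) c₁,
      pullVia_germUnit r (a ≫ ZW.hom) A (Category.assoc _ _ _) F' c₁ rfl cA,
      ← pullVia_germUnit (pullback.fst f f) m A w₁ F' rfl m₁ cA, ← stalkMap_comp θ
        (EtDesc.pullVia m (pullback.fst f f) A w₁ F').hom, Iso.hom_inv_id, stalkMap_id,
      germUnit_naturality, transport_spec f F' φ m₁ m₂ k₁ k₂,
      pullVia_germUnit (pullback.snd f f) m B w₂ F' rfl m₂ cB,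
      ← pullVia_germUnit U.hom k B rfl F' hμ rfl cB, ← stalkMap_comp, Iso.hom_inv_id, stalkMap_id]
  -- a point of the refinement gives a value
  have hval : ∀ (Ω' : Type u) [Field Ω'] [IsSepClosed Ω']
      (θ : Spec (CommRingCat.of Ω') ⟶ pullback π ρ),
      ∃ (q : (Scheme.pointSmallEtale ((θ ≫ a ≫ ZW.hom))).fiber.obj ZW) (_ : fiberHom q = θ ≫ a)
        (y : stalk ((θ ≫ a ≫ ZW.hom) ≫ r) F'), germ _ _ q τ = germUnit r F' rfl y := by
    intro Ω' _ _ θ
    obtain ⟨y, hy⟩ := (bijective_germUnit r F'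
      (rfl : (θ ≫ a ≫ ZW.hom) ≫ r = (θ ≫ a ≫ ZW.hom) ≫ r)).2
      (germ _ _ (mkFiber (θ ≫ a ≫ ZW.hom) ZW (θ ≫ a) (Category.assoc _ _ _)) τ)
    exact ⟨_, rfl, y, hy.symm⟩
  have hcomp : ∀ (Ω' : Type u) [Field Ω'] [IsSepClosed Ω']
      (θ : Spec (CommRingCat.of Ω') ⟶ pullback π ρ) (η' : Spec (CommRingCat.of Ω') ⟶ S),
      (θ ≫ B) ≫ f = η' → ((θ ≫ a ≫ ZW.hom) ≫ r) ≫ f = η' := fun Ω' _ _ θ η' h => by
    rw [← h, Category.assoc θ B f, ← hAB]
    simp only [A, Category.assoc]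
  obtain ⟨s, hs⟩ := exists_secPull_eq k hk _ sY fun Ω' _ _ μ θ₁ θ₂ h₁ h₂ c e => by
    obtain ⟨q₁, hq₁, y₁, hy₁⟩ := hval Ω' θ₁
    obtain ⟨q₂, hq₂, y₂, hy₂⟩ := hval Ω' θ₂
    let η' := (μ ≫ U.hom) ≫ f
    have kμ : (μ ≫ U.hom) ≫ f = η' := rfl
    have k₁ := hcomp Ω' θ₁ η' (by rw [← Category.assoc θ₁ k U.hom, h₁])
    have k₂ := hcomp Ω' θ₂ η' (by rw [← Category.assoc θ₂ k U.hom, h₂])
    rw [hsY Ω' θ₁ μ η' h₁ q₁ hq₁ y₁ hy₁ k₁ kμ] at e
    rw [hsY Ω' θ₂ μ η' h₂ q₂ hq₂ y₂ hy₂ k₂ kμ, ← (bijective_germUnit k _ h₁).1 e]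
    refine congrArg (germUnit k _ h₂) (congrArg (germUnit U.hom F' rfl) ?_)
    -- the two points give points of `Z` over a common point of `W`
    let ω := μ ≫ ρ
    let qW : (Scheme.pointSmallEtale (ω ≫ W'.hom)).fiber.obj W' := mkFiber _ W' ω rfl
    have hω : ∀ θ : Spec (CommRingCat.of Ω') ⟶ pullback π ρ, θ ≫ k = μ →
        (θ ≫ a ≫ ZW.hom) ≫ v = ω ≫ W'.hom := fun θ hθ => by
      change (θ ≫ a ≫ ZW.hom) ≫ v = (μ ≫ ρ) ≫ W'.hom
      have e₁ : ZW.hom ≫ v = π ≫ W'.hom := pullback.condition.symm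
      rw [Category.assoc, Category.assoc, e₁, ← hθ, Category.assoc, Category.assoc,
        ← Category.assoc a, ← Category.assoc k, pullback.condition (f := π) (g := ρ)]
    have hlift : ∀ (θ : Spec (CommRingCat.of Ω') ⟶ pullback π ρ) (hθ : θ ≫ k = μ)
        (q : (Scheme.pointSmallEtale ((θ ≫ a ≫ ZW.hom))).fiber.obj ZW), fiberHom q = θ ≫ a →
        q = liftPt v (hω θ hθ) W' qW := fun θ hθ q hq => by
      apply Over.OverMorphism.ext
      refine hq.trans (Eq.symm ?_)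
      apply pullback.hom_ext
      · refine (pullback.lift_fst _ _ _).trans ?_
        change μ ≫ ρ = (θ ≫ a) ≫ π
        rw [Category.assoc, pullback.condition, ← Category.assoc, hθ]
      · exact (pullback.lift_snd _ _ _).trans (Category.assoc _ _ _).symm
    have hc' := hτc Ω' (ω ≫ W'.hom) _ _ (hω θ₁ h₁) (hω θ₂ h₂) qW
    rw [← hlift θ₁ h₁ q₁ hq₁, ← hlift θ₂ h₂ q₂ hq₂, hy₁, hy₂,
      htr Ω' _ _ _ η' _ _ k₁ k₂] at hc'
    rw [← (bijective_germUnit r F' rfl).1 hc', transport_trans f F' φ hφ]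
  obtain ⟨t, ht⟩ := exists_sect_of_pull U F' s
  -- the germs of `t`
  let lft : ∀ (Ω' : Type u) [Field Ω'] [IsSepClosed Ω'] (η' : Spec (CommRingCat.of Ω') ⟶ S)
      (q : (Scheme.pointSmallEtale η').fiber.obj W), Spec (CommRingCat.of Ω') ⟶ W'.left :=
    fun Ω' _ _ η' q => (by exact (fiberHom (X := S) (U := W) q))
  have hgerm : ∀ (Ω' : Type u) [Field Ω'] [IsSepClosed Ω'] (η' : Spec (CommRingCat.of Ω') ⟶ S)
      (ξ : Spec (CommRingCat.of Ω') ⟶ X) (h : ξ ≫ f = η')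
      (q : (Scheme.pointSmallEtale η').fiber.obj W) (ζ : Spec (CommRingCat.of Ω') ⟶ Z)
      (hζ : ζ ≫ v = lft Ω' η' q ≫ W'.hom) (k₁ : (ζ ≫ r) ≫ f = η')
      (y : stalk (ζ ≫ r) F'),
      germ ζ _ (liftPt v hζ W' (mkFiber _ W' (lft Ω' η' q) rfl)) τ = germUnit r F' rfl y →
      germ ξ F' (liftPt f h W q) t = transport f F' φ k₁ h y := by
    intro Ω' _ _ η' ξ h q ζ hζ k₁ y hy
    let μ := fiberHom (liftPt f h W q)
    let zW : Spec (CommRingCat.of Ω') ⟶ ZW.left := pullback.lift (lft Ω' η' q) ζ hζ.symm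
    let θ : Spec (CommRingCat.of Ω') ⟶ pullback π ρ := pullback.lift zW μ
      ((pullback.lift_fst _ _ _).trans (pullback.lift_fst _ _ _).symm)
    have hμ : θ ≫ k = μ := pullback.lift_snd _ _ _
    have hza : θ ≫ a = zW := pullback.lift_fst _ _ _
    have hz : θ ≫ a ≫ ZW.hom = ζ := by
      rw [← Category.assoc, hza]
      exact pullback.lift_snd _ _ _
    have hU : μ ≫ U.hom = ξ := pullback.lift_snd _ _ _
    have conv : ∀ (ζ' : Spec (CommRingCat.of Ω') ⟶ Z) (_ : θ ≫ a ≫ ZW.hom = ζ')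
        (qq : (Scheme.pointSmallEtale ζ').fiber.obj ZW) (_ : fiberHom qq = θ ≫ a)
        (k₁' : (ζ' ≫ r) ≫ f = η') (y' : stalk (ζ' ≫ r) F'),
        germ ζ' _ qq τ = germUnit r F' rfl y' → ∀ (ξ' : Spec (CommRingCat.of Ω') ⟶ X)
        (hU' : μ ≫ U.hom = ξ') (h' : ξ' ≫ f = η'),
        germ θ _ (topPt θ) sY =
          germUnit k _ hμ (germUnit U.hom F' hU' (transport f F' φ k₁' h' y')) := by
      intro ζ' e qq hqq k₁' y' hy' ξ' hU' h'
      subst e hU'
      exact hsY Ω' θ μ η' hμ qq hqq y' hy' k₁' h'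
    have e := conv ζ hz (liftPt v hζ W' (mkFiber _ W' (lft Ω' η' q) rfl)) hza.symm k₁ y hy ξ hU h
    rw [← hs, germ_secPull k _ hμ, ← ht, germ_toTopSec U F' t (liftPt f h W q)] at e
    exact (bijective_germUnit U.hom F' hU).1 ((bijective_germUnit k _ hμ).1 e)
  let lq : Spec (CommRingCat.of Ω) ⟶ W'.left := fiberHom q'
  let q : (Scheme.pointSmallEtale (ξ₀ ≫ f)).fiber.obj W :=
    mkFiber _ W lq ((Category.assoc _ _ _).symm.trans
      ((congrArg (· ≫ V.hom) (fiberHom_comp q')).trans (fiberHom_comp p)))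
  refine ⟨W, q, t, compat_of_algClosed f F' φ W t fun Ω' _ _ η' ξ₁ ξ₂ h₁ h₂ q₁ => ?_, ?_⟩
  · obtain ⟨z', -⟩ := (pullback.snd v (lft Ω' η' q₁ ≫ W'.hom)).surjective default
    obtain ⟨σ', hσ', -⟩ :=
      FieldExt.exists_section_of_isIntegralHom (pullback.snd v (lft Ω' η' q₁ ≫ W'.hom)) z'
    let ζ := σ' ≫ pullback.fst v (lft Ω' η' q₁ ≫ W'.hom)
    have hζ : ζ ≫ v = lft Ω' η' q₁ ≫ W'.hom := by
      simp only [ζ, Category.assoc, pullback.condition]
      rw [← Category.assoc, hσ', Category.id_comp]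
    have k₁ : (ζ ≫ r) ≫ f = η' := by
      rw [Category.assoc, w, ← Category.assoc, hζ, Category.assoc]
      exact fiberHom_comp q₁
    obtain ⟨y, hy⟩ := (bijective_germUnit r F' (rfl : ζ ≫ r = ζ ≫ r)).2
      (germ ζ _ (liftPt v hζ W' (mkFiber _ W' (lft Ω' η' q₁) rfl)) τ)
    rw [hgerm Ω' η' ξ₁ h₁ q₁ ζ hζ k₁ y hy.symm, hgerm Ω' η' ξ₂ h₂ q₁ ζ hζ k₁ y hy.symm,
      transport_trans f F' φ hφ]
  · have hζ : ζ₀ ≫ v = lft Ω (ξ₀ ≫ f) q ≫ W'.hom := hζ₀.trans (fiberHom_comp q').symm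
    have hy : germ ζ₀ _ (liftPt v hζ W' (mkFiber _ W' (lft Ω (ξ₀ ≫ f) q) rfl)) τ =
        germUnit r F' rfl (transport f F' φ rfl k₀ g) := by
      refine Eq.trans (congrArg (fun x => germ ζ₀ _ x τ) ?_) hτ
      exact Over.OverMorphism.ext rfl
    rw [hgerm Ω _ ξ₀ rfl q ζ₀ hζ k₀ _ hy, transport_trans f F' φ hφ, transport_refl f F' φ hφ]

theorem isEffective [Flat f] [LocallyOfFinitePresentation f] [Surjective f]
    (hφ : EtDesc.IsCocycle F' φ) : EtDesc.IsEffective f F' φ := by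
  have huo : UniversallyOpen f := inferInstance
  refine isEffective_of_extend f F' φ (fun Y g => ⟨(pullback.snd f g).surjective,
    IsOpenMap.isQuotientMap (pullback.snd f g).isOpenMap (pullback.snd f g).continuous
      (pullback.snd f g).surjective⟩) fun x => ?_
  refine ⟨_, inferInstance, inferInstance, Push.algPoint X x, Push.algPoint_apply X x default,
    fun g => ?_⟩
  obtain ⟨U, Z, u, v, y, r, hu, hy, -, hv, -, -, hvs, w⟩ :=
    Groth.Agent.Lib.QFRefine.Etale.exists_etale_finite f x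
  let V : S.Etale := Scheme.Etale.mk u
  obtain ⟨p, -⟩ := exists_fiber (Push.algPoint X x ≫ f) V y
    (hy.trans (congrArg f.base (Push.algPoint_apply X x default)).symm)
  have : IsIntegralHom v := inferInstance
  exact @exists_compat_of_refinement _ _ f F' φ hφ V Z v ‹IsIntegralHom v› hvs r w _ _ _ (Push.algPoint X x) p g

end Groth.Agent.Lib.EtSite.FppfDescent
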