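import Groth.Agent.Lib.EtSite.BCGerm
import Groth.Agent.Lib.EtSite.FppfDescent

/-!
Base change along étale morphisms and étale-local nature of base change, for sheaves of sets.
-/

set_option autoImplicit false

universe u

open CategoryTheory CategoryTheory.Limits AlgebraicGeometry Opposite

noncomputable section

namespace Groth.Agent.Lib.EtSite.EtaleBC

open Groth.Agent.Lib.EtSite Groth.Agent.Lib.EtSite.Basic Groth.Agent.Lib.EtSite.SubDescent
open Groth.Agent.Lib.EtSite.PushStalk Groth.Agent.Lib.EtSite.SubSheaf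

theorem exists_liftPt {X Y : Scheme.{u}} (h : X ⟶ Y) (W : Y.Etale) {Ω : Type u} [Field Ω]
    [IsSepClosed Ω] {ξ : Spec (CommRingCat.of Ω) ⟶ X}
    (pw : (Scheme.pointSmallEtale ξ).fiber.obj ((EtCoh.bc h).obj W)) :
    ∃ q : (Scheme.pointSmallEtale (ξ ≫ h)).fiber.obj W, liftPt h rfl W q = pw := by
  refine ⟨mkFiber (ξ ≫ h) W (fiberHom pw ≫ pullback.fst W.hom h) ?_, ?_⟩
  · refine (Category.assoc _ _ _).trans ((_ ≫= pullback.condition).trans ?_)
    refine (Category.assoc _ _ _).symm.trans ?_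
    exact congrArg (· ≫ h) (fiberHom_comp pw)
  · apply Over.OverMorphism.ext
    exact pullback.hom_ext (pullback.lift_fst _ _ _)
      ((pullback.lift_snd _ _ _).trans (fiberHom_comp pw).symm)

/-- Sections of a direct image agree if all their restricted germs agree. -/
theorem push_ext {X Y : Scheme.{u}} (h : X ⟶ Y) (H : EtDesc.Sh X) (W : Y.Etale)
    (s s' : EtDesc.sect ((EtDesc.pushSh h).obj H) W)
    (e : ∀ z : X, ∀ q : (Scheme.pointSmallEtale (Push.algPoint X z ≫ h)).fiber.obj W,
      (germTo h (Type (u + 1)) rfl).app H (germ (Push.algPoint X z ≫ h) _ q s) =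
        (germTo h (Type (u + 1)) (rfl : Push.algPoint X z ≫ h = _)).app H
          (germ (Push.algPoint X z ≫ h) _ q s')) : s = s' := by
  refine Stalk.sections_ext_of_germ H s s' fun z => ?_
  refine ⟨_, inferInstance, inferInstance, Push.algPoint X z, Push.algPoint_apply X z default,
    fun pw => ?_⟩
  obtain ⟨q, rfl⟩ := exists_liftPt h W pw
  exact (germTo_toPresheafFiber h rfl H W q s).symm.trans
    ((e z q).trans (germTo_toPresheafFiber h rfl H W q s'))

/-- Two maps into a direct image agree if they do after restriction of germs. -/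
theorem hom_ext_push {X Y : Scheme.{u}} (h : X ⟶ Y) {G : EtDesc.Sh Y} {H : EtDesc.Sh X}
    (a b : G ⟶ (EtDesc.pushSh h).obj H)
    (e : ∀ z : X, ∀ x : stalk (Push.algPoint X z ≫ h) G,
      (germTo h (Type (u + 1)) rfl).app H (stalkMap (Push.algPoint X z ≫ h) a x) =
        (germTo h (Type (u + 1)) (rfl : Push.algPoint X z ≫ h = _)).app H
          (stalkMap (Push.algPoint X z ≫ h) b x)) : a = b := by
  ext W s
  refine push_ext h H W.unop _ _ fun z q => ?_
  exact (congrArg ((germTo h (Type (u + 1)) rfl).app H) (stalkMap_germ _ a q s)).symm.trans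
    ((e z _).trans (congrArg ((germTo h (Type (u + 1)) rfl).app H) (stalkMap_germ _ b q s)))

/-- Sections over an étale object of an étale inverse image come from below. -/
theorem exists_sect_etale {T T' : Scheme.{u}} (t : T' ⟶ T) [Etale t] (F : EtDesc.Sh T)
    (U : T'.Etale) (s : EtDesc.sect ((EtDesc.pullSh t).obj F) U) :
    ∃ (U₀ : T.Etale) (e : U₀.left ≅ U.left) (_ : e.hom ≫ U.hom ≫ t = U₀.hom)
      (v : EtDesc.sect F U₀),
      ∀ (Ω : Type u) [Field Ω] [IsSepClosed Ω] (ξ : Spec (CommRingCat.of Ω) ⟶ T')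
        (η : Spec (CommRingCat.of Ω) ⟶ T) (h : ξ ≫ t = η)
        (q : (Scheme.pointSmallEtale ξ).fiber.obj U)
        (p : (Scheme.pointSmallEtale η).fiber.obj U₀) (_ : fiberHom p ≫ e.hom = fiberHom q),
        germ ξ _ q s = germUnit t F h (germ η F p v) := by
  have : Etale U.hom := U.prop
  let U₀ : T.Etale := Scheme.Etale.mk (U.hom ≫ t)
  let Φ := (EtDesc.pullVia U.hom t U₀.hom rfl F).hom
  obtain ⟨v, hv⟩ := FppfDescent.exists_sect_of_pull U₀ F
    (Φ.hom.app (op (EtCoh.top U.left)) (FppfDescent.toTopSec U _ s))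
  refine ⟨U₀, Iso.refl _, Category.id_comp _, v, fun Ω _ _ ξ η h q p hp => ?_⟩
  have key : ∀ (μ : Spec (CommRingCat.of Ω) ⟶ U.left) (hμ : μ ≫ U.hom = ξ) (hμ' : μ ≫ U₀.hom = η),
      germ μ _ (topPt μ) (FppfDescent.toTopSec U _ s) = germUnit U.hom _ hμ (germ ξ _ q s) →
      germ μ _ (topPt μ) (FppfDescent.toTopSec U₀ F v) = germUnit U₀.hom F hμ' (germ η F p v) →
      germ ξ _ q s = germUnit t F h (germ η F p v) := by
    intro μ hμ hμ' e₁ e₂
    rw [hv] at e₂
    have e₃ : stalkMap μ Φ (germ μ _ (topPt μ) (FppfDescent.toTopSec U _ s)) =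
        germUnit U₀.hom F hμ' (germ η F p v) := (stalkMap_germ μ Φ (topPt μ) _).trans e₂
    have e₄ := ((congrArg (stalkMap μ Φ) e₁).symm.trans e₃).trans
      (pullVia_germUnit t U.hom U₀.hom rfl F hμ h hμ' _).symm
    exact (bijective_germUnit U.hom _ hμ).1
      (((isIso_iff_bijective ((Scheme.pointSmallEtale μ).sheafFiber.map Φ)).1 inferInstance).1 e₄)
  let μ : Spec (CommRingCat.of Ω) ⟶ U.left := fiberHom q
  have hpq : fiberHom p = μ := (Category.comp_id _).symm.trans hp
  have conv : ∀ μ' : Spec (CommRingCat.of Ω) ⟶ U.left, μ' = μ → ∀ (hh : μ' ≫ U₀.hom = η),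
      germ μ' _ (topPt μ') (FppfDescent.toTopSec U₀ F v) = germUnit U₀.hom F hh (germ η F p v) →
      ∃ hh' : μ ≫ U₀.hom = η,
      germ μ _ (topPt μ) (FppfDescent.toTopSec U₀ F v) = germUnit U₀.hom F hh' (germ η F p v) := by
    intro μ' e hh he
    subst e
    exact ⟨hh, he⟩
  obtain ⟨hh', e₂⟩ := conv _ hpq (fiberHom_comp p) (FppfDescent.germ_toTopSec U₀ F v p)
  exact key μ (fiberHom_comp q) hh' (FppfDescent.germ_toTopSec U _ s q) e₂

/-- Base change along an étale morphism, on stalks. -/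
theorem bijective_etale {S T T' : Scheme.{u}} (g : T ⟶ S) (V : S.Etale) (g' : T' ⟶ V.left)
    (t : T' ⟶ T) (sq : IsPullback t g' g V.hom) (F : EtDesc.Sh T) {Ω : Type u} [Field Ω]
    [IsSepClosed Ω] (η : Spec (CommRingCat.of Ω) ⟶ V.left) {η₀ : Spec (CommRingCat.of Ω) ⟶ S}
    (k : η ≫ V.hom = η₀) :
    Function.Bijective fun c : stalk η₀ ((EtDesc.pushSh g).obj F) =>
      stalkMap η (EtBC.baseChange0Sh g V.hom g' t sq.w F) (germUnit V.hom _ k c) := by
  have : Etale V.hom := V.prop
  have : Etale t := MorphismProperty.of_isPullback (P := @Etale) sq.flip ‹_›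
  subst k
  obtain ⟨H, hH⟩ : ∃ H : (EtDesc.pushSh g).obj F ⟶
      (EtDesc.pushSh V.hom).obj ((EtDesc.pushSh g').obj ((EtDesc.pullSh t).obj F)),
      EtBC.baseChange0Sh g V.hom g' t sq.w F = ((EtDesc.adjSh V.hom).homEquiv _ _).symm H :=
    ⟨_, rfl⟩
  have hΘ : ∀ (Ω' : Type u) [Field Ω'] [IsSepClosed Ω'] (η' : Spec (CommRingCat.of Ω') ⟶ V.left)
      (W : S.Etale) (p : (Scheme.pointSmallEtale (η' ≫ V.hom)).fiber.obj W)
      (s : EtDesc.sect ((EtDesc.pushSh g).obj F) W),
      stalkMap η' (EtBC.baseChange0Sh g V.hom g' t sq.w F) (germUnit V.hom _ rfl (germ _ _ p s)) =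
        germ η' ((EtDesc.pushSh g').obj ((EtDesc.pullSh t).obj F)) (liftPt V.hom rfl W p)
          (H.hom.app (op W) s) := fun Ω' _ _ η' W p s => by
    rw [hH]; exact Effective.stalkMap_symm_germUnit V.hom _ H rfl p s
  constructor
  · intro c c' e
    obtain ⟨W₁, p₁, s₁, rfl⟩ := (Scheme.pointSmallEtale (η ≫ V.hom)).toPresheafFiber_jointly_surjective
      (P := ((EtDesc.pushSh g).obj F).obj) c
    obtain ⟨W₂, p₂, s₂, rfl⟩ := (Scheme.pointSmallEtale (η ≫ V.hom)).toPresheafFiber_jointly_surjective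
      (P := ((EtDesc.pushSh g).obj F).obj) c'
    let M := IsCofiltered.min ((Scheme.pointSmallEtale (η ≫ V.hom)).fiber.elementsMk W₁ p₁)
      ((Scheme.pointSmallEtale (η ≫ V.hom)).fiber.elementsMk W₂ p₂)
    let a : M ⟶ (Scheme.pointSmallEtale (η ≫ V.hom)).fiber.elementsMk W₁ p₁ := IsCofiltered.minToLeft _ _
    let b : M ⟶ (Scheme.pointSmallEtale (η ≫ V.hom)).fiber.elementsMk W₂ p₂ := IsCofiltered.minToRight _ _
    have ha : (Scheme.pointSmallEtale (η ≫ V.hom)).fiber.map a.1 M.2 = p₁ := a.2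
    have hb : (Scheme.pointSmallEtale (η ≫ V.hom)).fiber.map b.1 M.2 = p₂ := b.2
    let P := (EtDesc.pushSh g).obj F
    let u₁ : EtDesc.sect P M.1 := P.obj.map a.1.op s₁
    let u₂ : EtDesc.sect P M.1 := P.obj.map b.1.op s₂
    have e₁ : germ (η ≫ V.hom) P M.2 u₁ = germ (η ≫ V.hom) P p₁ s₁ := by rw [germ_map, ha]
    have e₂ : germ (η ≫ V.hom) P M.2 u₂ = germ (η ≫ V.hom) P p₂ s₂ := by rw [germ_map, hb]
    refine e₁.symm.trans (Eq.trans ?_ e₂)
    have e' : stalkMap η (EtBC.baseChange0Sh g V.hom g' t sq.w F)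
        (germUnit V.hom P rfl (germ (η ≫ V.hom) P M.2 u₁)) =
        stalkMap η (EtBC.baseChange0Sh g V.hom g' t sq.w F)
          (germUnit V.hom P rfl (germ (η ≫ V.hom) P M.2 u₂)) := by
      rw [e₁, e₂]; exact e
    rw [hΘ, hΘ] at e'
    obtain ⟨N, d, n, hn, ed⟩ :=
      ((Scheme.pointSmallEtale η).toPresheafFiber_eq_iff' _ _ _ _).1 e'
    have : Etale N.hom := N.prop
    let W : S.Etale := Scheme.Etale.mk (N.hom ≫ V.hom)
    let d₀ : W ⟶ M.1 := MorphismProperty.Over.homMk (d.left ≫ pullback.fst M.1.hom V.hom)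
      ((Category.assoc _ _ _).trans ((_ ≫= pullback.condition).trans
        ((Category.assoc _ _ _).symm.trans (congrArg (· ≫ V.hom) (Over.w d.hom)))))
    let ln : Spec (CommRingCat.of Ω) ⟶ N.left := fiberHom n
    let q : (Scheme.pointSmallEtale (η ≫ V.hom)).fiber.obj W := mkFiber _ W ln
      ((Category.assoc _ _ _).symm.trans (congrArg (· ≫ V.hom) (fiberHom_comp n)))
    have hq : (Scheme.pointSmallEtale (η ≫ V.hom)).fiber.map d₀ q = M.2 := by
      apply Over.OverMorphism.ext
      have e3 := congrArg (fun r => fiberHom r ≫ pullback.fst M.1.hom V.hom) hn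
      refine ((Category.assoc _ _ _).symm.trans e3).trans ?_
      exact pullback.lift_fst _ _ _
    rw [← hq, ← germ_map, ← germ_map]
    refine congrArg (germ (η ≫ V.hom) P q) (push_ext g F W _ _ fun z r => ?_)
    refine (congrArg ((germTo g (Type (u + 1)) rfl).app F) (germ_map _ P d₀ r u₁)).trans
      (Eq.trans ?_ (congrArg ((germTo g (Type (u + 1)) rfl).app F) (germ_map _ P d₀ r u₂)).symm)
    let lr0 := fiberHom r
    let lr : Spec (CommRingCat.of (AlgebraicClosure (T.residueField z))) ⟶ N.left := lr0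
    let θ := sq.lift (Push.algPoint T z) (lr ≫ N.hom) (by
      rw [Category.assoc]
      exact (fiberHom_comp r).symm)
    have hθt : θ ≫ t = Push.algPoint T z := sq.lift_fst _ _ _
    have hθg : θ ≫ g' = lr ≫ N.hom := sq.lift_snd _ _ _
    have k : (lr ≫ N.hom) ≫ V.hom = Push.algPoint T z ≫ g :=
      (Category.assoc _ _ _).trans (fiberHom_comp r)
    apply (bijective_germUnit t F hθt).1
    rw [← BCGerm.germTo_baseChange0Sh sq.w F hθg k hθt rfl,
      ← BCGerm.germTo_baseChange0Sh sq.w F hθg k hθt rfl]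
    refine congrArg ((germTo g' (Type (u + 1)) hθg).app _) ?_
    have gen : ∀ (η' : Spec (CommRingCat.of (AlgebraicClosure (T.residueField z))) ⟶ S)
        (k' : (lr ≫ N.hom) ≫ V.hom = η') (r' : (Scheme.pointSmallEtale η').fiber.obj M.1)
        (u : EtDesc.sect P M.1),
        stalkMap (lr ≫ N.hom) (EtBC.baseChange0Sh g V.hom g' t sq.w F)
          (germUnit V.hom P k' (germ η' P r' u)) =
        germ (lr ≫ N.hom) ((EtDesc.pushSh g').obj ((EtDesc.pullSh t).obj F))
          (liftPt V.hom k' M.1 r') (H.hom.app (op M.1) u) := by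
      intro η' k' r' u
      subst k'
      exact hΘ _ _ _ r' u
    rw [gen _ k, gen _ k]
    let qn : (Scheme.pointSmallEtale (lr ≫ N.hom)).fiber.obj N := mkFiber _ N lr rfl
    have hqn : (Scheme.pointSmallEtale (lr ≫ N.hom)).fiber.map d qn =
        liftPt V.hom k M.1 ((Scheme.pointSmallEtale (Push.algPoint T z ≫ g)).fiber.map d₀ r) := by
      apply Over.OverMorphism.ext
      apply pullback.hom_ext
      · refine Eq.trans ?_ (pullback.lift_fst _ _ _).symm
        exact Category.assoc _ _ _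
      · refine Eq.trans ?_ (pullback.lift_snd _ _ _).symm
        exact (Category.assoc _ _ _).trans (lr ≫= Over.w d.hom)
    rw [← hqn]
    exact (germ_map _ _ d qn _).symm.trans ((congrArg _ ed).trans (germ_map _ _ d qn _))
  · intro y
    obtain ⟨W', q, s', rfl⟩ := (Scheme.pointSmallEtale η).toPresheafFiber_jointly_surjective
      (P := ((EtDesc.pushSh g').obj ((EtDesc.pullSh t).obj F)).obj) y
    have : Etale W'.hom := W'.prop
    let U := (EtCoh.bc g').obj W'
    obtain ⟨U₀, e, he, v, hv⟩ := exists_sect_etale t F U s'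
    let W : S.Etale := Scheme.Etale.mk (W'.hom ≫ V.hom)
    let lU : ((EtCoh.bc g).obj W).left ⟶ T' := sq.lift (pullback.snd W.hom g)
      (pullback.fst W.hom g ≫ W'.hom) ((pullback.condition.symm).trans (Category.assoc _ _ _).symm)
    let lW : ((EtCoh.bc g).obj W).left ⟶ U.left :=
      pullback.lift (pullback.fst W.hom g) lU (sq.lift_snd _ _ _).symm
    let E : (EtCoh.bc g).obj W ⟶ U₀ := MorphismProperty.Over.homMk (lW ≫ e.inv) (by
      have h1 : lW ≫ U.hom ≫ t = pullback.snd W.hom g := by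
        rw [← Category.assoc]
        exact (congrArg (· ≫ t) (pullback.lift_snd _ _ _)).trans (sq.lift_fst _ _ _)
      rw [Category.assoc, ← he, Iso.inv_hom_id_assoc]
      exact h1)
    let lq : Spec (CommRingCat.of Ω) ⟶ W'.left := fiberHom q
    let p : (Scheme.pointSmallEtale (η ≫ V.hom)).fiber.obj W := mkFiber _ W lq
      ((Category.assoc _ _ _).symm.trans (congrArg (· ≫ V.hom) (fiberHom_comp q)))
    refine ⟨germ (η ≫ V.hom) ((EtDesc.pushSh g).obj F) p (F.obj.map E.op v),
      (hΘ Ω η W p _).trans ?_⟩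
    let D : W' ⟶ (EtCoh.bc V.hom).obj W := MorphismProperty.Over.homMk
      (pullback.lift (𝟙 _) W'.hom (Category.id_comp _)) (pullback.lift_snd _ _ _)
    have hD : (Scheme.pointSmallEtale η).fiber.map D q = liftPt V.hom rfl W p := by
      apply Over.OverMorphism.ext
      apply pullback.hom_ext
      · refine Eq.trans ?_ (pullback.lift_fst _ _ _).symm
        exact (Category.assoc _ _ _).trans ((_ ≫= pullback.lift_fst _ _ _).trans (Category.comp_id _))
      · refine Eq.trans ?_ (pullback.lift_snd _ _ _).symm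
        exact (Category.assoc _ _ _).trans ((_ ≫= pullback.lift_snd _ _ _).trans (fiberHom_comp q))
    rw [← hD]
    refine (germ_map η ((EtDesc.pushSh g').obj ((EtDesc.pullSh t).obj F)) D q _).symm.trans ?_
    refine congrArg (germ η ((EtDesc.pushSh g').obj ((EtDesc.pullSh t).obj F)) q)
      (push_ext g' _ W' _ _ fun z r => ?_)
    let ξ := Push.algPoint T' z
    have k : (ξ ≫ t) ≫ g = (ξ ≫ g') ≫ V.hom := by rw [Category.assoc, sq.w, Category.assoc]
    let lr : Spec (CommRingCat.of (AlgebraicClosure (T'.residueField z))) ⟶ W'.left := fiberHom r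
    let pr : (Scheme.pointSmallEtale ((ξ ≫ g') ≫ V.hom)).fiber.obj W := mkFiber _ W lr
      ((Category.assoc _ _ _).symm.trans (congrArg (· ≫ V.hom) (fiberHom_comp r)))
    have hDr : (Scheme.pointSmallEtale (ξ ≫ g')).fiber.map D r = liftPt V.hom rfl W pr := by
      apply Over.OverMorphism.ext
      apply pullback.hom_ext
      · refine Eq.trans ?_ (pullback.lift_fst _ _ _).symm
        exact (Category.assoc _ _ _).trans ((_ ≫= pullback.lift_fst _ _ _).trans (Category.comp_id _))
      · refine Eq.trans ?_ (pullback.lift_snd _ _ _).symm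
        exact (Category.assoc _ _ _).trans ((_ ≫= pullback.lift_snd _ _ _).trans (fiberHom_comp r))
    refine (congrArg ((germTo g' (Type (u + 1)) rfl).app _) (((germ_map _ _ D r _).trans
      (congrArg (fun x => germ (ξ ≫ g') ((EtDesc.pushSh g').obj ((EtDesc.pullSh t).obj F)) x _)
        hDr)).trans (hΘ _ (ξ ≫ g') W pr _).symm)).trans ?_
    rw [BCGerm.germTo_baseChange0Sh sq.w F rfl rfl rfl k]
    refine (congrArg (germUnit t F rfl) (germTo_toPresheafFiber g k F W pr _)).trans ?_
    refine Eq.trans ?_ (germTo_toPresheafFiber g' rfl _ W' r s').symm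
    refine Eq.trans ?_ (hv _ ξ (ξ ≫ t) rfl (liftPt g' rfl W' r)
      ((Scheme.pointSmallEtale (ξ ≫ t)).fiber.map E (liftPt g k W pr)) ?_).symm
    · exact congrArg (germUnit t F rfl) (germ_map (ξ ≫ t) F E _ v)
    · have h3 : fiberHom (liftPt g k W pr) ≫ lW = fiberHom (liftPt g' rfl W' r) := by
        apply pullback.hom_ext
        · refine (Category.assoc _ _ _).trans ((_ ≫= pullback.lift_fst _ _ _).trans ?_)
          exact (pullback.lift_fst _ _ _).trans (pullback.lift_fst _ _ _).symm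
        · refine (Category.assoc _ _ _).trans ((_ ≫= pullback.lift_snd _ _ _).trans ?_)
          refine Eq.trans ?_ (pullback.lift_snd _ _ _).symm
          apply sq.hom_ext
          · exact (Category.assoc _ _ _).trans ((_ ≫= sq.lift_fst _ _ _).trans
              (pullback.lift_snd _ _ _))
          · refine (Category.assoc _ _ _).trans ((_ ≫= sq.lift_snd _ _ _).trans ?_)
            exact (Category.assoc _ _ _).symm.trans
              ((congrArg (· ≫ W'.hom) (pullback.lift_fst _ _ _)).trans (fiberHom_comp r))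
      change (fiberHom (liftPt g k W pr) ≫ lW ≫ e.inv) ≫ e.hom = _
      refine (Category.assoc _ _ _).trans (((_ ≫= Category.assoc _ _ _).trans ?_).trans h3)
      exact _ ≫= ((_ ≫= e.inv_hom_id).trans (Category.comp_id _))

end Groth.Agent.Lib.EtSite.EtaleBC
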