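import Groth.Agent.Lib.EtSite.UnitIso
import Groth.Agent.Lib.EtJ.Basic
import Groth.Agent.Lib.EtSite.Basic

/-!
Inverse image along a morphism that factors, étale locally on the source, through morphisms with
connected geometric fibres over schemes étale over the base preserves products.
-/

set_option autoImplicit false
set_option backward.isDefEq.respectTransparency false
set_option linter.style.haveILetI false

universe u

open CategoryTheory CategoryTheory.Limits AlgebraicGeometry Opposite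

noncomputable section

namespace Groth.Agent.Lib.EtSite.PullProducts

open Groth.Agent.Lib.EtJ

/-- Sections over an étale object, as a functor of the sheaf. -/
abbrev evF {X : Scheme.{u}} (W : X.Etale) : EtCoh.Ab X ⥤ AddCommGrpCat.{u + 1} :=
  sheafToPresheaf _ _ ⋙ (evaluation _ _).obj (op W)

/-- `top → bc f top`. -/
def topTo {X Y : Scheme.{u}} (f : X ⟶ Y) : EtCoh.top X ⟶ (EtCoh.bc f).obj (EtCoh.top Y) :=
  (EtCore.bcTopIsTerminal f).from _

instance {X Y : Scheme.{u}} (f : X ⟶ Y) : IsIso (topTo f) :=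
  ⟨(EtCore.topIsTerminal X).from _, (EtCore.topIsTerminal X).hom_ext _ _,
    (EtCore.bcTopIsTerminal f).hom_ext _ _⟩

/-- Pullback of global sections, as a natural transformation. -/
def gsecNat {X Y : Scheme.{u}} (f : X ⟶ Y) : evF (EtCoh.top Y) ⟶ EtCoh.pull f ⋙ evF (EtCoh.top X) where
  app G := ((EtCoh.pullPushAdj f).unit.app G).hom.app (op (EtCoh.top Y)) ≫
    ((EtCoh.pull f).obj G).obj.map (topTo f).op
  naturality G G' φ := by
    have h1 := congrArg (fun m => m.hom.app (op (EtCoh.top Y))) ((EtCoh.pullPushAdj f).unit.naturality φ)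
    have h2 := ((EtCoh.pull f).map φ).hom.naturality (topTo f).op
    refine ((Category.assoc _ _ _).symm.trans ((eq_whisker h1 _).trans (Category.assoc _ _ _))).trans ?_
    exact (congrArg (_ ≫ ·) h2.symm).trans (Category.assoc _ _ _).symm

theorem preservesLimitsOfShape_top_pull {A B : Scheme.{u}} (a : A ⟶ B)
    (ha : ∀ G : EtCoh.Ab B, IsIso ((EtCoh.pullPushAdj a).unit.app G)) (ι : Type u) :
    PreservesLimitsOfShape (Discrete ι) (EtCoh.pull a ⋙ evF (EtCoh.top A)) := by
  haveI : ∀ G, IsIso ((gsecNat a).app G) := fun G => by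
    haveI := ha G
    haveI : IsIso (((EtCoh.pullPushAdj a).unit.app G).hom.app (op (EtCoh.top B))) :=
      inferInstanceAs (IsIso ((evF (EtCoh.top B)).map ((EtCoh.pullPushAdj a).unit.app G)))
    exact IsIso.comp_isIso
  haveI := NatIso.isIso_of_isIso_app (gsecNat a)
  exact preservesLimitsOfShape_of_natIso (asIso (gsecNat a))

/-- Sections over an étale object are global sections of the restriction. -/
def evRestr {X : Scheme.{u}} (W : X.Etale) :
    haveI : Etale W.hom := W.prop
    EtShriek.restrAlong W.hom ⋙ evF (EtCoh.top W.left) ≅ evF W :=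
  haveI : Etale W.hom := W.prop
  let e : (EtShriek.compEtale W.hom).obj (EtCoh.top W.left) ≅ W :=
    MorphismProperty.Over.isoMk (Iso.refl _)
      (by change 𝟙 W.left ≫ W.hom = 𝟙 W.left ≫ W.hom; rfl)
  NatIso.ofComponents (fun G => (G.obj.mapIso e.op).symm) fun {G G'} φ => by
    exact (φ.hom.naturality e.inv.op).symm

theorem preservesLimitsOfShape_evF_pull {X S : Scheme.{u}} (f : X ⟶ S) (W : X.Etale) (V : S.Etale)
    (a : W.left ⟶ V.left) (w : a ≫ V.hom = W.hom ≫ f)
    (ha : ∀ G : EtCoh.Ab V.left, IsIso ((EtCoh.pullPushAdj a).unit.app G)) (ι : Type u) :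
    PreservesLimitsOfShape (Discrete ι) (EtCoh.pull f ⋙ evF W) := by
  haveI : Etale W.hom := W.prop
  haveI : Etale V.hom := V.prop
  haveI : PreservesLimitsOfShape (Discrete ι) (EtShriek.restrAlong V.hom) :=
    (EtShriek.extZeroAdj V.hom).rightAdjoint_preservesLimits.preservesLimitsOfShape
  haveI : PreservesLimitsOfShape (Discrete ι) (EtCoh.pull V.hom) :=
    preservesLimitsOfShape_of_natIso (Basic.pullIsoRestr V.hom).symm
  haveI := preservesLimitsOfShape_top_pull a ha ι
  let i : EtCoh.pull f ⋙ evF W ≅ EtCoh.pull V.hom ⋙ (EtCoh.pull a ⋙ evF (EtCoh.top W.left)) :=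
    Functor.isoWhiskerLeft (EtCoh.pull f) ((evRestr W).symm ≪≫
      Functor.isoWhiskerRight (EtJ.Basic.pullIsoRestr W.hom).symm _) ≪≫
    (Functor.associator _ _ _).symm ≪≫
    Functor.isoWhiskerRight ((EtCore.pullComp W.hom f).symm ≪≫ EtCore.pullCongr w.symm ≪≫
      EtCore.pullComp a V.hom) _ ≪≫ Functor.associator _ _ _
  exact @preservesLimitsOfShape_of_natIso _ _ _ _ _ _ _ _ i.symm
    (@comp_preservesLimitsOfShape _ _ _ _ _ _ _ _ (EtCoh.pull V.hom) (EtCoh.pull a ⋙ evF (EtCoh.top W.left))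
      (by assumption) (by assumption))

/-- A morphism of sheaves bijective on a family of objects covering every object is invertible. -/
theorem isIso_of_dense {X : Scheme.{u}} {F G : EtCoh.Ab X} (φ : F ⟶ G) (P : X.Etale → Prop)
    (hP : ∀ (U : X.Etale) (y : U.left), ∃ (W : X.Etale) (m : W ⟶ U), P W ∧ ∃ z : W.left, m.left.base z = y)
    (h : ∀ W, P W → Function.Bijective (φ.hom.app (op W))) : IsIso φ := by
  refine (Sheaf.isLocallyBijective_iff_isIso φ).1 ⟨?_, ?_⟩
  · refine ⟨fun {U} x y hxy => (Basic.mem_topology_iff _).2 fun u => ?_⟩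
    obtain ⟨W, m, hW, z, hz⟩ := hP U.unop u
    refine ⟨W, m, (h W hW).1 ?_, z, hz⟩
    exact ((NatTrans.naturality_apply φ.hom m.op x).trans (congrArg (G.obj.map m.op) hxy)).trans
      (NatTrans.naturality_apply φ.hom m.op y).symm
  · refine ⟨fun {U} s => (Basic.mem_topology_iff _).2 fun u => ?_⟩
    obtain ⟨W, m, hW, z, hz⟩ := hP U u
    exact ⟨W, m, (h W hW).2 (G.obj.map m.op s), z, hz⟩

theorem preservesLimitsOfShape_pull {X S : Scheme.{u}} (f : X ⟶ S)
    (hcov : ∀ (U : X.Etale) (y : U.left), ∃ (W : X.Etale) (m : W ⟶ U) (V : S.Etale) (a : W.left ⟶ V.left),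
      a ≫ V.hom = W.hom ≫ f ∧ (∀ G : EtCoh.Ab V.left, IsIso ((EtCoh.pullPushAdj a).unit.app G)) ∧
      ∃ z : W.left, m.left.base z = y) (ι : Type u) :
    PreservesLimitsOfShape (Discrete ι) (EtCoh.pull f) := by
  refine ⟨fun {K} => ⟨fun {c} hc => ⟨?_⟩⟩⟩
  let d := limit.isLimit (K ⋙ EtCoh.pull f)
  let φ := d.liftConeMorphism ((EtCoh.pull f).mapCone c)
  haveI : IsIso φ.hom := by
    refine isIso_of_dense φ.hom (fun W => ∃ (V : S.Etale) (a : W.left ⟶ V.left),
      a ≫ V.hom = W.hom ≫ f ∧ ∀ G : EtCoh.Ab V.left, IsIso ((EtCoh.pullPushAdj a).unit.app G))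
      (fun U y => ?_) ?_
    · obtain ⟨W, m, V, a, h1, h2, h3⟩ := hcov U y
      exact ⟨W, m, ⟨V, a, h1, h2⟩, h3⟩
    rintro W ⟨V, a, w, ha⟩
    haveI := preservesLimitsOfShape_evF_pull f W V a w ha ι
    have h1 : IsLimit ((evF W).mapCone ((EtCoh.pull f).mapCone c)) :=
      isLimitOfPreserves (EtCoh.pull f ⋙ evF W) hc
    have h2 : IsLimit ((evF W).mapCone (limit.cone (K ⋙ EtCoh.pull f))) := isLimitOfPreserves (evF W) d
    let ψ := ((Cone.functoriality _ (evF W)).map φ)
    haveI : IsIso ψ := IsLimit.hom_isIso h1 h2 ψ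
    haveI : IsIso ((evF W).map φ.hom) := inferInstanceAs (IsIso ((Cone.forget _).map ψ))
    exact ConcreteCategory.bijective_of_isIso ((evF W).map φ.hom)
  exact IsLimit.ofIsoLimit d ((Cone.ext (asIso φ.hom) fun j => (φ.w j).symm).symm)

end Groth.Agent.Lib.EtSite.PullProducts
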