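import Groth.Agent.Lib.LocAcyc50.Sect
import Groth.Agent.Lib.EtSite.PullProducts
import Groth.Agent.Lib.EtSite.BaseChange
import Groth.Agent.Lib.EtSite.EtBCQ

/-!
Sections of an inverse image on an object with a factorization through an étale scheme of the base,
and the resulting base change in degree zero.
-/

set_option autoImplicit false
set_option backward.isDefEq.respectTransparency false
set_option linter.style.haveILetI false

universe u

open CategoryTheory CategoryTheory.Limits AlgebraicGeometry Opposite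

noncomputable section

namespace Groth.Agent.Lib.EtSite.FactorBC

open Groth.Agent.Lib.EtSite Groth.Agent.Lib.LocAcyc50.Sect

theorem bijective_gtop {A B : Scheme.{u}} (a : A ⟶ B) (G : EtCoh.Ab B)
    (h : IsIso ((EtCoh.pullPushAdj a).unit.app G)) : Function.Bijective (gtop a G) := by
  haveI : IsIso (((EtCoh.pullPushAdj a).unit.app G).hom.app (op (EtCoh.top B))) :=
    inferInstanceAs (IsIso ((PullProducts.evF (EtCoh.top B)).map ((EtCoh.pullPushAdj a).unit.app G)))
  haveI : IsIso ((PullProducts.gsecNat a).app G) := IsIso.comp_isIso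
  have e : gtop a G = (PullProducts.gsecNat a).app G := funext fun s => by
    show ((EtCoh.pull a).obj G).obj.map (lft a _ a (Category.comp_id a)).op (HensClosed.unitAt a G _ s) = _
    rw [(EtCore.bcTopIsTerminal a).hom_ext (lft a _ a (Category.comp_id a)) (PullProducts.topTo a)]
    rfl
  rw [e]
  exact ConcreteCategory.bijective_of_isIso _

theorem bijective_gsec_etale {X : Scheme.{u}} (W : X.Etale) (G : EtCoh.Ab X) :
    Function.Bijective (gsec W.hom G W (𝟙 W.left) (Category.id_comp W.hom)) := by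
  haveI : Etale W.hom := W.prop
  let j := W.hom
  have h : (EtCoh.pullPushAdj j).unit.app G ≫
      (EtCoh.push j).map ((EtJ.Basic.pullIsoRestr j).hom.app G) = (EtJ.Basic.restrPushAdj j).unit.app G :=
    Adjunction.unit_leftAdjointUniq_hom_app (EtCoh.pullPushAdj j) (EtJ.Basic.restrPushAdj j) G
  let ρ := (EtShriek.compEtale j).map (lft j W (𝟙 W.left) (Category.id_comp j)) ≫
    (EtJ.Basic.compEtaleAdj j).counit.app W
  have hρl : ρ.left = 𝟙 W.left := by
    simp [ρ, EtJ.Basic.compEtaleAdj, lft, MorphismProperty.Over.mapPullbackAdj, EtShriek.compEtale]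
    exact pullback.lift_fst (f := W.hom) (g := W.hom) _ _ _
  haveI : IsIso ρ := by
    refine ⟨⟨MorphismProperty.Over.homMk (𝟙 W.left) (by change 𝟙 W.left ≫ 𝟙 W.left ≫ W.hom = W.hom; simp), ?_, ?_⟩⟩
    · refine MorphismProperty.Over.Hom.ext ?_
      show ρ.left ≫ 𝟙 W.left = 𝟙 W.left
      exact (Category.comp_id _).trans hρl
    · refine MorphismProperty.Over.Hom.ext ?_
      show 𝟙 W.left ≫ ρ.left = 𝟙 W.left
      exact (Category.id_comp _).trans hρl
  have e : ∀ s, ((EtJ.Basic.pullIsoRestr j).hom.app G).hom.app (op (EtCoh.top W.left))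
      (gsec j G W (𝟙 W.left) (Category.id_comp j) s) = G.obj.map ρ.op s := fun s => by
    have h1 := congrArg (fun m => m.hom.app (op W) s) h
    refine (NatTrans.naturality_apply ((EtJ.Basic.pullIsoRestr j).hom.app G).hom
      (lft j W (𝟙 W.left) (Category.id_comp j)).op _).trans ?_
    refine (congrArg (((EtShriek.restrAlong j).obj G).obj.map (lft j W (𝟙 W.left) (Category.id_comp j)).op) h1).trans ?_
    show _ = G.obj.map ρ.op s
    simp only [ρ, op_comp, Functor.map_comp, ConcreteCategory.comp_apply]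
    rfl
  refine (Function.Bijective.of_comp_iff' (bijective_app ((EtJ.Basic.pullIsoRestr j).app G) _) _).1 ?_
  exact Eq.mp (congrArg Function.Bijective (funext fun s => (e s).symm))
    (ConcreteCategory.bijective_of_isIso (G.obj.map ρ.op))

/-- Pulling back twice agrees with pulling back along the composite. -/
theorem gsec_two_step {A X S : Scheme.{u}} (k : A ⟶ X) (f : X ⟶ S) (f₀ : A ⟶ S) (w : k ≫ f = f₀)
    (G : EtCoh.Ab S) (V : S.Etale) (t : A ⟶ V.left) (ht : t ≫ V.hom = f₀) (W : X.Etale)
    (ℓ : W ⟶ (EtCoh.bc f).obj V) (u : A ⟶ W.left) (hu : u ≫ W.hom = k)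
    (hℓ : u ≫ ℓ.left = pullback.lift (f := V.hom) (g := f) t k (ht.trans w.symm)) (s : EtCoh.sect G V) :
    (((EtCore.pullComp k f).symm ≪≫ EtCore.pullCongr w).app G).hom.hom.app (op (EtCoh.top A))
        (gsec k ((EtCoh.pull f).obj G) W u hu
          (((EtCoh.pull f).obj G).obj.map ℓ.op (HensClosed.unitAt f G V s))) =
      gsec f₀ G V t ht s := by
  refine (congrArg _ ?_).trans (gsec_comp k f f₀ w G V t ht (pullback.lift_snd _ _ _) s)
  exact (gsec_map k _ ℓ u hu ((Category.assoc _ _ _).trans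
    ((congrArg (u ≫ ·) (MorphismProperty.Over.w ℓ)).trans hu)) _).trans (gsec_congr _ _ _ hℓ _ _ _)

theorem bijective_gsec_composite {A S : Scheme.{u}} (V : S.Etale)
    (t : A ⟶ V.left) (f₀ : A ⟶ S) (w : t ≫ V.hom = f₀) (G : EtCoh.Ab S)
    (ha : IsIso ((EtCoh.pullPushAdj t).unit.app ((EtCoh.pull V.hom).obj G))) :
    Function.Bijective fun s => gsec f₀ G V t w s := by
  have hℓ : t ≫ (lft V.hom V (𝟙 _) (Category.id_comp _)).left =
      pullback.lift (f := V.hom) (g := V.hom) t t rfl := by
    refine pullback.hom_ext ?_ ?_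
    · rw [Category.assoc]
      refine Eq.trans (congrArg (t ≫ ·) (pullback.lift_fst _ _ _)) ?_
      rw [pullback.lift_fst]; exact Category.comp_id t
    · rw [Category.assoc]
      refine Eq.trans (congrArg (t ≫ ·) (pullback.lift_snd _ _ _)) ?_
      rw [pullback.lift_snd]; exact Category.comp_id t
  have h : ∀ s, (((EtCore.pullComp t V.hom).symm ≪≫ EtCore.pullCongr w).app G).hom.hom.app (op (EtCoh.top A))
      (gtop t _ (gsec V.hom G V (𝟙 _) (Category.id_comp _) s)) = gsec f₀ G V t w s := fun s =>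
    gsec_two_step t V.hom f₀ w G V t w (EtCoh.top V.left) (lft V.hom V (𝟙 _) (Category.id_comp _)) t
      (Category.comp_id t) hℓ s
  exact Eq.mp (congrArg Function.Bijective (funext h))
    ((bijective_app _ _).comp ((bijective_gtop t _ ha).comp (bijective_gsec_etale V G)))

/-- Sections of an inverse image on an object factoring through an étale `S`-scheme by a morphism
with invertible unit. -/
theorem bijective_sec {X S : Scheme.{u}} (f : X ⟶ S) (W : X.Etale) (V : S.Etale)
    (ℓ : W ⟶ (EtCoh.bc f).obj V) (G : EtCoh.Ab S)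
    (ha : IsIso ((EtCoh.pullPushAdj (ℓ.left ≫ pullback.fst V.hom f)).unit.app ((EtCoh.pull V.hom).obj G))) :
    Function.Bijective fun s => ((EtCoh.pull f).obj G).obj.map ℓ.op (HensClosed.unitAt f G V s) := by
  have hℓ : ℓ.left ≫ pullback.snd V.hom f = W.hom := MorphismProperty.Over.w ℓ
  have w : (ℓ.left ≫ pullback.fst V.hom f) ≫ V.hom = W.hom ≫ f := by
    rw [← hℓ, Category.assoc, Category.assoc, pullback.condition]
  have hlift : 𝟙 W.left ≫ ℓ.left =
      pullback.lift (f := V.hom) (g := f) (ℓ.left ≫ pullback.fst V.hom f) W.hom w := by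
    apply pullback.hom_ext
    · rw [pullback.lift_fst]; exact congrArg (· ≫ pullback.fst V.hom f) (Category.id_comp _)
    · rw [pullback.lift_snd]; exact (congrArg (· ≫ pullback.snd V.hom f) (Category.id_comp _)).trans hℓ
  have hR : Function.Bijective fun s => gsec (W.hom ≫ f) G V _ w s :=
    bijective_gsec_composite V _ _ w G ha
  have hl := fun s => gsec_two_step W.hom f (W.hom ≫ f) rfl G V _ w W ℓ (𝟙 W.left)
    (Category.id_comp _) hlift s
  exact (Function.Bijective.of_comp_iff'
    ((bijective_app (((EtCore.pullComp W.hom f).symm ≪≫ EtCore.pullCongr rfl).app G) _).comp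
      (bijective_gsec_etale W _)) _).1
    (Eq.mp (congrArg Function.Bijective (funext fun s => (hl s).symm)) hR)

/-- Base change in degree zero along a morphism covered by factorizations with connected geometric
fibres. -/
theorem isIso_baseChange0 {X Y X' Y' : Scheme.{u}} {f : X ⟶ Y} {g : Y' ⟶ Y} {f' : X' ⟶ Y'} {g' : X' ⟶ X}
    (sq : IsPullback g' f' f g)
    (hcov : ∀ (U : Y'.Etale) (y : U.left), ∃ (W : Y'.Etale) (m : W ⟶ U) (V : Y.Etale) (a : W.left ⟶ V.left),
      a ≫ V.hom = W.hom ≫ g ∧ QuasiCompact a ∧ Flat a ∧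
      (∀ (Ω : Type u) [Field Ω] [IsAlgClosed Ω] (s : Spec (CommRingCat.of Ω) ⟶ V.left),
        ConnectedSpace ↥(pullback a s)) ∧
      ∃ z : W.left, m.left.base z = y)
    (F : EtCoh.Ab X) : IsIso (EtCoh.baseChange0 f g f' g' sq.w F) := by
  let φ := EtCoh.baseChange0 f g f' g' sq.w F
  refine PullProducts.isIso_of_dense φ (fun W => ∃ (V : Y.Etale) (a : W.left ⟶ V.left),
      a ≫ V.hom = W.hom ≫ g ∧ QuasiCompact a ∧ Flat a ∧
      ∀ (Ω : Type u) [Field Ω] [IsAlgClosed Ω] (s : Spec (CommRingCat.of Ω) ⟶ V.left),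
        ConnectedSpace ↥(pullback a s)) (fun U y => ?_) ?_
  · obtain ⟨W, m, V, a, h1, h2, h3, h4, h5⟩ := hcov U y
    exact ⟨W, m, ⟨V, a, h1, h2, h3, h4⟩, h5⟩
  rintro W ⟨V, a, w, hq, hf, hc⟩
  haveI := hq
  haveI := hf
  let ℓ : W ⟶ (EtCoh.bc g).obj V :=
    MorphismProperty.Over.homMk (pullback.lift (f := V.hom) (g := g) a W.hom w) (pullback.lift_snd _ _ _)
  have hℓa : ℓ.left ≫ pullback.fst V.hom g = a := pullback.lift_fst _ _ _
  have h1 : Function.Bijective fun s =>
      ((EtCoh.pull g).obj ((EtCoh.push f).obj F)).obj.map ℓ.op (HensClosed.unitAt g ((EtCoh.push f).obj F) V s) := by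
    refine bijective_sec g W V ℓ _ ?_
    rw [hℓa]
    exact UnitIso.isIso_unit a hc _
  let x := (EtCoh.push f).map ((EtCoh.pullPushAdj g').unit.app F) ≫ (EtCoh.pushComp f g').hom.app _ ≫
    (EtCoh.pushCongr sq.w).hom.app _ ≫ (EtCoh.pushComp g f').inv.app ((EtCoh.pull g').obj F)
  let c := BaseChange.cmp sq.w V
  let G := (EtCoh.pull g').obj F
  let ℓ' : (EtCoh.bc f').obj W ⟶ (EtCoh.bc g').obj ((EtCoh.bc f).obj V) := (EtCoh.bc f').map ℓ ≫ c.hom
  have hx : ∀ s, x.hom.app (op V) s = G.obj.map c.hom.op (HensClosed.unitAt g' F ((EtCoh.bc f).obj V) s) := fun s => by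
    simp only [x, EtCoh.pushComp, EtCoh.pushCongr, c, BaseChange.cmp, op_comp, Functor.map_comp, Category.assoc]
    rfl
  have htri : ∀ s : EtCoh.sect ((EtCoh.push f).obj F) V,
      φ.hom.app (op W) (((EtCoh.pull g).obj ((EtCoh.push f).obj F)).obj.map ℓ.op
        (HensClosed.unitAt g ((EtCoh.push f).obj F) V s)) =
      G.obj.map ℓ'.op (HensClosed.unitAt g' F ((EtCoh.bc f).obj V) s) := fun s => by
    have h : (EtCoh.pullPushAdj g).unit.app _ ≫ (EtCoh.push g).map φ = x := by
      exact ((EtCoh.pullPushAdj g).homEquiv_unit _ _ φ).symm.trans (Equiv.apply_symm_apply _ _)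
    refine (NatTrans.naturality_apply φ.hom ℓ.op _).trans ?_
    refine (congrArg (((EtCoh.push f').obj G).obj.map ℓ.op)
      ((congrArg (fun m => m.hom.app (op V) s) h).trans (hx s))).trans ?_
    show G.obj.map ((EtCoh.bc f').map ℓ).op (G.obj.map c.hom.op _) = _
    rw [show ℓ' = (EtCoh.bc f').map ℓ ≫ c.hom from rfl, op_comp, Functor.map_comp]
    rfl
  have h2 : Function.Bijective fun s => G.obj.map ℓ'.op (HensClosed.unitAt g' F ((EtCoh.bc f).obj V) s) := by
    refine bijective_sec g' _ _ ℓ' F ?_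
    let a' : ((EtCoh.bc f').obj W).left ⟶ ((EtCoh.bc f).obj V).left :=
      ℓ'.left ≫ pullback.fst ((EtCoh.bc f).obj V).hom g'
    have ha'1 : a' ≫ pullback.snd V.hom f = pullback.snd W.hom f' ≫ g' := by
      show (ℓ'.left ≫ pullback.fst ((EtCoh.bc f).obj V).hom g') ≫ ((EtCoh.bc f).obj V).hom = _
      rw [Category.assoc, pullback.condition, ← Category.assoc]
      exact congrArg (· ≫ g') (MorphismProperty.Over.w ℓ')
    have ha'2 : a' ≫ pullback.fst V.hom f = pullback.fst W.hom f' ≫ a := by
      show (ℓ'.left ≫ pullback.fst ((EtCoh.bc f).obj V).hom g') ≫ pullback.fst V.hom f = _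
      refine ((Category.assoc _ _ _).trans ((congrArg (· ≫ pullback.fst ((EtCoh.bc f).obj V).hom g' ≫ pullback.fst V.hom f)
        (show ℓ'.left = ((EtCoh.bc f').map ℓ).left ≫ c.hom.left from rfl)).trans ((Category.assoc _ _ _).trans
          (congrArg (((EtCoh.bc f').map ℓ).left ≫ ·) c.fst_fst)))).trans ?_
      rw [← Category.assoc]
      refine Eq.trans (congrArg (· ≫ pullback.fst V.hom g) (pullback.lift_fst _ _ _)) ?_
      rw [Category.assoc, hℓa]
    have hsq : IsPullback (pullback.fst W.hom f') a' a (pullback.fst V.hom f) := by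
      refine IsPullback.of_bot ?_ ha'2.symm (IsPullback.of_hasPullback V.hom f)
      rw [ha'1, w]
      exact (IsPullback.of_hasPullback W.hom f').paste_vert sq.flip
    haveI : QuasiCompact a' := MorphismProperty.of_isPullback (P := @QuasiCompact) hsq hq
    haveI : Flat a' := MorphismProperty.of_isPullback (P := @Flat) hsq hf
    refine UnitIso.isIso_unit a' (fun Ω _ _ s => ?_) _
    have := hc Ω (s ≫ pullback.fst V.hom f)
    let i : pullback a' s ≅ pullback a (s ≫ pullback.fst V.hom f) :=
      ((IsPullback.of_hasPullback a' s).paste_horiz hsq).isoPullback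
    exact i.inv.homeomorph.surjective.connectedSpace i.inv.homeomorph.continuous
  exact (Function.Bijective.of_comp_iff _ h1).1 (Eq.mp (congrArg Function.Bijective (funext fun s => (htri s).symm)) h2)

end Groth.Agent.Lib.EtSite.FactorBC
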