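import Groth.Agent.Lib.SourceDescent.Ring
import Groth.Agent.H19.FlatLocus.Main
import Mathlib.RingTheory.TensorProduct.Quotient
import Mathlib.RingTheory.TensorProduct.MvPolynomial
import Mathlib.RingTheory.Adjoin.FG
import Mathlib.RingTheory.Flat.Localization

/-!
# Descent along fppf extensions on the source: flat models over finitely generated subrings
-/

universe u

open TensorProduct
open Groth.Agent.Lib.Flat55.Relations Groth.Agent.H19.FlatLocus

namespace Groth.Agent.Lib.EtSite.FppfSource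

theorem flat_quotAt {σ ι κ : Type} {R : Type u} [CommRing R] (g : κ → ι → MvPolynomial σ R)
    [Module.Flat R (Quot g)] (Q : Ideal (MvPolynomial σ R)) [Q.IsPrime] : Module.Flat R (QuotAt g Q) := by
  refine (flat_iff_killed (R := R) Q.primeCompl
    (LocalizedModule.mkLinearMap Q.primeCompl (Quot g))).2 fun J y hy => ⟨1, one_mem _, ?_⟩
  rw [one_smul]
  exact (Module.Flat.lTensor_preserves_injective_linearMap (M := Quot g) J.subtype
    Subtype.val_injective) (hy.trans (map_zero _).symm)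

/-- The module presented by `g` with one generator is the quotient ring. -/
noncomputable def quotEquiv {σ : Type} {κ : Type} {R : Type u} [CommRing R] (g : κ → Unit → MvPolynomial σ R) :
    (MvPolynomial σ R ⧸ Ideal.span (Set.range fun v => g v ())) ≃ₗ[MvPolynomial σ R] Quot g :=
  Submodule.Quotient.equiv _ _ (LinearEquiv.funUnique Unit (MvPolynomial σ R) (MvPolynomial σ R)).symm (by
    rw [Submodule.map_span, ← Set.range_comp]
    congr 2)

/-- A flat finitely presented algebra comes from a finitely generated subring. -/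
theorem exists_flat_model (A B : Type u) [CommRing A] [CommRing B] [Algebra A B] [Module.Flat A B]
    [Algebra.FinitePresentation A B] :
    ∃ (A₀ : Subalgebra ℤ A) (B₀ : Type u) (_ : CommRing B₀) (_ : Algebra A₀ B₀),
      A₀.FG ∧ Algebra.FinitePresentation A₀ B₀ ∧ Module.Flat A₀ B₀ ∧ Nonempty (B ≃ₐ[A] A ⊗[A₀] B₀) := by
  classical
  obtain ⟨n, f, hf, hker⟩ := Algebra.FinitePresentation.out (R := A) (A := B)
  obtain ⟨T, hT⟩ := hker
  obtain ⟨m, fv, hfv⟩ : ∃ (m : ℕ) (fv : Fin m → MvPolynomial (Fin n) A),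
      Set.range fv = (T : Set (MvPolynomial (Fin n) A)) :=
    ⟨T.card, fun i => T.equivFin.symm i, by
      ext x
      exact ⟨by rintro ⟨i, rfl⟩; exact (T.equivFin.symm i).2, fun hx => ⟨T.equivFin ⟨x, hx⟩, by simp⟩⟩⟩
  let g : Fin m → Unit → MvPolynomial (Fin n) A := fun v _ => fv v
  have hk : Ideal.span (Set.range fun v => g v ()) = RingHom.ker f.toRingHom := by
    rw [← hT]; exact congrArg Ideal.span hfv
  let eB : (MvPolynomial (Fin n) A ⧸ Ideal.span (Set.range fun v => g v ())) ≃ₐ[A] B :=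
    ((Ideal.quotientEquivAlgOfEq A hk).trans (Ideal.quotientKerAlgEquivOfSurjective hf))
  have : Module.Flat A (Quot g) :=
    Module.Flat.of_linearEquiv (((quotEquiv g).restrictScalars A).symm.trans eB.toLinearEquiv)
  obtain ⟨s, g₁, hg₁, hflat⟩ := exists_flat_level g fun q => flat_quotAt g q.asIdeal
  let A₀ := Algebra.adjoin ℤ (s : Set A)
  have hM : Module.Flat A₀ (Quot g₁) :=
    Module.flat_of_isLocalized_maximal (MvPolynomial (Fin n) A₀) (Quot g₁)
      (fun Q => QuotAt g₁ Q) (fun Q _ => LocalizedModule.mkLinearMap _ _) fun Q _ => hflat Q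
  let J : Ideal (MvPolynomial (Fin n) A₀) := Ideal.span (Set.range fun v => g₁ v ())
  have hJ : J.FG := ⟨Finset.univ.image fun v => g₁ v (), by simp [J]⟩
  refine ⟨A₀, MvPolynomial (Fin n) A₀ ⧸ J, inferInstance, inferInstance, ⟨s, rfl⟩,
    Algebra.FinitePresentation.quotient hJ,
    Module.Flat.of_linearEquiv ((quotEquiv g₁).restrictScalars A₀), ⟨eB.symm.trans ?_⟩⟩
  refine (Ideal.quotientEquivAlg _ _ (MvPolynomial.algebraTensorAlgEquiv A₀ A).symm ?_).trans
    (Algebra.TensorProduct.tensorQuotientEquiv A (MvPolynomial (Fin n) A₀) A J).symm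
  simp only [J, Ideal.map_span, ← Set.range_comp]
  congr 2
  funext v
  show (1 : A) ⊗ₜ[A₀] g₁ v () = (MvPolynomial.algebraTensorAlgEquiv A₀ A).symm (g v ())
  rw [← congr_fun (hg₁ v) ()]
  exact (MvPolynomial.algebraTensorAlgEquiv_symm_map (R := A₀) A (g₁ v ())).symm

theorem ker_fg_aux (A A₀ A₁ B B₀ C : Type u) [CommRing A] [CommRing A₀] [CommRing A₁] [CommRing B]
    [CommRing B₀] [CommRing C] [Algebra A A₁] [Algebra A B] [Algebra B C] [Algebra A C] [IsScalarTower A B C]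
    [Algebra A₀ A₁] [Algebra A₁ B] [Algebra A₀ B] [IsScalarTower A₀ A₁ B] [IsScalarTower A A₁ B]
    [Algebra A₀ B₀] [Algebra.FinitePresentation A₀ B₀] [Module.Flat A₀ B₀]
    [Algebra.FinitePresentation A A₁] [Algebra.FinitePresentation A C] [Module.FaithfullyFlat B C]
    (e : C ≃ₐ[B] B ⊗[A₀] B₀) (hπ : Function.Surjective (algebraMap A₁ B)) :
    (RingHom.ker (algebraMap A₁ B)).FG := by
  classical
  let π : A₁ →ₐ[A] B := IsScalarTower.toAlgHom A A₁ B
  have : Algebra.FinitePresentation A (A₁ ⊗[A₀] B₀) := Algebra.FinitePresentation.trans A A₁ _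
  let J := RingHom.ker π.toRingHom
  let e' : C ≃ₐ[B] B ⊗[A₀] B₀ := e
  let μ : (A₁ ⊗[A₀] B₀) →ₐ[A₀] B ⊗[A₀] B₀ :=
    Algebra.TensorProduct.map (IsScalarTower.toAlgHom A₀ A₁ B) (AlgHom.id A₀ B₀)
  let ρ : (A₁ ⊗[A₀] B₀) →ₐ[A] C :=
    { e'.symm.toAlgHom.toRingHom.comp μ.toRingHom with
      commutes' := fun a => by
        show e'.symm (μ (algebraMap A A₁ a ⊗ₜ 1)) = algebraMap A C a
        have h : μ (algebraMap A A₁ a ⊗ₜ 1) = algebraMap B (B ⊗[A₀] B₀) (algebraMap A B a) := by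
          show π (algebraMap A A₁ a) ⊗ₜ[A₀] (1 : B₀) = _
          rw [π.commutes]
          rfl
        rw [h, AlgEquiv.commutes, ← IsScalarTower.algebraMap_apply] }
  have hμ : ∀ (a : A₁) (c : B₀), μ (a ⊗ₜ c) = π a ⊗ₜ c := fun a c => rfl
  have hρ : Function.Surjective ρ := by
    refine e'.symm.surjective.comp ?_
    intro y
    induction y using TensorProduct.induction_on with
    | zero => exact ⟨0, map_zero _⟩
    | tmul b c =>
      obtain ⟨a, rfl⟩ := hπ b
      exact ⟨a ⊗ₜ c, hμ a c⟩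
    | add x y hx hy =>
      obtain ⟨a, rfl⟩ := hx
      obtain ⟨b, rfl⟩ := hy
      exact ⟨a + b, map_add _ _ _⟩
  have hkerρ : (RingHom.ker ρ.toRingHom).FG := by
    have hFP : Algebra.FinitePresentation A C := ‹_›
    have h := @Algebra.FinitePresentation.ker_fG_of_surjective A (A₁ ⊗[A₀] B₀) C _ _ _ _ _ ρ hρ _ _
    exact h
  have hρJ : (J.map (algebraMap A₁ (A₁ ⊗[A₀] B₀))) = RingHom.ker ρ.toRingHom := by
    refine le_antisymm ?_ (fun x hx => ?_)
    · rw [Ideal.map_le_iff_le_comap]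
      intro x hx
      show ρ (x ⊗ₜ 1) = 0
      have hx0 : π x = 0 := hx
      show e'.symm (μ (x ⊗ₜ 1)) = 0
      rw [hμ, hx0, TensorProduct.zero_tmul, map_zero]
    · let L : (A₁ ⊗[A₀] B₀) →ₗ[A₀] B ⊗[A₀] B₀ := (IsScalarTower.toAlgHom A₀ A₁ B).toLinearMap.rTensor B₀
      have hL : L x = 0 := by
        have h0 : e'.symm (μ x) = 0 := hx
        rw [map_eq_zero_iff _ e'.symm.injective] at h0
        exact h0
      have hex := rTensor_exact (R := A₀) B₀ (f := (J.restrictScalars A₀).subtype)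
        (g := (IsScalarTower.toAlgHom A₀ A₁ B).toLinearMap)
        (fun y => ⟨fun hy => ⟨⟨y, hy⟩, rfl⟩, by rintro ⟨⟨z, hz⟩, rfl⟩; exact hz⟩) hπ
      obtain ⟨y, rfl⟩ := (hex x).1 hL
      clear hL hx
      induction y using TensorProduct.induction_on with
      | zero => simp
      | tmul j c =>
        have : ((j : A₁) ⊗ₜ[A₀] c : (A₁ ⊗[A₀] B₀)) = algebraMap A₁ (A₁ ⊗[A₀] B₀) j * (1 ⊗ₜ c) := by simp
        rw [LinearMap.rTensor_tmul, Submodule.subtype_apply, this]
        exact Ideal.mul_mem_right _ _ (Ideal.mem_map_of_mem _ j.2)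
      | add x y hx hy => rw [map_add]; exact add_mem hx hy
  -- the image of `Spec (A₁ ⊗[A₀] B₀)` is open and contains `V(J)`
  have hopen : IsOpen (Set.range (PrimeSpectrum.comap (algebraMap A₁ (A₁ ⊗[A₀] B₀)))) :=
    (PrimeSpectrum.isOpenMap_comap_of_hasGoingDown_of_finitePresentation (R := A₁) (S := (A₁ ⊗[A₀] B₀))).isOpen_range
  obtain ⟨K, hK⟩ := (PrimeSpectrum.isClosed_iff_zeroLocus_ideal _).mp hopen.isClosed_compl
  have hJU : PrimeSpectrum.zeroLocus (J : Set A₁) ⊆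
      Set.range (PrimeSpectrum.comap (algebraMap A₁ (A₁ ⊗[A₀] B₀))) := by
    intro p hp
    obtain ⟨b, rfl⟩ : p ∈ Set.range (PrimeSpectrum.comap π.toRingHom) := by
      rwa [range_comap_of_surjective _ π.toRingHom hπ]
    obtain ⟨c, rfl⟩ := PrimeSpectrum.comap_surjective_of_faithfullyFlat (A := B) (B := C) b
    refine ⟨PrimeSpectrum.comap ρ.toRingHom c, ?_⟩
    ext x
    show ρ (x ⊗ₜ 1) ∈ c.asIdeal ↔ algebraMap B C (π x) ∈ c.asIdeal
    rw [show ρ (x ⊗ₜ 1) = algebraMap B C (π x) from by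
      rw [← e'.symm.commutes]; rfl]
  have hJK : J ⊔ K = ⊤ := by
    rw [← PrimeSpectrum.zeroLocus_empty_iff_eq_top, PrimeSpectrum.zeroLocus_sup, ← hK]
    exact Set.eq_empty_of_forall_notMem fun p hp ↦ hp.2 (hJU hp.1)
  obtain ⟨i, hi, k', hk', hik⟩ := Submodule.mem_sup.mp ((Ideal.eq_top_iff_one _).mp hJK)
  rw [← hρJ] at hkerρ
  obtain ⟨s, hsJ, hs⟩ :=
    (Submodule.fg_span_iff_fg_span_finset_subset (R := (A₁ ⊗[A₀] B₀)) ((algebraMap A₁ (A₁ ⊗[A₀] B₀)) '' J)).mp hkerρ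
  obtain ⟨t, htJ, rfl⟩ := Finset.subset_set_image_iff.mp hsJ
  let J₂ : Ideal A₁ := Ideal.span (insert i (t : Set A₁))
  have hJ₂ : J₂ ≤ J := Ideal.span_le.mpr (Set.insert_subset hi htJ)
  suffices J ≤ J₂ by
    show J.FG
    rw [le_antisymm this hJ₂]
    exact Submodule.fg_span ((Finset.finite_toSet t).insert i)
  have hff : Module.FaithfullyFlat (A₁ ⧸ J₂) ((A₁ ⧸ J₂) ⊗[A₁] (A₁ ⊗[A₀] B₀)) := by
    refine .of_comap_surjective fun p ↦ ?_
    let p₁ := PrimeSpectrum.comap (algebraMap A₁ (A₁ ⧸ J₂)) p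
    have hp₁ : p₁ ∈ Set.range (PrimeSpectrum.comap (algebraMap A₁ (A₁ ⊗[A₀] B₀))) := by
      by_contra hcon
      have hp' : p₁ ∈ PrimeSpectrum.zeroLocus (K : Set A₁) := by rw [← hK]; exact hcon
      refine p₁.2.ne_top ((Ideal.eq_top_iff_one _).mpr ?_)
      rw [← hik]
      refine add_mem ?_ (hp' hk')
      show algebraMap A₁ (A₁ ⧸ J₂) i ∈ p.asIdeal
      rw [show algebraMap A₁ (A₁ ⧸ J₂) i = 0 from Ideal.Quotient.eq_zero_iff_mem.2 (Ideal.subset_span (Set.mem_insert _ _))]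
      exact zero_mem _
    rw [← Set.mem_range, ← PrimeSpectrum.nontrivial_iff_mem_rangeComap]
    rw [← PrimeSpectrum.nontrivial_iff_mem_rangeComap] at hp₁
    have e1 := AlgebraTensorModule.cancelBaseChange A₁ (A₁ ⧸ J₂) (A₁ ⧸ J₂) p.asIdeal.ResidueField (A₁ ⊗[A₀] B₀)
    suffices Nontrivial (p.asIdeal.ResidueField ⊗[A₁] (A₁ ⊗[A₀] B₀)) from e1.toEquiv.nontrivial
    let φ : p₁.asIdeal.ResidueField →ₐ[A₁] p.asIdeal.ResidueField :=
      Ideal.ResidueField.mapₐ p₁.asIdeal p.asIdeal (Algebra.ofId A₁ (A₁ ⧸ J₂)) rfl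
    algebraize [φ.toRingHom]
    have : IsScalarTower A₁ p₁.asIdeal.ResidueField p.asIdeal.ResidueField :=
      .of_algebraMap_eq fun x ↦ (φ.commutes x).symm
    exact (AlgebraTensorModule.cancelBaseChange A₁ p₁.asIdeal.ResidueField
      p₁.asIdeal.ResidueField p.asIdeal.ResidueField (A₁ ⊗[A₀] B₀)).symm.toEquiv.nontrivial
  intro x hx
  have hxs : algebraMap A₁ (A₁ ⊗[A₀] B₀) x ∈ J₂.map (algebraMap A₁ (A₁ ⊗[A₀] B₀)) := by
    have h1 : J.map (algebraMap A₁ (A₁ ⊗[A₀] B₀)) ≤ J₂.map (algebraMap A₁ (A₁ ⊗[A₀] B₀)) := by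
      show Ideal.span _ ≤ _
      refine hs.le.trans ?_
      rw [Finset.coe_image, Ideal.span_le]
      rintro _ ⟨x, hx, rfl⟩
      exact Ideal.mem_map_of_mem _ (Ideal.subset_span (Set.mem_insert_of_mem _ hx))
    exact h1 (Ideal.mem_map_of_mem _ hx)
  let incl : (A₁ ⊗[A₀] B₀) →ₐ[A₁] (A₁ ⧸ J₂) ⊗[A₁] (A₁ ⊗[A₀] B₀) := Algebra.TensorProduct.includeRight
  have h0 : algebraMap (A₁ ⧸ J₂) ((A₁ ⧸ J₂) ⊗[A₁] (A₁ ⊗[A₀] B₀)) (algebraMap A₁ (A₁ ⧸ J₂) x) = 0 := by
    rw [← IsScalarTower.algebraMap_apply, ← incl.commutes]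
    have hle : J₂.map (algebraMap A₁ (A₁ ⊗[A₀] B₀)) ≤ RingHom.ker incl := Ideal.map_le_iff_le_comap.2 fun y hy => by
      show incl (algebraMap A₁ (A₁ ⊗[A₀] B₀) y) = 0
      rw [incl.commutes, IsScalarTower.algebraMap_apply A₁ (A₁ ⧸ J₂) ((A₁ ⧸ J₂) ⊗[A₁] (A₁ ⊗[A₀] B₀)),
        show algebraMap A₁ (A₁ ⧸ J₂) y = 0 from Ideal.Quotient.eq_zero_iff_mem.2 hy, map_zero]
    exact hle hxs
  exact Ideal.Quotient.eq_zero_iff_mem.1
    ((injective_iff_map_eq_zero _).1 (FaithfulSMul.algebraMap_injective (A₁ ⧸ J₂) ((A₁ ⧸ J₂) ⊗[A₁] (A₁ ⊗[A₀] B₀))) _ h0)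


section

variable (A B C : Type u) [CommRing A] [CommRing B] [CommRing C] [Algebra A B] [Algebra B C]
  [Algebra A C] [IsScalarTower A B C]

open Groth.Agent.Lib.SourceDescent.Ring in
theorem finiteType_of_comp [Module.FaithfullyFlat B C] [Algebra.FinitePresentation B C]
    [Algebra.FiniteType A C] : Algebra.FiniteType A B := by
  classical
  obtain ⟨A₀, B₀, _, _, hA₀, _, _, ⟨e⟩⟩ := exists_flat_model B C
  obtain ⟨s, hs⟩ := Algebra.FiniteType.out (R := A) (A := C)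
  choose k t m h using fun x : s ↦ TensorProduct.exists_sum_tmul_eq (e x.1)
  have hopen : IsOpen (Set.range (PrimeSpectrum.comap (algebraMap A₀ B₀))) :=
    (PrimeSpectrum.isOpenMap_comap_of_hasGoingDown_of_finitePresentation (R := A₀) (S := B₀)).isOpen_range
  obtain ⟨K, hK⟩ := (PrimeSpectrum.isClosed_iff_zeroLocus_ideal _).mp hopen.isClosed_compl
  have hKtop : K.map (algebraMap A₀ B) = ⊤ := by
    rw [← PrimeSpectrum.zeroLocus_empty_iff_eq_top]
    refine Set.eq_empty_of_forall_notMem fun b hb ↦ ?_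
    obtain ⟨c, rfl⟩ := PrimeSpectrum.comap_surjective_of_faithfullyFlat (A := B) (B := C) b
    have hb' : PrimeSpectrum.comap (algebraMap A₀ B) (PrimeSpectrum.comap (algebraMap B C) c) ∈
        PrimeSpectrum.zeroLocus (K : Set A₀) :=
      fun x hx ↦ hb (Ideal.mem_map_of_mem _ hx)
    rw [← hK] at hb'
    refine hb' ⟨PrimeSpectrum.comap ((e.symm : B ⊗[A₀] B₀ →+* C).comp
      Algebra.TensorProduct.includeRight.toRingHom) c, ?_⟩
    rw [← PrimeSpectrum.comap_comp_apply, ← PrimeSpectrum.comap_comp_apply]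
    congr 1
    ext x
    simp only [RingHom.coe_comp, Function.comp_apply, AlgHom.toRingHom_eq_coe, RingHom.coe_coe,
      Algebra.TensorProduct.includeRight_apply]
    rw [Algebra.algebraMap_eq_smul_one (R := A₀) (A := B₀), ← TensorProduct.smul_tmul,
      ← Algebra.algebraMap_eq_smul_one, ← e.symm.commutes]
    rfl
  obtain ⟨N, cf, g, hcf⟩ := Submodule.mem_span_set'.mp
    ((Ideal.eq_top_iff_one _).mp hKtop :
      (1 : B) ∈ Submodule.span B ((algebraMap A₀ B) '' (K : Set A₀)))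
  let W : Finset B := (Finset.univ.biUnion fun x : s ↦ Finset.univ.image (t x)) ∪
    Finset.univ.image cf
  obtain ⟨s₀, hs₀⟩ := hA₀
  let A₁ : Subalgebra A B := Algebra.adjoin A (s₀ : Set B) ⊔ Algebra.adjoin A (W : Set B)
  have hle : ∀ x : A₀, (x : B) ∈ A₁ := fun x => by
    have hx : (x : B) ∈ Algebra.adjoin ℤ (s₀ : Set B) := by rw [hs₀]; exact x.2
    exact (Algebra.adjoin_le (fun y hy => (le_sup_left : _ ≤ A₁) (Algebra.subset_adjoin hy)) :
      Algebra.adjoin ℤ (s₀ : Set B) ≤ A₁.restrictScalars ℤ) hx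
  suffices hA₁ : (A₁ : Set B) = Set.univ by
    constructor
    have : A₁ = ⊤ := SetLike.coe_injective (by simpa using hA₁)
    rw [← this]
    exact Subalgebra.FG.sup ⟨s₀, rfl⟩ ⟨W, rfl⟩
  have hW : ∀ w ∈ W, w ∈ A₁ := fun w hw ↦
    (le_sup_right : _ ≤ A₁) (Algebra.subset_adjoin hw)
  let inc : A₀ →+* A₁ := (algebraMap A₀ B).codRestrict A₁ hle
  algebraize [inc]
  have : IsScalarTower A₀ A₁ B := .of_algebraMap_eq fun _ ↦ rfl
  let ι : A₁ →ₐ[A₀] B := IsScalarTower.toAlgHom A₀ A₁ B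
  -- `A₁ ⊗ B₀` is faithfully flat over `A₁`
  have : Module.FaithfullyFlat A₁ (A₁ ⊗[A₀] B₀) := by
    refine .of_comap_surjective fun p ↦ ?_
    let p₀ := PrimeSpectrum.comap (algebraMap A₀ A₁) p
    have hp₀ : p₀ ∈ Set.range (PrimeSpectrum.comap (algebraMap A₀ B₀)) := by
      by_contra hcon
      have hp' : p₀ ∈ PrimeSpectrum.zeroLocus (K : Set A₀) := by rw [← hK]; exact hcon
      refine p.2.ne_top ((Ideal.eq_top_iff_one _).mpr ?_)
      have hg : ∀ l : Fin N, ∃ x ∈ K, algebraMap A₀ B x = g l := fun l ↦ (g l).2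
      choose x hx hgx using hg
      have : (1 : A₁) = ∑ l, (⟨cf l, hW _ (by simp [W])⟩ : A₁) * algebraMap A₀ A₁ (x l) := by
        apply Subtype.ext
        refine Eq.trans hcf.symm ?_
        rw [AddSubmonoidClass.coe_finsetSum]
        refine Finset.sum_congr rfl fun l _ ↦ ?_
        rw [smul_eq_mul, ← hgx]
        rfl
      rw [this]
      exact Submodule.sum_mem _ fun l _ ↦ Ideal.mul_mem_left _ _ (hp' (hx l))
    rw [← Set.mem_range, ← PrimeSpectrum.nontrivial_iff_mem_rangeComap]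
    rw [← PrimeSpectrum.nontrivial_iff_mem_rangeComap] at hp₀
    have e1 := AlgebraTensorModule.cancelBaseChange A₀ A₁ A₁ p.asIdeal.ResidueField B₀
    suffices Nontrivial (p.asIdeal.ResidueField ⊗[A₀] B₀) from e1.toEquiv.nontrivial
    let φ : p₀.asIdeal.ResidueField →ₐ[A₀] p.asIdeal.ResidueField :=
      Ideal.ResidueField.mapₐ p₀.asIdeal p.asIdeal (Algebra.ofId A₀ A₁) rfl
    algebraize [φ.toRingHom]
    have : IsScalarTower A₀ p₀.asIdeal.ResidueField p.asIdeal.ResidueField :=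
      .of_algebraMap_eq fun x ↦ (φ.commutes x).symm
    exact (AlgebraTensorModule.cancelBaseChange A₀ p₀.asIdeal.ResidueField
      p₀.asIdeal.ResidueField p.asIdeal.ResidueField B₀).symm.toEquiv.nontrivial
  -- `A₁ ⊗ B₀ → B ⊗ B₀` is surjective
  let F : A₁ ⊗[A₀] B₀ →ₐ[A₀] B ⊗[A₀] B₀ := Algebra.TensorProduct.map ι (AlgHom.id _ _)
  have hF : Function.Surjective F := by
    suffices H : ∀ c : C, e c ∈ F.range by
      intro y
      obtain ⟨c, rfl⟩ := e.surjective y
      exact H c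
    intro c
    have hc : c ∈ Algebra.adjoin A (s : Set C) := by rw [hs]; trivial
    induction hc using Algebra.adjoin_induction with
    | mem x hx =>
      rw [h ⟨x, hx⟩]
      refine Subalgebra.sum_mem _ fun j _ ↦ ?_
      exact ⟨(⟨t ⟨x, hx⟩ j, hW _ (Finset.mem_union_left _ (Finset.mem_biUnion.mpr
        ⟨⟨x, hx⟩, Finset.mem_univ _, Finset.mem_image_of_mem _ (Finset.mem_univ j)⟩))⟩ : A₁) ⊗ₜ
        m ⟨x, hx⟩ j, rfl⟩
    | algebraMap r =>
      rw [IsScalarTower.algebraMap_apply A B C, e.commutes]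
      exact ⟨(algebraMap A A₁ r) ⊗ₜ 1, rfl⟩
    | add x y _ _ hx hy => rw [map_add]; exact add_mem hx hy
    | mul x y _ _ hx hy => rw [map_mul]; exact mul_mem hx hy
  have hsurj := surjective_of_tensor_map_surjective A₀ A₁ B B₀ hF
  exact Set.eq_univ_of_forall fun b ↦ by obtain ⟨⟨a, ha⟩, rfl⟩ := hsurj b; exact ha

theorem finitePresentation_of_comp [Module.FaithfullyFlat B C] [Algebra.FinitePresentation B C]
    [Algebra.FinitePresentation A C] : Algebra.FinitePresentation A B := by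
  classical
  have : Algebra.FiniteType A B := finiteType_of_comp A B C
  obtain ⟨A₀, B₀, _, _, hA₀, _, _, ⟨e⟩⟩ := exists_flat_model B C
  obtain ⟨n, f, hf⟩ := Algebra.FiniteType.iff_quotient_mvPolynomial''.mp ‹Algebra.FiniteType A B›
  refine .of_surjective hf ?_
  -- lift `A₀` to a quotient of the polynomial ring by a finitely generated ideal
  have : Algebra.FiniteType ℤ A₀ := (Subalgebra.fg_iff_finiteType A₀).mp hA₀
  obtain ⟨k, q, hq⟩ := Algebra.FiniteType.iff_quotient_mvPolynomial''.mp ‹Algebra.FiniteType ℤ A₀›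
  choose l hl using fun i => hf (q (MvPolynomial.X i) : A₀)
  let θ₀ : MvPolynomial (Fin k) ℤ →ₐ[ℤ] MvPolynomial (Fin n) A := MvPolynomial.aeval l
  have hθ₀ : ∀ p, f (θ₀ p) = (q p : B) := fun p =>
    DFunLike.congr_fun (MvPolynomial.algHom_ext (f := (f.restrictScalars ℤ).comp θ₀)
      (g := A₀.val.comp q) fun i => by simpa [θ₀] using hl i) p
  let I₁ : Ideal (MvPolynomial (Fin n) A) := (RingHom.ker q.toRingHom).map θ₀.toRingHom
  have hI₁fg : I₁.FG := Ideal.FG.map (IsNoetherian.noetherian _) _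
  have hI₁ : I₁ ≤ RingHom.ker f.toRingHom := Ideal.map_le_iff_le_comap.2 fun p hp => by
    show f (θ₀ p) = 0
    rw [hθ₀, show q p = 0 from hp]
    rfl
  let θ : A₀ →+* (MvPolynomial (Fin n) A ⧸ I₁) := (RingHom.liftOfSurjective q.toRingHom hq
    ⟨(Ideal.Quotient.mk I₁).comp θ₀.toRingHom, fun p hp =>
      Ideal.Quotient.eq_zero_iff_mem.2 (Ideal.mem_map_of_mem _ hp)⟩)
  let π : (MvPolynomial (Fin n) A ⧸ I₁) →ₐ[A] B := Ideal.Quotient.liftₐ I₁ f fun x hx => hI₁ hx
  have hπ : Function.Surjective π := fun b => by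
    obtain ⟨p, rfl⟩ := hf b
    exact ⟨Ideal.Quotient.mk I₁ p, rfl⟩
  have hθ : ∀ a : A₀, π (θ a) = (a : B) := fun a => by
    obtain ⟨p, rfl⟩ := hq a
    show π (RingHom.liftOfSurjective q.toRingHom hq _ (q.toRingHom p)) = _
    rw [RingHom.liftOfSurjective_comp_apply]
    exact hθ₀ p
  suffices hkey : (RingHom.ker π.toRingHom).FG by
    have : Algebra.FinitePresentation A (MvPolynomial (Fin n) A ⧸ I₁) := Algebra.FinitePresentation.quotient hI₁fg
    have hc : RingHom.ker f.toRingHom =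
        (RingHom.ker π.toRingHom).comap (Ideal.Quotient.mk I₁) := by
      ext x; rfl
    obtain ⟨T, hT⟩ := hkey
    choose z hz using fun t : T => Ideal.Quotient.mk_surjective (I := I₁) t.1
    have : RingHom.ker f.toRingHom = I₁ ⊔ Ideal.span (Set.range z) := by
      rw [hc, ← hT]
      have : Ideal.span (T : Set (MvPolynomial (Fin n) A ⧸ I₁)) = (Ideal.span (Set.range z)).map (Ideal.Quotient.mk I₁) := by
        rw [Ideal.map_span, ← Set.range_comp]
        congr 1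
        ext x
        exact ⟨fun hx => ⟨⟨x, hx⟩, hz _⟩, by rintro ⟨t, rfl⟩; simp [hz t]⟩
      rw [this, Ideal.comap_map_of_surjective _ Ideal.Quotient.mk_surjective,
        ← RingHom.ker_eq_comap_bot, Ideal.mk_ker, sup_comm]
    show (RingHom.ker f.toRingHom).FG
    rw [this]
    exact Submodule.FG.sup hI₁fg (Submodule.fg_span (Set.finite_range z))
  algebraize [θ]
  let : Algebra (MvPolynomial (Fin n) A ⧸ I₁) B := π.toRingHom.toAlgebra
  have : IsScalarTower A₀ (MvPolynomial (Fin n) A ⧸ I₁) B := .of_algebraMap_eq fun a => (hθ a).symm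
  have : IsScalarTower A (MvPolynomial (Fin n) A ⧸ I₁) B := .of_algebraMap_eq fun a => (π.commutes a).symm
  have : Algebra.FinitePresentation A (MvPolynomial (Fin n) A ⧸ I₁) := Algebra.FinitePresentation.quotient hI₁fg
  exact ker_fg_aux A A₀ (MvPolynomial (Fin n) A ⧸ I₁) B B₀ C e hπ

end

end Groth.Agent.Lib.EtSite.FppfSource
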