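import Groth.Agent.Lib.Unram.FibreGeomConnected
import Groth.Agent.Lib.LocAcycBC.Lift
import Groth.Agent.Lib.Henselian.Permanence
import Groth.Agent.H46.NoethModel
import Groth.Agent.Lib.EtSite.FppfSource
import Mathlib.RingTheory.Localization.BaseChange
import Mathlib.AlgebraicGeometry.Morphisms.FinitePresentation

/-!
Connected geometric fibres of a localisation of a flat algebra with reduced geometric fibres over a
strictly henselian base, by descent to the Noetherian case.
-/

set_option autoImplicit false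
set_option backward.isDefEq.respectTransparency false
set_option linter.style.haveILetI false

universe u

open CategoryTheory CategoryTheory.Limits AlgebraicGeometry IsLocalRing TensorProduct
open Groth.Agent

noncomputable section

namespace Groth.Agent.Lib.EtSite.FibreDescent

theorem isReduced_localizationAtPrime {D : Type u} [CommRing D] (q : PrimeSpectrum D)
    (h : _root_.IsReduced ((Spec (CommRingCat.of D)).presheaf.stalk q)) :
    _root_.IsReduced (Localization.AtPrime q.asIdeal) := by
  haveI := h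
  exact isReduced_of_injective (Spec.stalkIso (CommRingCat.of D) q).commRingCatIsoToRingEquiv.symm
    (RingEquiv.injective _)

theorem isReduced_of_isLocalization {D E : Type u} [CommRing D] [CommRing E] [Algebra D E]
    (M : Submonoid D) [IsLocalization M E]
    (h : ∀ q : Ideal D, ∀ [q.IsPrime], Disjoint (M : Set D) q → _root_.IsReduced (Localization.AtPrime q)) :
    _root_.IsReduced E := by
  refine ⟨fun z ⟨n, hn⟩ => ?_⟩
  obtain ⟨⟨d, s⟩, rfl⟩ := IsLocalization.mk'_surjective M z
  rw [← IsLocalization.mk'_pow, IsLocalization.mk'_eq_zero_iff] at hn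
  obtain ⟨⟨t, ht⟩, htd⟩ := hn
  rw [IsLocalization.mk'_eq_zero_iff]
  by_contra hne
  push Not at hne
  let I : Ideal D := LinearMap.ker (LinearMap.toSpanSingleton D D (t * d))
  have hdisj : Disjoint (M : Set D) I := Set.disjoint_left.2 fun m hm hI => by
    refine hne ⟨m * t, mul_mem hm ht⟩ ?_
    rw [mul_assoc]
    simpa [I] using hI
  obtain ⟨q, hq, hIq, hqM⟩ := Ideal.exists_le_prime_disjoint I M hdisj.symm
  haveI := hq
  haveI := h q hqM.symm
  have hnil : IsNilpotent (algebraMap D (Localization.AtPrime q) (t * d)) := by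
    refine IsNilpotent.map ⟨n + 1, ?_⟩ _
    rw [show (t * d) ^ (n + 1) = (t ^ n * d) * (t * d ^ n) by ring]
    rw [show t * d ^ n = 0 from htd, mul_zero]
  obtain ⟨c, hc⟩ := (IsLocalization.map_eq_zero_iff q.primeCompl _ _).1 hnil.eq_zero
  exact c.2 (hIq (show c.1 ∈ I by simpa [I] using hc))

theorem isReduced_congr {A B T L : Type u} [CommRing A] [CommRing B] [CommRing T] [CommRing L]
    [Algebra A B] [Algebra A T] [Algebra A L] (ε : B ≃ₐ[A] T) (h : _root_.IsReduced (B ⊗[A] L)) :
    _root_.IsReduced (T ⊗[A] L) := by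
  haveI := h
  let j := Algebra.TensorProduct.congr ε.symm (AlgEquiv.refl : L ≃ₐ[A] L)
  exact isReduced_of_injective j j.injective

theorem eq_zero_or_one_of_connected {R : Type u} [CommRing R] [ConnectedSpace (PrimeSpectrum R)] {e : R}
    (he : IsIdempotentElem e) : e = 0 ∨ e = 1 := by
  rcases isClopen_iff.1 (PrimeSpectrum.isClopen_iff.2 ⟨e, he, rfl⟩) with h | h
  · refine Or.inl ((PrimeSpectrum.basicOpen_eq_bot_iff e).1 (SetLike.coe_injective ?_) |>
      he.eq_zero_of_isNilpotent)
    exact h
  · refine Or.inr ?_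
    have hu : IsUnit e := by
      by_contra hu
      obtain ⟨m, hm, hem⟩ := exists_max_ideal_of_mem_nonunits hu
      have : (⟨m, hm.isPrime⟩ : PrimeSpectrum R) ∈ (PrimeSpectrum.basicOpen e : Set (PrimeSpectrum R)) := by
        rw [h]; trivial
      exact this hem
    exact hu.mul_eq_right.mp he

section core

variable (A₀ A B₁ : Type u) [CommRing A₀] [IsNoetherianRing A₀] [CommRing A] [Algebra A₀ A]
  [HenselianLocalRing A] [IsSepClosed (ResidueField A)] [CommRing B₁] [Algebra A₀ B₁]
  [Module.Flat A₀ B₁] [Algebra.FinitePresentation A₀ B₁]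

set_option maxHeartbeats 1000000 in
theorem idem_image_model
    (hred : ∀ (L : Type u) [Field L] [Algebra A L], _root_.IsReduced ((A ⊗[A₀] B₁) ⊗[A] L))
    (P : Ideal (A ⊗[A₀] B₁)) [P.IsPrime]
    (hP : P.comap (algebraMap A (A ⊗[A₀] B₁)) = maximalIdeal A)
    (K : Type u) [Field K] [Algebra A K] (e : K ⊗[A] (A ⊗[A₀] B₁)) (he : IsIdempotentElem e) :
    Algebra.TensorProduct.map (AlgHom.id K K)
        (IsScalarTower.toAlgHom A (A ⊗[A₀] B₁) (Localization.AtPrime P)) e = 0 ∨
      Algebra.TensorProduct.map (AlgHom.id K K)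
        (IsScalarTower.toAlgHom A (A ⊗[A₀] B₁) (Localization.AtPrime P)) e = 1 := by
  let T := A ⊗[A₀] B₁
  let fB := Spec.map (CommRingCat.ofHom (algebraMap A T))
  let f₁ := Spec.map (CommRingCat.ofHom (algebraMap A₀ B₁))
  let ψ : B₁ →+* T := (Algebra.TensorProduct.includeRight : B₁ →ₐ[A₀] T).toRingHom
  have sq : IsPullback (Spec.map (CommRingCat.ofHom ψ)) fB f₁
      (Spec.map (CommRingCat.ofHom (algebraMap A₀ A))) :=
    (isPullback_SpecMap_of_isPushout _ _ _ _ (CommRingCat.isPushout_tensorProduct A₀ A B₁)).flip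
  -- the fibres upstairs
  have hB : H46.GRAt.GRAt fB ⟨P, inferInstance⟩ := by
    intro L _ g p _
    obtain ⟨φ, rfl⟩ := Spec.map_surjective g
    letI : Algebra A L := φ.hom.toAlgebra
    haveI := hred L
    haveI : AlgebraicGeometry.IsReduced (Spec (CommRingCat.of (T ⊗[A] L))) :=
      (affine_isReduced_iff _).2 inferInstance
    haveI : AlgebraicGeometry.IsReduced (pullback fB (Spec.map φ)) :=
      isReduced_of_isOpenImmersion (pullbackSpecIso A T L).hom
    infer_instance
  let P₁ : PrimeSpectrum B₁ := ⟨P.comap ψ, inferInstance⟩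
  have h₁ : H46.GRAt.GRAt f₁ P₁ := H46.GRAt.of_baseChange sq _ hB
  haveI : LocallyOfFinitePresentation f₁ :=
    (HasRingHomProperty.Spec_iff (P := @LocallyOfFinitePresentation)).2
      (RingHom.finitePresentation_algebraMap.2 inferInstance)
  haveI : AlgebraicGeometry.Flat f₁ :=
    (HasRingHomProperty.Spec_iff (P := @AlgebraicGeometry.Flat)).2
      (RingHom.flat_algebraMap_iff.2 inferInstance)
  have hopen := H46.NoethModel.isOpen_flat_grAt f₁
  -- the strictly henselian Noetherian base
  let p : Ideal A₀ := (maximalIdeal A).comap (algebraMap A₀ A)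
  let R := Localization.AtPrime p
  let φR : R →+* A := IsLocalization.lift (S := R) (M := p.primeCompl) (g := algebraMap A₀ A)
    fun y => by
      by_contra hu
      exact y.2 ((mem_maximalIdeal _).2 hu)
  haveI : IsLocalHom φR := ⟨fun x hx => by
    obtain ⟨⟨a, s⟩, rfl⟩ := IsLocalization.mk'_surjective p.primeCompl x
    rw [IsLocalization.lift_mk'] at hx
    rw [IsLocalization.AtPrime.isUnit_mk'_iff R p a s]
    intro ha
    exact (mem_maximalIdeal _).1 (show algebraMap A₀ A a ∈ maximalIdeal A from ha)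
      (isUnit_of_mul_isUnit_left hx)⟩
  haveI : IsNoetherianRing R := IsLocalization.isNoetherianRing p.primeCompl R inferInstance
  let A' := Henselian.StrictHenselization.StrictHenselization R
  have hA' := Henselian.StrictHenselization.isStrictHenselization R
  haveI := hA'.henselian
  haveI : IsSepClosed (ResidueField A') := hA'.isSepClosure.sep_closed
  haveI : IsNoetherianRing A' := Henselian.Permanence.strict_isNoetherianRing R A'
  obtain ⟨g, hgl, hg⟩ := LocAcycBC.Lift.exists_ringHom (A := R) (Ash := A') φR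
  letI : Algebra A' A := g.toAlgebra
  haveI : IsLocalHom (algebraMap A' A) := hgl
  letI : Algebra A₀ A' := ((algebraMap R A').comp (algebraMap A₀ R)).toAlgebra
  haveI : IsScalarTower A₀ A' A := .of_algebraMap_eq fun a => by
    change algebraMap A₀ A a = g (algebraMap R A' (algebraMap A₀ R a))
    rw [show g (algebraMap R A' (algebraMap A₀ R a)) = φR (algebraMap A₀ R a) from
      RingHom.congr_fun hg _]
    exact (IsLocalization.lift_eq _ a).symm
  let B' := A' ⊗[A₀] B₁
  let ψ' : B' →ₐ[A₀] T := Algebra.TensorProduct.map (IsScalarTower.toAlgHom A₀ A' A) (AlgHom.id A₀ B₁)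
  let P' : Ideal B' := P.comap ψ'
  haveI : P'.IsPrime := Ideal.IsPrime.comap _
  have hP' : P'.comap (algebraMap A' B') = maximalIdeal A' := by
    ext a
    change ψ' (a ⊗ₜ 1) ∈ P ↔ _
    have : ψ' (a ⊗ₜ 1) = algebraMap A T (g a) := rfl
    rw [this, ← Ideal.mem_comap, hP, mem_maximalIdeal, mem_maximalIdeal, mem_nonunits_iff,
      mem_nonunits_iff]
    exact not_congr ⟨fun h => IsUnit.of_map (algebraMap A' A) _ h, fun h => h.map g⟩
  let C := Localization.AtPrime P'
  haveI : IsLocalHom (algebraMap A' C) := ⟨fun a ha => by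
    rw [IsScalarTower.algebraMap_apply A' B' C, IsLocalization.AtPrime.isUnit_to_map_iff C P'] at ha
    by_contra hu
    exact ha (hP'.ge hu)⟩
  haveI : Module.Flat B' C := IsLocalization.flat C P'.primeCompl
  haveI : Module.Flat A' C := Module.Flat.trans A' B' C
  let f' := Spec.map (CommRingCat.ofHom (algebraMap A' B'))
  let ψ₁ : B₁ →+* B' := (Algebra.TensorProduct.includeRight : B₁ →ₐ[A₀] B').toRingHom
  have sq' : IsPullback (Spec.map (CommRingCat.ofHom ψ₁)) f' f₁
      (Spec.map (CommRingCat.ofHom (algebraMap A₀ A'))) :=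
    (isPullback_SpecMap_of_isPushout _ _ _ _ (CommRingCat.isPushout_tensorProduct A₀ A' B₁)).flip
  have hgen : ∀ q : PrimeSpectrum B', q.asIdeal ≤ P' → H46.GRAt.GRAt f' q := by
    intro q hq
    refine H46.GRAt.baseChange sq' q ?_
    have hspec : (PrimeSpectrum.comap ψ₁ q : PrimeSpectrum B₁) ⤳ P₁ := by
      rw [← PrimeSpectrum.le_iff_specializes]
      change q.asIdeal.comap ψ₁ ≤ P.comap ψ
      refine (Ideal.comap_mono hq).trans (le_of_eq ?_)
      rw [show P' = P.comap ψ'.toRingHom from rfl, Ideal.comap_comap]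
      congr 1
      ext b
      exact congrArg₂ (· ⊗ₜ[A₀] ·) (map_one (algebraMap A' A)) rfl
    exact ((hspec.mem_open hopen ⟨AlgebraicGeometry.Flat.stalkMap f₁ _, h₁⟩) :
      PrimeSpectrum.comap ψ₁ q ∈ {x : Spec (CommRingCat.of B₁) | (f₁.stalkMap x).hom.Flat ∧
        H46.GRAt.GRAt f₁ x}).2
  have hredC : ∀ (L : Type u) [Field L] [Algebra A' L], _root_.IsReduced (C ⊗[A'] L) := by
    intro L _ _
    let D := B' ⊗[A'] L
    let Φ : D →ₐ[A'] C ⊗[A'] L :=
      Algebra.TensorProduct.map (IsScalarTower.toAlgHom A' B' C) (AlgHom.id A' L)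
    letI : Algebra D (C ⊗[A'] L) := Φ.toRingHom.toAlgebra
    haveI : IsScalarTower B' D (C ⊗[A'] L) := IsScalarTower.of_algebraMap_eq (R := B') (S := D) (A := C ⊗[A'] L) fun b => by
      change algebraMap B' C b ⊗ₜ[A'] (1 : L) = Φ (b ⊗ₜ[A'] (1 : L))
      rfl
    haveI : IsLocalization (Algebra.algebraMapSubmonoid D P'.primeCompl) (C ⊗[A'] L) :=
      IsLocalization.tensorProduct_tensorProduct A' L P'.primeCompl C (by
        ext l
        change Φ (1 ⊗ₜ[A'] l) = 1 ⊗ₜ[A'] l
        exact congrArg₂ (· ⊗ₜ[A'] ·) (map_one (algebraMap B' C)) rfl)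
    refine isReduced_of_isLocalization (E := C ⊗[A'] L) (Algebra.algebraMapSubmonoid D P'.primeCompl) fun q _ hq => ?_
    refine isReduced_localizationAtPrime ⟨q, inferInstance⟩ ?_
    have hle : q.comap (algebraMap B' D) ≤ P' := fun b hb => by
      by_contra hb'
      exact Set.disjoint_left.1 hq (Algebra.mem_algebraMapSubmonoid_of_mem (⟨b, hb'⟩ : P'.primeCompl)) hb
    exact H46.GRAt.isReduced_of_isPullback (hgen ⟨q.comap (algebraMap B' D), inferInstance⟩ hle)
      ((isPullback_SpecMap_of_isPushout _ _ _ _ (CommRingCat.isPushout_tensorProduct A' B' L))) _ rfl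
  have hconn := Unram.FibreGeomConnected.connectedSpace_fibre A' C hredC
    (Unram.FibreGeomConnected.staysLocal_of_isSepClosed A' C)
  letI : Algebra A' K := ((algebraMap A K).comp (algebraMap A' A)).toAlgebra
  haveI : IsScalarTower A' A K := .of_algebraMap_eq fun _ => rfl
  letI : Algebra A₀ K := ((algebraMap A K).comp (algebraMap A₀ A)).toAlgebra
  haveI : IsScalarTower A₀ A K := .of_algebraMap_eq fun _ => rfl
  haveI : IsScalarTower A₀ A' K := .of_algebraMap_eq fun a => by
    change algebraMap A K (algebraMap A₀ A a) = algebraMap A K (algebraMap A' A (algebraMap A₀ A' a))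
    rw [← IsScalarTower.algebraMap_apply A₀ A' A]
  haveI := hconn K
  -- the idempotent
  let ι : T →ₐ[A] K ⊗[A'] C :=
    Algebra.TensorProduct.lift ((IsScalarTower.toAlgHom A K (K ⊗[A'] C)).comp (Algebra.ofId A K))
      ((((Algebra.TensorProduct.includeRight : C →ₐ[A'] K ⊗[A'] C).comp
        (IsScalarTower.toAlgHom A' B' C)).restrictScalars A₀).comp Algebra.TensorProduct.includeRight)
      fun _ _ => Commute.all _ _
  let Ψ : K ⊗[A] T →ₐ[K] K ⊗[A'] C :=
    Algebra.TensorProduct.lift (Algebra.ofId K _) ι fun _ _ => Commute.all _ _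
  let θ : C →ₐ[A'] Localization.AtPrime P :=
    { Localization.localRingHom P' P ψ'.toRingHom rfl with
      commutes' := fun a => by
        change Localization.localRingHom P' P ψ'.toRingHom rfl (algebraMap A' C a) = _
        rw [IsScalarTower.algebraMap_apply A' B' C, Localization.localRingHom_to_map,
          IsScalarTower.algebraMap_apply A' T (Localization.AtPrime P)]
        congr 1 }
  have hθ : ∀ x, θ (algebraMap B' C x) = algebraMap T (Localization.AtPrime P) (ψ' x) :=
    fun x => Localization.localRingHom_to_map P' P ψ'.toRingHom rfl x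
  let Θ : K ⊗[A'] C →ₐ[K] K ⊗[A] Localization.AtPrime P :=
    Algebra.TensorProduct.lift (Algebra.ofId K _)
      (((Algebra.TensorProduct.includeRight :
        Localization.AtPrime P →ₐ[A] K ⊗[A] Localization.AtPrime P).restrictScalars A').comp θ)
      fun _ _ => Commute.all _ _
  have hΘ : Θ.comp Ψ = Algebra.TensorProduct.map (AlgHom.id K K)
      (IsScalarTower.toAlgHom A T (Localization.AtPrime P)) := by
    refine Algebra.TensorProduct.ext' fun k t => ?_
    induction t using TensorProduct.induction_on with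
    | zero => simp
    | tmul a b =>
      have h1 : (k ⊗ₜ[A] (a ⊗ₜ[A₀] b) : K ⊗[A] T) = (algebraMap A K a * k) ⊗ₜ[A] ((1 : A) ⊗ₜ[A₀] b) := by
        rw [← Algebra.smul_def, TensorProduct.smul_tmul, TensorProduct.smul_tmul', smul_eq_mul, mul_one]
      rw [h1]
      have h2 : θ (algebraMap B' C ((1 : A') ⊗ₜ[A₀] b)) =
          algebraMap T (Localization.AtPrime P) ((1 : A) ⊗ₜ[A₀] b) := by
        rw [hθ]
        exact congrArg _ (congrArg₂ (· ⊗ₜ[A₀] ·) (map_one (algebraMap A' A)) rfl)
      have hι : ι ((1 : A) ⊗ₜ[A₀] b) = (1 : K) ⊗ₜ[A'] algebraMap B' C ((1 : A') ⊗ₜ[A₀] b) :=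
        (Algebra.TensorProduct.lift_tmul _ _ (fun _ _ => Commute.all _ _) _ _).trans ((congrArg (· * _) (map_one _)).trans (one_mul _))
      refine (congrArg Θ (Algebra.TensorProduct.lift_tmul _ _ (fun _ _ => Commute.all _ _) _ _)).trans ?_
      rw [map_mul, hι]
      refine (congrArg₂ (· * ·) (Θ.commutes _) (Algebra.TensorProduct.lift_tmul _ _ (fun _ _ => Commute.all _ _) _ _)).trans ?_
      rw [map_one, one_mul]
      change ((algebraMap A K a * k) ⊗ₜ[A] (1 : Localization.AtPrime P)) *
        ((1 : K) ⊗ₜ[A] θ (algebraMap B' C ((1 : A') ⊗ₜ[A₀] b))) = _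
      rw [h2, Algebra.TensorProduct.tmul_mul_tmul, mul_one, one_mul]
      rfl
    | add x y hx hy => rw [TensorProduct.tmul_add, map_add, map_add, hx, hy]
  rw [← hΘ]
  have hid := eq_zero_or_one_of_connected (he.map Ψ)
  rcases hid with h | h
  · exact Or.inl (by rw [AlgHom.comp_apply, h, map_zero])
  · exact Or.inr (by rw [AlgHom.comp_apply, h, map_one])

end core

theorem idem_transfer {A B T : Type u} [CommRing A] [IsLocalRing A] [CommRing B] [CommRing T]
    [Algebra A B] [Algebra A T] (ε : B ≃ₐ[A] T) (P : Ideal B) [P.IsPrime]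
    (hP : P.comap (algebraMap A B) = maximalIdeal A) (K : Type u) [Field K] [Algebra A K]
    (hT : ∀ (Q : Ideal T) [Q.IsPrime], Q.comap (algebraMap A T) = maximalIdeal A →
      ∀ e : K ⊗[A] T, IsIdempotentElem e →
      Algebra.TensorProduct.map (AlgHom.id K K) (IsScalarTower.toAlgHom A T (Localization.AtPrime Q)) e = 0 ∨
      Algebra.TensorProduct.map (AlgHom.id K K) (IsScalarTower.toAlgHom A T (Localization.AtPrime Q)) e = 1)
    (e : K ⊗[A] B) (he : IsIdempotentElem e) :
    Algebra.TensorProduct.map (AlgHom.id K K) (IsScalarTower.toAlgHom A B (Localization.AtPrime P)) e = 0 ∨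
      Algebra.TensorProduct.map (AlgHom.id K K)
        (IsScalarTower.toAlgHom A B (Localization.AtPrime P)) e = 1 := by
  let Q : Ideal T := P.comap ε.symm.toAlgHom
  haveI : Q.IsPrime := Ideal.IsPrime.comap _
  have hQ : Q.comap (algebraMap A T) = maximalIdeal A := by
    rw [← hP]; ext a
    change ε.symm (algebraMap A T a) ∈ P ↔ algebraMap A B a ∈ P
    rw [ε.symm.commutes]
  let θ : Localization.AtPrime Q →ₐ[A] Localization.AtPrime P :=
    { Localization.localRingHom Q P ε.symm.toAlgHom.toRingHom rfl with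
      commutes' := fun a => by
        change Localization.localRingHom Q P ε.symm.toAlgHom.toRingHom rfl (algebraMap A _ a) = _
        rw [IsScalarTower.algebraMap_apply A T (Localization.AtPrime Q),
          Localization.localRingHom_to_map, IsScalarTower.algebraMap_apply A B (Localization.AtPrime P)]
        congr 1
        exact ε.symm.commutes a }
  let E := Algebra.TensorProduct.map (AlgHom.id K K) θ
  let J := Algebra.TensorProduct.map (AlgHom.id K K) (IsScalarTower.toAlgHom A T (Localization.AtPrime Q))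
  let I := Algebra.TensorProduct.map (AlgHom.id K K) ε.toAlgHom
  have key : (E.comp J).comp I =
      Algebra.TensorProduct.map (AlgHom.id K K) (IsScalarTower.toAlgHom A B (Localization.AtPrime P)) := by
    refine Algebra.TensorProduct.ext' fun k b => ?_
    change k ⊗ₜ[A] θ (algebraMap T (Localization.AtPrime Q) (ε b)) = k ⊗ₜ[A] algebraMap B _ b
    refine congrArg (k ⊗ₜ[A] ·) ?_
    exact (Localization.localRingHom_to_map Q P ε.symm.toAlgHom.toRingHom rfl (ε b)).trans
      (congrArg _ (ε.symm_apply_apply b))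
  rw [← key]
  rcases hT Q hQ (I e) (he.map I) with h | h
  · exact Or.inl ((congrArg E h).trans (map_zero E))
  · exact Or.inr ((congrArg E h).trans (map_one E))

set_option maxHeartbeats 1000000 in
/-- An idempotent of a geometric fibre is trivial near a point over the closed point. -/
theorem idem_image (A B : Type u) [CommRing A] [HenselianLocalRing A] [IsSepClosed (ResidueField A)]
    [CommRing B] [Algebra A B] [Module.Flat A B] [Algebra.FinitePresentation A B]
    (hred : ∀ (L : Type u) [Field L] [Algebra A L], _root_.IsReduced (B ⊗[A] L))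
    (P : Ideal B) [P.IsPrime] (hP : P.comap (algebraMap A B) = maximalIdeal A)
    (K : Type u) [Field K] [Algebra A K] (e : K ⊗[A] B) (he : IsIdempotentElem e) :
    Algebra.TensorProduct.map (AlgHom.id K K) (IsScalarTower.toAlgHom A B (Localization.AtPrime P)) e = 0 ∨
      Algebra.TensorProduct.map (AlgHom.id K K)
        (IsScalarTower.toAlgHom A B (Localization.AtPrime P)) e = 1 := by
  obtain ⟨A₀, B₁, _, _, hfg, hfp, hfl, ⟨ε⟩⟩ := FppfSource.exists_flat_model A B
  haveI : Algebra.FiniteType ℤ A₀ := A₀.fg_iff_finiteType.1 hfg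
  haveI : IsNoetherianRing A₀ := Algebra.FiniteType.isNoetherianRing ℤ A₀
  haveI := hfp; haveI := hfl
  refine idem_transfer (T := A ⊗[A₀] B₁) ε P hP K ?_ e he
  intro Q _ hQ e' he'
  have hc := @idem_image_model (↥A₀) A B₁ _ _ _ _ _ _ _ _ hfl hfp (fun L _ _ => isReduced_congr ε (hred L)) Q _ hQ K _ _ e' (by convert he' using 0)
  convert hc using 3
end Groth.Agent.Lib.EtSite.FibreDescent
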