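import Groth.Agent.Lib.EtSite.FibreStrict
import Groth.Agent.Lib.GeomFactorial.StrictLocal
import Groth.Prelude.Def_Hens2
import Mathlib.AlgebraicGeometry.Morphisms.Flat
import Mathlib.AlgebraicGeometry.Morphisms.FinitePresentation
import Mathlib.AlgebraicGeometry.Pullbacks

/-!
Geometric fibres of the maps of strict localisations of a flat morphism locally of finite
presentation with geometrically reduced fibres are connected.
-/

set_option autoImplicit false
set_option backward.isDefEq.respectTransparency false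
set_option linter.style.haveILetI false

universe u

open CategoryTheory CategoryTheory.Limits AlgebraicGeometry IsLocalRing TensorProduct
open Groth.Agent.Lib Groth.Agent.Lib.EtSite

noncomputable section

namespace Groth.Agent.Lib.EtSite.FibreGeom

theorem lift_one {A R B C : Type u} [CommRing A] [CommRing R] [CommRing B] [CommRing C] [Algebra A R]
    [Algebra A B] [Algebra R C] [Algebra A C] [IsScalarTower A R C] (g : B →ₐ[A] C)
    (h : ∀ x y, Commute (Algebra.ofId R C x) (g y)) (b : B) :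
    Algebra.TensorProduct.lift (Algebra.ofId R C) g h (1 ⊗ₜ b) = g b := by
  rw [Algebra.TensorProduct.lift_tmul, map_one, one_mul]

theorem isReduced_chart {X S : Scheme.{u}} (f : X ⟶ S)
    (hred : ∀ (K : Type u) [Field K] (k : Spec (CommRingCat.of K) ⟶ S), IsReduced (pullback f k))
    {V : S.Opens} (hV : IsAffineOpen V) {U : X.Opens} (hU : IsAffineOpen U) (e : U ≤ f ⁻¹ᵁ V)
    (L : Type u) [Field L] (φ : Γ(S, V) ⟶ CommRingCat.of L) :
    IsReduced (pullback (Spec.map (f.appLE V U e)) (Spec.map φ)) := by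
  haveI := hred L (Spec.map φ ≫ hV.fromSpec)
  haveI : IsReduced (pullback (hU.fromSpec ≫ f) (Spec.map φ ≫ hV.fromSpec)) :=
    haveI : IsReduced (pullback hU.fromSpec (pullback.fst f (Spec.map φ ≫ hV.fromSpec))) :=
      isReduced_of_isOpenImmersion (pullback.snd _ _)
    isReduced_of_isOpenImmersion (pullbackRightPullbackFstIso f (Spec.map φ ≫ hV.fromSpec) hU.fromSpec).inv
  rw [← IsAffineOpen.SpecMap_appLE_fromSpec f hV hU e] at this
  exact isReduced_of_isOpenImmersion
    (IsPullback.of_isLimit (pullbackIsPullbackOfCompMono (Spec.map (f.appLE V U e)) (Spec.map φ)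
      hV.fromSpec)).isoPullback.hom

set_option maxHeartbeats 1000000 in
theorem connectedSpace_fibre {X S : Scheme.{u}} (f : X ⟶ S) [AlgebraicGeometry.Flat f]
    [LocallyOfFinitePresentation f]
    (hred : ∀ (K : Type u) [Field K] (k : Spec (CommRingCat.of K) ⟶ S), IsReduced (pullback f k))
    (x : X) (RS RX : Type u) [CommRing RS] [CommRing RX] [IsLocalRing RS] [IsLocalRing RX]
    [Algebra (S.presheaf.stalk (f.base x)) RS] [IsLocalHom (algebraMap (S.presheaf.stalk (f.base x)) RS)]
    [hS : Hensel.IsStrictHenselization (S.presheaf.stalk (f.base x)) RS]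
    [Algebra (X.presheaf.stalk x) RX] [IsLocalHom (algebraMap (X.presheaf.stalk x) RX)]
    [hX : Hensel.IsStrictHenselization (X.presheaf.stalk x) RX]
    [Algebra RS RX] [IsLocalHom (algebraMap RS RX)]
    (hc : (algebraMap RS RX).comp (algebraMap (S.presheaf.stalk (f.base x)) RS) =
      (algebraMap (X.presheaf.stalk x) RX).comp (f.stalkMap x).hom)
    (Ω : Type u) [Field Ω] (s : Spec (CommRingCat.of Ω) ⟶ Spec (CommRingCat.of RS)) :
    ConnectedSpace ↥(pullback (Spec.map (CommRingCat.ofHom (algebraMap RS RX))) s) := by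
  obtain ⟨_, ⟨V, hV, rfl⟩, hxV, -⟩ := S.isBasis_affineOpens.exists_subset_of_mem_open
    (Set.mem_univ (f.base x)) isOpen_univ
  obtain ⟨_, ⟨U, hU, rfl⟩, hxU, hUV⟩ := X.isBasis_affineOpens.exists_subset_of_mem_open
    (show x ∈ (f ⁻¹ᵁ V : Set X) from hxV) (f ⁻¹ᵁ V).2
  let A₀ := Γ(S, V)
  let B₀ := Γ(X, U)
  let Os := S.presheaf.stalk (f.base x)
  let Ox := X.presheaf.stalk x
  letI : Algebra A₀ B₀ := (f.appLE V U hUV).hom.toAlgebra
  haveI : Module.Flat A₀ B₀ := f.flat_appLE hV hU hUV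
  haveI : Algebra.FinitePresentation A₀ B₀ := f.finitePresentation_appLE hV hU hUV
  letI : Algebra A₀ Os := (S.presheaf.germ V (f.base x) hxV).hom.toAlgebra
  letI : Algebra B₀ Ox := (X.presheaf.germ U x hxU).hom.toAlgebra
  haveI : IsLocalization.AtPrime Os (hV.primeIdealOf ⟨_, hxV⟩).asIdeal := hV.isLocalization_stalk ⟨_, hxV⟩
  haveI : IsLocalization.AtPrime Ox (hU.primeIdealOf ⟨_, hxU⟩).asIdeal := hU.isLocalization_stalk ⟨_, hxU⟩
  letI : Algebra A₀ RS := ((algebraMap Os RS).comp (algebraMap A₀ Os)).toAlgebra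
  haveI : IsScalarTower A₀ Os RS := .of_algebraMap_eq fun _ => rfl
  letI : Algebra B₀ RX := ((algebraMap Ox RX).comp (algebraMap B₀ Ox)).toAlgebra
  haveI : IsScalarTower B₀ Ox RX := .of_algebraMap_eq fun _ => rfl
  letI : Algebra A₀ RX := ((algebraMap RS RX).comp (algebraMap A₀ RS)).toAlgebra
  haveI : IsScalarTower A₀ RS RX := .of_algebraMap_eq fun _ => rfl
  haveI : IsScalarTower A₀ B₀ RX := .of_algebraMap_eq fun a => by
    change algebraMap RS RX (algebraMap Os RS (algebraMap A₀ Os a)) =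
      algebraMap Ox RX (X.presheaf.germ U x hxU ((f.appLE V U hUV) a))
    refine (RingHom.congr_fun hc _).trans (congrArg (algebraMap Ox RX) ?_)
    change (S.presheaf.germ V (f.base x) hxV ≫ f.stalkMap x) a = (f.appLE V U hUV ≫ X.presheaf.germ U x hxU) a
    rw [Scheme.Hom.germ_stalkMap, Scheme.Hom.appLE, Category.assoc, X.presheaf.germ_res]
  have hindS : EtPBC.IsIndEtale A₀ RS := IndEtale.Basic.trans
    (GeomFactorial.StrictLocal.isIndEtale_of_isLocalization (A := Os) (hV.primeIdealOf ⟨_, hxV⟩).asIdeal)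
    (GeomFactorial.StrictLocal.isIndEtale_strict Os RS)
  have hindX : EtPBC.IsIndEtale B₀ RX := IndEtale.Basic.trans
    (GeomFactorial.StrictLocal.isIndEtale_of_isLocalization (A := Ox) (hU.primeIdealOf ⟨_, hxU⟩).asIdeal)
    (GeomFactorial.StrictLocal.isIndEtale_strict Ox RX)
  let C₀ := RS ⊗[A₀] B₀
  letI : Algebra B₀ C₀ := Algebra.TensorProduct.rightAlgebra
  let ιC : C₀ →ₐ[RS] RX := Algebra.TensorProduct.lift (Algebra.ofId RS RX)
    (IsScalarTower.toAlgHom A₀ B₀ RX) fun _ _ => Commute.all _ _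
  letI : Algebra C₀ RX := ιC.toRingHom.toAlgebra
  haveI : IsScalarTower RS C₀ RX := .of_algebraMap_eq fun a => (ιC.commutes a).symm
  haveI : IsScalarTower B₀ C₀ RX := .of_algebraMap_eq fun b => by
    change algebraMap B₀ RX b = ιC (1 ⊗ₜ b)
    exact (lift_one (A := A₀) (R := RS) (IsScalarTower.toAlgHom A₀ B₀ RX) (fun _ _ => Commute.all _ _) b).symm
  let eC : B₀ ⊗[A₀] RS ≃ₐ[B₀] C₀ :=
    AlgEquiv.ofRingEquiv (f := (Algebra.TensorProduct.comm A₀ B₀ RS).toRingEquiv) fun b => rfl
  have hind : EtPBC.IsIndEtale C₀ RX :=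
    IndEtale.Basic.cancel (IndEtale.Basic.of_algEquiv (IndEtale.Basic.baseChange B₀ hindS) eC) hindX
  haveI := hS.henselian
  haveI : IsSepClosed (ResidueField RS) := hS.isSepClosure.sep_closed
  have hredC : ∀ (L : Type u) [Field L] [Algebra RS L], _root_.IsReduced (C₀ ⊗[RS] L) := fun L _ _ => by
    letI : Algebra A₀ L := ((algebraMap RS L).comp (algebraMap A₀ RS)).toAlgebra
    haveI : IsScalarTower A₀ RS L := .of_algebraMap_eq fun _ => rfl
    haveI : AlgebraicGeometry.IsReduced (pullback (Spec.map (CommRingCat.ofHom (algebraMap A₀ B₀)))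
        (Spec.map (CommRingCat.ofHom (algebraMap A₀ L)))) :=
      isReduced_chart f hred hV hU hUV L (CommRingCat.ofHom (algebraMap A₀ L))
    haveI : AlgebraicGeometry.IsReduced (Spec (CommRingCat.of (B₀ ⊗[A₀] L))) :=
      isReduced_of_isOpenImmersion (pullbackSpecIso A₀ B₀ L).inv
    haveI : _root_.IsReduced (B₀ ⊗[A₀] L) := (affine_isReduced_iff (CommRingCat.of (B₀ ⊗[A₀] L))).1 ‹_›
    let j : C₀ ⊗[RS] L ≃+* B₀ ⊗[A₀] L :=
      ((Algebra.TensorProduct.comm RS C₀ L).toRingEquiv.trans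
        (Algebra.TensorProduct.cancelBaseChange A₀ RS L L B₀).toRingEquiv).trans
        (Algebra.TensorProduct.comm A₀ L B₀).toRingEquiv
    exact isReduced_of_injective j j.injective
  obtain ⟨φ, rfl⟩ := Spec.map_surjective s
  letI : Algebra RS Ω := φ.hom.toAlgebra
  haveI : ConnectedSpace ↥(Spec (CommRingCat.of (Ω ⊗[RS] RX))) :=
    FibreStrict.connectedSpace_fibre hredC hind Ω
  let i : pullback (Spec.map (CommRingCat.ofHom (algebraMap RS RX))) (Spec.map φ) ≅
      Spec (CommRingCat.of (Ω ⊗[RS] RX)) := pullbackSymmetry _ _ ≪≫ pullbackSpecIso RS Ω RX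
  exact i.inv.homeomorph.surjective.connectedSpace i.inv.homeomorph.continuous

end Groth.Agent.Lib.EtSite.FibreGeom
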