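import Groth.Agent.Lib.EtSite.FibreNoeth
import Groth.Agent.Lib.EtSite.FibreGeom
import Groth.Agent.Lib.WeaklyEt.Flat
import Mathlib.AlgebraicGeometry.Morphisms.Flat
import Mathlib.AlgebraicGeometry.Noetherian

/-!
Geometric fibres of maps of strict localisations for base changes of flat morphisms of locally
Noetherian schemes with geometrically reduced fibres.
-/

set_option autoImplicit false
set_option backward.isDefEq.respectTransparency false
set_option linter.style.haveILetI false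

universe u

open CategoryTheory CategoryTheory.Limits AlgebraicGeometry IsLocalRing TensorProduct
open Groth.Agent.Lib Groth.Agent.Lib.EtSite

noncomputable section

namespace Groth.Agent.Lib.EtSite.FibreGeomNoeth

/-- The map of strict localisations of a flat morphism is flat. -/
theorem flat_map {X S : Scheme.{u}} (f : X ⟶ S) [AlgebraicGeometry.Flat f]
    (x : X) (RS RX : Type u) [CommRing RS] [CommRing RX] [IsLocalRing RS] [IsLocalRing RX]
    [Algebra (S.presheaf.stalk (f.base x)) RS] [IsLocalHom (algebraMap (S.presheaf.stalk (f.base x)) RS)]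
    [Hensel.IsStrictHenselization (S.presheaf.stalk (f.base x)) RS]
    [Algebra (X.presheaf.stalk x) RX] [IsLocalHom (algebraMap (X.presheaf.stalk x) RX)]
    [Hensel.IsStrictHenselization (X.presheaf.stalk x) RX]
    [Algebra RS RX]
    (hc : (algebraMap RS RX).comp (algebraMap (S.presheaf.stalk (f.base x)) RS) =
      (algebraMap (X.presheaf.stalk x) RX).comp (f.stalkMap x).hom) :
    Module.Flat RS RX := by
  let A := S.presheaf.stalk (f.base x)
  let B := X.presheaf.stalk x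
  letI : Algebra A B := (f.stalkMap x).hom.toAlgebra
  letI : Algebra A RX := ((algebraMap RS RX).comp (algebraMap A RS)).toAlgebra
  haveI : IsScalarTower A RS RX := .of_algebraMap_eq' rfl
  haveI : IsScalarTower A B RX := .of_algebraMap_eq' hc
  haveI : Module.Flat A B := AlgebraicGeometry.Flat.stalkMap f x
  haveI := Henselian.StrictHenselization.flat B RX
  haveI : Module.Flat A RX := Module.Flat.trans A B _
  haveI := IndEtale.Basic.weaklyEtale (GeomFactorial.StrictLocal.isIndEtale_strict A RS)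
  exact WeaklyEt.Flat.flat_of_flat_base (A := A) RX

set_option maxHeartbeats 1000000 in
theorem connectedSpace_model {A₁ B₁ A₂ RS RX : Type u} [CommRing A₁] [IsNoetherianRing A₁] [CommRing B₁]
    [CommRing A₂] [CommRing RS] [HenselianLocalRing RS] [IsSepClosed (ResidueField RS)] [CommRing RX]
    [IsLocalRing RX] [Algebra A₁ B₁] [Module.Flat A₁ B₁] [Algebra A₁ A₂] [Algebra A₂ RS]
    [Algebra RS RX] [IsLocalHom (algebraMap RS RX)]
    (hred : ∀ (L : Type u) [Field L] [Algebra A₁ L], _root_.IsReduced (B₁ ⊗[A₁] L))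
    [Algebra (A₂ ⊗[A₁] B₁) RX]
    (hcomm : ∀ a, algebraMap (A₂ ⊗[A₁] B₁) RX (a ⊗ₜ 1) = algebraMap RS RX (algebraMap A₂ RS a))
    (hindS : EtPBC.IsIndEtale A₂ RS) (hindX : EtPBC.IsIndEtale (A₂ ⊗[A₁] B₁) RX)
    (K : Type u) [Field K] [Algebra RS K] :
    ConnectedSpace (PrimeSpectrum (K ⊗[RS] RX)) := by
  let T := A₂ ⊗[A₁] B₁
  letI : Algebra A₁ RS := ((algebraMap A₂ RS).comp (algebraMap A₁ A₂)).toAlgebra
  haveI : IsScalarTower A₁ A₂ RS := .of_algebraMap_eq fun _ => rfl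
  let C₀ := RS ⊗[A₁] B₁
  let μ : T →ₐ[A₁] C₀ := Algebra.TensorProduct.map (IsScalarTower.toAlgHom A₁ A₂ RS) (AlgHom.id A₁ B₁)
  letI : Algebra T C₀ := μ.toRingHom.toAlgebra
  letI : Algebra A₁ RX := ((algebraMap RS RX).comp (algebraMap A₁ RS)).toAlgebra
  haveI : IsScalarTower A₁ RS RX := .of_algebraMap_eq fun _ => rfl
  let gB : B₁ →ₐ[A₁] RX :=
    { (algebraMap T RX).comp (Algebra.TensorProduct.includeRight : B₁ →ₐ[A₁] T).toRingHom with
      commutes' := fun a => by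
        change algebraMap T RX ((1 : A₂) ⊗ₜ[A₁] algebraMap A₁ B₁ a) = algebraMap RS RX (algebraMap A₂ RS (algebraMap A₁ A₂ a))
        rw [← hcomm, Algebra.algebraMap_eq_smul_one a, ← TensorProduct.smul_tmul,
          ← Algebra.algebraMap_eq_smul_one] }
  let ιC : C₀ →ₐ[RS] RX := Algebra.TensorProduct.lift (Algebra.ofId RS RX) gB fun _ _ => Commute.all _ _
  letI : Algebra C₀ RX := ιC.toRingHom.toAlgebra
  haveI : IsScalarTower RS C₀ RX := .of_algebraMap_eq fun a => (ιC.commutes a).symm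
  have hμ : ∀ t : T, ιC (μ t) = algebraMap T RX t := fun t => by
    induction t using TensorProduct.induction_on with
    | zero => simp
    | add x y hx hy => rw [map_add, map_add, map_add, hx, hy]
    | tmul a b =>
      refine (Algebra.TensorProduct.lift_tmul _ _ (fun _ _ => Commute.all _ _) _ _).trans ?_
      change algebraMap RS RX (algebraMap A₂ RS a) * algebraMap T RX ((1 : A₂) ⊗ₜ[A₁] b) = _
      rw [← hcomm, ← map_mul, Algebra.TensorProduct.tmul_mul_tmul, mul_one, one_mul]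
  haveI : IsScalarTower T C₀ RX := .of_algebraMap_eq fun t => (hμ t).symm
  -- `T → C₀` is ind-etale
  let κ : T ⊗[A₂] RS ≃+* C₀ := (Algebra.TensorProduct.comm A₂ T RS).toRingEquiv.trans
    (Algebra.TensorProduct.cancelBaseChange A₁ A₂ RS RS B₁).toRingEquiv
  have hκ : ∀ t : T, κ (t ⊗ₜ 1) = μ t := fun t => by
    induction t using TensorProduct.induction_on with
    | zero => rw [TensorProduct.zero_tmul, map_zero, map_zero]
    | add x y hx hy => rw [TensorProduct.add_tmul, map_add, map_add, hx, hy]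
    | tmul a b =>
      change Algebra.TensorProduct.cancelBaseChange A₁ A₂ RS RS B₁ ((1 : RS) ⊗ₜ[A₂] (a ⊗ₜ[A₁] b)) = _
      rw [Algebra.TensorProduct.cancelBaseChange_tmul]
      exact congrArg (· ⊗ₜ[A₁] b) (Algebra.algebraMap_eq_smul_one a).symm
  let eC : T ⊗[A₂] RS ≃ₐ[T] C₀ := AlgEquiv.ofRingEquiv (f := κ) fun t => hκ t
  have hindC : EtPBC.IsIndEtale C₀ RX :=
    IndEtale.Basic.cancel (IndEtale.Basic.of_algEquiv (IndEtale.Basic.baseChange T hindS) eC) hindX
  exact FibreStrict.connectedSpace_fibre_of hindC K fun E _ _ _ _ _ P _ hP e he =>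
    FibreNoeth.idem_etale A₁ RS B₁ E hred P hP K e he

theorem exists_chartIso {A₁ A₂ B₁ B₂ : CommRingCat.{u}} (φ : A₁ ⟶ B₁) (ψ : A₁ ⟶ A₂) (inl : B₁ ⟶ B₂)
    (inr : A₂ ⟶ B₂) (h : IsPushout φ ψ inl inr) :
    letI := φ.hom.toAlgebra
    letI := ψ.hom.toAlgebra
    ∃ θ : A₂ ⊗[A₁] B₁ ≃+* B₂, (∀ a : A₂, θ (a ⊗ₜ 1) = inr a) ∧ ∀ b : B₁, θ (1 ⊗ₜ b) = inl b := by
  letI := φ.hom.toAlgebra
  letI := ψ.hom.toAlgebra
  have h' := CommRingCat.isPushout_tensorProduct A₁ A₂ B₁
  let i := h'.isoIsPushout _ _ h.flip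
  refine ⟨i.commRingCatIsoToRingEquiv, fun a => ?_, fun b => ?_⟩
  · exact ConcreteCategory.congr_hom (h'.inl_isoIsPushout_hom _ _ h.flip) a
  · exact ConcreteCategory.congr_hom (h'.inr_isoIsPushout_hom _ _ h.flip) b

set_option maxHeartbeats 1000000 in
theorem connectedSpace_fibre {X Y X₁ Y₁ : Scheme.{u}} {g : X ⟶ Y} [AlgebraicGeometry.Flat g]
    [IsLocallyNoetherian Y]
    (hred : ∀ (K : Type u) [Field K] (k : Spec (CommRingCat.of K) ⟶ Y), IsReduced (pullback g k))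
    {g₁ : X₁ ⟶ Y₁} {b' : X₁ ⟶ X} {b : Y₁ ⟶ Y} (sq : IsPullback b' g₁ g b)
    (x : X₁) (RS RX : Type u) [CommRing RS] [CommRing RX] [IsLocalRing RS] [IsLocalRing RX]
    [Algebra (Y₁.presheaf.stalk (g₁.base x)) RS] [IsLocalHom (algebraMap (Y₁.presheaf.stalk (g₁.base x)) RS)]
    [hS : Hensel.IsStrictHenselization (Y₁.presheaf.stalk (g₁.base x)) RS]
    [Algebra (X₁.presheaf.stalk x) RX] [IsLocalHom (algebraMap (X₁.presheaf.stalk x) RX)]
    [hX : Hensel.IsStrictHenselization (X₁.presheaf.stalk x) RX]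
    [Algebra RS RX] [IsLocalHom (algebraMap RS RX)]
    (hc : (algebraMap RS RX).comp (algebraMap (Y₁.presheaf.stalk (g₁.base x)) RS) =
      (algebraMap (X₁.presheaf.stalk x) RX).comp (g₁.stalkMap x).hom)
    (Ω : Type u) [Field Ω] (s : Spec (CommRingCat.of Ω) ⟶ Spec (CommRingCat.of RS)) :
    ConnectedSpace ↥(pullback (Spec.map (CommRingCat.ofHom (algebraMap RS RX))) s) := by
  obtain ⟨_, ⟨V, hV, rfl⟩, hxV, -⟩ := Y.isBasis_affineOpens.exists_subset_of_mem_open
    (Set.mem_univ (g.base (b'.base x))) isOpen_univ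
  obtain ⟨_, ⟨U, hU, rfl⟩, hxU, hUV⟩ := X.isBasis_affineOpens.exists_subset_of_mem_open
    (show b'.base x ∈ (g ⁻¹ᵁ V : Set X) from hxV) (g ⁻¹ᵁ V).2
  have hxb : g₁.base x ∈ (b ⁻¹ᵁ V : Set Y₁) := by
    change b.base (g₁.base x) ∈ V
    rw [← Scheme.Hom.comp_apply, ← sq.w, Scheme.Hom.comp_apply]
    exact hxV
  obtain ⟨_, ⟨W, hW, rfl⟩, hxW, hWV⟩ := Y₁.isBasis_affineOpens.exists_subset_of_mem_open hxb (b ⁻¹ᵁ V).2
  let UY : X₁.Opens := b' ⁻¹ᵁ U ⊓ g₁ ⁻¹ᵁ W
  have hxY : x ∈ UY := ⟨hxU, hxW⟩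
  have hUY : IsAffineOpen UY := by
    haveI : IsAffine _ := hV
    haveI : IsAffine _ := hU
    haveI : IsAffine _ := hW
    exact .of_isIso (Scheme.Hom.isPullback_resLE sq hWV hUV (rfl : UY = _)).isoPullback.hom
  have hpo := (isIso_pushoutSection_iff sq hWV hUV (rfl : UY = _)).1
    (isIso_pushoutSection_of_isAffineOpen sq hWV hUV rfl hV hW hU)
  obtain ⟨θ, hθa, hθb⟩ := exists_chartIso _ _ _ _ hpo
  let A₁ := Γ(Y, V)
  let B₁ := Γ(X, U)
  let A₂ := Γ(Y₁, W)
  let B₂ := Γ(X₁, UY)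
  letI : Algebra A₁ B₁ := (g.appLE V U hUV).hom.toAlgebra
  letI : Algebra A₁ A₂ := (b.appLE V W hWV).hom.toAlgebra
  haveI : Module.Flat A₁ B₁ := g.flat_appLE hV hU hUV
  haveI : IsNoetherianRing A₁ := IsLocallyNoetherian.component_noetherian ⟨V, hV⟩
  let Os := Y₁.presheaf.stalk (g₁.base x)
  let Ox := X₁.presheaf.stalk x
  letI : Algebra A₂ Os := (Y₁.presheaf.germ W (g₁.base x) hxW).hom.toAlgebra
  letI : Algebra B₂ Ox := (X₁.presheaf.germ UY x hxY).hom.toAlgebra
  haveI : IsLocalization.AtPrime Os (hW.primeIdealOf ⟨_, hxW⟩).asIdeal := hW.isLocalization_stalk ⟨_, hxW⟩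
  haveI : IsLocalization.AtPrime Ox (hUY.primeIdealOf ⟨_, hxY⟩).asIdeal := hUY.isLocalization_stalk ⟨_, hxY⟩
  letI : Algebra A₂ RS := ((algebraMap Os RS).comp (algebraMap A₂ Os)).toAlgebra
  haveI : IsScalarTower A₂ Os RS := .of_algebraMap_eq fun _ => rfl
  letI : Algebra B₂ RX := ((algebraMap Ox RX).comp (algebraMap B₂ Ox)).toAlgebra
  haveI : IsScalarTower B₂ Ox RX := .of_algebraMap_eq fun _ => rfl
  letI : Algebra (A₂ ⊗[A₁] B₁) B₂ := θ.toRingHom.toAlgebra
  letI : Algebra (A₂ ⊗[A₁] B₁) RX := ((algebraMap B₂ RX).comp θ.toRingHom).toAlgebra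
  haveI : IsScalarTower (A₂ ⊗[A₁] B₁) B₂ RX := .of_algebraMap_eq fun _ => rfl
  have hindS : EtPBC.IsIndEtale A₂ RS := IndEtale.Basic.trans
    (GeomFactorial.StrictLocal.isIndEtale_of_isLocalization (A := Os) (hW.primeIdealOf ⟨_, hxW⟩).asIdeal)
    (GeomFactorial.StrictLocal.isIndEtale_strict Os RS)
  have hindX₂ : EtPBC.IsIndEtale B₂ RX := IndEtale.Basic.trans
    (GeomFactorial.StrictLocal.isIndEtale_of_isLocalization (A := Ox) (hUY.primeIdealOf ⟨_, hxY⟩).asIdeal)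
    (GeomFactorial.StrictLocal.isIndEtale_strict Ox RX)
  have hindX : EtPBC.IsIndEtale (A₂ ⊗[A₁] B₁) RX :=
    IndEtale.Basic.trans (IndEtale.Basic.of_algEquiv IndEtale.Basic.of_etale
      (AlgEquiv.ofBijective (Algebra.ofId (A₂ ⊗[A₁] B₁) B₂) θ.bijective)) hindX₂
  have hcomm : ∀ a, algebraMap (A₂ ⊗[A₁] B₁) RX (a ⊗ₜ 1) = algebraMap RS RX (algebraMap A₂ RS a) := fun a => by
    change algebraMap Ox RX (X₁.presheaf.germ UY x hxY (θ (a ⊗ₜ 1))) =
      algebraMap RS RX (algebraMap Os RS (algebraMap A₂ Os a))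
    rw [hθa]
    refine ((RingHom.congr_fun hc _).trans (congrArg (algebraMap Ox RX) ?_)).symm
    change (Y₁.presheaf.germ W (g₁.base x) hxW ≫ g₁.stalkMap x) a =
      (g₁.appLE W UY _ ≫ X₁.presheaf.germ UY x hxY) a
    rw [Scheme.Hom.germ_stalkMap, Scheme.Hom.appLE, Category.assoc, X₁.presheaf.germ_res]
  haveI := hS.henselian
  haveI : IsSepClosed (ResidueField RS) := hS.isSepClosure.sep_closed
  have hredB : ∀ (L : Type u) [Field L] [Algebra A₁ L], _root_.IsReduced (B₁ ⊗[A₁] L) := fun L _ _ => by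
    haveI : AlgebraicGeometry.IsReduced (pullback (Spec.map (CommRingCat.ofHom (algebraMap A₁ B₁)))
        (Spec.map (CommRingCat.ofHom (algebraMap A₁ L)))) :=
      FibreGeom.isReduced_chart g hred hV hU hUV L (CommRingCat.ofHom (algebraMap A₁ L))
    haveI : AlgebraicGeometry.IsReduced (Spec (CommRingCat.of (B₁ ⊗[A₁] L))) :=
      isReduced_of_isOpenImmersion (pullbackSpecIso A₁ B₁ L).inv
    exact (affine_isReduced_iff (CommRingCat.of (B₁ ⊗[A₁] L))).1 inferInstance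
  obtain ⟨φ, rfl⟩ := Spec.map_surjective s
  letI : Algebra RS Ω := φ.hom.toAlgebra
  haveI : ConnectedSpace ↥(Spec (CommRingCat.of (Ω ⊗[RS] RX))) :=
    connectedSpace_model hredB hcomm hindS hindX Ω
  let i : pullback (Spec.map (CommRingCat.ofHom (algebraMap RS RX))) (Spec.map φ) ≅
      Spec (CommRingCat.of (Ω ⊗[RS] RX)) := pullbackSymmetry _ _ ≪≫ pullbackSpecIso RS Ω RX
  exact i.inv.homeomorph.surjective.connectedSpace i.inv.homeomorph.continuous

end Groth.Agent.Lib.EtSite.FibreGeomNoeth
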