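import Groth.Agent.Lib.EtSite.FibreStrict
import Mathlib.RingTheory.Etale.Basic
import Mathlib.RingTheory.Smooth.NoetherianDescent

/-!
Connected geometric fibres for base changes of flat algebras with reduced geometric fibres over a
Noetherian ring.
-/

set_option autoImplicit false
set_option backward.isDefEq.respectTransparency false
set_option linter.style.haveILetI false

universe u

open IsLocalRing TensorProduct
open Groth.Agent.Lib Groth.Agent.Lib.EtSite

noncomputable section

namespace Groth.Agent.Lib.EtSite.FibreNoeth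

theorem lift_one {R S A B C : Type u} [CommRing R] [CommRing S] [CommRing A] [CommRing B] [CommRing C]
    [Algebra R S] [Algebra R A] [Algebra S A] [IsScalarTower R S A] [Algebra R B] [Algebra R C]
    [Algebra S C] [IsScalarTower R S C] (f : A →ₐ[S] C) (g : B →ₐ[R] C) (h : ∀ x y, Commute (f x) (g y))
    (b : B) : Algebra.TensorProduct.lift f g h (1 ⊗ₜ b) = g b := by
  rw [Algebra.TensorProduct.lift_tmul, map_one, one_mul]

theorem base_mul {R A M : Type u} [CommRing R] [CommRing A] [CommRing M] [Algebra R A] [Algebra R M]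
    (a : R) (X : M) :
    algebraMap A (A ⊗[R] M) (algebraMap R A a) * ((1 : A) ⊗ₜ[R] X) =
      (1 : A) ⊗ₜ[R] (algebraMap R M a * X) := by
  rw [Algebra.TensorProduct.algebraMap_apply, Algebra.algebraMap_self, RingHom.id_apply,
    Algebra.TensorProduct.tmul_mul_tmul, mul_one, one_mul, ← Algebra.smul_def,
    ← TensorProduct.smul_tmul, ← Algebra.algebraMap_eq_smul_one]

set_option maxHeartbeats 1000000 in
theorem idem_image_model (A₀ A B₁ : Type u) [CommRing A₀] [IsNoetherianRing A₀] [CommRing A]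
    [Algebra A₀ A] [HenselianLocalRing A] [IsSepClosed (ResidueField A)] [CommRing B₁] [Algebra A₀ B₁]
    [Module.Flat A₀ B₁] (hred : ∀ (L : Type u) [Field L] [Algebra A₀ L], _root_.IsReduced (B₁ ⊗[A₀] L))
    (P : Ideal (A ⊗[A₀] B₁)) [P.IsPrime]
    (hP : P.comap (algebraMap A (A ⊗[A₀] B₁)) = maximalIdeal A)
    (K : Type u) [Field K] [Algebra A K] (e : K ⊗[A] (A ⊗[A₀] B₁)) (he : IsIdempotentElem e) :
    Algebra.TensorProduct.map (AlgHom.id K K)
        (IsScalarTower.toAlgHom A (A ⊗[A₀] B₁) (Localization.AtPrime P)) e = 0 ∨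
      Algebra.TensorProduct.map (AlgHom.id K K)
        (IsScalarTower.toAlgHom A (A ⊗[A₀] B₁) (Localization.AtPrime P)) e = 1 := by
  let T := A ⊗[A₀] B₁
  let p : Ideal A₀ := (maximalIdeal A).comap (algebraMap A₀ A)
  let R := Localization.AtPrime p
  let φR : R →+* A := IsLocalization.lift (S := R) (M := p.primeCompl) (g := algebraMap A₀ A)
    fun y => by
      by_contra hu
      exact y.2 ((mem_maximalIdeal _).2 hu)
  haveI : IsLocalHom φR := ⟨fun x hx => by
    obtain ⟨⟨a, s⟩, rfl⟩ := IsLocalization.mk'_surjective p.primeCompl x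
    rw [IsLocalization.lift_mk'] at hx
    rw [IsLocalization.AtPrime.isUnit_mk'_iff R p a s]
    intro ha
    exact (mem_maximalIdeal _).1 (show algebraMap A₀ A a ∈ maximalIdeal A from ha)
      (isUnit_of_mul_isUnit_left hx)⟩
  haveI : IsNoetherianRing R := IsLocalization.isNoetherianRing p.primeCompl R inferInstance
  let A' := Henselian.StrictHenselization.StrictHenselization R
  have hA' := Henselian.StrictHenselization.isStrictHenselization R
  haveI := hA'.henselian
  haveI : IsSepClosed (ResidueField A') := hA'.isSepClosure.sep_closed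
  haveI : IsNoetherianRing A' := Henselian.Permanence.strict_isNoetherianRing R A'
  obtain ⟨g, hgl, hg⟩ := LocAcycBC.Lift.exists_ringHom (A := R) (Ash := A') φR
  letI : Algebra A' A := g.toAlgebra
  haveI : IsLocalHom (algebraMap A' A) := hgl
  letI : Algebra A₀ A' := ((algebraMap R A').comp (algebraMap A₀ R)).toAlgebra
  haveI : IsScalarTower A₀ A' A := .of_algebraMap_eq fun a => by
    change algebraMap A₀ A a = g (algebraMap R A' (algebraMap A₀ R a))
    rw [show g (algebraMap R A' (algebraMap A₀ R a)) = φR (algebraMap A₀ R a) from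
      RingHom.congr_fun hg _]
    exact (IsLocalization.lift_eq _ a).symm
  let B' := A' ⊗[A₀] B₁
  let ψ' : B' →ₐ[A₀] T := Algebra.TensorProduct.map (IsScalarTower.toAlgHom A₀ A' A) (AlgHom.id A₀ B₁)
  let P' : Ideal B' := P.comap ψ'
  haveI : P'.IsPrime := Ideal.IsPrime.comap _
  have hP' : P'.comap (algebraMap A' B') = maximalIdeal A' := by
    ext a
    change ψ' (a ⊗ₜ 1) ∈ P ↔ _
    have : ψ' (a ⊗ₜ 1) = algebraMap A T (g a) := rfl
    rw [this, ← Ideal.mem_comap, hP, mem_maximalIdeal, mem_maximalIdeal, mem_nonunits_iff,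
      mem_nonunits_iff]
    exact not_congr ⟨fun h => IsUnit.of_map (algebraMap A' A) _ h, fun h => h.map g⟩
  let C := Localization.AtPrime P'
  haveI : IsLocalHom (algebraMap A' C) := ⟨fun a ha => by
    rw [IsScalarTower.algebraMap_apply A' B' C, IsLocalization.AtPrime.isUnit_to_map_iff C P'] at ha
    by_contra hu
    exact ha (hP'.ge hu)⟩
  haveI : Module.Flat B' C := IsLocalization.flat C P'.primeCompl
  haveI : Module.Flat A' C := Module.Flat.trans A' B' C
  have hredC : ∀ (L : Type u) [Field L] [Algebra A' L], _root_.IsReduced (C ⊗[A'] L) := by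
    intro L _ _
    let D := B' ⊗[A'] L
    letI : Algebra A₀ L := ((algebraMap A' L).comp (algebraMap A₀ A')).toAlgebra
    haveI : IsScalarTower A₀ A' L := .of_algebraMap_eq fun _ => rfl
    haveI := hred L
    let j : D ≃+* B₁ ⊗[A₀] L :=
      ((Algebra.TensorProduct.comm A' B' L).toRingEquiv.trans
        (Algebra.TensorProduct.cancelBaseChange A₀ A' L L B₁).toRingEquiv).trans
        (Algebra.TensorProduct.comm A₀ L B₁).toRingEquiv
    haveI : _root_.IsReduced D := isReduced_of_injective j j.injective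
    let Φ : D →ₐ[A'] C ⊗[A'] L :=
      Algebra.TensorProduct.map (IsScalarTower.toAlgHom A' B' C) (AlgHom.id A' L)
    letI : Algebra D (C ⊗[A'] L) := Φ.toRingHom.toAlgebra
    haveI : IsScalarTower B' D (C ⊗[A'] L) := IsScalarTower.of_algebraMap_eq (R := B') (S := D) (A := C ⊗[A'] L) fun b => by
      change algebraMap B' C b ⊗ₜ[A'] (1 : L) = Φ (b ⊗ₜ[A'] (1 : L))
      rfl
    haveI : IsLocalization (Algebra.algebraMapSubmonoid D P'.primeCompl) (C ⊗[A'] L) :=
      IsLocalization.tensorProduct_tensorProduct A' L P'.primeCompl C (by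
        ext l
        change Φ (1 ⊗ₜ[A'] l) = 1 ⊗ₜ[A'] l
        exact congrArg₂ (· ⊗ₜ[A'] ·) (map_one (algebraMap B' C)) rfl)
    exact FibreDescent.isReduced_of_isLocalization (E := C ⊗[A'] L)
      (Algebra.algebraMapSubmonoid D P'.primeCompl) fun q _ _ => inferInstance
  have hconn := Unram.FibreGeomConnected.connectedSpace_fibre A' C hredC
    (Unram.FibreGeomConnected.staysLocal_of_isSepClosed A' C)
  letI : Algebra A' K := ((algebraMap A K).comp (algebraMap A' A)).toAlgebra
  haveI : IsScalarTower A' A K := .of_algebraMap_eq fun _ => rfl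
  letI : Algebra A₀ K := ((algebraMap A K).comp (algebraMap A₀ A)).toAlgebra
  haveI : IsScalarTower A₀ A K := .of_algebraMap_eq fun _ => rfl
  haveI : IsScalarTower A₀ A' K := .of_algebraMap_eq fun a => by
    change algebraMap A K (algebraMap A₀ A a) = algebraMap A K (algebraMap A' A (algebraMap A₀ A' a))
    rw [← IsScalarTower.algebraMap_apply A₀ A' A]
  haveI := hconn K
  let ι : T →ₐ[A] K ⊗[A'] C :=
    Algebra.TensorProduct.lift ((IsScalarTower.toAlgHom A K (K ⊗[A'] C)).comp (Algebra.ofId A K))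
      ((((Algebra.TensorProduct.includeRight : C →ₐ[A'] K ⊗[A'] C).comp
        (IsScalarTower.toAlgHom A' B' C)).restrictScalars A₀).comp Algebra.TensorProduct.includeRight)
      fun _ _ => Commute.all _ _
  let Ψ : K ⊗[A] T →ₐ[K] K ⊗[A'] C :=
    Algebra.TensorProduct.lift (Algebra.ofId K _) ι fun _ _ => Commute.all _ _
  let θ : C →ₐ[A'] Localization.AtPrime P :=
    { Localization.localRingHom P' P ψ'.toRingHom rfl with
      commutes' := fun a => by
        change Localization.localRingHom P' P ψ'.toRingHom rfl (algebraMap A' C a) = _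
        rw [IsScalarTower.algebraMap_apply A' B' C, Localization.localRingHom_to_map,
          IsScalarTower.algebraMap_apply A' T (Localization.AtPrime P)]
        congr 1 }
  have hθ : ∀ x, θ (algebraMap B' C x) = algebraMap T (Localization.AtPrime P) (ψ' x) :=
    fun x => Localization.localRingHom_to_map P' P ψ'.toRingHom rfl x
  let Θ : K ⊗[A'] C →ₐ[K] K ⊗[A] Localization.AtPrime P :=
    Algebra.TensorProduct.lift (Algebra.ofId K _)
      (((Algebra.TensorProduct.includeRight :
        Localization.AtPrime P →ₐ[A] K ⊗[A] Localization.AtPrime P).restrictScalars A').comp θ)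
      fun _ _ => Commute.all _ _
  have hΘ : Θ.comp Ψ = Algebra.TensorProduct.map (AlgHom.id K K)
      (IsScalarTower.toAlgHom A T (Localization.AtPrime P)) := by
    refine Algebra.TensorProduct.ext' fun k t => ?_
    induction t using TensorProduct.induction_on with
    | zero => simp
    | tmul a b =>
      have h1 : (k ⊗ₜ[A] (a ⊗ₜ[A₀] b) : K ⊗[A] T) = (algebraMap A K a * k) ⊗ₜ[A] ((1 : A) ⊗ₜ[A₀] b) := by
        rw [← Algebra.smul_def, TensorProduct.smul_tmul, TensorProduct.smul_tmul', smul_eq_mul, mul_one]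
      rw [h1]
      have h2 : θ (algebraMap B' C ((1 : A') ⊗ₜ[A₀] b)) =
          algebraMap T (Localization.AtPrime P) ((1 : A) ⊗ₜ[A₀] b) := by
        rw [hθ]
        exact congrArg _ (congrArg₂ (· ⊗ₜ[A₀] ·) (map_one (algebraMap A' A)) rfl)
      have hι : ι ((1 : A) ⊗ₜ[A₀] b) = (1 : K) ⊗ₜ[A'] algebraMap B' C ((1 : A') ⊗ₜ[A₀] b) :=
        (Algebra.TensorProduct.lift_tmul _ _ (fun _ _ => Commute.all _ _) _ _).trans
          ((congrArg (· * _) (map_one _)).trans (one_mul _))
      refine (congrArg Θ (Algebra.TensorProduct.lift_tmul _ _ (fun _ _ => Commute.all _ _) _ _)).trans ?_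
      rw [map_mul, hι]
      refine (congrArg₂ (· * ·) (Θ.commutes _)
        (Algebra.TensorProduct.lift_tmul _ _ (fun _ _ => Commute.all _ _) _ _)).trans ?_
      rw [map_one, one_mul]
      change ((algebraMap A K a * k) ⊗ₜ[A] (1 : Localization.AtPrime P)) *
        ((1 : K) ⊗ₜ[A] θ (algebraMap B' C ((1 : A') ⊗ₜ[A₀] b))) = _
      rw [h2, Algebra.TensorProduct.tmul_mul_tmul, mul_one, one_mul]
      rfl
    | add x y hx hy => rw [TensorProduct.tmul_add, map_add, map_add, hx, hy]
  rw [← hΘ]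
  rcases FibreDescent.eq_zero_or_one_of_connected (he.map Ψ) with h | h
  · exact Or.inl (by rw [AlgHom.comp_apply, h, map_zero])
  · exact Or.inr (by rw [AlgHom.comp_apply, h, map_one])

/-- Transfer along a retraction. -/
theorem idem_retract {A B T : Type u} [CommRing A] [IsLocalRing A] [CommRing B] [CommRing T]
    [Algebra A B] [Algebra A T] (ε : B →ₐ[A] T) (ρ : T →ₐ[A] B) (hρ : ∀ b, ρ (ε b) = b)
    (P : Ideal B) [P.IsPrime] (hP : P.comap (algebraMap A B) = maximalIdeal A)
    (K : Type u) [Field K] [Algebra A K]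
    (hT : ∀ (Q : Ideal T) [Q.IsPrime], Q.comap (algebraMap A T) = maximalIdeal A →
      ∀ e : K ⊗[A] T, IsIdempotentElem e →
      Algebra.TensorProduct.map (AlgHom.id K K) (IsScalarTower.toAlgHom A T (Localization.AtPrime Q)) e = 0 ∨
      Algebra.TensorProduct.map (AlgHom.id K K) (IsScalarTower.toAlgHom A T (Localization.AtPrime Q)) e = 1)
    (e : K ⊗[A] B) (he : IsIdempotentElem e) :
    Algebra.TensorProduct.map (AlgHom.id K K) (IsScalarTower.toAlgHom A B (Localization.AtPrime P)) e = 0 ∨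
      Algebra.TensorProduct.map (AlgHom.id K K)
        (IsScalarTower.toAlgHom A B (Localization.AtPrime P)) e = 1 := by
  let Q : Ideal T := P.comap ρ
  haveI : Q.IsPrime := Ideal.IsPrime.comap _
  have hQ : Q.comap (algebraMap A T) = maximalIdeal A := by
    rw [← hP]; ext a
    change ρ (algebraMap A T a) ∈ P ↔ algebraMap A B a ∈ P
    rw [ρ.commutes]
  let θ : Localization.AtPrime Q →ₐ[A] Localization.AtPrime P :=
    { Localization.localRingHom Q P ρ.toRingHom rfl with
      commutes' := fun a => by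
        change Localization.localRingHom Q P ρ.toRingHom rfl (algebraMap A _ a) = _
        rw [IsScalarTower.algebraMap_apply A T (Localization.AtPrime Q),
          Localization.localRingHom_to_map, IsScalarTower.algebraMap_apply A B (Localization.AtPrime P)]
        congr 1
        exact ρ.commutes a }
  let E := Algebra.TensorProduct.map (AlgHom.id K K) θ
  let J := Algebra.TensorProduct.map (AlgHom.id K K) (IsScalarTower.toAlgHom A T (Localization.AtPrime Q))
  let I := Algebra.TensorProduct.map (AlgHom.id K K) ε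
  have key : (E.comp J).comp I =
      Algebra.TensorProduct.map (AlgHom.id K K) (IsScalarTower.toAlgHom A B (Localization.AtPrime P)) := by
    refine Algebra.TensorProduct.ext' fun k b => ?_
    change k ⊗ₜ[A] θ (algebraMap T (Localization.AtPrime Q) (ε b)) = k ⊗ₜ[A] algebraMap B _ b
    refine congrArg (k ⊗ₜ[A] ·) ?_
    exact (Localization.localRingHom_to_map Q P ρ.toRingHom rfl (ε b)).trans (congrArg _ (hρ b))
  rw [← key]
  rcases hT Q hQ (I e) (he.map I) with h | h
  · exact Or.inl ((congrArg E h).trans (map_zero E))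
  · exact Or.inr ((congrArg E h).trans (map_one E))

set_option maxHeartbeats 1000000 in
/-- Idempotents in etale algebras descended to a Noetherian base. -/
theorem idem_etale_model (A₁ A₂ A B₁ C' F₀ E : Type u) [CommRing A₁] [CommRing A₂] [IsNoetherianRing A₂]
    [CommRing A] [Algebra A₁ A₂] [Algebra A₁ A] [Algebra A₂ A] [IsScalarTower A₁ A₂ A]
    [HenselianLocalRing A] [IsSepClosed (ResidueField A)] [CommRing B₁] [Algebra A₁ B₁]
    [Module.Flat A₁ B₁] (hred : ∀ (L : Type u) [Field L] [Algebra A₁ L], _root_.IsReduced (B₁ ⊗[A₁] L))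
    [CommRing C'] [Algebra C' (A₂ ⊗[A₁] B₁)] [Algebra C' (A ⊗[A₁] B₁)]
    (hφ : ∀ c : C', Algebra.TensorProduct.map (IsScalarTower.toAlgHom A₁ A₂ A) (AlgHom.id A₁ B₁)
      (algebraMap C' (A₂ ⊗[A₁] B₁) c) = algebraMap C' (A ⊗[A₁] B₁) c)
    [CommRing F₀] [Algebra C' F₀] [Algebra.Etale C' F₀]
    [CommRing E] [Algebra (A ⊗[A₁] B₁) E] [Algebra A E] [IsScalarTower A (A ⊗[A₁] B₁) E]
    (ε : E ≃ₐ[A ⊗[A₁] B₁] (A ⊗[A₁] B₁) ⊗[C'] F₀)
    (P : Ideal E) [P.IsPrime] (hP : P.comap (algebraMap A E) = maximalIdeal A)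
    (K : Type u) [Field K] [Algebra A K] (e : K ⊗[A] E) (he : IsIdempotentElem e) :
    Algebra.TensorProduct.map (AlgHom.id K K) (IsScalarTower.toAlgHom A E (Localization.AtPrime P)) e = 0 ∨
      Algebra.TensorProduct.map (AlgHom.id K K)
        (IsScalarTower.toAlgHom A E (Localization.AtPrime P)) e = 1 := by
  let C₁ := A₂ ⊗[A₁] B₁
  let C₀ := A ⊗[A₁] B₁
  let ι : C₁ →ₐ[A₁] C₀ := Algebra.TensorProduct.map (IsScalarTower.toAlgHom A₁ A₂ A) (AlgHom.id A₁ B₁)
  let E₁ := C₁ ⊗[C'] F₀
  haveI : Algebra.Etale C₁ E₁ := inferInstance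
  haveI : Module.Flat C₁ E₁ := inferInstance
  haveI : Module.Flat A₂ E₁ := Module.Flat.trans A₂ C₁ E₁
  have hredE : ∀ (L : Type u) [Field L] [Algebra A₂ L], _root_.IsReduced (E₁ ⊗[A₂] L) := fun L _ _ => by
    letI : Algebra A₁ L := ((algebraMap A₂ L).comp (algebraMap A₁ A₂)).toAlgebra
    haveI : IsScalarTower A₁ A₂ L := .of_algebraMap_eq fun _ => rfl
    haveI := hred L
    let j : C₁ ⊗[A₂] L ≃+* B₁ ⊗[A₁] L :=
      ((Algebra.TensorProduct.comm A₂ C₁ L).toRingEquiv.trans
        (Algebra.TensorProduct.cancelBaseChange A₁ A₂ L L B₁).toRingEquiv).trans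
        (Algebra.TensorProduct.comm A₁ L B₁).toRingEquiv
    exact FibreStrict.isReduced_etale (isReduced_of_injective j j.injective)
  let T := A ⊗[A₂] E₁
  have : Nonempty (CommRing T) := ⟨inferInstance⟩
  -- the retraction
  let toE : C₁ →+* E := (algebraMap C₀ E).comp ι.toRingHom
  let fF : F₀ →+* E := ε.symm.toAlgHom.toRingHom.comp
    (Algebra.TensorProduct.includeRight : F₀ →ₐ[C'] C₀ ⊗[C'] F₀).toRingHom
  letI : Algebra C₁ E := toE.toAlgebra
  letI : Algebra C' E := ((algebraMap C₀ E).comp (algebraMap C' C₀)).toAlgebra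
  haveI : IsScalarTower C' C₁ E := .of_algebraMap_eq fun c => by
    change algebraMap C₀ E (algebraMap C' C₀ c) = algebraMap C₀ E (ι (algebraMap C' C₁ c))
    exact congrArg _ (hφ c).symm
  let fF' : F₀ →ₐ[C'] E :=
    { fF with
      commutes' := fun c => by
        change ε.symm ((1 : C₀) ⊗ₜ[C'] algebraMap C' F₀ c) = algebraMap C₀ E (algebraMap C' C₀ c)
        rw [← ε.symm.commutes, Algebra.TensorProduct.algebraMap_apply]
        refine congrArg ε.symm ?_
        rw [Algebra.algebraMap_eq_smul_one, ← TensorProduct.smul_tmul]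
        exact congrArg (· ⊗ₜ[C'] (1 : F₀)) (Algebra.algebraMap_eq_smul_one c).symm }
  letI : Algebra A₂ E := ((algebraMap A E).comp (algebraMap A₂ A)).toAlgebra
  haveI : IsScalarTower A₂ A E := .of_algebraMap_eq fun _ => rfl
  haveI : IsScalarTower A₂ C₁ E := .of_algebraMap_eq fun a => by
    change algebraMap A E (algebraMap A₂ A a) = algebraMap C₀ E (ι (a ⊗ₜ 1))
    rw [IsScalarTower.algebraMap_apply A C₀ E]
    rfl
  let ρ₁ : E₁ →ₐ[C₁] E := Algebra.TensorProduct.lift (Algebra.ofId C₁ E) fF' fun _ _ => Commute.all _ _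
  let ρ : T →ₐ[A] E := Algebra.TensorProduct.lift (Algebra.ofId A E) (ρ₁.restrictScalars A₂)
    fun _ _ => Commute.all _ _
  let toT : C₁ →+* T := (Algebra.TensorProduct.includeRight : E₁ →ₐ[A₂] T).toRingHom.comp (algebraMap C₁ E₁)
  let gB : B₁ →ₐ[A₁] T :=
    { toT.comp (Algebra.TensorProduct.includeRight : B₁ →ₐ[A₁] C₁).toRingHom with
      commutes' := fun a => by
        change (1 : A) ⊗ₜ[A₂] algebraMap C₁ E₁ ((1 : A₂) ⊗ₜ[A₁] algebraMap A₁ B₁ a) = _
        have h : ((1 : A₂) ⊗ₜ[A₁] algebraMap A₁ B₁ a : C₁) = algebraMap A₂ C₁ (algebraMap A₁ A₂ a) := by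
          rw [Algebra.algebraMap_eq_smul_one a, ← TensorProduct.smul_tmul,
            ← Algebra.algebraMap_eq_smul_one]
          rfl
        rw [h, ← IsScalarTower.algebraMap_apply A₂ C₁ E₁]
        refine ((Algebra.TensorProduct.includeRight : E₁ →ₐ[A₂] T).commutes (algebraMap A₁ A₂ a)).trans ?_
        change algebraMap A₂ A (algebraMap A₁ A₂ a) ⊗ₜ[A₂] (1 : E₁) = algebraMap A₁ A a ⊗ₜ[A₂] (1 : E₁)
        rw [← IsScalarTower.algebraMap_apply] }
  let g₀ : C₀ →ₐ[A] T := Algebra.TensorProduct.lift (Algebra.ofId A T) gB fun x y => mul_comm (Algebra.ofId A T x) (gB y)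
  have hg₀ : ∀ z : C₁, g₀ (ι z) = toT z := fun z => by
    induction z using TensorProduct.induction_on with
    | zero => simp
    | add x y hx hy => rw [map_add, map_add, map_add, hx, hy]
    | tmul a b =>
      refine (Algebra.TensorProduct.lift_tmul _ _ (fun x y => mul_comm (Algebra.ofId A T x) (gB y)) _ _).trans ?_
      change algebraMap A T (algebraMap A₂ A a) * ((1 : A) ⊗ₜ[A₂] algebraMap C₁ E₁ ((1 : A₂) ⊗ₜ[A₁] b)) = _
      have h : (a ⊗ₜ[A₁] b : C₁) = algebraMap A₂ C₁ a * ((1 : A₂) ⊗ₜ[A₁] b) := by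
        change _ = (a ⊗ₜ[A₁] (1 : B₁)) * ((1 : A₂) ⊗ₜ[A₁] b)
        rw [Algebra.TensorProduct.tmul_mul_tmul, mul_one, one_mul]
      change _ = (1 : A) ⊗ₜ[A₂] algebraMap C₁ E₁ (a ⊗ₜ[A₁] b)
      rw [h, map_mul, ← IsScalarTower.algebraMap_apply A₂ C₁ E₁]
      exact base_mul a _
  letI : Algebra C' T := RingHom.toAlgebra (R := C') (S := T) (g₀.toRingHom.comp (algebraMap C' C₀))
  let gF : F₀ →ₐ[C'] T :=
    { (Algebra.TensorProduct.includeRight : E₁ →ₐ[A₂] T).toRingHom.comp
        (Algebra.TensorProduct.includeRight : F₀ →ₐ[C'] E₁).toRingHom with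
      commutes' := fun c => by
        change (1 : A) ⊗ₜ[A₂] ((1 : C₁) ⊗ₜ[C'] algebraMap C' F₀ c) = g₀ (algebraMap C' C₀ c)
        rw [show g₀ (algebraMap C' C₀ c) = toT (algebraMap C' C₁ c) from (congrArg g₀ (hφ c).symm).trans (hg₀ _)]
        refine congrArg ((1 : A) ⊗ₜ[A₂] ·) ?_
        rw [Algebra.algebraMap_eq_smul_one, ← TensorProduct.smul_tmul]
        exact congrArg (· ⊗ₜ[C'] (1 : F₀)) (Algebra.algebraMap_eq_smul_one c).symm }
  letI : Algebra C₀ T := RingHom.toAlgebra (R := C₀) (S := T) g₀.toRingHom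
  haveI : IsScalarTower C' C₀ T := .of_algebraMap_eq fun _ => rfl
  let I₀ : C₀ ⊗[C'] F₀ →ₐ[C₀] T :=
    Algebra.TensorProduct.lift (Algebra.ofId C₀ T) gF fun x y => mul_comm (Algebra.ofId C₀ T x) (gF y)
  haveI : IsScalarTower A C₀ T := .of_algebraMap_eq fun a => (g₀.commutes a).symm
  let I : E →ₐ[A] T := (I₀.comp ε.toAlgHom).restrictScalars A
  have hρg : ∀ x : C₀, ρ (g₀ x) = algebraMap C₀ E x := fun x => by
    induction x using TensorProduct.induction_on with
    | zero => simp
    | add x y hx hy => rw [map_add, map_add, map_add, hx, hy]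
    | tmul a b =>
      rw [show g₀ (a ⊗ₜ[A₁] b) = algebraMap A T a * gB b from
        Algebra.TensorProduct.lift_tmul _ _ (fun x y => mul_comm (Algebra.ofId A T x) (gB y)) _ _, map_mul, ρ.commutes]
      have h1 : ρ (gB b) = algebraMap C₀ E (ι ((1 : A₂) ⊗ₜ[A₁] b)) := by
        exact (lift_one (Algebra.ofId A E) (ρ₁.restrictScalars A₂) (fun _ _ => Commute.all _ _) _).trans
          (ρ₁.commutes _)
      rw [h1, IsScalarTower.algebraMap_apply A C₀ E, ← map_mul]
      refine congrArg (algebraMap C₀ E) ?_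
      change (a ⊗ₜ[A₁] (1 : B₁)) * (algebraMap A₂ A 1 ⊗ₜ[A₁] b) = _
      rw [Algebra.TensorProduct.tmul_mul_tmul, map_one, mul_one, one_mul]
  have hρI : ∀ x, ρ (I x) = x := fun x => by
    obtain ⟨w, rfl⟩ := ε.symm.surjective x
    change ρ (I₀ (ε (ε.symm w))) = _
    rw [ε.apply_symm_apply]
    induction w using TensorProduct.induction_on with
    | zero => simp
    | add a b ha hb => rw [map_add, map_add, map_add, ha, hb]
    | tmul c f =>
      rw [show I₀ (c ⊗ₜ[C'] f) = g₀ c * gF f from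
        Algebra.TensorProduct.lift_tmul _ _ (fun x y => mul_comm (Algebra.ofId C₀ T x) (gF y)) _ _, map_mul, hρg]
      have h1 : ρ (gF f) = ε.symm ((1 : C₀) ⊗ₜ[C'] f) := by
        exact (lift_one (Algebra.ofId A E) (ρ₁.restrictScalars A₂) (fun _ _ => Commute.all _ _) _).trans
          (lift_one (Algebra.ofId C₁ E) fF' (fun _ _ => Commute.all _ _) f)
      rw [h1, ← ε.symm.commutes, ← map_mul]
      refine congrArg ε.symm ?_
      rw [Algebra.TensorProduct.algebraMap_apply, Algebra.TensorProduct.tmul_mul_tmul]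
      simp
  exact idem_retract I ρ hρI P hP K (fun Q _ hQ e' he' => by
    convert idem_image_model A₂ A E₁ hredE Q hQ K e' (by convert he' using 0) using 3) e he

set_option maxHeartbeats 1000000 in
/-- Idempotents in etale algebras over a base change of a flat algebra over a Noetherian ring. -/
theorem idem_etale (A₁ A B₁ E : Type u) [CommRing A₁] [IsNoetherianRing A₁] [CommRing A] [Algebra A₁ A]
    [HenselianLocalRing A] [IsSepClosed (ResidueField A)] [CommRing B₁] [Algebra A₁ B₁]
    [Module.Flat A₁ B₁] (hred : ∀ (L : Type u) [Field L] [Algebra A₁ L], _root_.IsReduced (B₁ ⊗[A₁] L))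
    [CommRing E] [Algebra (A ⊗[A₁] B₁) E] [Algebra A E] [IsScalarTower A (A ⊗[A₁] B₁) E]
    [Algebra.Etale (A ⊗[A₁] B₁) E]
    (P : Ideal E) [P.IsPrime] (hP : P.comap (algebraMap A E) = maximalIdeal A)
    (K : Type u) [Field K] [Algebra A K] (e : K ⊗[A] E) (he : IsIdempotentElem e) :
    Algebra.TensorProduct.map (AlgHom.id K K) (IsScalarTower.toAlgHom A E (Localization.AtPrime P)) e = 0 ∨
      Algebra.TensorProduct.map (AlgHom.id K K)
        (IsScalarTower.toAlgHom A E (Localization.AtPrime P)) e = 1 := by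
  classical
  obtain ⟨C', F₀, _, _, hC', hF₀, ⟨ε⟩⟩ :=
    Algebra.Etale.exists_subalgebra_fg (R := ℤ) (A := A ⊗[A₁] B₁) (B := E)
  haveI := hF₀
  obtain ⟨G, hG⟩ := hC'
  choose Af hAf hxf using fun x : G => TensorProduct.Algebra.exists_of_fg (x.1 : A ⊗[A₁] B₁)
  let Ai : Subalgebra A₁ A := Finset.univ.sup Af
  have hAi : Ai.FG := by
    refine Finset.sup_induction (p := fun S : Subalgebra A₁ A => S.FG) Subalgebra.fg_bot
      (fun S hS T hT => hS.sup hT) fun x _ => hAf x
  haveI : Algebra.FiniteType A₁ Ai := Ai.fg_iff_finiteType.1 hAi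
  haveI : IsNoetherianRing Ai := Algebra.FiniteType.isNoetherianRing A₁ Ai
  let ι : Ai ⊗[A₁] B₁ →ₐ[A₁] A ⊗[A₁] B₁ := Algebra.TensorProduct.map Ai.val (AlgHom.id A₁ B₁)
  have hι : Function.Injective ι :=
    Module.Flat.rTensor_preserves_injective_linearMap (M := B₁) Ai.val.toLinearMap Subtype.val_injective
  have hle : C' ≤ (ι.toRingHom.toIntAlgHom).range := by
    rw [← hG, Algebra.adjoin_le_iff]
    intro x hx
    obtain ⟨y, hy⟩ := hxf ⟨x, hx⟩
    refine ⟨Algebra.TensorProduct.map (Subalgebra.inclusion (Finset.le_sup (f := Af) (Finset.mem_univ _)))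
      (AlgHom.id A₁ B₁) y, Eq.trans ?_ hy⟩
    have : ι.comp (Algebra.TensorProduct.map (Subalgebra.inclusion (Finset.le_sup (f := Af)
        (Finset.mem_univ (⟨x, hx⟩ : G)))) (AlgHom.id A₁ B₁)) =
        Algebra.TensorProduct.map (Af ⟨x, hx⟩).val (AlgHom.id A₁ B₁) :=
      Algebra.TensorProduct.ext' fun a b => rfl
    exact AlgHom.congr_fun this y
  choose φf hφf using fun c : C' => hle c.2
  let φ : C' →+* Ai ⊗[A₁] B₁ :=
    { toFun := φf
      map_one' := hι ((hφf 1).trans (map_one ι).symm)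
      map_mul' := fun a b => hι (((hφf (a * b)).trans (congrArg₂ (· * ·) (hφf a) (hφf b)).symm).trans (map_mul ι _ _).symm)
      map_zero' := hι ((hφf 0).trans (map_zero ι).symm)
      map_add' := fun a b => hι (((hφf (a + b)).trans (congrArg₂ (· + ·) (hφf a) (hφf b)).symm).trans (map_add ι _ _).symm) }
  letI : Algebra C' (Ai ⊗[A₁] B₁) := φ.toAlgebra
  haveI : IsScalarTower A₁ Ai A := inferInstance
  exact idem_etale_model A₁ Ai A B₁ C' F₀ E hred (fun c => hφf c) ε P hP K e he

end Groth.Agent.Lib.EtSite.FibreNoeth
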