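import Groth.Agent.Lib.EtSite.FibreDescent
import Groth.Agent.Lib.IndEtale.Basic
import Groth.Agent.H56.AbsFlat
import Mathlib.RingTheory.TensorProduct.DirectLimitFG
import Mathlib.LinearAlgebra.TensorProduct.RightExactness

/-!
Connected geometric fibres for ind-etale algebras over a flat algebra with reduced geometric fibres
over a strictly henselian ring.
-/

set_option autoImplicit false
set_option backward.isDefEq.respectTransparency false
set_option linter.style.haveILetI false

universe u

open IsLocalRing TensorProduct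
open Groth.Agent.Lib Groth.Agent.Lib.EtSite

noncomputable section

namespace Groth.Agent.Lib.EtSite.FibreStrict

/-- An element dying in the tensor product dies in a finitely presented algebra. -/
theorem exists_kill {R E B : Type u} [CommRing R] [CommRing E] [CommRing B] [Algebra R E] [Algebra R B]
    [Algebra E B] [IsScalarTower R E B] [Algebra.FiniteType R E] (K : Type u) [AddCommGroup K]
    [Module R K] (z : E ⊗[R] K)
    (hz : LinearMap.rTensor K (IsScalarTower.toAlgHom R E B).toLinearMap z = 0) :
    ∃ (n : ℕ) (J : Ideal (MvPolynomial (Fin n) E)) (π : MvPolynomial (Fin n) E →ₐ[E] B),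
      J.FG ∧ (∀ p ∈ J, π p = 0) ∧
      LinearMap.rTensor K ((Ideal.Quotient.mkₐ R J).comp
        (IsScalarTower.toAlgHom R E (MvPolynomial (Fin n) E))).toLinearMap z = 0 := by
  classical
  let v := IsScalarTower.toAlgHom R E B
  have hA : v.range.FG := by
    rw [← Algebra.map_top]
    exact Subalgebra.FG.map _ Algebra.FiniteType.out
  let z' := LinearMap.rTensor K v.rangeRestrict.toLinearMap z
  have hz' : LinearMap.rTensor K v.range.val.toLinearMap z' =
      LinearMap.rTensor K v.range.val.toLinearMap 0 := by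
    rw [map_zero, ← LinearMap.comp_apply, ← LinearMap.rTensor_comp]
    exact hz
  obtain ⟨D, hAD, hD, hDz⟩ := TensorProduct.Algebra.eq_of_fg_of_subtype_eq hA hz'
  rw [map_zero] at hDz
  obtain ⟨s, hs⟩ := hD
  let σ : Fin s.card → B := fun i => (s.equivFin.symm i).1
  let π : MvPolynomial (Fin s.card) E →ₐ[E] B := MvPolynomial.aeval σ
  have hmem : ∀ p, π p ∈ D := fun p => by
    induction p using MvPolynomial.induction_on with
    | C a => rw [← MvPolynomial.algebraMap_eq, AlgHom.commutes]; exact hAD ⟨a, rfl⟩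
    | add p q hp hq => rw [map_add]; exact add_mem hp hq
    | mul_X p i hp =>
      rw [map_mul, MvPolynomial.aeval_X]
      exact mul_mem hp (hs ▸ Algebra.subset_adjoin (s.equivFin.symm i).2)
  let πD : MvPolynomial (Fin s.card) E →ₗ[R] D :=
    LinearMap.codRestrict (Subalgebra.toSubmodule D) (π.restrictScalars R).toLinearMap hmem
  have hsurj : Function.Surjective πD := by
    have hle : D ≤ (π.restrictScalars R).range := by
      rw [← hs, Algebra.adjoin_le_iff]
      intro b hb
      exact ⟨MvPolynomial.X (s.equivFin ⟨b, hb⟩), by simp [π, σ]⟩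
    intro d
    obtain ⟨p, hp⟩ := hle d.2
    exact ⟨p, Subtype.ext hp⟩
  let ι : MvPolynomial (Fin s.card) E →ₗ[R] MvPolynomial (Fin s.card) E := LinearMap.id
  let j : E →ₗ[R] MvPolynomial (Fin s.card) E :=
    (IsScalarTower.toAlgHom R E (MvPolynomial (Fin s.card) E)).toLinearMap
  have h0 : LinearMap.rTensor K πD (LinearMap.rTensor K j z) = 0 := by
    rw [← LinearMap.comp_apply, ← LinearMap.rTensor_comp]
    refine Eq.trans ?_ hDz
    rw [← LinearMap.comp_apply, ← LinearMap.rTensor_comp]
    refine LinearMap.congr_fun (congrArg (LinearMap.rTensor K) (LinearMap.ext fun a => Subtype.ext ?_)) z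
    change π (algebraMap E (MvPolynomial (Fin s.card) E) a) = algebraMap E B a
    exact π.commutes a
  obtain ⟨y, hy⟩ := (rTensor_exact K (LinearMap.exact_subtype_ker_map πD) hsurj _).1 h0
  obtain ⟨t, rfl⟩ := TensorProduct.exists_finset y
  refine ⟨s.card, Ideal.span ((fun q : ↥(LinearMap.ker πD) × K => (q.1 : MvPolynomial (Fin s.card) E)) '' (t : Set _)), π,
    Submodule.fg_span (Set.Finite.image (fun q : ↥(LinearMap.ker πD) × K => (q.1 : MvPolynomial (Fin s.card) E)) t.finite_toSet), fun p hp => ?_, ?_⟩
  · induction hp using Submodule.span_induction with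
    | mem x hx =>
      obtain ⟨q, -, rfl⟩ := hx
      exact congrArg Subtype.val (show πD q.1.1 = 0 from LinearMap.mem_ker.1 q.1.2)
    | zero => exact map_zero _
    | add x y _ _ hx hy => rw [map_add, hx, hy, add_zero]
    | smul c x _ hx => rw [smul_eq_mul, map_mul, hx, mul_zero]
  · rw [AlgHom.comp_toLinearMap, LinearMap.rTensor_comp, LinearMap.comp_apply]
    change LinearMap.rTensor K _ (LinearMap.rTensor K j z) = 0
    rw [← hy, map_sum, map_sum]
    refine Finset.sum_eq_zero fun q hq => ?_
    rw [LinearMap.rTensor_tmul, LinearMap.rTensor_tmul]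
    have : (Ideal.Quotient.mkₐ R (Ideal.span ((fun q : ↥(LinearMap.ker πD) × K => (q.1 : MvPolynomial (Fin s.card) E)) ''
        (t : Set _)))) (q.1 : MvPolynomial (Fin s.card) E) = 0 :=
      Ideal.Quotient.eq_zero_iff_mem.2 (Ideal.subset_span ⟨q, hq, rfl⟩)
    exact (congrArg (· ⊗ₜ[R] q.2) this).trans (TensorProduct.zero_tmul _ _)

/-- An element dying in the tensor product dies in a finitely presented algebra; no finiteness of the
algebra carrying it is needed. -/
theorem exists_kill' {R E B : Type u} [CommRing R] [CommRing E] [CommRing B] [Algebra R E] [Algebra R B]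
    [Algebra E B] [IsScalarTower R E B] (K : Type u) [AddCommGroup K] [Module R K] (z : E ⊗[R] K)
    (hz : LinearMap.rTensor K (IsScalarTower.toAlgHom R E B).toLinearMap z = 0) :
    ∃ (n : ℕ) (J : Ideal (MvPolynomial (Fin n) E)) (π : MvPolynomial (Fin n) E →ₐ[E] B),
      J.FG ∧ (∀ p ∈ J, π p = 0) ∧
      LinearMap.rTensor K ((Ideal.Quotient.mkₐ R J).comp
        (IsScalarTower.toAlgHom R E (MvPolynomial (Fin n) E))).toLinearMap z = 0 := by
  obtain ⟨E₀, hE₀, z₀, rfl⟩ := TensorProduct.Algebra.exists_of_fg z
  haveI : Algebra.FiniteType R E₀ := E₀.fg_iff_finiteType.1 hE₀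
  haveI : IsScalarTower R E₀ B := inferInstance
  rw [← LinearMap.comp_apply, ← LinearMap.rTensor_comp] at hz
  obtain ⟨n, J₀, π₀, hJ₀, hπ₀, hk⟩ := exists_kill (E := E₀) (B := B) K z₀ hz
  let μ : MvPolynomial (Fin n) E₀ →ₐ[R] MvPolynomial (Fin n) E := MvPolynomial.mapAlgHom E₀.val
  let π : MvPolynomial (Fin n) E →ₐ[E] B := MvPolynomial.aeval fun i => π₀ (MvPolynomial.X i)
  have hμ : ∀ p, π (μ p) = π₀ p := fun p => by
    induction p using MvPolynomial.induction_on with
    | C a =>
      rw [show μ (MvPolynomial.C a) = MvPolynomial.C (a : E) from MvPolynomial.map_C _ _,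
        ← MvPolynomial.algebraMap_eq, ← MvPolynomial.algebraMap_eq, AlgHom.commutes, AlgHom.commutes]
      rfl
    | add p q hp hq => rw [map_add, map_add, map_add, hp, hq]
    | mul_X p i hp =>
      rw [map_mul, map_mul, map_mul, hp, show μ (MvPolynomial.X i) = MvPolynomial.X i from
        MvPolynomial.map_X _ _, MvPolynomial.aeval_X]
  have hle : J₀ ≤ Ideal.comap μ (J₀.map μ) := Ideal.le_comap_map
  refine ⟨n, J₀.map μ, π, hJ₀.map μ.toRingHom, fun p hp => ?_, ?_⟩
  · have : J₀.map μ ≤ RingHom.ker π.toRingHom := Ideal.map_le_iff_le_comap.2 fun q hq => by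
      change π (μ q) = 0
      rw [hμ]; exact hπ₀ q hq
    exact this hp
  · let Q : (MvPolynomial (Fin n) E₀ ⧸ J₀) →ₐ[R] MvPolynomial (Fin n) E ⧸ J₀.map μ :=
      Ideal.quotientMapₐ (J₀.map μ) μ hle
    have := congrArg (LinearMap.rTensor K Q.toLinearMap) hk
    rw [map_zero, ← LinearMap.comp_apply, ← LinearMap.rTensor_comp] at this
    rw [← LinearMap.comp_apply, ← LinearMap.rTensor_comp]
    refine Eq.trans ?_ this
    refine LinearMap.congr_fun (congrArg (LinearMap.rTensor K) (LinearMap.ext fun a => ?_)) z₀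
    have h1 : μ (MvPolynomial.C a) = MvPolynomial.C (a : E) := MvPolynomial.map_C _ _
    exact congrArg (Ideal.Quotient.mk (J₀.map μ)) h1.symm

theorem exists_stage {R C₀ B K : Type u} [CommRing R] [CommRing C₀] [CommRing B] [CommRing K]
    [Algebra R C₀] [Algebra C₀ B] [Algebra R B] [IsScalarTower R C₀ B] [Algebra R K]
    (hind : EtPBC.IsIndEtale C₀ B) (e : B ⊗[R] K) (he : IsIdempotentElem e) :
    ∃ (E : Type u) (_ : CommRing E) (_ : Algebra C₀ E) (_ : Algebra R E) (_ : IsScalarTower R C₀ E)
      (v : E →ₐ[R] B) (c : E ⊗[R] K), Algebra.Etale C₀ E ∧ IsIdempotentElem c ∧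
        Algebra.TensorProduct.map v (AlgHom.id R K) c = e := by
  classical
  obtain ⟨u, hu⟩ := TensorProduct.exists_finset e
  obtain ⟨E, _, _, hE, v, hv⟩ := IndEtale.Basic.exists_lift (IndEtale.Basic.factors hind)
    (u.image Prod.fst)
  haveI := hE
  choose g hg using fun q : u => hv (Finset.mem_coe.2 (Finset.mem_image_of_mem Prod.fst q.2))
  letI : Algebra R E := ((algebraMap C₀ E).comp (algebraMap R C₀)).toAlgebra
  haveI : IsScalarTower R C₀ E := .of_algebraMap_eq fun _ => rfl
  let vR := v.restrictScalars R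
  let c : E ⊗[R] K := ∑ q : u, g q ⊗ₜ q.1.2
  have hc : Algebra.TensorProduct.map vR (AlgHom.id R K) c = e := by
    rw [hu, map_sum, ← Finset.sum_attach u]
    refine Finset.sum_congr rfl fun q _ => ?_
    simp [vR, hg]
  letI : Algebra E B := v.toRingHom.toAlgebra
  haveI : IsScalarTower C₀ E B := .of_algebraMap_eq fun a => (v.commutes a).symm
  haveI : IsScalarTower R E B := .of_algebraMap_eq fun a => (vR.commutes a).symm
  have hz : LinearMap.rTensor K (IsScalarTower.toAlgHom R E B).toLinearMap (c * c - c) = 0 := by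
    have : Algebra.TensorProduct.map vR (AlgHom.id R K) (c * c - c) = 0 := by
      rw [map_sub, map_mul, hc, he, sub_self]
    exact this
  obtain ⟨n, J, π, hJ, hπ, hkill⟩ := exists_kill' K (c * c - c) hz
  let C := MvPolynomial (Fin n) E ⧸ J
  haveI : Algebra.FinitePresentation E C := Algebra.FinitePresentation.quotient hJ
  haveI : Algebra.FinitePresentation C₀ C := Algebra.FinitePresentation.trans C₀ E C
  let πC : C →ₐ[C₀] B := Ideal.Quotient.liftₐ J (π.restrictScalars C₀) hπ
  obtain ⟨E', _, _, hE', w, v', hwv⟩ := IndEtale.Basic.factors hind C inferInstance πC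
  letI : Algebra R E' := ((algebraMap C₀ E').comp (algebraMap R C₀)).toAlgebra
  haveI : IsScalarTower R C₀ E' := .of_algebraMap_eq fun _ => rfl
  let q : E →ₐ[R] C := (Ideal.Quotient.mkₐ R J).comp (IsScalarTower.toAlgHom R E (MvPolynomial (Fin n) E))
  let χ : E →ₐ[R] E' := (w.restrictScalars R).comp q
  refine ⟨E', inferInstance, inferInstance, inferInstance, inferInstance, v'.restrictScalars R,
    Algebra.TensorProduct.map χ (AlgHom.id R K) c, hE', ?_, ?_⟩
  · have h1 : Algebra.TensorProduct.map q (AlgHom.id R K) (c * c - c) = 0 := hkill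
    have h2 : Algebra.TensorProduct.map χ (AlgHom.id R K) (c * c - c) = 0 := by
      have : Algebra.TensorProduct.map χ (AlgHom.id R K) = (Algebra.TensorProduct.map (w.restrictScalars R)
          (AlgHom.id R K)).comp (Algebra.TensorProduct.map q (AlgHom.id R K)) :=
        Algebra.TensorProduct.ext' fun a b => by simp [χ]
      rw [this, AlgHom.comp_apply, h1, map_zero]
    rw [map_sub, map_mul, sub_eq_zero] at h2
    exact h2
  · have : (Algebra.TensorProduct.map (v'.restrictScalars R) (AlgHom.id R K)).comp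
        (Algebra.TensorProduct.map χ (AlgHom.id R K)) = Algebra.TensorProduct.map vR (AlgHom.id R K) := by
      refine Algebra.TensorProduct.ext' fun a b => ?_
      change v' (w (q a)) ⊗ₜ[R] b = v a ⊗ₜ[R] b
      rw [show v' (w (q a)) = πC (q a) from AlgHom.congr_fun hwv (q a)]
      exact congrArg (· ⊗ₜ[R] b) (π.commutes a)
    exact (AlgHom.congr_fun this c).trans hc

theorem isReduced_etale {R C₀ E L : Type u} [CommRing R] [CommRing C₀] [CommRing E] [CommRing L]
    [Algebra R C₀] [Algebra C₀ E] [Algebra R E] [IsScalarTower R C₀ E] [Algebra R L]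
    [Algebra.Etale C₀ E] (h : _root_.IsReduced (C₀ ⊗[R] L)) : _root_.IsReduced (E ⊗[R] L) := by
  haveI := h
  let j : (C₀ ⊗[R] L) ⊗[C₀] E ≃+* E ⊗[R] L :=
    (Algebra.TensorProduct.comm C₀ (C₀ ⊗[R] L) E).toRingEquiv.trans
      (Algebra.TensorProduct.cancelBaseChange R C₀ E E L).toRingEquiv
  haveI : _root_.IsReduced ((C₀ ⊗[R] L) ⊗[C₀] E) :=
    H56.AbsFlat.isReduced_of_weaklyEtale (C₀ ⊗[R] L) _
  exact isReduced_of_injective j.symm j.symm.injective

/-- Connected geometric fibres, given the triviality of idempotents near points over the closed point. -/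
theorem connectedSpace_fibre_of {R C₀ B : Type u} [CommRing R] [HenselianLocalRing R]
    [IsSepClosed (ResidueField R)] [CommRing C₀] [CommRing B] [IsLocalRing B]
    [Algebra R C₀] [Algebra C₀ B] [Algebra R B] [IsScalarTower R C₀ B] [IsLocalHom (algebraMap R B)]
    [Module.Flat R C₀]
    (hind : EtPBC.IsIndEtale C₀ B) (K : Type u) [Field K] [Algebra R K]
    (hidem : ∀ (E : Type u) [CommRing E] [Algebra C₀ E] [Algebra R E] [IsScalarTower R C₀ E]
      [Algebra.Etale C₀ E] (P : Ideal E) [P.IsPrime], P.comap (algebraMap R E) = maximalIdeal R →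
      ∀ e : K ⊗[R] E, IsIdempotentElem e →
      Algebra.TensorProduct.map (AlgHom.id K K) (IsScalarTower.toAlgHom R E (Localization.AtPrime P)) e = 0 ∨
      Algebra.TensorProduct.map (AlgHom.id K K) (IsScalarTower.toAlgHom R E (Localization.AtPrime P)) e = 1) :
    ConnectedSpace (PrimeSpectrum (K ⊗[R] B)) := by
  haveI : Module.Flat C₀ B := IndEtale.Basic.flat (IndEtale.Basic.factors hind)
  haveI : Module.Flat R B := Module.Flat.trans R C₀ B
  haveI : Module.FaithfullyFlat R B := Module.FaithfullyFlat.of_flat_of_isLocalHom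
  haveI : Nontrivial (K ⊗[R] B) := Module.FaithfullyFlat.rTensor_nontrivial R B K
  refine Unram.FibreConnected.connectedSpace_of_idempotent fun e he => ?_
  let σ := Algebra.TensorProduct.comm R K B
  obtain ⟨E, _, _, _, _, v, c, hE, hc, hce⟩ := exists_stage (K := K) hind (σ e) (he.map σ)
  haveI := hE
  haveI : Module.Flat R E := Module.Flat.trans R C₀ E
  let P : Ideal E := (maximalIdeal B).comap v
  haveI : P.IsPrime := Ideal.IsPrime.comap _
  have hP : P.comap (algebraMap R E) = maximalIdeal R := by
    ext r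
    change v (algebraMap R E r) ∈ maximalIdeal B ↔ _
    rw [v.commutes, mem_maximalIdeal, mem_maximalIdeal, mem_nonunits_iff, mem_nonunits_iff,
      isUnit_map_iff]
  have hid := hidem E P hP
    ((Algebra.TensorProduct.comm R E K) c) (hc.map _)
  let θ : Localization.AtPrime P →ₐ[R] B :=
    IsLocalization.liftAlgHom (M := P.primeCompl) (f := v) fun y => by
      by_contra hu
      exact y.2 ((mem_maximalIdeal _).2 hu)
  have key : Algebra.TensorProduct.map (AlgHom.id R K) θ
      (Algebra.TensorProduct.map (AlgHom.id K K) (IsScalarTower.toAlgHom R E (Localization.AtPrime P))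
        ((Algebra.TensorProduct.comm R E K) c)) = e := by
    have : σ.toAlgHom.comp ((Algebra.TensorProduct.map (AlgHom.id R K) θ).comp
        (((Algebra.TensorProduct.map (AlgHom.id K K) (IsScalarTower.toAlgHom R E (Localization.AtPrime P))).restrictScalars R).comp
          (Algebra.TensorProduct.comm R E K).toAlgHom)) = Algebra.TensorProduct.map v (AlgHom.id R K) := by
      refine Algebra.TensorProduct.ext' fun a k => ?_
      change θ (algebraMap E (Localization.AtPrime P) a) ⊗ₜ[R] k = v a ⊗ₜ[R] k
      exact congrArg (· ⊗ₜ[R] k) (IsLocalization.lift_eq _ a)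
    exact σ.injective ((AlgHom.congr_fun this c).trans hce)
  rcases hid with h | h
  · exact Or.inl (key.symm.trans ((congrArg _ h).trans (map_zero _)))
  · exact Or.inr (key.symm.trans ((congrArg _ h).trans (map_one _)))

/-- Connected geometric fibres. -/
theorem connectedSpace_fibre {R C₀ B : Type u} [CommRing R] [HenselianLocalRing R]
    [IsSepClosed (ResidueField R)] [CommRing C₀] [CommRing B] [IsLocalRing B]
    [Algebra R C₀] [Algebra C₀ B] [Algebra R B] [IsScalarTower R C₀ B] [IsLocalHom (algebraMap R B)]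
    [Module.Flat R C₀] [Algebra.FinitePresentation R C₀]
    (hred : ∀ (L : Type u) [Field L] [Algebra R L], _root_.IsReduced (C₀ ⊗[R] L))
    (hind : EtPBC.IsIndEtale C₀ B) (K : Type u) [Field K] [Algebra R K] :
    ConnectedSpace (PrimeSpectrum (K ⊗[R] B)) := by
  refine connectedSpace_fibre_of hind K fun E _ _ _ _ _ P _ hP e he => ?_
  haveI : Module.Flat R E := Module.Flat.trans R C₀ E
  haveI : Algebra.FinitePresentation R E := Algebra.FinitePresentation.trans R C₀ E
  exact FibreDescent.idem_image R E (fun L _ _ => isReduced_etale (hred L)) P hP K e he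

end Groth.Agent.Lib.EtSite.FibreStrict
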