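import Groth.Agent.H56.FlatMono
import Mathlib.AlgebraicGeometry.Morphisms.Etale
import Mathlib.AlgebraicGeometry.Morphisms.FlatMono
import Mathlib.AlgebraicGeometry.Fiber

/-!
# Unramified fibres with a single rational point
-/

universe u

open CategoryTheory CategoryTheory.Limits AlgebraicGeometry

namespace Groth.Agent.Lib.EtSite.FiniteSingle

theorem isIso_fiber {X S : Scheme.{u}} (f : X ⟶ S) [FormallyUnramified f] [LocallyOfFiniteType f]
    (x : X) (hx : f.base ⁻¹' {f x} = {x}) (hκ : Function.Surjective (f.residueFieldMap x)) :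
    IsIso (f.fiberToSpecResidueField (f x)) := by
  have : IsIso (f.residueFieldMap x) := (ConcreteCategory.isIso_iff_bijective _).2
    ⟨(f.residueFieldMap x).hom.injective, hκ⟩
  let σ : Spec (S.residueField (f x)) ⟶ f.fiber (f x) :=
    pullback.lift (inv (Spec.map (f.residueFieldMap x)) ≫ X.fromSpecResidueField x) (𝟙 _) (by
      rw [Category.assoc, ← Scheme.Hom.SpecMap_residueFieldMap_fromSpecResidueField,
        IsIso.inv_hom_id_assoc, Category.id_comp])
  have hσ : σ ≫ f.fiberToSpecResidueField (f x) = 𝟙 _ := pullback.lift_snd _ _ _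
  have : Etale (σ ≫ f.fiberToSpecResidueField (f x)) := by rw [hσ]; infer_instance
  have : FormallyUnramified (f.fiberToSpecResidueField (f x)) :=
    MorphismProperty.pullback_snd _ _ ‹FormallyUnramified f›
  have : LocallyOfFiniteType (f.fiberToSpecResidueField (f x)) :=
    MorphismProperty.pullback_snd _ _ ‹LocallyOfFiniteType f›
  have : Etale σ := Etale.of_comp σ (f.fiberToSpecResidueField (f x))
  have : IsSplitMono σ := IsSplitMono.mk' ⟨_, hσ⟩
  have : IsOpenImmersion σ := IsOpenImmersion.of_flat_of_mono σ
  have hsub : Subsingleton ↥(f.fiber (f x)) := by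
    have : Subsingleton (f.base ⁻¹' {f x}) := by
      rw [hx]; infer_instance
    exact (f.fiberHomeo (f x)).injective.subsingleton
  have : IsIso σ := isIso_of_isOpenImmersion_of_opensRange_eq_top σ (TopologicalSpace.Opens.ext
    (Set.range_eq_univ.2 fun z => ⟨default, Subsingleton.elim _ _⟩))
  have : IsIso (σ ≫ f.fiberToSpecResidueField (f x)) := by rw [hσ]; infer_instance
  exact IsIso.of_isIso_comp_left σ _

end Groth.Agent.Lib.EtSite.FiniteSingle
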