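import Groth.Agent.Lib.EtSite.PushStalk
import Mathlib.CategoryTheory.Limits.Preserves.Shapes.Products
import Mathlib.CategoryTheory.Limits.Shapes.Biproducts

/-!
# Stalks of direct images along finite morphisms as products
-/

universe u

open CategoryTheory CategoryTheory.Limits AlgebraicGeometry Opposite

namespace Groth.Agent.Lib.EtSite.FiniteStalk

theorem isIso_pi_lift {A : Type (u + 2)} [Category.{u + 1} A] {FA : A → A → Type*}
    {CA : A → Type (u + 1)} [∀ M N, FunLike (FA M N) (CA M) (CA N)]
    [ConcreteCategory.{u + 1} A FA] [(forget A).ReflectsIsomorphisms]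
    [PreservesLimitsOfSize.{u + 1, u + 1} (forget A)] {ι : Type u} (M : ι → A) [HasProduct M]
    {P : A} (g : ∀ i, P ⟶ M i) (h : Function.Bijective fun (z : ToType P) i => g i z) :
    IsIso (Pi.lift g) := by
  have : PreservesLimitsOfSize.{u, u} (forget A) :=
    preservesLimitsOfSize_shrink.{u, u + 1, u, u + 1} _
  rw [ConcreteCategory.isIso_iff_bijective]
  constructor
  · intro a b hab
    apply h.1
    funext i
    have := congrArg (Pi.π M i) hab
    rw [← ConcreteCategory.comp_apply, ← ConcreteCategory.comp_apply, Pi.lift_π] at this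
    exact this
  · intro y
    obtain ⟨z, hz⟩ := h.2 fun i => Pi.π M i y
    refine ⟨z, Concrete.limit_ext _ _ _ fun ⟨i⟩ => ?_⟩
    change Pi.π M i (Pi.lift g z) = Pi.π M i y
    rw [← ConcreteCategory.comp_apply, Pi.lift_π]
    exact congrFun hz i

end Groth.Agent.Lib.EtSite.FiniteStalk
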