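import Groth.Agent.Lib.EtSite.StrictStage
import Groth.Agent.Lib.EtSite.FibreGeomNoeth
import Groth.Agent.Lib.EtSite.FppfDescent
import Mathlib.AlgebraicGeometry.Morphisms.UniversallyOpen

/-!
Effective descent of sheaves of sets along flat surjections of locally Noetherian schemes with
separable fibres.
-/

set_option autoImplicit false
set_option backward.isDefEq.respectTransparency false
set_option linter.style.haveILetI false

universe u

open CategoryTheory CategoryTheory.Limits AlgebraicGeometry Opposite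

noncomputable section

namespace Groth.Agent.Lib.EtSite.FlatSepDescent

open Groth.Agent.Lib.EtSite Groth.Agent.Lib.EtSite.SubDescent Groth.Agent.Lib.EtLim50
open Groth.Agent.Lib.EtSite.Effective

theorem connectedSpace_funct {X Y X₁ Y₁ : Scheme.{u}} {g : X ⟶ Y} [Flat g] [IsLocallyNoetherian Y]
    (hred : ∀ (K : Type u) [Field K] (k : Spec (CommRingCat.of K) ⟶ Y), IsReduced (pullback g k))
    {g₁ : X₁ ⟶ Y₁} {b' : X₁ ⟶ X} {b : Y₁ ⟶ Y} (sq : IsPullback b' g₁ g b)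
    {Ω : Type u} [Field Ω] [IsSepClosed Ω] (ξ : Spec (CommRingCat.of Ω) ⟶ X₁)
    (Ω' : Type u) [Field Ω'] (s : Spec (CommRingCat.of Ω') ⟶ Nbhds.S Y₁ (ξ ≫ g₁)) :
    ConnectedSpace ↥(pullback (Spec.map (LocMap.funct g₁ ξ)) s) := by
  obtain ⟨aS, lS, hS, sS⟩ := LocMap.exists_algebra (ξ ≫ g₁)
  obtain ⟨aX, lX, hX, sX⟩ := LocMap.exists_algebra ξ
  exact @FibreGeomNoeth.connectedSpace_fibre X Y X₁ Y₁ g _ _ hred g₁ b' b sq (ξ.base default)
    (EtBase.etaleLocalRing (ξ ≫ g₁)) (EtBase.etaleLocalRing ξ) _ _ _ _ aS lS sS aX lX sX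
    (LocMap.funct g₁ ξ).hom.toAlgebra (LocMap.isLocalHom_funct g₁ ξ)
    (LocFlat.funct_comp_algebraMap g₁ ξ aS aX hS hX) Ω' _ s

variable {X Y X₁ Y₁ : Scheme.{u}} {g : X ⟶ Y} {g₁ : X₁ ⟶ Y₁} {b' : X₁ ⟶ X} {b : Y₁ ⟶ Y}

/-- A germ extends, given a compact chart surjecting onto an affine open of the base. -/
theorem exists_extend (F' : EtDesc.Sh X₁)
    (φ : (EtDesc.pullSh (pullback.fst g₁ g₁)).obj F' ≅ (EtDesc.pullSh (pullback.snd g₁ g₁)).obj F')
    (hφ : EtDesc.IsCocycle F' φ) {X' Y' Xo Yo : Scheme.{u}} (j : X' ⟶ X₁) [IsOpenImmersion j]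
    (iY : Y' ⟶ Y₁) [IsOpenImmersion iY] [IsAffine Y'] (g' : X' ⟶ Y') [QuasiCompact g'] [Surjective g']
    (wj : j ≫ g₁ = g' ≫ iY) {go : Xo ⟶ Yo} [Flat go] [IsLocallyNoetherian Yo]
    (hred : ∀ (K : Type u) [Field K] (k : Spec (CommRingCat.of K) ⟶ Yo), IsReduced (pullback go k))
    {c' : X' ⟶ Xo} {c : Y' ⟶ Yo} (sq : IsPullback c' g' go c) (x' : X') :
    ∃ (Ω : Type u) (_ : Field Ω) (_ : IsSepClosed Ω) (ξ : Spec (CommRingCat.of Ω) ⟶ X₁),
      ξ.base default = j.base x' ∧ ∀ gg : stalk ξ F',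
        ∃ (V : Y₁.Etale) (p : (Scheme.pointSmallEtale (ξ ≫ g₁)).fiber.obj V)
          (t : EtDesc.sect F' ((EtCoh.bc g₁).obj V)),
          Compat g₁ F' φ V t ∧ germ ξ F' (PushStalk.liftPt g₁ rfl V p) t = gg := by
  haveI : Flat g' := MorphismProperty.of_isPullback sq ‹Flat go›
  refine ⟨_, inferInstance, inferInstance, Push.algPoint X' x' ≫ j, ?_, fun gg => ?_⟩
  · rw [Scheme.Hom.comp_apply, Push.algPoint_apply]
  · exact StrictStage.exists_compat g₁ F' φ hφ j iY g' wj (Push.algPoint X' x')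
      (fun Ω' _ _ s => connectedSpace_funct hred sq _ Ω' s) gg

theorem isEffective_qc [Flat g] [Surjective g] [QuasiCompact g] [IsLocallyNoetherian Y]
    (hred : ∀ (K : Type u) [Field K] (k : Spec (CommRingCat.of K) ⟶ Y), IsReduced (pullback g k))
    (sq : IsPullback b' g₁ g b) (F' : EtDesc.Sh X₁)
    (φ : (EtDesc.pullSh (pullback.fst g₁ g₁)).obj F' ≅ (EtDesc.pullSh (pullback.snd g₁ g₁)).obj F')
    (hφ : EtDesc.IsCocycle F' φ) : EtDesc.IsEffective g₁ F' φ := by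
  haveI : Flat g₁ := MorphismProperty.of_isPullback sq ‹Flat g›
  haveI : QuasiCompact g₁ := MorphismProperty.of_isPullback sq ‹QuasiCompact g›
  haveI : Surjective g₁ := MorphismProperty.of_isPullback sq ‹Surjective g›
  refine isEffective_of_extend g₁ F' φ (StrictStage.isUnivSubmersive_of_flat g₁) fun x => ?_
  obtain ⟨Y', hY', hxY, -⟩ := exists_isAffineOpen_mem_and_subset (x := g₁.base x) (U := ⊤) trivial
  haveI : IsAffine Y'.toScheme := hY'
  have sq' := (isPullback_morphismRestrict g₁ Y').flip.paste_horiz sq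
  haveI : Surjective (g₁ ∣_ Y') :=
    MorphismProperty.of_isPullback (isPullback_morphismRestrict g₁ Y').flip ‹Surjective g₁›
  haveI : QuasiCompact (g₁ ∣_ Y') :=
    MorphismProperty.of_isPullback (isPullback_morphismRestrict g₁ Y').flip ‹QuasiCompact g₁›
  obtain ⟨Ω, i1, i2, ξ, hξ, h⟩ := exists_extend F' φ hφ (g₁ ⁻¹ᵁ Y').ι Y'.ι (g₁ ∣_ Y')
    (morphismRestrict_ι g₁ Y').symm hred sq' ⟨x, hxY⟩
  exact ⟨Ω, i1, i2, ξ, hξ, h⟩

theorem isEffective_open [Flat g] [Surjective g] [UniversallyOpen g] [IsLocallyNoetherian Y]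
    (hred : ∀ (K : Type u) [Field K] (k : Spec (CommRingCat.of K) ⟶ Y), IsReduced (pullback g k))
    (sq : IsPullback b' g₁ g b) (F' : EtDesc.Sh X₁)
    (φ : (EtDesc.pullSh (pullback.fst g₁ g₁)).obj F' ≅ (EtDesc.pullSh (pullback.snd g₁ g₁)).obj F')
    (hφ : EtDesc.IsCocycle F' φ) : EtDesc.IsEffective g₁ F' φ := by
  haveI : Surjective g₁ := MorphismProperty.of_isPullback sq ‹Surjective g›
  haveI : UniversallyOpen g₁ := MorphismProperty.of_isPullback sq ‹UniversallyOpen g›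
  refine isEffective_of_extend g₁ F' φ (fun T k => ?_) fun x => ?_
  · haveI : UniversallyOpen (pullback.snd g₁ k) := MorphismProperty.pullback_snd _ _ ‹UniversallyOpen g₁›
    haveI : Surjective (pullback.snd g₁ k) := MorphismProperty.pullback_snd _ _ ‹Surjective g₁›
    exact ⟨(pullback.snd g₁ k).surjective, IsOpenMap.isQuotientMap (pullback.snd g₁ k).isOpenMap
      (pullback.snd g₁ k).continuous (pullback.snd g₁ k).surjective⟩
  obtain ⟨V, hV, hxV, -⟩ := exists_isAffineOpen_mem_and_subset (x := g.base (b'.base x)) (U := ⊤) trivial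
  obtain ⟨Xo, hXo, hxo, hXoV⟩ := exists_isAffineOpen_mem_and_subset (x := b'.base x) (U := g ⁻¹ᵁ V) hxV
  let I : Y.Opens := ⟨g.base '' (Xo : Set X), g.isOpenMap _ Xo.2⟩
  have hxb : g₁.base x ∈ b ⁻¹ᵁ I := by
    refine ⟨b'.base x, hxo, ?_⟩
    rw [← Scheme.Hom.comp_apply, sq.w, Scheme.Hom.comp_apply]
  obtain ⟨Y', hY', hxY, hY'I⟩ := exists_isAffineOpen_mem_and_subset hxb
  have hIV : I ≤ V := by
    rintro _ ⟨z, hz, rfl⟩
    exact hXoV hz
  have hWV : Y' ≤ b ⁻¹ᵁ V := fun z hz => hIV (hY'I hz)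
  let U : X₁.Opens := b' ⁻¹ᵁ Xo ⊓ g₁ ⁻¹ᵁ Y'
  have sq' := Scheme.Hom.isPullback_resLE sq hWV hXoV (rfl : U = _)
  haveI : IsAffine Y'.toScheme := hY'
  haveI : IsAffine V.toScheme := hV
  haveI : IsAffine Xo.toScheme := hXo
  haveI : IsAffine U.toScheme := .of_isIso sq'.isoPullback.hom
  let go := g.resLE V Xo hXoV
  haveI : Flat go := by
    change Flat (g.resLE V Xo hXoV)
    rw [Scheme.Hom.resLE]
    infer_instance
  have hred' : ∀ (K : Type u) [Field K] (k : Spec (CommRingCat.of K) ⟶ V.toScheme),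
      IsReduced (pullback go k) := fun K _ k => by
    haveI := hred K (k ≫ V.ι)
    exact isReduced_of_isOpenImmersion (pullback.map go k g (k ≫ V.ι) Xo.ι (𝟙 _) V.ι
      (Scheme.Hom.resLE_comp_ι _ _) (Category.id_comp _).symm)
  let g' := g₁.resLE Y' U inf_le_right
  haveI : QuasiCompact g' := (quasiCompact_iff_compactSpace g').2 inferInstance
  haveI : Surjective g' := ⟨fun y => by
    obtain ⟨z, hz, hzy⟩ := hY'I y.2
    obtain ⟨x₁, hx₁, hx₁'⟩ := Scheme.Pullback.exists_preimage_pullback (f := g) (g := b) z y.1 hzy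
    let x₀ := sq.isoPullback.inv.base x₁
    have e₁ : b'.base x₀ = z := by
      rw [← Scheme.Hom.comp_apply, IsPullback.isoPullback_inv_fst, hx₁]
    have e₂ : g₁.base x₀ = y.1 := by
      rw [← Scheme.Hom.comp_apply, IsPullback.isoPullback_inv_snd, hx₁']
    have hmem : x₀ ∈ U := ⟨by change b'.base x₀ ∈ Xo; rw [e₁]; exact hz,
      by change g₁.base x₀ ∈ Y'; rw [e₂]; exact y.2⟩
    refine ⟨⟨x₀, hmem⟩, Subtype.ext ?_⟩
    refine Eq.trans ?_ e₂
    exact congrArg (fun m : U.toScheme ⟶ Y₁ => m ⟨x₀, hmem⟩) (Scheme.Hom.resLE_comp_ι g₁ inf_le_right)⟩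
  obtain ⟨Ω, i1, i2, ξ, hξ, h⟩ := exists_extend F' φ hφ U.ι Y'.ι g'
    (Scheme.Hom.resLE_comp_ι g₁ inf_le_right).symm hred' sq' ⟨x, hxo, hxY⟩
  exact ⟨Ω, i1, i2, ξ, hξ, h⟩

theorem isEffective_lfp [Flat g] [Surjective g] [LocallyOfFinitePresentation g]
    (sq : IsPullback b' g₁ g b) (F' : EtDesc.Sh X₁)
    (φ : (EtDesc.pullSh (pullback.fst g₁ g₁)).obj F' ≅ (EtDesc.pullSh (pullback.snd g₁ g₁)).obj F')
    (hφ : EtDesc.IsCocycle F' φ) : EtDesc.IsEffective g₁ F' φ := by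
  haveI : Flat g₁ := MorphismProperty.of_isPullback sq ‹Flat g›
  haveI : LocallyOfFinitePresentation g₁ :=
    MorphismProperty.of_isPullback sq ‹LocallyOfFinitePresentation g›
  haveI : Surjective g₁ := MorphismProperty.of_isPullback sq ‹Surjective g›
  exact FppfDescent.isEffective g₁ F' φ hφ

end Groth.Agent.Lib.EtSite.FlatSepDescent
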