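import Mathlib.AlgebraicGeometry.Morphisms.Flat
import Mathlib.AlgebraicGeometry.Morphisms.UniversallyOpen
import Mathlib.AlgebraicGeometry.Morphisms.QuasiCompact

/-!
Quasi-compact surjective generalizing morphisms are quotient maps.
-/

set_option autoImplicit false
set_option backward.isDefEq.respectTransparency false

universe u

open CategoryTheory CategoryTheory.Limits AlgebraicGeometry

namespace Groth.Agent.Lib.EtSite.GenMap

theorem isClosed_of_preimage_of_affine {X : Scheme.{u}} {S : CommRingCat.{u}} (f : X ⟶ Spec S)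
    [QuasiCompact f] [Surjective f] (hf : GeneralizingMap f.base) (s : Set (Spec S))
    (hs : IsClosed (f.base ⁻¹' s)) : IsClosed s := by
  have hst : StableUnderSpecialization s := by
    intro z y hzy hz
    by_contra hy
    obtain ⟨w, hw⟩ := f.surjective y
    subst hw
    obtain ⟨w', hw', hw''⟩ := hf hzy
    exact hy (hs.stableUnderSpecialization hw' (Set.mem_preimage.mpr (Set.mem_of_eq_of_mem hw'' hz)))
  obtain ⟨R, g, hg⟩ := compactSpace_iff_exists.mp (QuasiCompact.compactSpace_of_compactSpace f)
  obtain ⟨φ, hφ⟩ := Spec.map_surjective (g ≫ f)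
  have hsurj : Function.Surjective (Spec.map φ).base := by
    rw [hφ, Scheme.Hom.comp_base, TopCat.coe_comp]
    exact f.surjective.comp hg
  have e : (Spec.map φ).base '' ((Spec.map φ).base ⁻¹' s) = s := Set.image_preimage_eq s hsurj
  rw [← e]
  refine PrimeSpectrum.isClosed_image_of_stableUnderSpecialization φ.hom _ ?_ ?_
  · change IsClosed ((Spec.map φ).base ⁻¹' s)
    rw [hφ, Scheme.Hom.comp_base, TopCat.coe_comp, Set.preimage_comp]
    exact hs.preimage g.continuous
  · change StableUnderSpecialization ((Spec.map φ).base '' _)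
    rw [e]
    exact hst

theorem isQuotientMap {X Y : Scheme.{u}} (f : X ⟶ Y) [QuasiCompact f] [Surjective f]
    (hf : GeneralizingMap f.base) : Topology.IsQuotientMap f.base := by
  rw [Topology.isQuotientMap_iff]
  refine ⟨.of_isOpen_preimage_iff_isOpen fun s ↦
    ⟨fun hs ↦ ?_, fun hs ↦ hs.preimage f.continuous⟩, f.surjective⟩
  rw [Y.affineCover.isOpenCover_opensRange.isOpen_iff_inter]
  intro i
  rw [Scheme.Hom.coe_opensRange, ← Set.image_preimage_eq_inter_range]
  apply (Y.affineCover.f i).isOpenEmbedding.isOpenMap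
  have h := IsPullback.of_hasPullback f (Y.affineCover.f i)
  rw [← isClosed_compl_iff]
  have hg := IsZariskiLocalAtTarget.of_isPullback (P := topologically GeneralizingMap) h hf
  have : QuasiCompact (pullback.snd f (Y.affineCover.f i)) := MorphismProperty.pullback_snd _ _ ‹_›
  refine isClosed_of_preimage_of_affine (pullback.snd f (Y.affineCover.f i)) hg _ ?_
  rw [Set.preimage_compl, isClosed_compl_iff]
  have e : (pullback.snd f (Y.affineCover.f i)).base ⁻¹' ((Y.affineCover.f i).base ⁻¹' s) =
      (pullback.fst f (Y.affineCover.f i)).base ⁻¹' (f.base ⁻¹' s) :=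
    Set.ext fun w => iff_of_eq (congrArg (fun m : pullback f (Y.affineCover.f i) ⟶ Y => m.base w ∈ s) pullback.condition.symm)
  erw [e]
  exact hs.preimage (Scheme.Hom.continuous _)

end Groth.Agent.Lib.EtSite.GenMap
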