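import Groth.Agent.Lib.EtSite.FppfDescent
import Groth.Agent.Lib.EtDiscrete.Crit

/-!
Pairs of geometric points over the base on which two sections match under a descent datum.
-/

set_option autoImplicit false
set_option linter.style.haveILetI false

universe u

open CategoryTheory CategoryTheory.Limits AlgebraicGeometry Opposite

noncomputable section

namespace Groth.Agent.Lib.EtSite.GoodPairs

open Groth.Agent.Lib.EtSite Groth.Agent.Lib.EtSite.Basic Groth.Agent.Lib.EtSite.SubDescent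
open Groth.Agent.Lib.EtSite.PushStalk Groth.Agent.Lib.EtSite.SubSheaf
open Groth.Agent.Lib.EtSite.Effective Groth.Agent.Lib.EtSite.FppfDescent

variable {X S : Scheme.{u}} (f : X ⟶ S) (F' : EtDesc.Sh X)
  (φ : (EtDesc.pullSh (pullback.fst f f)).obj F' ≅ (EtDesc.pullSh (pullback.snd f f)).obj F')

section

variable {Ω : Type u} [Field Ω] [IsSepClosed Ω]

/-- The value of a section at a geometric point of an étale neighbourhood. -/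
def val (U : X.Etale) (t : EtDesc.sect F' U) (z : Spec (CommRingCat.of Ω) ⟶ U.left)
    {ξ : Spec (CommRingCat.of Ω) ⟶ X} (h : z ≫ U.hom = ξ) : stalk ξ F' :=
  germ ξ F' (mkFiber ξ U z h) t

/-- The datum carries the value at the first point to the value at the second. -/
def Good (U₁ U₂ : X.Etale) (t₁ : EtDesc.sect F' U₁) (t₂ : EtDesc.sect F' U₂)
    (z₁ : Spec (CommRingCat.of Ω) ⟶ U₁.left) (z₂ : Spec (CommRingCat.of Ω) ⟶ U₂.left) : Prop :=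
  ∃ (η : Spec (CommRingCat.of Ω) ⟶ S) (ξ₁ ξ₂ : Spec (CommRingCat.of Ω) ⟶ X)
    (h₁ : z₁ ≫ U₁.hom = ξ₁) (h₂ : z₂ ≫ U₂.hom = ξ₂) (k₁ : ξ₁ ≫ f = η) (k₂ : ξ₂ ≫ f = η),
    transport f F' φ k₁ k₂ (val F' U₁ t₁ z₁ h₁) = val F' U₂ t₂ z₂ h₂

variable {U₁ U₂ U₃ : X.Etale} {t₁ : EtDesc.sect F' U₁} {t₂ : EtDesc.sect F' U₂}
  {t₃ : EtDesc.sect F' U₃}
  {z₁ : Spec (CommRingCat.of Ω) ⟶ U₁.left} {z₂ : Spec (CommRingCat.of Ω) ⟶ U₂.left}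
  {z₃ : Spec (CommRingCat.of Ω) ⟶ U₃.left}

theorem good_iff {η : Spec (CommRingCat.of Ω) ⟶ S} {ξ₁ ξ₂ : Spec (CommRingCat.of Ω) ⟶ X}
    (h₁ : z₁ ≫ U₁.hom = ξ₁) (h₂ : z₂ ≫ U₂.hom = ξ₂) (k₁ : ξ₁ ≫ f = η) (k₂ : ξ₂ ≫ f = η) :
    Good f F' φ U₁ U₂ t₁ t₂ z₁ z₂ ↔
      transport f F' φ k₁ k₂ (val F' U₁ t₁ z₁ h₁) = val F' U₂ t₂ z₂ h₂ := by
  refine ⟨?_, fun e => ⟨η, ξ₁, ξ₂, h₁, h₂, k₁, k₂, e⟩⟩
  rintro ⟨η', ξ₁', ξ₂', h₁', h₂', k₁', k₂', e⟩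
  subst h₁ h₂ h₁' h₂' k₁ k₁'
  exact e

theorem good_refl (hφ : EtDesc.IsCocycle F' φ) : Good f F' φ U₁ U₁ t₁ t₁ z₁ z₁ :=
  (good_iff f F' φ rfl rfl rfl rfl).2 (transport_refl f F' φ hφ rfl _)

theorem good_trans (hφ : EtDesc.IsCocycle F' φ) (a : Good f F' φ U₁ U₂ t₁ t₂ z₁ z₂)
    (b : Good f F' φ U₂ U₃ t₂ t₃ z₂ z₃) : Good f F' φ U₁ U₃ t₁ t₃ z₁ z₃ := by
  obtain ⟨η, ξ₁, ξ₂, h₁, h₂, k₁, k₂, e⟩ := a
  obtain ⟨η', ξ₂', ξ₃, h₂', h₃, k₂', k₃, e'⟩ := b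
  subst h₂ h₂'
  subst k₂'
  have k₃' : ξ₃ ≫ f = η := k₃.trans k₂
  refine (good_iff f F' φ h₁ h₃ k₁ k₃').2 ?_
  subst k₂
  rw [← transport_trans f F' φ hφ k₁ rfl k₃', e, e']

theorem good_symm (hφ : EtDesc.IsCocycle F' φ) (a : Good f F' φ U₁ U₂ t₁ t₂ z₁ z₂) :
    Good f F' φ U₂ U₁ t₂ t₁ z₂ z₁ := by
  obtain ⟨η, ξ₁, ξ₂, h₁, h₂, k₁, k₂, e⟩ := a
  refine (good_iff f F' φ h₂ h₁ k₂ k₁).2 ?_
  rw [← e, transport_trans f F' φ hφ, transport_refl f F' φ hφ]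

theorem val_map (o : U₂ ⟶ U₁) (e : F'.obj.map o.op t₁ = t₂) {ξ : Spec (CommRingCat.of Ω) ⟶ X}
    (h : z₂ ≫ U₂.hom = ξ) (h' : (z₂ ≫ o.left) ≫ U₁.hom = ξ) :
    val F' U₁ t₁ (z₂ ≫ o.left) h' = val F' U₂ t₂ z₂ h := by
  subst e
  exact (germ_map ξ F' o (mkFiber ξ U₂ z₂ h) t₁).symm

theorem good_map (o : U₂ ⟶ U₁) (e : F'.obj.map o.op t₁ = t₂)
    (a : Good f F' φ U₂ U₃ t₂ t₃ z₂ z₃) : Good f F' φ U₁ U₃ t₁ t₃ (z₂ ≫ o.left) z₃ := by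
  obtain ⟨η, ξ₂, ξ₃, h₂, h₃, k₂, k₃, e'⟩ := a
  have h' : (z₂ ≫ o.left) ≫ U₁.hom = ξ₂ := by
    rw [Category.assoc, Over.w o.hom]; exact h₂
  refine (good_iff f F' φ h' h₃ k₂ k₃).2 ?_
  rw [val_map F' o e h₂ h', e']

theorem germ_toTop (U : X.Etale) (t : EtDesc.sect F' U) (z : Spec (CommRingCat.of Ω) ⟶ U.left)
    {ξ : Spec (CommRingCat.of Ω) ⟶ X} (h : z ≫ U.hom = ξ) :
    germ z _ (topPt z) (toTopSec U F' t) = germUnit U.hom F' h (val F' U t z h) :=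
  germ_toTopSec U F' t (mkFiber ξ U z h)

end

theorem exists_transported {P : Scheme.{u}} (U₁ U₂ : X.Etale) (t₁ : EtDesc.sect F' U₁)
    (a₁ : P ⟶ U₁.left) (a₂ : P ⟶ U₂.left) (w : (a₁ ≫ U₁.hom) ≫ f = (a₂ ≫ U₂.hom) ≫ f) :
    ∃ s : EtDesc.sect ((EtDesc.pullSh a₂).obj ((EtDesc.pullSh U₂.hom).obj F')) (EtCoh.top P),
      ∀ (Ω : Type u) [Field Ω] [IsSepClosed Ω] (θ : Spec (CommRingCat.of Ω) ⟶ P)
        (z₁ : Spec (CommRingCat.of Ω) ⟶ U₁.left) (_ : θ ≫ a₁ = z₁)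
        (z₂ : Spec (CommRingCat.of Ω) ⟶ U₂.left) (e₂ : θ ≫ a₂ = z₂)
        (η : Spec (CommRingCat.of Ω) ⟶ S) (ξ₁ ξ₂ : Spec (CommRingCat.of Ω) ⟶ X)
        (h₁ : z₁ ≫ U₁.hom = ξ₁) (h₂ : z₂ ≫ U₂.hom = ξ₂) (k₁ : ξ₁ ≫ f = η) (k₂ : ξ₂ ≫ f = η),
        germ θ _ (topPt θ) s = germUnit a₂ _ e₂ (germUnit U₂.hom F' h₂
          (transport f F' φ k₁ k₂ (val F' U₁ t₁ z₁ h₁))) := by
  let A := a₁ ≫ U₁.hom
  let B := a₂ ≫ U₂.hom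
  let m : P ⟶ EtDesc.X2 f := pullback.lift A B w
  have w₁ : m ≫ pullback.fst f f = A := pullback.lift_fst _ _ _
  have w₂ : m ≫ pullback.snd f f = B := pullback.lift_snd _ _ _
  let Φ : (EtDesc.pullSh a₁).obj ((EtDesc.pullSh U₁.hom).obj F') ⟶
      (EtDesc.pullSh a₂).obj ((EtDesc.pullSh U₂.hom).obj F') :=
    (EtDesc.pullVia a₁ U₁.hom A rfl F').hom ≫
      (EtDesc.pullVia m (pullback.fst f f) A w₁ F').inv ≫ (EtDesc.pullSh m).map φ.hom ≫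
        (EtDesc.pullVia m (pullback.snd f f) B w₂ F').hom ≫
          (EtDesc.pullVia a₂ U₂.hom B rfl F').inv
  refine ⟨Φ.hom.app (op (EtCoh.top _)) (EtDesc.secPull a₁ _ (toTopSec U₁ F' t₁)), ?_⟩
  intro Ω _ _ θ z₁ e₁ z₂ e₂ η ξ₁ ξ₂ h₁ h₂ k₁ k₂
  have cA : θ ≫ A = ξ₁ := by rw [← h₁, ← e₁, Category.assoc]
  have cB : θ ≫ B = ξ₂ := by rw [← h₂, ← e₂, Category.assoc]
  have m₁ : (θ ≫ m) ≫ pullback.fst f f = ξ₁ := by rw [Category.assoc, w₁, cA]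
  have m₂ : (θ ≫ m) ≫ pullback.snd f f = ξ₂ := by rw [Category.assoc, w₂, cB]
  refine (stalkMap_germ θ Φ (topPt θ) _).symm.trans ?_
  rw [germ_secPull a₁ _ e₁, germ_toTop F' U₁ t₁ z₁ h₁]
  simp only [Φ, stalkMap_comp]
  rw [pullVia_germUnit U₁.hom a₁ A rfl F' e₁ h₁ cA,
    ← pullVia_germUnit (pullback.fst f f) m A w₁ F' rfl m₁ cA, ← stalkMap_comp θ
      (EtDesc.pullVia m (pullback.fst f f) A w₁ F').hom, Iso.hom_inv_id, stalkMap_id,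
    germUnit_naturality, transport_spec f F' φ m₁ m₂ k₁ k₂,
    pullVia_germUnit (pullback.snd f f) m B w₂ F' rfl m₂ cB,
    ← pullVia_germUnit U₂.hom a₂ B rfl F' e₂ h₂ cB, ← stalkMap_comp, Iso.hom_inv_id, stalkMap_id]

/-- The good pairs form an open set. -/
theorem exists_locus (U₁ U₂ : X.Etale) (t₁ : EtDesc.sect F' U₁) (t₂ : EtDesc.sect F' U₂) :
    ∃ O : Set ↥(pullback (U₁.hom ≫ f) (U₂.hom ≫ f)), IsOpen O ∧
      ∀ (Ω : Type u) [Field Ω] [IsSepClosed Ω]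
        (θ : Spec (CommRingCat.of Ω) ⟶ pullback (U₁.hom ≫ f) (U₂.hom ≫ f))
        (z₁ : Spec (CommRingCat.of Ω) ⟶ U₁.left) (_ : θ ≫ pullback.fst _ _ = z₁)
        (z₂ : Spec (CommRingCat.of Ω) ⟶ U₂.left) (_ : θ ≫ pullback.snd _ _ = z₂),
        (θ.base default ∈ O ↔ Good f F' φ U₁ U₂ t₁ t₂ z₁ z₂) := by
  let a₁ := pullback.fst (U₁.hom ≫ f) (U₂.hom ≫ f)
  let a₂ := pullback.snd (U₁.hom ≫ f) (U₂.hom ≫ f)
  have w : (a₁ ≫ U₁.hom) ≫ f = (a₂ ≫ U₂.hom) ≫ f := by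
    rw [Category.assoc, Category.assoc]; exact pullback.condition
  obtain ⟨s₁, hs₁⟩ := exists_transported f F' φ U₁ U₂ t₁ a₁ a₂ w
  let G := (EtDesc.pullSh a₂).obj ((EtDesc.pullSh U₂.hom).obj F')
  let s₂ : EtDesc.sect G (EtCoh.top _) := EtDesc.secPull a₂ _ (toTopSec U₂ F' t₂)
  refine ⟨_, BaseChange.isOpen_agree G.obj (EtCoh.top _) s₁ s₂, fun Ω _ _ θ z₁ e₁ z₂ e₂ => ?_⟩
  have k₁ : (z₁ ≫ U₁.hom) ≫ f = (z₁ ≫ U₁.hom) ≫ f := rfl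
  have k₂ : (z₂ ≫ U₂.hom) ≫ f = (z₁ ≫ U₁.hom) ≫ f := by
    rw [← e₁, ← e₂]
    simpa only [Category.assoc] using congrArg (θ ≫ ·) w.symm
  have g₁ := hs₁ Ω θ z₁ e₁ z₂ e₂ _ _ _ rfl rfl k₁ k₂
  have g₂ : germ θ G (topPt θ) s₂ = germUnit a₂ _ e₂ (germUnit U₂.hom F' rfl (val F' U₂ t₂ z₂ rfl)) := by
    exact (germ_secPull a₂ _ e₂ _).trans (congrArg (germUnit a₂ _ e₂) (germ_toTop F' U₂ t₂ z₂ rfl))
  refine (BaseChange.toPresheafFiber_eq_iff_mem G.obj _ s₁ s₂ (topPt θ)).symm.trans ?_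
  refine Iff.trans ?_ (good_iff f F' φ rfl rfl k₁ k₂).symm
  exact ⟨fun e => (bijective_germUnit U₂.hom F' rfl).1 ((bijective_germUnit a₂ _ e₂).1
      (g₁.symm.trans (e.trans g₂))),
    fun e => g₁.trans ((congrArg (fun y => germUnit a₂ _ e₂ (germUnit U₂.hom F' rfl y)) e).trans g₂.symm)⟩

/-- All pairs of a map with connected geometric fibres are good. -/
theorem good_of_connected (hφ : EtDesc.IsCocycle F' φ) {H L : Scheme.{u}} (U : X.Etale)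
    (t : EtDesc.sect F' U) (j : H ⟶ U.left) (h : H ⟶ L) (iL : L ⟶ S)
    (w : (j ≫ U.hom) ≫ f = h ≫ iL)
    (hconn : ∀ (Ω : Type u) [Field Ω] [IsSepClosed Ω] (η : Spec (CommRingCat.of Ω) ⟶ L),
      ConnectedSpace ↥(pullback h η))
    {Ω : Type u} [Field Ω] [IsSepClosed Ω] (z₁ z₂ : Spec (CommRingCat.of Ω) ⟶ H)
    (e : z₁ ≫ h = z₂ ≫ h) : Good f F' φ U U t t (z₁ ≫ j) (z₂ ≫ j) := by
  let p₁ := pullback.fst h h
  let p₂ := pullback.snd h h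
  have wP : ((p₁ ≫ j) ≫ U.hom) ≫ f = ((p₂ ≫ j) ≫ U.hom) ≫ f := by
    rw [Category.assoc p₁, Category.assoc p₁, w, Category.assoc p₂, Category.assoc p₂, w,
      ← Category.assoc, ← Category.assoc, pullback.condition]
  obtain ⟨s, hs⟩ := exists_transported f F' φ U U t (p₁ ≫ j) (p₂ ≫ j) wP
  let G := (EtDesc.pullSh U.hom).obj F'
  let s' : EtDesc.sect ((EtDesc.pullSh p₂).obj ((EtDesc.pullSh j).obj G)) (EtCoh.top _) :=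
    (EtDesc.pullVia p₂ j (p₂ ≫ j) rfl G).inv.hom.app (op (EtCoh.top _)) s
  have hs' : ∀ (θ : Spec (CommRingCat.of Ω) ⟶ pullback h h) (a b : Spec (CommRingCat.of Ω) ⟶ H)
      (_ : θ ≫ p₁ = a) (eb : θ ≫ p₂ = b) (η : Spec (CommRingCat.of Ω) ⟶ S)
      (k₁ : ((a ≫ j) ≫ U.hom) ≫ f = η) (k₂ : ((b ≫ j) ≫ U.hom) ≫ f = η),
      germ θ _ (topPt θ) s' = germUnit p₂ _ eb (germUnit j G rfl (germUnit U.hom F' rfl
        (transport f F' φ k₁ k₂ (val F' U t (a ≫ j) rfl)))) := by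
    intro θ a b ea eb η k₁ k₂
    have c₁ : θ ≫ p₁ ≫ j = a ≫ j := by rw [← Category.assoc, ea]
    have c₂ : θ ≫ p₂ ≫ j = b ≫ j := by rw [← Category.assoc, eb]
    refine (stalkMap_germ θ _ (topPt θ) _).symm.trans ?_
    rw [hs Ω θ (a ≫ j) c₁ (b ≫ j) c₂ η _ _ rfl rfl k₁ k₂,
      ← pullVia_germUnit j p₂ (p₂ ≫ j) rfl G eb rfl c₂, ← stalkMap_comp, Iso.hom_inv_id, stalkMap_id]
  let d : Spec (CommRingCat.of Ω) ⟶ pullback h h := pullback.lift z₂ z₂ rfl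
  let θ : Spec (CommRingCat.of Ω) ⟶ pullback h h := pullback.lift z₁ z₂ e
  have d₂ : d ≫ p₂ = z₂ := pullback.lift_snd _ _ _
  have θ₂ : θ ≫ p₂ = z₂ := pullback.lift_snd _ _ _
  haveI : ConnectedSpace ↥(pullback p₂ z₂) :=
    haveI := hconn Ω (z₂ ≫ h)
    (Scheme.homeoOfIso (pullbackLeftPullbackSndIso h h z₂)).connectedSpace_iff.2 ‹_›
  let η₀ := ((z₂ ≫ j) ≫ U.hom) ≫ f
  have k₂ : ((z₂ ≫ j) ≫ U.hom) ≫ f = η₀ := rfl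
  have k₁ : ((z₁ ≫ j) ≫ U.hom) ≫ f = η₀ := by
    change _ = ((z₂ ≫ j) ≫ U.hom) ≫ f
    rw [Category.assoc z₁, Category.assoc z₁, w, Category.assoc z₂, Category.assoc z₂, w,
      ← Category.assoc, e, Category.assoc]
  let c := germUnit j G (rfl : z₂ ≫ j = z₂ ≫ j) (germUnit U.hom F' rfl (val F' U t (z₂ ≫ j) rfl))
  let T := EtCoh.top H
  let G' := (EtDesc.pullSh p₂).obj ((EtDesc.pullSh j).obj G)
  let t' : EtDesc.sect G' ((EtCoh.bc p₂).obj T) := G'.obj.map (EtCore.bcTopIso p₂).hom.op s'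
  have hd : germ d G' (liftPt p₂ d₂ T (topPt z₂)) t' = germUnit p₂ _ d₂ c := by
    refine (germ_map_bcTop p₂ G' s' d d₂ (topPt z₂)).trans ?_
    rw [hs' d z₂ z₂ (pullback.lift_fst _ _ _) d₂ η₀ k₂ k₂, transport_refl f F' φ hφ]
  have hθ := EtDiscrete.germ_eq_of_connected p₂ ((EtDesc.pullSh j).obj G) T t' d θ d₂ θ₂
    (topPt z₂) c hd
  rw [germ_map_bcTop p₂ G' s' θ θ₂ (topPt z₂), hs' θ z₁ z₂ (pullback.lift_fst _ _ _) θ₂ η₀ k₁ k₂] at hθ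
  exact (good_iff f F' φ rfl rfl k₁ k₂).2 ((bijective_germUnit U.hom F' rfl).1
    ((bijective_germUnit j G rfl).1 ((bijective_germUnit p₂ _ θ₂).1 hθ)))

end Groth.Agent.Lib.EtSite.GoodPairs
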