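import Groth.Agent.Lib.EtSite.Fiber
import Groth.Agent.Lib.Henselian.QuasiFinite
import Groth.Agent.Lib.Henselian.Finite
import Mathlib.RingTheory.Localization.Away.Lemmas
import Mathlib.RingTheory.Etale.QuasiFinite
import Mathlib.AlgebraicGeometry.Morphisms.Finite
import Mathlib.AlgebraicGeometry.Morphisms.Etale

/-!
# Finite étale neighbourhoods over henselian local schemes
-/

universe u

open CategoryTheory CategoryTheory.Limits AlgebraicGeometry Opposite
open IsLocalRing

namespace Groth.Agent.Lib.EtSite.HensShrink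

open Groth.Agent.Lib.EtSite.Basic

variable {A : Type u} [CommRing A]

/-- Cutting an étale algebra by an idempotent keeps it étale. -/
theorem etale_quotient {C : Type u} [CommRing C] [Algebra A C] [Algebra.Etale A C] {e : C}
    (he : IsIdempotentElem e) : Algebra.Etale A (C ⧸ Ideal.span ({1 - e} : Set C)) := by
  have := IsLocalization.Away.quotient_of_isIdempotentElem he
  have : Algebra.Etale C (C ⧸ Ideal.span ({1 - e} : Set C)) := Algebra.Etale.of_isLocalizationAway e
  exact Algebra.Etale.comp A C _

/-- Around a point of the closed fibre of an étale algebra there is a finite étale direct factor with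
only one point in the closed fibre. -/
theorem exists_finite_factor [HenselianLocalRing A] {C : Type u} [CommRing C] [Algebra A C]
    [Algebra.Etale A C] (q : Ideal C) [q.IsPrime] (hq : q.comap (algebraMap A C) = maximalIdeal A) :
    ∃ (B : Type u) (_ : CommRing B) (_ : Algebra A B) (π : C →ₐ[A] B) (n : Ideal B) (_ : n.IsPrime),
      Algebra.Etale A B ∧ Module.Finite A B ∧ n.comap π = q ∧
        ∀ n' : Ideal B, n'.IsPrime → n'.comap (algebraMap A B) = maximalIdeal A → n' = n := by
  have : q.LiesOver (maximalIdeal A) := ⟨hq.symm⟩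
  obtain ⟨e, he, heq, hfin⟩ := Henselian.QuasiFinite.exists_idempotent_of_quasiFiniteAt (R := A) q
  let B := C ⧸ Ideal.span ({1 - e} : Set C)
  have hetB : Algebra.Etale A B := etale_quotient he
  have hle : Ideal.span ({1 - e} : Set C) ≤ q := by
    rw [Ideal.span_singleton_le_iff_mem]
    refine (‹q.IsPrime›.mem_or_mem (?_ : e * (1 - e) ∈ q)).resolve_left heq
    rw [mul_sub, mul_one, he.eq, sub_self]
    exact zero_mem _
  let n : Ideal B := q.map (Ideal.Quotient.mk _)
  have hker : RingHom.ker (Ideal.Quotient.mk (Ideal.span ({1 - e} : Set C))) ≤ q := by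
    rwa [Ideal.mk_ker]
  have hnc : n.comap (Ideal.Quotient.mk _) = q := by
    rw [Ideal.comap_map_of_surjective _ Ideal.Quotient.mk_surjective, ← RingHom.ker_eq_comap_bot,
      sup_eq_left.2 hker]
  have : n.IsPrime := Ideal.map_isPrime_of_surjective Ideal.Quotient.mk_surjective hker
  have hna : n.comap (algebraMap A B) = maximalIdeal A := by
    rw [show algebraMap A B = (Ideal.Quotient.mk _).comp (algebraMap A C) from rfl,
      ← Ideal.comap_comap, hnc, hq]
  have hmaxof : ∀ m : Ideal B, m.IsPrime → m.comap (algebraMap A B) = maximalIdeal A → m.IsMaximal :=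
    fun m _ hm => Ideal.isMaximal_of_isIntegral_of_isMaximal_comap m (hm ▸ maximalIdeal.isMaximal A)
  have hn := hmaxof n inferInstance hna
  have := Henselian.LocalRing.henselianLocalRing_iff_henselianRing.mp ‹HenselianLocalRing A›
  obtain ⟨e', he', he'n, he'm⟩ := Henselian.Finite.exists_idempotent_maximal (A := A) (B := B)
    (Henselian.Pair.idempotents_bijOn (maximalIdeal A) B).surjOn ⟨n, hn⟩
  let B' := B ⧸ Ideal.span ({1 - e'} : Set B)
  have hetB' : Algebra.Etale A B' := etale_quotient he'
  let π : C →ₐ[A] B' := (Ideal.Quotient.mkₐ A _).comp (Ideal.Quotient.mkₐ A _)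
  have hle' : Ideal.span ({1 - e'} : Set B) ≤ n := by
    rw [Ideal.span_singleton_le_iff_mem]
    refine (‹n.IsPrime›.mem_or_mem (?_ : e' * (1 - e') ∈ n)).resolve_left he'n
    rw [mul_sub, mul_one, he'.eq, sub_self]
    exact zero_mem _
  have hker' : RingHom.ker (Ideal.Quotient.mk (Ideal.span ({1 - e'} : Set B))) ≤ n := by
    rwa [Ideal.mk_ker]
  let n' : Ideal B' := n.map (Ideal.Quotient.mk _)
  have : n'.IsPrime := Ideal.map_isPrime_of_surjective Ideal.Quotient.mk_surjective hker'
  have hn'c : n'.comap (Ideal.Quotient.mk _) = n := by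
    rw [Ideal.comap_map_of_surjective _ Ideal.Quotient.mk_surjective, ← RingHom.ker_eq_comap_bot,
      sup_eq_left.2 hker']
  refine ⟨B', inferInstance, inferInstance, π, n', inferInstance, hetB', inferInstance, ?_,
    fun m hm hma => ?_⟩
  · change n'.comap ((Ideal.Quotient.mk _).comp (Ideal.Quotient.mk _)) = q
    rw [← Ideal.comap_comap, hn'c, hnc]
  · let m₀ : Ideal B := m.comap (Ideal.Quotient.mk (Ideal.span ({1 - e'} : Set B)))
    have h1 : m₀ = n := by
      by_contra hne
      have hm₀ : m₀.IsMaximal := hmaxof m₀ inferInstance (by rw [Ideal.comap_comap]; exact hma)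
      have h2 : e' ∈ m₀ := he'm ⟨m₀, hm₀⟩ fun h => hne (congrArg MaximalSpectrum.asIdeal h)
      have h3 : (1 : B) - e' ∈ m₀ := by
        change Ideal.Quotient.mk _ ((1 : B) - e') ∈ m
        rw [Ideal.Quotient.eq_zero_iff_mem.2 (Ideal.mem_span_singleton_self _)]
        exact zero_mem _
      exact hm₀.ne_top ((Ideal.eq_top_iff_one _).2 (by simpa using m₀.add_mem h3 h2))
    rw [← Ideal.map_comap_of_surjective _ Ideal.Quotient.mk_surjective m]
    exact congrArg _ h1

/-- A finite étale neighbourhood with a single point over the closed point. -/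
theorem exists_finite_nhd [HenselianLocalRing A] (U : (Spec (CommRingCat.of A)).Etale) (u : U.left)
    (hu : U.hom.base u = IsLocalRing.closedPoint A) :
    ∃ (W : (Spec (CommRingCat.of A)).Etale) (a : W ⟶ U) (w : W.left), IsFinite W.hom ∧
      a.left.base w = u ∧ W.hom.base w = IsLocalRing.closedPoint A ∧
        ∀ x : W.left, W.hom.base x = IsLocalRing.closedPoint A → x = w := by
  have : Etale U.hom := U.prop
  obtain ⟨C, j, hj, ⟨c, hc⟩, -⟩ := Scheme.exists_affine_mem_range_and_range_subset
    (x := u) (U := (⊤ : U.left.Opens)) trivial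
  obtain ⟨φ, hφ⟩ := Spec.map_surjective (j ≫ U.hom)
  have hje : Etale (Spec.map φ) :=
    hφ ▸ MorphismProperty.comp_mem @Etale j U.hom inferInstance inferInstance
  let : Algebra A C := φ.hom.toAlgebra
  have : Algebra.Etale A C :=
    RingHom.etale_algebraMap.1 ((HasRingHomProperty.Spec_iff (P := @Etale)).1 hje)
  let q : PrimeSpectrum C := c
  have hq : q.asIdeal.comap (algebraMap A C) = maximalIdeal A := by
    refine congrArg PrimeSpectrum.asIdeal (a₁ := (Spec.map φ).base c) (a₂ := IsLocalRing.closedPoint A) ?_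
    rw [hφ, Scheme.Hom.comp_apply, hc, hu]
  obtain ⟨B, _, _, π, n, hn, hetB, hfinB, hnq, huniq⟩ := exists_finite_factor q.asIdeal hq
  let ψ : CommRingCat.of A ⟶ CommRingCat.of B := CommRingCat.ofHom (algebraMap A B)
  have hψ : Etale (Spec.map ψ) :=
    (HasRingHomProperty.Spec_iff (P := @Etale)).2 (RingHom.etale_algebraMap.2 hetB)
  let W : (Spec (CommRingCat.of A)).Etale := MorphismProperty.Over.mk ⊤ (Spec.map ψ) hψ
  let π' : C ⟶ CommRingCat.of B := CommRingCat.ofHom π.toRingHom
  have hπ : (Spec.map π' ≫ j) ≫ U.hom = Spec.map ψ := by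
    refine (Category.assoc _ _ _).trans ?_
    rw [← hφ, ← Spec.map_comp]
    congr 1
    ext x
    exact π.commutes x
  let a : W ⟶ U := MorphismProperty.Over.homMk (Spec.map π' ≫ j) hπ
  refine ⟨W, a, ⟨n, hn⟩, ?_, ?_, ?_, fun x hx => ?_⟩
  · exact (IsFinite.SpecMap_iff _).2 (RingHom.finite_algebraMap.2 hfinB)
  · change (Spec.map π' ≫ j).base ⟨n, hn⟩ = u
    rw [Scheme.Hom.comp_apply, ← hc]
    exact congrArg j.base (PrimeSpectrum.ext hnq)
  · refine PrimeSpectrum.ext ?_
    change n.comap (algebraMap A B) = maximalIdeal A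
    rw [← π.comp_algebraMap, ← Ideal.comap_comap]
    exact (congrArg (Ideal.comap (algebraMap A C)) hnq).trans hq
  · exact PrimeSpectrum.ext (huniq x.asIdeal x.isPrime (congrArg PrimeSpectrum.asIdeal hx))

end Groth.Agent.Lib.EtSite.HensShrink
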