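import Groth.Agent.Lib.EtSite.Effective
import Groth.Agent.Lib.EtSite.FieldExt

/-!
Descent of étale sheaves of sets along integral surjective morphisms is effective.
-/

set_option autoImplicit false

universe u

open CategoryTheory CategoryTheory.Limits AlgebraicGeometry Opposite

noncomputable section

namespace Groth.Agent.Lib.EtSite.IntegralDescent

open Groth.Agent.Lib.EtSite Groth.Agent.Lib.EtSite.Basic Groth.Agent.Lib.EtSite.SubDescent
open Groth.Agent.Lib.EtSite.PushStalk Groth.Agent.Lib.EtSite.SubSheaf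
open Groth.Agent.Lib.EtSite.Effective

theorem isUnivSubmersive_of_integral {X S : Scheme.{u}} (f : X ⟶ S) [IsIntegralHom f]
    [Surjective f] : EtDesc.IsUnivSubmersive f := fun Y g =>
  ⟨(pullback.snd f g).surjective, IsClosedMap.isQuotientMap (pullback.snd f g).isClosedMap
    (pullback.snd f g).continuous (pullback.snd f g).surjective⟩

/-- Every element of the stalk at the identity of a separably closed field is a global germ. -/
theorem exists_top_germ {Ω : Type u} [Field Ω] [IsSepClosed Ω]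
    (F : EtDesc.Sh (Spec (CommRingCat.of Ω))) (y : stalk (𝟙 (Spec (CommRingCat.of Ω))) F) :
    ∃ s : EtDesc.sect F (EtCoh.top (Spec (CommRingCat.of Ω))), germ _ F (topPt _) s = y := by
  obtain ⟨U, p, u, rfl⟩ :=
    (Scheme.pointSmallEtale (𝟙 (Spec (CommRingCat.of Ω)))).toPresheafFiber_jointly_surjective
      (P := F.obj) y
  let σ : EtCoh.top (Spec (CommRingCat.of Ω)) ⟶ U :=
    MorphismProperty.Over.homMk (fiberHom p) (fiberHom_comp p)
  refine ⟨F.obj.map σ.op u, (germ_map _ F σ _ u).trans (congrArg (fun r => germ _ F r u) ?_)⟩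
  exact Over.OverMorphism.ext (Category.id_comp _)

variable {X S : Scheme.{u}} (f : X ⟶ S) (F' : EtDesc.Sh X)
  (φ : (EtDesc.pullSh (pullback.fst f f)).obj F' ≅ (EtDesc.pullSh (pullback.snd f f)).obj F')

/-- The global section of the inverse image on a geometric fibre given by the datum. -/
theorem exists_fibre_section {Ω : Type u} [Field Ω] [IsSepClosed Ω]
    {η : Spec (CommRingCat.of Ω) ⟶ S} {ξ₀ : Spec (CommRingCat.of Ω) ⟶ X} (h₀ : ξ₀ ≫ f = η)
    (g : stalk ξ₀ F') :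
    ∃ τ : EtDesc.sect ((EtDesc.pullSh (pullback.fst f η)).obj F') (EtCoh.top (pullback f η)),
      ∀ (ξ : Spec (CommRingCat.of Ω) ⟶ pullback f η) (_ : ξ ≫ pullback.snd f η = 𝟙 _)
        (ξ₂ : Spec (CommRingCat.of Ω) ⟶ X) (k : ξ ≫ pullback.fst f η = ξ₂) (h₂ : ξ₂ ≫ f = η),
        germ ξ _ (topPt ξ) τ = germUnit (pullback.fst f η) F' k (transport f F' φ h₀ h₂ g) := by
  obtain ⟨g₀, hg₀⟩ := exists_top_germ _ (germUnit ξ₀ F' (Category.id_comp ξ₀) g)
  let q := pullback.fst f η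
  let β := pullback.snd f η
  let m : pullback f η ⟶ EtDesc.X2 f := pullback.lift (β ≫ ξ₀) q (by
    rw [Category.assoc, h₀]; exact pullback.condition.symm)
  have w₁ : m ≫ pullback.fst f f = β ≫ ξ₀ := pullback.lift_fst _ _ _
  have w₂ : m ≫ pullback.snd f f = q := pullback.lift_snd _ _ _
  let Φ : (EtDesc.pullSh β).obj ((EtDesc.pullSh ξ₀).obj F') ⟶ (EtDesc.pullSh q).obj F' :=
    (EtDesc.pullVia β ξ₀ (β ≫ ξ₀) rfl F').hom ≫
      (EtDesc.pullVia m (pullback.fst f f) (β ≫ ξ₀) w₁ F').inv ≫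
        (EtDesc.pullSh m).map φ.hom ≫ (EtDesc.pullVia m (pullback.snd f f) q w₂ F').hom
  refine ⟨Φ.hom.app (op (EtCoh.top _)) (EtDesc.secPull β _ g₀), fun ξ hξ ξ₂ k h₂ => ?_⟩
  have e₁ : ξ ≫ β ≫ ξ₀ = ξ₀ := by rw [← Category.assoc, hξ, Category.id_comp]
  have k₁ : (ξ ≫ m) ≫ pullback.fst f f = ξ₀ := by rw [Category.assoc, w₁, e₁]
  have k₂ : (ξ ≫ m) ≫ pullback.snd f f = ξ₂ := by rw [Category.assoc, w₂, k]
  refine (stalkMap_germ ξ Φ (topPt ξ) _).symm.trans ?_
  rw [germ_secPull β _ hξ, hg₀]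
  simp only [Φ, stalkMap_comp]
  rw [pullVia_germUnit ξ₀ β (β ≫ ξ₀) rfl F' hξ (Category.id_comp ξ₀) e₁,
    ← pullVia_germUnit (pullback.fst f f) m (β ≫ ξ₀) w₁ F' rfl k₁ e₁,
    ← stalkMap_comp ξ (EtDesc.pullVia m (pullback.fst f f) (β ≫ ξ₀) w₁ F').hom, Iso.hom_inv_id,
    stalkMap_id, germUnit_naturality, transport_spec f F' φ k₁ k₂ h₀ h₂,
    pullVia_germUnit (pullback.snd f f) m q w₂ F' rfl k₂ k]

/-- Compatibility of the base change map with germs. -/
theorem exists_bc_section [IsIntegralHom f] {Ω : Type u} [Field Ω] [IsAlgClosed Ω]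
    (η : Spec (CommRingCat.of Ω) ⟶ S)
    (τ : EtDesc.sect ((EtDesc.pullSh (pullback.fst f η)).obj F') (EtCoh.top (pullback f η))) :
    ∃ (V : S.Etale) (p : (Scheme.pointSmallEtale (𝟙 _ ≫ η)).fiber.obj V)
      (t : EtDesc.sect F' ((EtCoh.bc f).obj V)),
      ∀ (ξ : Spec (CommRingCat.of Ω) ⟶ pullback f η) (_ : ξ ≫ pullback.snd f η = 𝟙 _)
        (h : (ξ ≫ pullback.fst f η) ≫ f = 𝟙 _ ≫ η),
        germ ξ _ (topPt ξ) τ = germUnit (pullback.fst f η) F' rfl
          (germ (ξ ≫ pullback.fst f η) F' (liftPt f h V p) t) := by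
  let q := pullback.fst f η
  let β := pullback.snd f η
  have sq : IsPullback q β f η := IsPullback.of_hasPullback f η
  let one := 𝟙 (Spec (CommRingCat.of Ω))
  let H : (EtDesc.pushSh f).obj F' ⟶
      (EtDesc.pushSh η).obj ((EtDesc.pushSh β).obj ((EtDesc.pullSh q).obj F')) :=
    (EtDesc.pushSh f).map ((EtDesc.adjSh q).unit.app F') ≫ (EtDesc.pushCompSh f q).hom.app _ ≫
      (EtBC.pushCongrSh sq.w).hom.app _ ≫ (EtDesc.pushCompSh η β).inv.app _
  have hh : ∀ V : S.Etale, ∃ c : BaseChange.Cmp f η β q V, H.hom.app (op V) =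
      ((EtDesc.adjSh q).unit.app F').hom.app (op ((EtCoh.bc f).obj V)) ≫
        ((EtDesc.pullSh q).obj F').obj.map c.hom.op := fun V => ⟨BaseChange.cmp sq.w V, by
    simp only [H, EtDesc.pushCompSh, EtBC.pushCongrSh, BaseChange.cmp, op_comp, Functor.map_comp,
      Category.assoc]
    simp
    rfl⟩
  have hb := BaseChange.bijective_stalk (A := Type (u + 1)) sq one F' H hh
  let P := (EtDesc.pushSh β).obj ((EtDesc.pullSh q).obj F')
  let s₀ : EtDesc.sect P (EtCoh.top _) :=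
    ((EtDesc.pullSh q).obj F').obj.map (EtCore.bcTopIso β).hom.op τ
  obtain ⟨z, hz⟩ := hb.2 (germ one P (topPt one) s₀)
  obtain ⟨V, p, t, rfl⟩ := (Scheme.pointSmallEtale (one ≫ η)).toPresheafFiber_jointly_surjective
    (P := ((EtDesc.pushSh f).obj F').obj) z
  refine ⟨V, p, t, fun ξ hξ h => ?_⟩
  obtain ⟨c, hc⟩ := hh V
  have e₀ : (germTo η (Type (u + 1)) (rfl : one ≫ η = one ≫ η)).app P
      (stalkMap (one ≫ η) H (germ (one ≫ η) ((EtDesc.pushSh f).obj F') p t)) =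
      germ one P (topPt one) s₀ := (ConcreteCategory.comp_apply _ _ _).symm.trans hz
  rw [stalkMap_germ] at e₀
  have e₁ : (germTo η (Type (u + 1)) (rfl : one ≫ η = one ≫ η)).app P
      (germ (one ≫ η) ((EtDesc.pushSh η).obj P) p (H.hom.app (op V) t)) =
      germ one P (liftPt η rfl V p) (H.hom.app (op V) t) :=
    germTo_toPresheafFiber η rfl P V p _
  have e₂ := congrArg ((germTo β (Type (u + 1)) hξ).app ((EtDesc.pullSh q).obj F')) (e₁.symm.trans e₀)
  rw [show (germTo β (Type (u + 1)) hξ).app ((EtDesc.pullSh q).obj F')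
      (germ one P (liftPt η rfl V p) (H.hom.app (op V) t)) =
      germ ξ ((EtDesc.pullSh q).obj F') (liftPt β hξ _ (liftPt η rfl V p)) (H.hom.app (op V) t)
      from germTo_toPresheafFiber β hξ _ _ _ _,
    show (germTo β (Type (u + 1)) hξ).app ((EtDesc.pullSh q).obj F') (germ one P (topPt one) s₀) =
      germ ξ ((EtDesc.pullSh q).obj F') (liftPt β hξ _ (topPt one)) s₀
      from germTo_toPresheafFiber β hξ _ _ _ _,
    germ_map_bcTop] at e₂
  rw [← e₂, germUnit_germ, hc]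
  refine (congrArg (germ ξ _ _) (ConcreteCategory.comp_apply _ _ t)).trans ?_
  refine (germ_map ξ _ c.hom _ _).trans (congrArg (fun r => germ ξ _ r _) ?_)
  exact c.map_liftPt hξ h p

/-- A section compatible at one geometric point of the base is compatible nearby. -/
theorem exists_compat_nhd [IsIntegralHom f] {Ω : Type u} [Field Ω] [IsAlgClosed Ω]
    (η : Spec (CommRingCat.of Ω) ⟶ S) (V : S.Etale) (p : (Scheme.pointSmallEtale η).fiber.obj V)
    (t : EtDesc.sect F' ((EtCoh.bc f).obj V))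
    (hc : ∀ (ξ₁ ξ₂ : Spec (CommRingCat.of Ω) ⟶ X) (h₁ : ξ₁ ≫ f = η) (h₂ : ξ₂ ≫ f = η),
      transport f F' φ h₁ h₂ (germ ξ₁ F' (liftPt f h₁ V p) t) = germ ξ₂ F' (liftPt f h₂ V p) t) :
    ∃ (W : S.Etale) (g : W ⟶ V) (q : (Scheme.pointSmallEtale η).fiber.obj W),
      (Scheme.pointSmallEtale η).fiber.map g q = p ∧
      Compat f F' φ W (F'.obj.map ((EtCoh.bc f).map g).op t) := by
  obtain ⟨O, hO, hmem⟩ := exists_compat_locus f F' φ V t
  let b := pullback.fst f f ≫ f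
  let π := pullback.fst V.hom b
  have hfib : ∀ w, π.base w = fiberPt p → w ∈ O := by
    intro w hw
    obtain ⟨z, hz, -⟩ := Scheme.Pullback.exists_preimage_pullback (f := π) (g := fiberHom p) w
      default hw
    obtain ⟨s, hs, hsz⟩ := FieldExt.exists_section_of_isIntegralHom (pullback.snd π (fiberHom p)) z
    let m := s ≫ pullback.fst π (fiberHom p)
    have hm : m ≫ π = fiberHom p := by
      simp only [m, Category.assoc, pullback.condition]
      rw [← Category.assoc, hs, Category.id_comp]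
    let ζ := m ≫ pullback.snd V.hom b
    have hb : ζ ≫ pullback.fst f f ≫ f = η := by
      refine (Category.assoc _ _ _).trans ((m ≫= pullback.condition.symm).trans ?_)
      exact ((Category.assoc _ _ _).symm.trans ((congrArg (· ≫ V.hom) hm).trans (fiberHom_comp p)))
    have h₁ : (ζ ≫ pullback.fst f f) ≫ f = η := (Category.assoc _ _ _).trans hb
    have h₂ : (ζ ≫ pullback.snd f f) ≫ f = η := by
      rw [Category.assoc, ← pullback.condition]; exact hb
    have hmem' := (hmem Ω η _ _ h₁ h₂ ζ rfl rfl hb p).2 (hc _ _ h₁ h₂)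
    have e : fiberPt (liftPt b hb V p) = w := by
      have e' : fiberHom (liftPt b hb V p) = m :=
        pullback.hom_ext ((pullback.lift_fst _ _ _).trans hm.symm) (pullback.lift_snd _ _ _)
      refine (congrArg (fun r : Spec (CommRingCat.of Ω) ⟶ _ => r.base default) e').trans ?_
      exact (congrArg (pullback.fst π (fiberHom p)).base hsz).trans hz
    exact e ▸ hmem'
  have : IsIntegralHom b := inferInstance
  have : Etale V.hom := V.prop
  let E : V.left.Opens := ⟨(π.base '' Oᶜ)ᶜ, (π.isClosedMap _ hO.isClosed_compl).isOpen_compl⟩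
  have hpE : fiberPt p ∈ E := fun ⟨w, hw, e⟩ => hw (hfib w e)
  let W : S.Etale := Scheme.Etale.mk (E.ι ≫ V.hom)
  let g : W ⟶ V := MorphismProperty.Over.homMk E.ι rfl
  obtain ⟨q, hq, -⟩ := Fiber.exists_fiber_map η g p ⟨fiberPt p, hpE⟩ rfl
  refine ⟨W, g, q, hq, ?_⟩
  intro Ω' _ _ η' ξ₁ ξ₂ h₁ h₂ r
  rw [germ_bc_map, germ_bc_map]
  have hb : pullback.lift ξ₁ ξ₂ (h₁.trans h₂.symm) ≫ pullback.fst f f ≫ f = η' := by
    rw [← Category.assoc, pullback.lift_fst, h₁]
  refine (hmem Ω' η' ξ₁ ξ₂ h₁ h₂ _ (pullback.lift_fst _ _ _) (pullback.lift_snd _ _ _) hb _).1 ?_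
  by_contra hne
  exact (fiberPt r).2 ⟨_, hne, (fiberPt_liftPt b hb V _).trans (fiberPt_map g r)⟩

theorem exists_compat [IsIntegralHom f] (hφ : EtDesc.IsCocycle F' φ) {Ω : Type u} [Field Ω]
    [IsAlgClosed Ω] {η : Spec (CommRingCat.of Ω) ⟶ S} {ξ₀ : Spec (CommRingCat.of Ω) ⟶ X}
    (h₀ : ξ₀ ≫ f = η) (g : stalk ξ₀ F') :
    ∃ (V : S.Etale) (p : (Scheme.pointSmallEtale η).fiber.obj V)
      (t : EtDesc.sect F' ((EtCoh.bc f).obj V)),
      Compat f F' φ V t ∧ germ ξ₀ F' (liftPt f h₀ V p) t = g := by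
  have key : ∀ η' : Spec (CommRingCat.of Ω) ⟶ S, η' = η → ∀ h₀' : ξ₀ ≫ f = η',
      (∃ (V : S.Etale) (p : (Scheme.pointSmallEtale η').fiber.obj V)
        (t : EtDesc.sect F' ((EtCoh.bc f).obj V)), Compat f F' φ V t ∧
          germ ξ₀ F' (liftPt f h₀' V p) t = g) →
      ∃ (V : S.Etale) (p : (Scheme.pointSmallEtale η).fiber.obj V)
        (t : EtDesc.sect F' ((EtCoh.bc f).obj V)), Compat f F' φ V t ∧
          germ ξ₀ F' (liftPt f h₀ V p) t = g := by
    intro η' e h₀' he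
    subst e
    exact he
  refine key (𝟙 _ ≫ η) (Category.id_comp η) (h₀.trans (Category.id_comp η).symm) ?_
  obtain ⟨τ, hτ⟩ := exists_fibre_section f F' φ h₀ g
  obtain ⟨V, p, t, ht⟩ := exists_bc_section f F' η τ
  have hlift : ∀ (ξ₂ : Spec (CommRingCat.of Ω) ⟶ X)
      (h₂ : ξ₂ ≫ f = 𝟙 _ ≫ η),
      germ ξ₂ F' (liftPt f h₂ V p) t = transport f F' φ h₀ (h₂.trans (Category.id_comp η)) g := by
    intro ξ₂ h₂
    obtain ⟨ξ, rfl, hξ⟩ : ∃ ξ, ξ ≫ pullback.fst f η = ξ₂ ∧ ξ ≫ pullback.snd f η = 𝟙 _ :=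
      ⟨pullback.lift ξ₂ (𝟙 _) h₂, pullback.lift_fst _ _ _, pullback.lift_snd _ _ _⟩
    exact (bijective_germUnit (pullback.fst f η) F' rfl).1
      ((ht ξ hξ h₂).symm.trans (hτ ξ hξ _ rfl (h₂.trans (Category.id_comp η))))
  obtain ⟨W, e, q, hq, hW⟩ := exists_compat_nhd f F' φ (𝟙 _ ≫ η) V p t fun ξ₁ ξ₂ h₁ h₂ => by
    rw [hlift, hlift]
    have cg : ∀ (η' : Spec (CommRingCat.of Ω) ⟶ S)
        (_ : η = η') (h₁' : ξ₁ ≫ f = η') (h₂' : ξ₂ ≫ f = η') (y : stalk ξ₁ F'),
        transport f F' φ h₁' h₂' y = transport f F' φ (h₁'.trans ‹η = η'›.symm)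
          (h₂'.trans ‹η = η'›.symm) y := by
      intro η' e' h₁' h₂' y
      subst e'
      rfl
    rw [cg _ (Category.id_comp η).symm h₁ h₂]
    exact transport_trans f F' φ hφ h₀ _ _ g
  refine ⟨W, q, _, hW, ?_⟩
  rw [germ_bc_map, hq, hlift]
  exact transport_refl f F' φ hφ h₀ g

theorem isEffective [IsIntegralHom f] [Surjective f] (hφ : EtDesc.IsCocycle F' φ) :
    EtDesc.IsEffective f F' φ := by
  refine isEffective_of_extend f F' φ (isUnivSubmersive_of_integral f) fun x => ?_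
  exact ⟨_, inferInstance, inferInstance, Push.algPoint X x, Push.algPoint_apply X x default,
    fun g => exists_compat f F' φ hφ rfl g⟩

end Groth.Agent.Lib.EtSite.IntegralDescent
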