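import Groth.Agent.Lib.EtSite.ZeroDim
import Groth.Agent.Lib.Henselian.LocalRing
import Mathlib.RingTheory.Spectrum.Prime.Chevalley
import Mathlib.RingTheory.Etale.Pi
import Mathlib.FieldTheory.PurelyInseparable.Basic

/-!
# Sections of étale algebras over algebras integral over a strictly henselian local ring
-/

universe u w

open TensorProduct IsLocalRing Groth.Agent.Lib.Henselian.Pair

namespace Groth.Agent.Lib.EtSite.IntegralSection

variable {A : Type u} [CommRing A] [HenselianLocalRing A] [IsSepClosed (ResidueField A)]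
  {T : Type u} [CommRing T] [Algebra A T] [Algebra.IsIntegral A T]

/-- A prime of an integral algebra over the closed point is maximal, with separably closed residue field. -/
theorem isMaximal_of_le {q : Ideal T} [q.IsPrime]
    (hq : (maximalIdeal A).map (algebraMap A T) ≤ q) : q.IsMaximal := by
  refine Ideal.isMaximal_of_isIntegral_of_isMaximal_comap (R := A) q ?_
  rw [← (maximalIdeal.isMaximal A).eq_of_le (Ideal.comap_ne_top _ Ideal.IsPrime.ne_top')
    (Ideal.map_le_iff_le_comap.1 hq)]
  exact maximalIdeal.isMaximal A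

instance krullDimLE_quotient :
    Ring.KrullDimLE 0 (T ⧸ (maximalIdeal A).map (algebraMap A T)) := by
  refine Ring.KrullDimLE.mk₀ fun q hq => ?_
  have : (q.comap (Ideal.Quotient.mk ((maximalIdeal A).map (algebraMap A T)))).IsMaximal :=
    isMaximal_of_le (A := A) (by
      conv_lhs => rw [← Ideal.mk_ker (I := (maximalIdeal A).map (algebraMap A T))]
      exact Ideal.comap_mono bot_le)
  rw [← Ideal.map_comap_of_surjective _ Ideal.Quotient.mk_surjective q]
  exact (Ideal.map_eq_top_or_isMaximal_of_surjective _ Ideal.Quotient.mk_surjective this).resolve_left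
    (by rw [Ideal.map_comap_of_surjective _ Ideal.Quotient.mk_surjective q]; exact hq.ne_top)

theorem isSepClosed_residueField (q : Ideal (T ⧸ (maximalIdeal A).map (algebraMap A T))) [q.IsPrime] :
    IsSepClosed q.ResidueField := by
  set B₀ := T ⧸ (maximalIdeal A).map (algebraMap A T)
  have hmax : q.IsMaximal := Ideal.IsPrime.isMaximal' inferInstance
  let g : B₀ →ₐ[A] q.ResidueField := IsScalarTower.toAlgHom A B₀ q.ResidueField
  have hg : Function.Surjective g := fun x => by
    obtain ⟨y, hy⟩ := (Ideal.bijective_algebraMap_quotient_residueField q).2 x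
    obtain ⟨z, rfl⟩ := Ideal.Quotient.mk_surjective y
    exact ⟨z, hy⟩
  let f : ResidueField A →+* q.ResidueField :=
    Ideal.Quotient.lift (maximalIdeal A) (algebraMap A q.ResidueField) fun a ha => by
      have : algebraMap A B₀ a = 0 := Ideal.Quotient.eq_zero_iff_mem.2 (Ideal.mem_map_of_mem _ ha)
      rw [IsScalarTower.algebraMap_apply A B₀ q.ResidueField, this, map_zero]
  let _ : Algebra (ResidueField A) q.ResidueField := f.toAlgebra
  have : IsScalarTower A (ResidueField A) q.ResidueField :=
    IsScalarTower.of_algebraMap_eq fun _ => rfl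
  have hint : Algebra.IsIntegral A q.ResidueField :=
    ⟨fun x => by
      obtain ⟨y, rfl⟩ := hg x
      obtain ⟨z, rfl⟩ := Ideal.Quotient.mk_surjective y
      exact ((Algebra.IsIntegral.isIntegral z).map (Ideal.Quotient.mkₐ A _)).map g⟩
  have : Algebra.IsIntegral (ResidueField A) q.ResidueField :=
    ⟨fun x => (hint.isIntegral x).tower_top⟩
  have : Algebra.IsAlgebraic (ResidueField A) q.ResidueField := Algebra.IsIntegral.isAlgebraic
  exact Algebra.IsAlgebraic.isSepClosed (F := ResidueField A) (E := q.ResidueField)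

/-- Over an algebra integral over a strictly henselian local ring, a family of étale algebras
covering the closed fibre has finitely many members admitting a joint section. -/
theorem exists_fin_section {κ : Type w} (C : κ → Type u) [∀ k, CommRing (C k)] [∀ k, Algebra T (C k)]
    [∀ k, Algebra.Etale T (C k)] (h : ∀ k, C k)
    (hC : ∀ q : Ideal T, q.IsPrime → (maximalIdeal A).map (algebraMap A T) ≤ q →
      ∃ (k : κ) (c : Ideal (C k)), c.IsPrime ∧ c.comap (algebraMap T (C k)) = q ∧ h k ∉ c) :
    ∃ (n : ℕ) (k : Fin n → κ) (σ : (Π j, C (k j)) →ₐ[T] T),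
      ∀ q : Ideal T, q.IsPrime → (maximalIdeal A).map (algebraMap A T) ≤ q →
        ∃ j, σ (Pi.single j (h (k j))) ∉ q := by
  classical
  set J := (maximalIdeal A).map (algebraMap A T) with hJ
  let U : κ → Set (PrimeSpectrum T) := fun k =>
    PrimeSpectrum.comap (algebraMap T (C k)) '' ↑(PrimeSpectrum.basicOpen (h k))
  have hU : ∀ k, IsOpen (U k) := fun k =>
    PrimeSpectrum.isOpenMap_comap_of_hasGoingDown_of_finitePresentation _
      (PrimeSpectrum.basicOpen (h k)).isOpen
  have hZ : IsCompact (PrimeSpectrum.zeroLocus (J : Set T)) :=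
    (PrimeSpectrum.isClosed_zeroLocus _).isCompact
  obtain ⟨t, ht⟩ := hZ.elim_finite_subcover U hU fun p hp => by
    obtain ⟨k, c, hc, hcp, hk⟩ := hC p.asIdeal p.2 ((PrimeSpectrum.mem_zeroLocus _ _).1 hp)
    exact Set.mem_iUnion.2 ⟨k, ⟨c, hc⟩, hk, PrimeSpectrum.ext hcp⟩
  let e := t.equivFin.symm
  let k : Fin t.card → κ := fun j => (e j : κ)
  refine ⟨t.card, k, ?_⟩
  let C' : Fin t.card → Type u := fun j => Localization.Away (h (k j))
  let P := Π j, C' j
  have : HenselianRing T J := henselianRing_of_isIntegral (maximalIdeal A) T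
  have hP : ∀ (q : Ideal (T ⧸ J)) [q.IsPrime], ∃ c : Ideal ((T ⧸ J) ⊗[T] P),
      c.IsPrime ∧ c.LiesOver q := by
    intro q _
    let q' : PrimeSpectrum T := ⟨q.comap (Ideal.Quotient.mk J), inferInstance⟩
    have hq' : q' ∈ PrimeSpectrum.zeroLocus (J : Set T) := fun x hx => by
      change Ideal.Quotient.mk J x ∈ q
      rw [Ideal.Quotient.eq_zero_iff_mem.2 hx]; exact zero_mem q
    obtain ⟨i, hi, c, hci, hcq⟩ := Set.mem_iUnion₂.1 (ht hq')
    obtain ⟨j, hj⟩ := e.surjective ⟨i, hi⟩
    have hji : k j = i := congrArg Subtype.val hj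
    subst hji
    let K := c.asIdeal.ResidueField
    let γ : C (k j) →ₐ[T] K := IsScalarTower.toAlgHom T (C (k j)) K
    have hu : IsUnit (γ (h (k j))) := by
      refine IsUnit.mk0 _ fun h0 => hci ?_
      exact Ideal.algebraMap_residueField_eq_zero.1 h0
    let γ' : P →ₐ[T] K :=
      (IsLocalization.Away.liftAlgHom (S := C' j) (h (k j)) (f := γ) hu).comp (Pi.evalAlgHom T C' j)
    let β : (T ⧸ J) →ₐ[T] K := Ideal.Quotient.liftₐ J (Algebra.ofId T K) fun x hx => by
      change algebraMap T K x = 0
      rw [IsScalarTower.algebraMap_apply T (C (k j)) K, Ideal.algebraMap_residueField_eq_zero]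
      have : x ∈ c.asIdeal.comap (algebraMap T (C (k j))) := by
        rw [show c.asIdeal.comap (algebraMap T (C (k j))) = q'.asIdeal from
          congrArg PrimeSpectrum.asIdeal hcq]
        exact hq' hx
      exact this
    let π := Algebra.TensorProduct.productMap β γ'
    refine ⟨RingHom.ker π, RingHom.ker_isPrime _, ⟨?_⟩⟩
    ext x
    obtain ⟨y, rfl⟩ := Ideal.Quotient.mk_surjective x
    rw [Ideal.under_def, Ideal.mem_comap, RingHom.mem_ker, Algebra.TensorProduct.algebraMap_apply,
      Algebra.TensorProduct.productMap_apply_tmul, map_one, mul_one]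
    change y ∈ q'.asIdeal ↔ algebraMap T K y = 0
    rw [IsScalarTower.algebraMap_apply T (C (k j)) K, Ideal.algebraMap_residueField_eq_zero,
      ← congrArg PrimeSpectrum.asIdeal hcq]
    rfl
  obtain ⟨s₀⟩ := ZeroDim.exists_section (S := T ⧸ J) (fun q _ => isSepClosed_residueField q)
    (C := (T ⧸ J) ⊗[T] P) hP
  obtain ⟨τ, hτ⟩ := Groth.Agent.Lib.Henselian.Etale.exists_algHom_lift J
    ((s₀.restrictScalars T).comp (Algebra.TensorProduct.includeRight (R := T) (A := T ⧸ J) (B := P)))
  let inc : (Π j, C (k j)) →ₐ[T] P := AlgHom.pi fun j =>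
    (IsScalarTower.toAlgHom T (C (k j)) (C' j)).comp (Pi.evalAlgHom T (fun j => C (k j)) j)
  refine ⟨τ.comp inc, fun q hq hJq => ?_⟩
  obtain ⟨j, hj⟩ : ∃ j, τ (Pi.single j (1 : C' j)) ∉ q := by
    by_contra hne
    push Not at hne
    refine hq.ne_top ((Ideal.eq_top_iff_one q).2 ?_)
    have : (1 : P) = ∑ j, Pi.single j (1 : C' j) := (Finset.univ_sum_single (1 : P)).symm
    rw [← map_one τ, this, map_sum]
    exact Ideal.sum_mem _ fun j _ => hne j
  refine ⟨j, fun hmem => hj ?_⟩
  have hinc : inc (Pi.single j (h (k j))) = Pi.single j (algebraMap (C (k j)) (C' j) (h (k j))) := by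
    funext i
    change algebraMap (C (k i)) (C' i) ((Pi.single j (h (k j)) : Π j, C (k j)) i) = _
    rcases eq_or_ne i j with rfl | hne
    · simp
    · simp [hne]
  obtain ⟨v, hv⟩ := IsLocalization.Away.algebraMap_isUnit (S := C' j) (h (k j))
  have : Pi.single j (1 : C' j) = inc (Pi.single j (h (k j))) * Pi.single j ((v⁻¹ : (C' j)ˣ) : C' j) := by
    rw [hinc, ← Pi.single_mul, ← hv, Units.mul_inv]
  rw [this, map_mul]
  exact Ideal.mul_mem_right _ _ hmem

end Groth.Agent.Lib.EtSite.IntegralSection
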