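import Groth.Agent.Lib.EtSite.LocVal
import Groth.Agent.Lib.PBC50.Extend
import Groth.Agent.Lib.PBC50.ToF
import Groth.Agent.Lib.PBC50.BC
import Groth.Agent.Lib.EtSubmersive.Main
import Groth.Agent.Lib.EtGerm.Glue
import Groth.Agent.Lib.EtSite.GenMap
import Mathlib.AlgebraicGeometry.Morphisms.Flat

/-!
Base change for the direct image when the maps of strictly local schemes have connected geometric
fibres.
-/

set_option autoImplicit false
set_option linter.style.haveILetI false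
set_option backward.isDefEq.respectTransparency false

universe u

open CategoryTheory CategoryTheory.Limits AlgebraicGeometry Opposite

noncomputable section

namespace Groth.Agent.Lib.EtSite.LocBC

open Groth.Agent.Lib.EtSite Groth.Agent.Lib.EtSite.Basic Groth.Agent.Lib.EtLim50
  Groth.Agent.Lib.EtSite.LocMap Groth.Agent.Lib.EtSite.LocSect Groth.Agent.Lib.EtSite.LocVal
  Groth.Agent.Lib.EtSite.PushStalk
open Groth.Agent.Lib.EtGerm Groth.Agent.Lib.EtGerm.Basic
open Groth.Agent.Lib.EtSubmersive.Basic (germUnit bijective_germUnit germUnit_germ unitApp)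

variable {X S Y T : Scheme.{u}} {f : X ⟶ S} {g : T ⟶ S} {h : Y ⟶ X} {e : Y ⟶ T}
  (sq : IsPullback e h g f) {Ω : Type u} [Field Ω] [IsSepClosed Ω]
  (η : Spec (CommRingCat.of Ω) ⟶ X)

/-- The map of the base changes to the strictly local schemes. -/
def m : (c h η).pt ⟶ (c g (η ≫ f)).pt :=
  pullback.lift (pullback.fst h (toBase η) ≫ e) (pullback.snd h (toBase η) ≫ Spec.map (funct f η)) (by
    rw [Category.assoc, sq.w, ← Category.assoc, pullback.condition, Category.assoc, Category.assoc,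
      funct_toBase])

theorem m_q : m sq η ≫ q g (η ≫ f) = q h η ≫ e := pullback.lift_fst _ _ _

theorem m_snd : m sq η ≫ pullback.snd g (toBase (η ≫ f)) =
    pullback.snd h (toBase η) ≫ Spec.map (funct f η) := pullback.lift_snd _ _ _

theorem isPullback_m : IsPullback (m sq η) (pullback.snd h (toBase η))
    (pullback.snd g (toBase (η ≫ f))) (Spec.map (funct f η)) := by
  refine IsPullback.of_right ?_ (m_snd sq η) (IsPullback.of_hasPullback g (toBase (η ≫ f)))
  have := (IsPullback.of_hasPullback h (toBase η)).paste_horiz sq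
  rw [funct_toBase, show m sq η ≫ pullback.fst g (toBase (η ≫ f)) = pullback.fst h (toBase η) ≫ e
    from pullback.lift_fst _ _ _]
  exact this

variable (F : EtCoh.Ab T)

/-- The stalk form of the base change map. -/
abbrev M (z : Stk ((EtCoh.push g).obj F) (η ≫ f)) :
    Stk ((EtCoh.push h).obj ((EtCoh.pull e).obj F)) η :=
  (Scheme.pointSmallEtale η).sheafFiber.map (EtCoh.baseChange0 g f h e sq.w F)
    (germUnit f ((EtCoh.push g).obj F) rfl z)

theorem comm_m {Ω' : Type u} [Field Ω'] (ζ : Spec (CommRingCat.of Ω') ⟶ (c h η).pt) :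
    (ζ ≫ m sq η) ≫ q g (η ≫ f) = (ζ ≫ q h η) ≫ e := by
  rw [Category.assoc, m_q, Category.assoc]

theorem toSect_apply' {Z W₀ : Scheme.{u}} (k : Z ⟶ W₀) (η₀ : Spec (CommRingCat.of Ω) ⟶ W₀)
    (G : EtCoh.Ab Z) (b : Nbhds.Idx W₀ η₀) (s : EtCoh.sect G ((W k η₀).obj b)) {Ω' : Type u}
    [Field Ω'] [IsSepClosed Ω'] (η' : Spec (CommRingCat.of Ω') ⟶ Z)
    (ξ : Spec (CommRingCat.of Ω') ⟶ (c k η₀).pt) (hx : ξ ≫ q k η₀ = η') :
    (toSect k η₀ G b s).1 ⟨Ω', η', ξ, hx⟩ =
      germ G η' ((W k η₀).obj b) (mkFiber η' _ (ξ ≫ (c k η₀).π.app b)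
        ((Category.assoc _ _ _).trans ((ξ ≫= LocSect.hq k η₀ b).trans hx))) s := by
  subst hx
  exact toSect_apply k η₀ G b s ξ

theorem exists_key (b : Nbhds.Idx S (η ≫ f)) (s : EtCoh.sect F ((W g (η ≫ f)).obj b)) :
    ∃ (a : Nbhds.Idx X η) (t : EtCoh.sect ((EtCoh.pull e).obj F) ((W h η).obj a)),
      M sq η F (germ ((EtCoh.push g).obj F) (η ≫ f) ((Nbhds.nbhd S (η ≫ f)).obj b) b.2 s) =
        germ ((EtCoh.push h).obj ((EtCoh.pull e).obj F)) η ((Nbhds.nbhd X η).obj a) a.2 t ∧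
      ∀ (Ω' : Type u) [Field Ω'] [IsSepClosed Ω'] (ζ : Spec (CommRingCat.of Ω') ⟶ (c h η).pt),
        val h η ((EtCoh.pull e).obj F) a t ζ =
          germUnit e F rfl ((toSect g (η ≫ f) F b s).1 ⟨Ω', (ζ ≫ q h η) ≫ e, ζ ≫ m sq η, comm_m sq η ζ⟩) := by
  obtain ⟨cc, hcc⟩ := PBC50.BC.germ_bc sq.w F η ((Nbhds.nbhd S (η ≫ f)).obj b) b.2 s
  obtain ⟨a, ⟨φ⟩⟩ := Nbhds.exists_hom X η ((Scheme.pointSmallEtale η).fiber.elementsMk
    ((EtCoh.bc f).obj ((Nbhds.nbhd S (η ≫ f)).obj b)) (liftPt f rfl _ b.2))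
  let t₀ := ((EtCoh.pull e).obj F).obj.map cc.hom.op
    (HensClosed.unitAt e F ((W g (η ≫ f)).obj b) s)
  have hφ : (Scheme.pointSmallEtale η).fiber.map φ.1 a.2 = liftPt f rfl _ b.2 := φ.2
  refine ⟨a, ((EtCoh.push h).obj ((EtCoh.pull e).obj F)).obj.map φ.1.op t₀, ?_, fun Ω' _ _ ζ => ?_⟩
  · exact hcc.trans ((germ_map ((EtCoh.push h).obj ((EtCoh.pull e).obj F)) η φ.1 a.2 t₀).trans
      (congrArg (fun r => germ ((EtCoh.push h).obj ((EtCoh.pull e).obj F)) η _ r t₀) hφ)).symm
  rw [toSect_apply']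
  refine Eq.trans ?_ (germUnit_germ e F rfl _ _ s).symm
  refine (germ_map ((EtCoh.pull e).obj F) (ζ ≫ q h η) ((EtCoh.bc h).map φ.1) _ t₀).trans ?_
  refine (germ_map ((EtCoh.pull e).obj F) (ζ ≫ q h η) cc.hom _ _).trans ?_
  refine congrArg (fun r => germ ((EtCoh.pull e).obj F) (ζ ≫ q h η) _ r
    (HensClosed.unitAt e F ((W g (η ≫ f)).obj b) s)) ?_
  let p : Spec (CommRingCat.of Ω') ⟶ ((W h η).obj a).left := ζ ≫ (c h η).π.app a
  let r : Spec (CommRingCat.of Ω') ⟶ ((EtCoh.bc h).obj ((EtCoh.bc f).obj ((Nbhds.nbhd S (η ≫ f)).obj b))).left :=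
    p ≫ ((EtCoh.bc h).map φ.1).left
  have hp : p ≫ ((W h η).obj a).hom = ζ ≫ q h η :=
    (Category.assoc _ _ _).trans (ζ ≫= LocSect.hq h η a)
  have hr : r ≫ ((EtCoh.bc h).obj ((EtCoh.bc f).obj ((Nbhds.nbhd S (η ≫ f)).obj b))).hom = ζ ≫ q h η :=
    (Category.assoc _ _ _).trans ((p ≫= Over.w ((EtCoh.bc h).map φ.1).hom).trans hp)
  have hcw : (r ≫ cc.hom.left) ≫ ((EtCoh.bc e).obj ((W g (η ≫ f)).obj b)).hom = ζ ≫ q h η :=
    (Category.assoc _ _ _).trans ((r ≫= Over.w cc.hom.hom).trans hr)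
  apply Over.OverMorphism.ext
  change r ≫ cc.hom.left = _
  refine pullback.hom_ext ?_ (hcw.trans (pullback.lift_snd _ _ _).symm)
  refine Eq.trans ?_ (pullback.lift_fst _ _ _).symm
  change _ = (ζ ≫ m sq η) ≫ (c g (η ≫ f)).π.app b
  refine pullback.hom_ext ?_ ?_
  · refine ((Category.assoc _ _ _).trans ((Category.assoc _ _ _).trans (r ≫= cc.fst_fst))).trans ?_
    have h1 : r ≫ pullback.fst ((EtCoh.bc f).obj ((Nbhds.nbhd S (η ≫ f)).obj b)).hom h =
        ((ζ ≫ pullback.snd h (toBase η)) ≫ (Nbhds.cone X η).π.app a) ≫ φ.1.left := by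
      refine (Category.assoc _ _ _).trans ((p ≫= (EtCoh.isPullback_bc_map h φ.1).w).trans ?_)
      refine (Category.assoc _ _ _).symm.trans (eq_whisker ?_ φ.1.left)
      refine (Category.assoc _ _ _).trans ((ζ ≫= pullback.lift_fst _ _ _).trans ?_)
      exact (Category.assoc _ _ _).symm
    refine (Category.assoc _ _ _).symm.trans ((eq_whisker h1 _).trans ?_)
    refine Eq.trans ?_ ((Category.assoc _ _ _).trans ((ζ ≫ m sq η) ≫= pullback.lift_fst _ _ _)).symm
    simp only [Category.assoc]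
    refine ζ ≫= ?_
    rw [← Category.assoc (m sq η), m_snd, Category.assoc]
    exact _ ≫= (funct_π f η φ).symm
  · refine ((Category.assoc _ _ _).trans ((r ≫ cc.hom.left) ≫= pullback.condition)).trans ?_
    refine ((Category.assoc _ _ _).symm.trans (eq_whisker hcw e)).trans ?_
    refine Eq.trans ?_ ((Category.assoc _ _ _).trans
      ((ζ ≫ m sq η) ≫= pullback.lift_snd _ _ _)).symm
    exact (comm_m sq η ζ).symm

theorem gen_of_flat {A B : Scheme.{u}} (k : A ⟶ B) [Flat k] :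
    (topologically GeneralizingMap).universally k := fun _ _ _ _ f' h =>
  haveI : Flat f' := MorphismProperty.of_isPullback (P := @Flat) h.flip ‹_›
  Flat.generalizingMap f'

theorem bijective_M [QuasiCompact g] [QuasiSeparated g]
    (hgen : (topologically GeneralizingMap).universally (Spec.map (funct f η)))
    (hc : ∀ (Ω' : Type u) [Field Ω'] [IsAlgClosed Ω']
      (s : Spec (CommRingCat.of Ω') ⟶ Nbhds.S S (η ≫ f)), ConnectedSpace ↥(pullback (Spec.map (funct f η)) s)) :
    Function.Bijective (M sq η F) := by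
  haveI : QuasiCompact h := MorphismProperty.of_isPullback (P := @QuasiCompact) sq ‹_›
  haveI : QuasiSeparated h := MorphismProperty.of_isPullback (P := @QuasiSeparated) sq ‹_›
  have hsurjf : Surjective (Spec.map (funct f η)) := ⟨fun s => by
    have := hc _ (Push.algPoint _ s)
    obtain ⟨z⟩ := (inferInstance : Nonempty ↥(pullback (Spec.map (funct f η)) (Push.algPoint _ s)))
    refine ⟨(pullback.fst (Spec.map (funct f η)) (Push.algPoint _ s)).base z, ?_⟩
    exact (congrArg (fun k : pullback (Spec.map (funct f η)) (Push.algPoint _ s) ⟶ _ => k.base z)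
      pullback.condition).trans (Push.algPoint_apply _ s _)⟩
  haveI : Surjective (m sq η) := MorphismProperty.of_isPullback (P := @Surjective) (isPullback_m sq η).flip hsurjf
  have hgm : (topologically GeneralizingMap).universally (m sq η) :=
    MorphismProperty.of_isPullback (P := (topologically GeneralizingMap).universally)
      (isPullback_m sq η).flip hgen
  haveI : QuasiCompact (m sq η) :=
    MorphismProperty.of_isPullback (P := @QuasiCompact) (isPullback_m sq η).flip inferInstance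
  have hcm : ∀ (Ω' : Type u) [Field Ω'] [IsAlgClosed Ω']
      (s : Spec (CommRingCat.of Ω') ⟶ (c g (η ≫ f)).pt), ConnectedSpace ↥(pullback (m sq η) s) :=
    fun Ω' _ _ s => by
      have := hc Ω' (s ≫ pullback.snd g (toBase (η ≫ f)))
      let i : pullback (m sq η) s ≅ pullback (Spec.map (funct f η)) (s ≫ pullback.snd g (toBase (η ≫ f))) :=
        ((IsPullback.of_hasPullback (m sq η) s).flip.paste_vert (isPullback_m sq η)).flip.isoPullback
      exact i.inv.homeomorph.surjective.connectedSpace i.inv.homeomorph.continuous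
  have hadd : ∀ z z', M sq η F (z + z') = M sq η F z + M sq η F z' := fun z z' => by
    refine (congrArg _ (map_add (germUnit f ((EtCoh.push g).obj F) rfl).hom z z')).trans ?_
    exact map_add ((Scheme.pointSmallEtale η).sheafFiber.map (EtCoh.baseChange0 g f h e sq.w F)).hom _ _
  constructor
  · let Mh : Stk ((EtCoh.push g).obj F) (η ≫ f) →+ Stk ((EtCoh.push h).obj ((EtCoh.pull e).obj F)) η :=
      AddMonoidHom.mk' (M sq η F) hadd
    refine (injective_iff_map_eq_zero Mh).2 fun z hz => ?_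
    obtain ⟨b, s, rfl⟩ := exists_stage g (η ≫ f) F z
    obtain ⟨a, t, hg, hv⟩ := exists_key sq η F b s
    have h0 := fun (Ω' : Type u) [Field Ω'] [IsSepClosed Ω'] (ζ : Spec (CommRingCat.of Ω') ⟶ (c h η).pt) =>
      val_eq_of_germ_eq h η ((EtCoh.pull e).obj F) t 0
        ((hg.symm.trans hz).trans (map_zero _).symm) ζ
    refine (germ_eq_of_val g (η ≫ f) F s (0 : EtCoh.sect F ((W g (η ≫ f)).obj b))
      fun Ω' _ _ ξ => ?_).trans (map_zero _)
    obtain ⟨z', hz'⟩ := (m sq η).surjective (ξ.base default)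
    let ζ := Push.algPoint (c h η).pt z'
    have h1 := ((hv _ ζ).symm.trans ((h0 _ ζ).trans (map_zero _)))
    have h2 := (bijective_germUnit e F (rfl : (ζ ≫ q h η) ≫ e = _)).1 (h1.trans (map_zero _).symm)
    rw [toSect_apply'] at h2
    have h3 := (germ_eq_iff F _ _ _ s 0).1 (h2.trans (map_zero _).symm)
    refine (germ_eq_iff F _ _ _ s 0).2 ?_
    rw [Sections.fiberPt_pj]
    refine Set.mem_of_eq_of_mem ?_ h3
    refine Eq.symm ((congrArg ((c g (η ≫ f)).π.app b).base ?_))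
    exact (congrArg (m sq η).base (Push.algPoint_apply _ z' default)).trans hz'
  · intro y
    obtain ⟨a₀, t₀, rfl⟩ := exists_stage h η ((EtCoh.pull e).obj F) y
    let σ := toSect h η ((EtCoh.pull e).obj F) a₀ t₀
    let τ : sect F (Over.mk (q h η ≫ e)) :=
      ⟨_, PBC50.ToF.isLocRep_toF F e (q h η) σ.2⟩
    let k : Over.mk (m sq η ≫ q g (η ≫ f)) ⟶ Over.mk (q h η ≫ e) :=
      Over.homMk (𝟙 _) ((Category.id_comp _).trans (m_q sq η).symm)
    obtain ⟨σS, hσS⟩ := PBC50.Extend.exists_extend F (q g (η ≫ f)) (m sq η)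
      (fun G => (EtSubmersive.Main.bijective_unit (m sq η) G
        (fun S' g' =>
          haveI : Surjective (pullback.snd (m sq η) g') := MorphismProperty.pullback_snd _ _ ‹_›
          haveI : QuasiCompact (pullback.snd (m sq η) g') := MorphismProperty.pullback_snd _ _ ‹_›
          GenMap.isQuotientMap (pullback.snd (m sq η) g')
            (hgm _ _ _ (IsPullback.of_hasPullback (m sq η) g').flip)) hcm).2)
      ⟨_, IsLocRep.restr F k τ.2⟩
    obtain ⟨b, s, hbs⟩ := exists_of_sect g (η ≫ f) F σS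
    obtain ⟨a, t, hg, hv⟩ := exists_key sq η F b s
    refine ⟨_, hg.trans (germ_eq_of_val h η _ t t₀ fun Ω' _ _ ζ => ?_)⟩
    rw [hv Ω' ζ, ← toSect_apply h η _ a₀ t₀ ζ]
    have e0 : ∀ (η' : Spec (CommRingCat.of Ω') ⟶ T) (ξ : Spec (CommRingCat.of Ω') ⟶ (c g (η ≫ f)).pt)
        (hx : ξ ≫ q g (η ≫ f) = η'),
        (toSect g (η ≫ f) F b s).1 ⟨Ω', η', ξ, hx⟩ = σS.1 ⟨Ω', η', ξ, hx⟩ := by
      rintro _ ξ rfl
      exact (toSect_apply g (η ≫ f) F b s ξ).trans (hbs Ω' ξ).symm
    refine (congrArg (germUnit e F rfl) ((e0 _ _ _).trans ((congrFun hσS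
      ⟨Ω', (ζ ≫ q h η) ≫ e, ζ, (Category.assoc _ _ _).symm.trans ((Category.assoc _ _ _).trans
        ((ζ ≫= m_q sq η).trans (Category.assoc _ _ _).symm))⟩).trans
      (Glue.germs_congr F τ.1 (Category.comp_id ζ) _ (Category.assoc _ _ _).symm)))).trans ?_
    exact congrFun (PBC50.ToF.ofF_toF F e (q h η) σ.1) ⟨Ω', ζ ≫ q h η, ζ, rfl⟩

theorem isIso_baseChange0 [QuasiCompact g] [QuasiSeparated g]
    (hgen : ∀ (Ω : Type u) [Field Ω] [IsSepClosed Ω] (η : Spec (CommRingCat.of Ω) ⟶ X),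
      (topologically GeneralizingMap).universally (Spec.map (funct f η)))
    (hc : ∀ (Ω : Type u) [Field Ω] [IsSepClosed Ω] (η : Spec (CommRingCat.of Ω) ⟶ X) (Ω' : Type u)
      [Field Ω'] [IsAlgClosed Ω'] (s : Spec (CommRingCat.of Ω') ⟶ Nbhds.S S (η ≫ f)),
      ConnectedSpace ↥(pullback (Spec.map (funct f η)) s)) :
    IsIso (EtCoh.baseChange0 g f h e sq.w F) := by
  refine EtSite.Stalk.isIso_of_stalks _ fun x => ?_
  refine ⟨_, inferInstance, inferInstance, Push.algPoint X x, Push.algPoint_apply X x default, ?_⟩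
  exact (Function.Bijective.of_comp_iff _ (bijective_germUnit f _ rfl)).1
    (bijective_M sq (Push.algPoint X x) F (hgen _ (Push.algPoint X x)) (hc _ (Push.algPoint X x)))

end Groth.Agent.Lib.EtSite.LocBC
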