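import Groth.Agent.Lib.EtSite.LocMap
import Groth.Agent.Lib.Henselian.StrictHenselization
import Groth.Agent.Lib.GeomConn.SepClosed
import Mathlib.AlgebraicGeometry.Morphisms.Preimmersion

/-!
The strictly local scheme of a geometric point of the spectrum of a separably closed field.
-/

set_option autoImplicit false
set_option linter.style.haveILetI false
set_option backward.isDefEq.respectTransparency false

universe u

open CategoryTheory CategoryTheory.Limits AlgebraicGeometry Opposite IsLocalRing

noncomputable section

namespace Groth.Agent.Lib.EtSite.LocField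

open Groth.Agent.Lib.EtSite.LocMap Groth.Agent.Lib.EtLim50

theorem bijective_algebraMap {R S : Type u} [CommRing R] [IsLocalRing R] [CommRing S] [IsLocalRing S]
    [Algebra R S] [IsLocalHom (algebraMap R S)] [hS : Hensel.IsStrictHenselization R S]
    (hm : maximalIdeal R = ⊥) [IsSepClosed (ResidueField R)] :
    Function.Bijective (algebraMap R S) := by
  have h0 : maximalIdeal S = ⊥ := by
    rw [← Henselian.StrictHenselization.map_maximalIdeal R S, hm, Ideal.map_bot]
  have := hS.isSepClosure
  have hb : Function.Bijective (algebraMap (ResidueField R) (ResidueField S)) :=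
    IsSepClosed.algebraMap_bijective (ResidueField R) (ResidueField S)
  refine ⟨(injective_iff_map_eq_zero _).2 fun r hr => ?_, fun s => ?_⟩
  · have h1 : r ∈ maximalIdeal R := (mem_maximalIdeal r).2 fun hu => by
      have := hu.map (algebraMap R S); rw [hr] at this; exact not_isUnit_zero this
    rwa [hm, Ideal.mem_bot] at h1
  · obtain ⟨x, hx⟩ := hb.2 (residue S s)
    obtain ⟨r, rfl⟩ := residue_surjective x
    refine ⟨r, ?_⟩
    have h1 : algebraMap R S r - s ∈ maximalIdeal S := by
      rw [← residue_eq_zero_iff, map_sub, sub_eq_zero]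
      exact hx
    rwa [h0, Ideal.mem_bot, sub_eq_zero] at h1

variable {k : Type u} [Field k] [IsSepClosed k]

theorem mono_toBase {Ω : Type u} [Field Ω] [IsSepClosed Ω]
    (ξ : Spec (CommRingCat.of Ω) ⟶ Spec (CommRingCat.of k)) : Mono (toBase ξ) := by
  obtain ⟨aR, lR, hR, sR⟩ := exists_algebra ξ
  let R := (Spec (CommRingCat.of k)).presheaf.stalk (ξ.base default)
  let p : PrimeSpectrum k := ξ.base default
  letI : Algebra k R := StructureSheaf.stalkAlgebra k p
  haveI : IsLocalization.AtPrime R p.asIdeal := StructureSheaf.IsLocalization.to_stalk k p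
  have hu : p.asIdeal.primeCompl ≤ IsUnit.submonoid k := fun y hy =>
    isUnit_iff_ne_zero.2 fun h0 => hy (h0 ▸ p.asIdeal.zero_mem)
  let e : k ≃ₐ[k] R := IsLocalization.atUnits k p.asIdeal.primeCompl hu
  haveI : IsField R := e.toRingEquiv.symm.toMulEquiv.isField (Field.toIsField k)
  have hm : maximalIdeal R = ⊥ := IsLocalRing.isField_iff_maximalIdeal_eq.1 ‹_›
  let e' : R ≃+* ResidueField R := RingEquiv.ofBijective (residue R)
    ⟨(injective_iff_map_eq_zero _).2 fun r hr => by
      rwa [residue_eq_zero_iff, hm, Ideal.mem_bot] at hr, residue_surjective⟩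
  haveI : IsSepClosed (ResidueField R) :=
    Henselian.StrictHenselization.isSepClosed_of_ringEquiv (e.toRingEquiv.trans e')
  haveI : IsIso (CommRingCat.ofHom (@algebraMap _ _ _ _ aR)) :=
    (ConcreteCategory.isIso_iff_bijective _).2 (bijective_algebraMap (hS := sR) hm)
  rw [← hR]
  exact inferInstanceAs (Mono (Spec.map (CommRingCat.ofHom (@algebraMap _ _ _ _ aR)) ≫
    (Spec (CommRingCat.of k)).fromSpecStalk (ξ.base default)))

theorem connectedSpace_pullback {X : Scheme.{u}} [ConnectedSpace X] (v : X ⟶ Spec (CommRingCat.of k))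
    {K : Type u} [Field K] (w : Spec (CommRingCat.of K) ⟶ Spec (CommRingCat.of k)) :
    ConnectedSpace ↥(pullback v w) := by
  obtain ⟨φ, rfl⟩ := Spec.map_surjective w
  letI : Algebra k K := φ.hom.toAlgebra
  haveI : GeometricallyConnected (Spec.map φ) := GeomConn.SepClosed.geometricallyConnected_specMap k K
  haveI : UniversallyOpen (Spec.map φ) :=
    inferInstanceAs (UniversallyOpen (Spec.map (CommRingCat.ofHom (algebraMap k K))))
  infer_instance

theorem connectedSpace_funct_fibre {X : Scheme.{u}} (f : X ⟶ Spec (CommRingCat.of k)) {Ω : Type u}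
    [Field Ω] [IsSepClosed Ω] (η : Spec (CommRingCat.of Ω) ⟶ X) {K : Type u} [Field K]
    (s : Spec (CommRingCat.of K) ⟶ Nbhds.S (Spec (CommRingCat.of k)) (η ≫ f)) :
    ConnectedSpace ↥(pullback (Spec.map (funct f η)) s) := by
  haveI := mono_toBase (η ≫ f)
  haveI : ConnectedSpace ↥(Spec (EtBase.etaleLocalRing η)) :=
    { isPreconnected_univ := by
        refine isPreconnected_of_forall (IsLocalRing.closedPoint (EtBase.etaleLocalRing η))
          fun y _ => ⟨closure {y}, Set.subset_univ _, ?_, subset_closure rfl,
            isPreconnected_singleton.closure⟩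
        exact specializes_iff_mem_closure.1 (IsLocalRing.specializes_closedPoint y)
      toNonempty := inferInstance }
  have := connectedSpace_pullback (Spec.map (funct f η) ≫ toBase (η ≫ f)) (s ≫ toBase (η ≫ f))
  let i : pullback (Spec.map (funct f η)) s ≅
      pullback (Spec.map (funct f η) ≫ toBase (η ≫ f)) (s ≫ toBase (η ≫ f)) :=
    (IsPullback.of_isLimit (pullbackIsPullbackOfCompMono (Spec.map (funct f η)) s (toBase (η ≫ f)))).isoPullback
  exact i.inv.homeomorph.surjective.connectedSpace i.inv.homeomorph.continuous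

end Groth.Agent.Lib.EtSite.LocField
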