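import Groth.Agent.Lib.EtSite.LocMap
import Groth.Agent.Lib.WeaklyEt.Flat
import Groth.Agent.Lib.Henselian.StrictHenselization
import Groth.Agent.Lib.Henselian.IndEtale
import Groth.Agent.Lib.IndEtale.Basic
import Groth.Agent.Lib.LocAcycBC.Main
import Mathlib.AlgebraicGeometry.Morphisms.Flat

/-!
Maps of strictly local schemes: compatibility with stalk maps and flatness.
-/

set_option autoImplicit false
set_option linter.style.haveILetI false
set_option backward.isDefEq.respectTransparency false

universe u

open CategoryTheory CategoryTheory.Limits AlgebraicGeometry Opposite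

noncomputable section

namespace Groth.Agent.Lib.EtSite.LocFlat

open Groth.Agent.Lib.EtSite.LocMap

variable {X S : Scheme.{u}} (f : X ⟶ S) {Ω : Type u} [Field Ω] [IsSepClosed Ω]
  (η : Spec (CommRingCat.of Ω) ⟶ X)

theorem funct_comp_algebraMap
    (aS : Algebra (S.presheaf.stalk (f.base (η.base default))) (EtBase.etaleLocalRing (η ≫ f)))
    (aX : Algebra (X.presheaf.stalk (η.base default)) (EtBase.etaleLocalRing η))
    (hS : @Hens2.specOf S (f.base (η.base default)) (EtBase.etaleLocalRing (η ≫ f)) _ aS = toBase (η ≫ f))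
    (hX : @Hens2.specOf X (η.base default) (EtBase.etaleLocalRing η) _ aX = toBase η) :
    (funct f η).hom.comp (@algebraMap _ _ _ _ aS) =
      (@algebraMap _ _ _ _ aX).comp (f.stalkMap (η.base default)).hom := by
  refine LocAcycBC.Main.ringHom_ext _ _ ?_
  rw [LocAcycBC.Main.spec_map_comp, LocAcycBC.Main.spec_map_comp, Category.assoc, Category.assoc]
  refine Eq.trans ((Spec.map (funct f η)) ≫= hS) ?_
  refine (funct_toBase f η).trans ?_
  rw [← hX]
  refine (Category.assoc _ _ _).trans (_ ≫= ?_)
  exact (Scheme.SpecMap_stalkMap_fromSpecStalk f).symm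

theorem flat_funct [Flat f] : (funct f η).hom.Flat := by
  obtain ⟨aS, lS, hS, sS⟩ := exists_algebra (η ≫ f)
  obtain ⟨aX, lX, hX, sX⟩ := exists_algebra η
  let A := S.presheaf.stalk (f.base (η.base default))
  let B := X.presheaf.stalk (η.base default)
  letI : Algebra A (EtBase.etaleLocalRing (η ≫ f)) := aS
  haveI : IsLocalHom (algebraMap A (EtBase.etaleLocalRing (η ≫ f))) := lS
  haveI : Hensel.IsStrictHenselization A (EtBase.etaleLocalRing (η ≫ f)) := sS
  letI : Algebra B (EtBase.etaleLocalRing η) := aX
  haveI : IsLocalHom (algebraMap B (EtBase.etaleLocalRing η)) := lX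
  haveI : Hensel.IsStrictHenselization B (EtBase.etaleLocalRing η) := sX
  letI : Algebra (EtBase.etaleLocalRing (η ≫ f)) (EtBase.etaleLocalRing η) := (funct f η).hom.toAlgebra
  letI : Algebra A B := (f.stalkMap (η.base default)).hom.toAlgebra
  letI : Algebra A (EtBase.etaleLocalRing η) :=
    ((funct f η).hom.comp (algebraMap A (EtBase.etaleLocalRing (η ≫ f)))).toAlgebra
  haveI : IsScalarTower A (EtBase.etaleLocalRing (η ≫ f)) (EtBase.etaleLocalRing η) :=
    IsScalarTower.of_algebraMap_eq' rfl
  haveI : IsScalarTower A B (EtBase.etaleLocalRing η) :=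
    IsScalarTower.of_algebraMap_eq' (funct_comp_algebraMap f η aS aX hS hX)
  haveI : Module.Flat A B := Flat.stalkMap f (η.base default)
  haveI := Henselian.StrictHenselization.flat B (EtBase.etaleLocalRing η)
  haveI : Module.Flat A (EtBase.etaleLocalRing η) := Module.Flat.trans A B _
  have h : EtPBC.IsIndEtale A (EtBase.etaleLocalRing (η ≫ f)) :=
    IndEtale.Basic.of_algEquiv Henselian.IndEtale.isIndEtale_lim
      (Henselian.StrictHenselization.equivOfIsStrictHenselization A _)
  haveI := IndEtale.Basic.weaklyEtale h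
  exact WeaklyEt.Flat.flat_of_flat_base (A := A) (EtBase.etaleLocalRing η)

theorem flat_specMap_funct [Flat f] : Flat (Spec.map (funct f η)) :=
  (HasRingHomProperty.Spec_iff (P := @Flat)).2 (flat_funct f η)

end Groth.Agent.Lib.EtSite.LocFlat
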