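import Groth.Agent.Lib.EtLim50.Nbhds
import Groth.Agent.Lib.EtSite.PushStalk
import Groth.Agent.Lib.AlgSpStalk.EtLocalRing
import Groth.Prelude.Def_Hens2

/-!
Strictly local schemes of geometric points: the maps to the base and between each other, and the
identification with strict henselizations compatible with these maps.
-/

set_option autoImplicit false
set_option backward.isDefEq.respectTransparency false

universe u

open CategoryTheory CategoryTheory.Limits AlgebraicGeometry Opposite

noncomputable section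

namespace Groth.Agent.Lib.EtSite.LocMap

open Groth.Agent.Lib.EtSite.Basic Groth.Agent.Lib.EtSite.LocalRing Groth.Agent.Lib.EtLim50
  Groth.Agent.Lib.EtSite.PushStalk

variable {Y : Scheme.{u}} {Ω : Type u} [Field Ω] [IsSepClosed Ω]

section base

variable (η : Spec (CommRingCat.of Ω) ⟶ Y)

/-- A fixed affine neighbourhood. -/
def idx₀ : Nbhds.Idx Y η := Classical.choice IsCofiltered.nonempty

/-- The map of the strictly local scheme to the base. -/
def toBase : Nbhds.S Y η ⟶ Y :=
  (Nbhds.cone Y η).π.app (idx₀ η) ≫ ((Nbhds.nbhd Y η).obj (idx₀ η)).hom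

theorem π_comp_hom (a : Nbhds.Idx Y η) :
    (Nbhds.cone Y η).π.app a ≫ ((Nbhds.nbhd Y η).obj a).hom = toBase η := by
  have key : ∀ {c b : Nbhds.Idx Y η} (φ : c ⟶ b),
      (Nbhds.cone Y η).π.app c ≫ ((Nbhds.nbhd Y η).obj c).hom =
        (Nbhds.cone Y η).π.app b ≫ ((Nbhds.nbhd Y η).obj b).hom := fun φ => by
    rw [← (Nbhds.cone Y η).w φ, Category.assoc]
    exact _ ≫= (Over.w ((Nbhds.nbhd Y η).map φ).hom).symm
  exact (key (IsCofiltered.minToLeft a (idx₀ η))).symm.trans (key (IsCofiltered.minToRight a (idx₀ η)))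

/-- The leg at an affine neighbourhood. -/
theorem leg_eq {U : Y.Etale} [IsAffine U.left] {p : (Scheme.pointSmallEtale η).fiber.obj U}
    {a : Nbhds.Idx Y η} (φ : (Nbhds.incl Y η).obj a ⟶ (Scheme.pointSmallEtale η).fiber.elementsMk U p) :
    (Nbhds.cone Y η).π.app a ≫ φ.1.left = Spec.map (germ η U p) ≫ U.left.isoSpec.inv := by
  have hφ : (Scheme.pointSmallEtale η).fiber.map φ.1 a.2 = p := φ.2
  rw [Nbhds.cone_π, Category.assoc]
  have hn : ((Nbhds.diag Y η).obj a).isoSpec.inv ≫ φ.1.left =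
      Spec.map φ.1.left.appTop ≫ U.left.isoSpec.inv :=
    haveI : IsAffine ((Nbhds.incl Y η).obj a).fst.left := Nbhds.isAffine_nbhd Y η a
    (Scheme.isoSpec_inv_naturality φ.1.left).symm
  refine (_ ≫= hn).trans ?_
  rw [← Category.assoc, ← Spec.map_comp]
  refine congrArg (fun m => Spec.map m ≫ U.left.isoSpec.inv) ?_
  exact (res_germ η φ.1 a.2).trans (congrArg (germ η U) hφ)

theorem toBase_eq {U : Y.Etale} [IsAffine U.left] (p : (Scheme.pointSmallEtale η).fiber.obj U) :
    Spec.map (germ η U p) ≫ U.left.isoSpec.inv ≫ U.hom = toBase η := by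
  obtain ⟨a, ⟨φ⟩⟩ := Nbhds.exists_hom Y η ((Scheme.pointSmallEtale η).fiber.elementsMk U p)
  rw [← Category.assoc, ← leg_eq η φ, Category.assoc]
  exact (_ ≫= Over.w φ.1.hom).trans (π_comp_hom η a)

/-- The geometric point of the strictly local scheme. -/
def point : Spec (CommRingCat.of Ω) ⟶ Nbhds.S Y η := Spec.map (ev η)

theorem point_π (a : Nbhds.Idx Y η) : point η ≫ (Nbhds.cone Y η).π.app a = fiberHom a.2 := by
  rw [Nbhds.cone_π, point, ← Category.assoc, ← Spec.map_comp]
  have h : germ η ((Nbhds.nbhd Y η).obj a) a.2 ≫ ev η = evApp η _ a.2 := germ_ev η _ _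
  rw [h, evApp, Spec.map_comp, Category.assoc]
  refine (_ ≫= (Scheme.isoSpec_inv_naturality _).trans rfl).trans ?_
  rw [Scheme.isoSpec_Spec_inv, ← Category.assoc, ← Spec.map_comp, Iso.inv_hom_id, Spec.map_id,
    Category.id_comp]

theorem point_toBase : point η ≫ toBase η = η := by
  rw [← π_comp_hom η (idx₀ η), ← Category.assoc, point_π]
  exact fiberHom_comp _

theorem point_default : (point η).base default = IsLocalRing.closedPoint (EtBase.etaleLocalRing η) := by
  have : IsLocalHom (ev η).hom := AlgSpStalk.EtLocalRing.isLocalHom_ev η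
  exact (congrArg (point η).base (Subsingleton.elim _ _)).trans (Spec_closedPoint (f := ev η))

theorem toBase_closedPoint :
    (toBase η).base (IsLocalRing.closedPoint (EtBase.etaleLocalRing η)) = η.base default := by
  rw [← point_default, ← Scheme.Hom.comp_apply, point_toBase]

end base

section funct

variable {Y' : Scheme.{u}} (g : Y' ⟶ Y) (η : Spec (CommRingCat.of Ω) ⟶ Y')

/-- Functoriality of the etale local ring. -/
def funct : EtBase.etaleLocalRing (η ≫ g) ⟶ EtBase.etaleLocalRing η :=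
  (Scheme.pointSmallEtale (η ≫ g)).presheafFiberDesc (P := EtBase.OO Y)
    (fun U p => Scheme.Hom.appTop (X := ((EtCoh.bc g).obj U).left) (pullback.fst U.hom g) ≫
      germ η ((EtCoh.bc g).obj U) (liftPt g rfl U p))
    (fun U V a p => by
      change a.left.appTop ≫ _ = _
      have h1 := (EtCoh.isPullback_bc_map g a).w
      rw [← Category.assoc, ← Scheme.Hom.comp_appTop]
      refine (congrArg (fun m => Scheme.Hom.appTop m ≫ germ η _ (liftPt g rfl _ p)) h1.symm).trans ?_
      rw [Scheme.Hom.comp_appTop, Category.assoc]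
      refine _ ≫= ?_
      refine (res_germ η ((EtCoh.bc g).map a) (liftPt g rfl _ p)).trans ?_
      exact congrArg (germ η _) (map_liftPt g rfl a p))

theorem germ_funct (U : Y.Etale) (p : (Scheme.pointSmallEtale (η ≫ g)).fiber.obj U) :
    germ (η ≫ g) U p ≫ funct g η =
      Scheme.Hom.appTop (X := ((EtCoh.bc g).obj U).left) (pullback.fst U.hom g) ≫
        germ η ((EtCoh.bc g).obj U) (liftPt g rfl U p) :=
  (Scheme.pointSmallEtale (η ≫ g)).toPresheafFiber_presheafFiberDesc (P := EtBase.OO Y) _ _ U p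

/-- Compatibility of the legs. -/
theorem funct_π {a : Nbhds.Idx Y (η ≫ g)} {b : Nbhds.Idx Y' η}
    (φ : (Nbhds.incl Y' η).obj b ⟶ (Scheme.pointSmallEtale η).fiber.elementsMk
      ((EtCoh.bc g).obj ((Nbhds.nbhd Y (η ≫ g)).obj a)) (liftPt g rfl _ a.2)) :
    Spec.map (funct g η) ≫ (Nbhds.cone Y (η ≫ g)).π.app a =
      (Nbhds.cone Y' η).π.app b ≫ φ.1.left ≫ pullback.fst ((Nbhds.nbhd Y (η ≫ g)).obj a).hom g := by
  have hφ : (Scheme.pointSmallEtale η).fiber.map φ.1 b.2 = liftPt g rfl _ a.2 := φ.2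
  rw [Nbhds.cone_π, Nbhds.cone_π, ← Category.assoc, ← Spec.map_comp, Category.assoc]
  haveI : IsAffine ((Nbhds.incl Y' η).obj b).fst.left := Nbhds.isAffine_nbhd Y' η b
  haveI : IsAffine ((𝟭 Scheme).obj ((Nbhds.nbhd Y (η ≫ g)).obj a).left) := Nbhds.isAffine_nbhd Y (η ≫ g) a
  refine Eq.trans ?_ (_ ≫= (Scheme.isoSpec_inv_naturality
    (φ.1.left ≫ pullback.fst ((Nbhds.nbhd Y (η ≫ g)).obj a).hom g)))
  rw [← Category.assoc, ← Spec.map_comp]
  refine congrArg (fun m => Spec.map m ≫ ((Nbhds.diag Y (η ≫ g)).obj a).isoSpec.inv) ?_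
  refine (germ_funct g η _ _).trans ?_
  rw [Scheme.Hom.comp_appTop, Category.assoc]
  exact _ ≫= ((congrArg (germ η _) hφ.symm).trans (res_germ η φ.1 b.2).symm)

theorem funct_toBase : Spec.map (funct g η) ≫ toBase (η ≫ g) = toBase η ≫ g := by
  let a := idx₀ (η ≫ g)
  obtain ⟨b, ⟨φ⟩⟩ := Nbhds.exists_hom Y' η ((Scheme.pointSmallEtale η).fiber.elementsMk
    ((EtCoh.bc g).obj ((Nbhds.nbhd Y (η ≫ g)).obj a)) (liftPt g rfl _ a.2))
  rw [← π_comp_hom (η ≫ g) a, ← Category.assoc, funct_π g η φ, ← π_comp_hom η b]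
  simp only [Category.assoc]
  refine _ ≫= ?_
  rw [pullback.condition]
  exact (Category.assoc _ _ _).symm.trans (eq_whisker (Over.w φ.1.hom) g)

theorem funct_ev : funct g η ≫ ev η = ev (η ≫ g) := by
  refine (Scheme.pointSmallEtale (η ≫ g)).presheafFiber_hom_ext (P := EtBase.OO Y) fun U p => ?_
  refine (Category.assoc _ _ _).symm.trans ?_
  change (germ (η ≫ g) U p ≫ funct g η) ≫ ev η = germ (η ≫ g) U p ≫ ev (η ≫ g)
  rw [germ_funct, Category.assoc, germ_ev, germ_ev, evApp, evApp, ← Category.assoc,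
    ← Scheme.Hom.comp_appTop]
  exact congrArg (fun m => Scheme.Hom.appTop m ≫ _) (pullback.lift_fst _ _ _)

instance isLocalHom_funct : IsLocalHom (funct g η).hom := by
  refine ⟨fun z hz => isUnit_of_ev_ne_zero (η ≫ g) z ?_⟩
  rw [← funct_ev g η]
  exact (hz.map (ev η).hom).ne_zero

end funct

section strict

open AlgSpStalk.EtLocalRing Groth.Agent.Lib.Henselian.Pointed Groth.Agent.Lib.Henselian.Etale

variable (ξ : Spec (CommRingCat.of Ω) ⟶ Y)

/-- The etale local ring is a strict henselization, compatibly with the map to the base. -/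
theorem exists_algebra :
    ∃ (_ : Algebra (Y.presheaf.stalk (ξ.base default)) (EtBase.etaleLocalRing ξ))
      (_ : IsLocalHom (algebraMap (Y.presheaf.stalk (ξ.base default)) (EtBase.etaleLocalRing ξ))),
      Hens2.specOf Y (ξ.base default) (EtBase.etaleLocalRing ξ) = toBase ξ ∧
      Hensel.IsStrictHenselization (Y.presheaf.stalk (ξ.base default))
        (EtBase.etaleLocalRing ξ) := by
  obtain ⟨W, hW, hx⟩ := exists_chart ξ
  obtain ⟨a, ha⟩ := exists_point ξ hW hx
  letI : Algebra Γ(Y, W) (EtBase.etaleLocalRing ξ) := (algA hW ha).hom.toAlgebra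
  have hm := mem_map_of_ev_eq_zero hW ha
  obtain ⟨e, he⟩ := exists_equiv_lim hW ha
  have hev : ∀ r, (ev ξ).hom (algebraMap Γ(Y, W) (EtBase.etaleLocalRing ξ) r) = a.hom r := fun r =>
    algA_ev hW ha r
  let R := Y.presheaf.stalk (ξ.base default)
  letI : Algebra Γ(Y, W) R := Y.presheaf.algebra_section_stalk ⟨_, hx⟩
  have : IsLocalization.AtPrime R (hW.primeIdealOf ⟨_, hx⟩).asIdeal :=
    hW.isLocalization_stalk ⟨_, hx⟩
  have hp : (hW.primeIdealOf ⟨_, hx⟩).asIdeal = RingHom.ker a.hom := by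
    have h1 : hW.fromSpec.base ((Spec.map a).base default) =
        hW.fromSpec.base (hW.primeIdealOf ⟨_, hx⟩) := by
      rw [hW.fromSpec_primeIdealOf, ← Scheme.Hom.comp_apply, ha]
    rw [← hW.fromSpec.isOpenEmbedding.injective h1,
      show (default : Spec (CommRingCat.of Ω)) = (⊥ : PrimeSpectrum Ω) from Subsingleton.elim _ _]
    rfl
  have hu : ∀ y : (hW.primeIdealOf ⟨_, hx⟩).asIdeal.primeCompl,
      IsUnit (algebraMap Γ(Y, W) (EtBase.etaleLocalRing ξ) y) := fun y => by
    refine isUnit_of_ev_ne_zero ξ _ ?_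
    rw [hev]
    intro h0
    exact y.2 ((SetLike.ext_iff.mp hp _).mpr h0)
  letI : Algebra R (EtBase.etaleLocalRing ξ) := (IsLocalization.lift (S := R) hu).toAlgebra
  have : IsScalarTower Γ(Y, W) R (EtBase.etaleLocalRing ξ) :=
    IsScalarTower.of_algebraMap_eq' (IsLocalization.lift_comp hu).symm
  have hmap : (IsLocalRing.maximalIdeal R).map (algebraMap R (EtBase.etaleLocalRing ξ)) = IsLocalRing.maximalIdeal (EtBase.etaleLocalRing ξ) := by
    rw [← IsLocalization.AtPrime.map_eq_maximalIdeal (hW.primeIdealOf ⟨_, hx⟩).asIdeal R,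
      Ideal.map_map, ← IsScalarTower.algebraMap_eq, hp, hm]
  have hloc : IsLocalHom (algebraMap R (EtBase.etaleLocalRing ξ)) :=
    ((IsLocalRing.local_hom_TFAE (algebraMap R (EtBase.etaleLocalRing ξ))).out 2 0).mp hmap.le
  refine ⟨inferInstance, hloc, ?_, ?_⟩
  · have hU : IsAffine (nbhd hW (𝟙 Γ(Y, W)) (RingHom.Etale.of_bijective Function.bijective_id)).left :=
      inferInstanceAs (IsAffine (Spec _))
    refine Eq.trans ?_ (toBase_eq ξ (pt hW ha (𝟙 _) (RingHom.Etale.of_bijective Function.bijective_id) a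
      (Category.id_comp a)))
    change Spec.map (CommRingCat.ofHom (algebraMap R (EtBase.etaleLocalRing ξ))) ≫ Y.fromSpecStalk _ =
      Spec.map _ ≫ (Spec _).isoSpec.inv ≫ Spec.map (𝟙 _) ≫ hW.fromSpec
    rw [← hW.fromSpecStalk_eq_fromSpecStalk hx, IsAffineOpen.fromSpecStalk, Scheme.isoSpec_Spec_inv,
      ← Spec.map_comp_assoc, ← Spec.map_comp_assoc, ← Spec.map_comp_assoc, Category.id_comp]
    refine congrArg (fun m => Spec.map m ≫ hW.fromSpec) (CommRingCat.hom_ext ?_)
    exact (IsScalarTower.algebraMap_eq Γ(Y, W) R (EtBase.etaleLocalRing ξ)).symm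
  ·
    have : IsLocalHom (algebraMap R (EtBase.etaleLocalRing ξ)) := hloc
    refine
      { henselian := (isStrictlyHenselianLocalRing ξ).1
        isSepClosure := ⟨isSepClosed_residueField ξ, ⟨fun x => ?_⟩⟩
        universal := fun T' _ _ f _ τ hτ => ?_ }
    · obtain ⟨z, rfl⟩ := IsLocalRing.residue_surjective x
      obtain ⟨B, σ, hσ, ω, hω, b, rfl⟩ := exists_germA hW ha z
      refine isSeparable_residue hW ha σ hσ ω hω
        ((IsLocalRing.residue R).comp (algebraMap Γ(Y, W) R)) (fun r hr => ?_) (fun r => ?_) b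
      · change IsLocalRing.residue R (algebraMap Γ(Y, W) R r) = 0
        rw [IsLocalRing.residue_eq_zero_iff,
          IsLocalization.AtPrime.to_map_mem_maximal_iff R (hW.primeIdealOf ⟨_, hx⟩).asIdeal, hp]
        exact hr
      · change IsLocalRing.residue _ (algebraMap R (EtBase.etaleLocalRing ξ)
          (algebraMap Γ(Y, W) R r)) = _
        rw [← IsScalarTower.algebraMap_apply Γ(Y, W) R (EtBase.etaleLocalRing ξ)]
        rfl
    · letI : Algebra Γ(Y, W) T' := (f.comp (algebraMap Γ(Y, W) R)).toAlgebra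
      let θ : (EtBase.etaleLocalRing ξ) ⧸ IsLocalRing.maximalIdeal (EtBase.etaleLocalRing ξ)
          →ₐ[Γ(Y, W)] T' ⧸ IsLocalRing.maximalIdeal T' :=
        { (show (EtBase.etaleLocalRing ξ) ⧸ IsLocalRing.maximalIdeal (EtBase.etaleLocalRing ξ) →+*
            T' ⧸ IsLocalRing.maximalIdeal T' from τ) with
          commutes' := fun r => by
            change τ (IsLocalRing.residue _ (algebraMap Γ(Y, W) (EtBase.etaleLocalRing ξ) r)) = _
            rw [IsScalarTower.algebraMap_apply Γ(Y, W) R (EtBase.etaleLocalRing ξ)]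
            exact RingHom.congr_fun hτ (IsLocalRing.residue R (algebraMap Γ(Y, W) R r)) }
      obtain ⟨g, hg, huniq⟩ := Lim.existsUnique_lift (IsLocalRing.maximalIdeal T') θ
      refine ⟨(g.comp e.symm.toAlgHom).toRingHom, ⟨?_, fun z => ?_⟩, fun g' hg' => ?_⟩
      · refine IsLocalization.ringHom_ext (hW.primeIdealOf ⟨_, hx⟩).asIdeal.primeCompl ?_
        rw [RingHom.comp_assoc, ← IsScalarTower.algebraMap_eq]
        exact (g.comp e.symm.toAlgHom).comp_algebraMap
      · refine (AlgHom.congr_fun hg (e.symm z)).trans ?_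
        exact congrArg θ ((he (e.symm z)).symm.trans
          (congrArg (Ideal.Quotient.mk _) (e.apply_symm_apply z)))
      · let g'' : (EtBase.etaleLocalRing ξ) →ₐ[Γ(Y, W)] T' :=
          { g' with
            commutes' := fun r => by
              change g' (algebraMap Γ(Y, W) (EtBase.etaleLocalRing ξ) r) = _
              rw [IsScalarTower.algebraMap_apply Γ(Y, W) R (EtBase.etaleLocalRing ξ)]
              exact RingHom.congr_fun hg'.1 (algebraMap Γ(Y, W) R r) }
        have h3 : g''.comp e.toAlgHom = g := huniq _ (AlgHom.ext fun w => by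
          exact (hg'.2 (e w)).trans (congrArg θ (he w)))
        refine RingHom.ext fun z => ?_
        change g' z = g (e.symm z)
        rw [← h3]
        exact congrArg g' (e.apply_symm_apply z).symm

end strict

end Groth.Agent.Lib.EtSite.LocMap
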