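import Groth.Agent.Lib.EtSite.LocMap
import Groth.Agent.Lib.EtLim50.Sections
import Mathlib.CategoryTheory.Limits.Shapes.Pullback.Connected

/-!
Sections over the base change to a strictly local scheme are germs of sections.
-/

set_option autoImplicit false
set_option backward.isDefEq.respectTransparency false

universe u

open CategoryTheory CategoryTheory.Limits AlgebraicGeometry Opposite

noncomputable section

namespace Groth.Agent.Lib.EtSite.LocSect

open Groth.Agent.Lib.EtSite.Basic Groth.Agent.Lib.EtLim50 Groth.Agent.Lib.EtSite.LocMap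

variable {X Y : Scheme.{u}} (f : X ⟶ Y) {Ω : Type u} [Field Ω] [IsSepClosed Ω]
  (η : Spec (CommRingCat.of Ω) ⟶ Y)

/-- The base change of the affine neighbourhoods. -/
abbrev W : Nbhds.Idx Y η ⥤ X.Etale := Nbhds.nbhd Y η ⋙ EtCoh.bc f

/-- The base change to the strictly local scheme. -/
abbrev P : Scheme.{u} := pullback f (toBase η)

/-- The base change as a cone over the base changes of the neighbourhoods. -/
def c : Cone (Sections.diag (W f η)) where
  pt := P f η
  π :=
    { app := fun a => pullback.lift (pullback.snd f (toBase η) ≫ (Nbhds.cone Y η).π.app a)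
        (pullback.fst f (toBase η)) (by rw [Category.assoc, π_comp_hom, pullback.condition])
      naturality := fun a b φ => by
        refine (Category.id_comp _).trans ?_
        apply pullback.hom_ext
        · refine (pullback.lift_fst _ _ _).trans (Eq.symm ?_)
          refine (Category.assoc _ _ _).trans ((_ ≫= (EtCoh.isPullback_bc_map f ((Nbhds.nbhd Y η).map φ)).w).trans ?_)
          refine (Category.assoc _ _ _).symm.trans ((eq_whisker (pullback.lift_fst _ _ _) _).trans ?_)
          exact (Category.assoc _ _ _).trans (_ ≫= (Nbhds.cone Y η).w φ)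
        · refine (pullback.lift_snd _ _ _).trans (Eq.symm ?_)
          refine (Category.assoc _ _ _).trans ((_ ≫= Over.w ((W f η).map φ).hom).trans ?_)
          exact pullback.lift_snd _ _ _ }

/-- The projection to `X`. -/
def q : (c f η).pt ⟶ X := pullback.fst f (toBase η)

theorem hq (a : Nbhds.Idx Y η) : (c f η).π.app a ≫ ((W f η).obj a).hom = q f η :=
  pullback.lift_snd _ _ _

/-- It is a limit cone. -/
def isLimit : IsLimit (c f η) :=
  haveI : IsConnected (Nbhds.Idx Y η) := IsCofiltered.isConnected _
  isLimitOfIsPullbackOfIsConnected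
    ({ app := fun a => pullback.fst ((Nbhds.nbhd Y η).obj a).hom f
       naturality := fun _ _ φ => (EtCoh.isPullback_bc_map f ((Nbhds.nbhd Y η).map φ)).w } :
      Sections.diag (W f η) ⟶ Nbhds.diag Y η)
    (c f η) (Nbhds.cone Y η)
    { hom := pullback.snd f (toBase η)
      w := fun a => (pullback.lift_fst _ _ _).symm }
    (fun a => by
      refine IsPullback.of_right ?_ (pullback.lift_fst _ _ _)
        (IsPullback.of_hasPullback ((Nbhds.nbhd Y η).obj a).hom f).flip
      rw [π_comp_hom]
      change IsPullback ((c f η).π.app a ≫ pullback.snd _ f) _ _ _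
      rw [show (c f η).π.app a ≫ pullback.snd ((Nbhds.nbhd Y η).obj a).hom f = pullback.fst f (toBase η)
        from pullback.lift_snd _ _ _]
      exact IsPullback.of_hasPullback f (toBase η))
    (Nbhds.isLimitCone Y η)

instance isAffineHom_map {a b : Nbhds.Idx Y η} (φ : a ⟶ b) :
    IsAffineHom ((Sections.diag (W f η)).map φ) :=
  MorphismProperty.of_isPullback (P := @IsAffineHom) (EtCoh.isPullback_bc_map f ((Nbhds.nbhd Y η).map φ)).flip
    (Nbhds.isAffineHom_diag Y η φ)

theorem compact [QuasiCompact f] (a : Nbhds.Idx Y η) : CompactSpace ((W f η).obj a).left := by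
  haveI : IsAffine ((Nbhds.nbhd Y η).obj a).left := Nbhds.isAffine_nbhd Y η a
  haveI : QuasiCompact (pullback.fst ((Nbhds.nbhd Y η).obj a).hom f) :=
    MorphismProperty.pullback_fst _ _ ‹QuasiCompact f›
  haveI : CompactSpace ((𝟭 Scheme).obj ((Nbhds.nbhd Y η).obj a).left) :=
    inferInstanceAs (CompactSpace ((Nbhds.nbhd Y η).obj a).left)
  exact QuasiCompact.compactSpace_of_compactSpace (pullback.fst ((Nbhds.nbhd Y η).obj a).hom f)

theorem quasiSeparated [QuasiSeparated f] (a : Nbhds.Idx Y η) :
    QuasiSeparatedSpace ((W f η).obj a).left := by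
  haveI : IsAffine ((Nbhds.nbhd Y η).obj a).left := Nbhds.isAffine_nbhd Y η a
  haveI : QuasiSeparated (pullback.fst ((Nbhds.nbhd Y η).obj a).hom f) :=
    MorphismProperty.pullback_fst _ _ ‹QuasiSeparated f›
  haveI : QuasiSeparatedSpace ((𝟭 Scheme).obj ((Nbhds.nbhd Y η).obj a).left) :=
    inferInstanceAs (QuasiSeparatedSpace ((Nbhds.nbhd Y η).obj a).left)
  exact quasiSeparatedSpace_of_quasiSeparated (pullback.fst ((Nbhds.nbhd Y η).obj a).hom f)

variable [QuasiCompact f] [QuasiSeparated f] (F : EtCoh.Ab X)

/-- Every section comes from a neighbourhood. -/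
theorem exists_res_eq (t : EtCoh.sect ((EtCoh.pull (q f η)).obj F) (EtCoh.top (c f η).pt)) :
    ∃ (a : Nbhds.Idx Y η) (s : EtCoh.sect F ((W f η).obj a)),
      Sections.res (q f η) (hq f η) F a s = t :=
  @Sections.exists_res_eq X (Nbhds.Idx Y η) _ (W f η) (c f η) (q f η) (hq f η) F
    inferInstance (fun {_ _} φ => isAffineHom_map f η φ) (compact f η) (quasiSeparated f η) (isLimit f η) t (idx₀ η)

/-- Sections agreeing on the strictly local scheme agree on a neighbourhood. -/
theorem exists_eq_of_res_eq {a : Nbhds.Idx Y η} (s s' : EtCoh.sect F ((W f η).obj a))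
    (h : Sections.res (q f η) (hq f η) F a s =
      Sections.res (q f η) (hq f η) F a s') :
    ∃ (b : Nbhds.Idx Y η) (φ : b ⟶ a), F.obj.map ((W f η).map φ).op s = F.obj.map ((W f η).map φ).op s' :=
  @Sections.exists_eq_of_res_eq X (Nbhds.Idx Y η) _ (W f η) (c f η) (q f η) (hq f η) F
    inferInstance (fun {_ _} φ => isAffineHom_map f η φ) (compact f η) (isLimit f η) a s s' h

end Groth.Agent.Lib.EtSite.LocSect
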