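import Groth.Agent.Lib.EtSite.LocSect
import Groth.Agent.Lib.EtGerm.Compare

/-!
Stalks of a direct image as germ functions on the base change to the strictly local scheme.
-/

set_option autoImplicit false
set_option backward.isDefEq.respectTransparency false

universe u

open CategoryTheory CategoryTheory.Limits AlgebraicGeometry Opposite

noncomputable section

namespace Groth.Agent.Lib.EtSite.LocVal

open Groth.Agent.Lib.EtSite.Basic Groth.Agent.Lib.EtLim50 Groth.Agent.Lib.EtSite.LocSect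
open Groth.Agent.Lib.EtGerm Groth.Agent.Lib.EtGerm.Basic

variable {X Y : Scheme.{u}} (f : X ⟶ Y) {Ω : Type u} [Field Ω] [IsSepClosed Ω]
  (η : Spec (CommRingCat.of Ω) ⟶ Y) (F : EtCoh.Ab X)

/-- The value at a geometric point of the base change of a section on a stage. -/
def val (a : Nbhds.Idx Y η) (s : EtCoh.sect F ((W f η).obj a)) {Ω' : Type u} [Field Ω']
    [IsSepClosed Ω'] (ζ : Spec (CommRingCat.of Ω') ⟶ (c f η).pt) : Stk F (ζ ≫ q f η) :=
  germ F (ζ ≫ q f η) ((W f η).obj a) (Sections.pj (q f η) (hq f η) ζ a) s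

theorem val_map {a b : Nbhds.Idx Y η} (φ : b ⟶ a) (s : EtCoh.sect F ((W f η).obj a)) {Ω' : Type u}
    [Field Ω'] [IsSepClosed Ω'] (ζ : Spec (CommRingCat.of Ω') ⟶ (c f η).pt) :
    val f η F b (F.obj.map ((W f η).map φ).op s) ζ = val f η F a s ζ :=
  (germ_map F _ _ _ _).trans (congrArg (fun r => germ F (ζ ≫ q f η) _ r s)
    (Sections.map_pj (q f η) (hq f η) ζ φ))

theorem res_eq_of_val {a : Nbhds.Idx Y η} (s s' : EtCoh.sect F ((W f η).obj a))
    (h : ∀ (Ω' : Type u) [Field Ω'] [IsSepClosed Ω'] (ζ : Spec (CommRingCat.of Ω') ⟶ (c f η).pt),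
      val f η F a s ζ = val f η F a s' ζ) :
    Sections.res (q f η) (hq f η) F a s = Sections.res (q f η) (hq f η) F a s' :=
  Sections.ext_of_germ fun Ω' _ _ ζ => by
    rw [Sections.germ_res, Sections.germ_res]
    exact congrArg _ (h Ω' ζ)

theorem germ_stage_map {a b : Nbhds.Idx Y η} (φ : b ⟶ a) (s : EtCoh.sect F ((W f η).obj a)) :
    germ ((EtCoh.push f).obj F) η ((Nbhds.nbhd Y η).obj b) b.2 (F.obj.map ((W f η).map φ).op s) =
      germ ((EtCoh.push f).obj F) η ((Nbhds.nbhd Y η).obj a) a.2 s :=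
  (germ_map ((EtCoh.push f).obj F) η ((Nbhds.nbhd Y η).map φ) b.2 s).trans
    (congrArg (fun r => germ ((EtCoh.push f).obj F) η _ r s) ((Nbhds.incl Y η).map φ).2)

/-- Every germ comes from an affine neighbourhood. -/
theorem exists_stage (z : Stk ((EtCoh.push f).obj F) η) :
    ∃ (a : Nbhds.Idx Y η) (s : EtCoh.sect F ((W f η).obj a)),
      germ ((EtCoh.push f).obj F) η ((Nbhds.nbhd Y η).obj a) a.2 s = z := by
  obtain ⟨V, p, s, rfl⟩ := exists_germ _ z
  obtain ⟨a, ⟨α⟩⟩ := Nbhds.exists_hom Y η ⟨V, p⟩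
  exact ⟨a, ((EtCoh.push f).obj F).obj.map α.1.op s,
    (germ_map ((EtCoh.push f).obj F) η α.1 a.2 s).trans
      (congrArg (fun r => germ ((EtCoh.push f).obj F) η V r s) α.2)⟩

theorem val_eq_of_germ_eq {a : Nbhds.Idx Y η} (s s' : EtCoh.sect F ((W f η).obj a))
    (h : germ ((EtCoh.push f).obj F) η ((Nbhds.nbhd Y η).obj a) a.2 s =
      germ ((EtCoh.push f).obj F) η ((Nbhds.nbhd Y η).obj a) a.2 s') {Ω' : Type u} [Field Ω']
    [IsSepClosed Ω'] (ζ : Spec (CommRingCat.of Ω') ⟶ (c f η).pt) :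
    val f η F a s ζ = val f η F a s' ζ := by
  obtain ⟨U, g, r, hr, e⟩ :=
    ((Scheme.pointSmallEtale η).toPresheafFiber_eq_iff' (P := ((EtCoh.push f).obj F).obj) ((Nbhds.nbhd Y η).obj a) a.2 s s').1 h
  obtain ⟨b, ⟨β⟩⟩ := Nbhds.exists_hom Y η ⟨U, r⟩
  let φ : b ⟶ a := (Nbhds.incl Y η).preimage (X := b) (Y := a) (β ≫ CategoryOfElements.homMk _ _ g hr)
  have hφ : (Nbhds.nbhd Y η).map φ = β.1 ≫ g :=
    congrArg (fun m : (Nbhds.incl Y η).obj b ⟶ (Nbhds.incl Y η).obj a => m.1)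
      ((Nbhds.incl Y η).map_preimage (β ≫ CategoryOfElements.homMk _ _ g hr))
  rw [← val_map f η F φ s, ← val_map f η F φ s']
  refine congrArg (fun t => val f η F b t ζ) ?_
  change ((EtCoh.push f).obj F).obj.map ((Nbhds.nbhd Y η).map φ).op s =
    ((EtCoh.push f).obj F).obj.map ((Nbhds.nbhd Y η).map φ).op s'
  rw [hφ, op_comp, Functor.map_comp, ConcreteCategory.comp_apply, ConcreteCategory.comp_apply]
  exact congrArg _ e

variable [QuasiCompact f] [QuasiSeparated f]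

/-- Germs with the same values on the base change are equal. -/
theorem germ_eq_of_val {a a' : Nbhds.Idx Y η} (s : EtCoh.sect F ((W f η).obj a))
    (s' : EtCoh.sect F ((W f η).obj a'))
    (h : ∀ (Ω' : Type u) [Field Ω'] [IsSepClosed Ω'] (ζ : Spec (CommRingCat.of Ω') ⟶ (c f η).pt),
      val f η F a s ζ = val f η F a' s' ζ) :
    germ ((EtCoh.push f).obj F) η ((Nbhds.nbhd Y η).obj a) a.2 s =
      germ ((EtCoh.push f).obj F) η ((Nbhds.nbhd Y η).obj a') a'.2 s' := by
  obtain ⟨k, φ, hk⟩ := exists_eq_of_res_eq f η F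
    (F.obj.map ((W f η).map (IsCofiltered.minToLeft a a')).op s)
    (F.obj.map ((W f η).map (IsCofiltered.minToRight a a')).op s')
    (res_eq_of_val f η F _ _ fun Ω' _ _ ζ => by rw [val_map, val_map]; exact h Ω' ζ)
  rw [← germ_stage_map f η F (IsCofiltered.minToLeft a a') s,
    ← germ_stage_map f η F (IsCofiltered.minToRight a a') s', ← germ_stage_map f η F φ _, hk,
    germ_stage_map]

/-- Locally representable germ functions are given by a stage. -/
theorem exists_of_sect (σ : sect F (Over.mk (q f η))) :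
    ∃ (a : Nbhds.Idx Y η) (s : EtCoh.sect F ((W f η).obj a)), ∀ (Ω' : Type u) [Field Ω']
      [IsSepClosed Ω'] (ζ : Spec (CommRingCat.of Ω') ⟶ (c f η).pt),
      σ.1 ⟨Ω', ζ ≫ q f η, ζ, rfl⟩ = val f η F a s ζ := by
  obtain ⟨t, rfl⟩ := (Compare.equiv F (Over.mk (q f η))).surjective σ
  obtain ⟨a, s, rfl⟩ := exists_res_eq f η F t
  exact ⟨a, s, fun Ω' _ _ ζ => (AddEquiv.symm_apply_eq _).2
    (Sections.germ_res (q f η) (hq f η) F ζ a s)⟩

/-- The germ functions of a section on a stage. -/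
def toSect (a : Nbhds.Idx Y η) (s : EtCoh.sect F ((W f η).obj a)) : sect F (Over.mk (q f η)) :=
  Compare.equiv F (Over.mk (q f η)) (Sections.res (q f η) (hq f η) F a s)

omit [QuasiCompact f] [QuasiSeparated f] in
theorem toSect_apply (a : Nbhds.Idx Y η) (s : EtCoh.sect F ((W f η).obj a)) {Ω' : Type u}
    [Field Ω'] [IsSepClosed Ω'] (ζ : Spec (CommRingCat.of Ω') ⟶ (c f η).pt) :
    (toSect f η F a s).1 ⟨Ω', ζ ≫ q f η, ζ, rfl⟩ = val f η F a s ζ :=
  (AddEquiv.symm_apply_eq _).2 (Sections.germ_res (q f η) (hq f η) F ζ a s)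

end Groth.Agent.Lib.EtSite.LocVal
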