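import Groth.Agent.Lib.EtSite.ZeroAcycConn
import Groth.Agent.Lib.FEt.GeomConn
import Mathlib.RingTheory.Localization.BaseChange
import Mathlib.RingTheory.Localization.Integral
import Mathlib.AlgebraicGeometry.Pullbacks

/-!
Geometric fibres of a zero-acyclic morphism of affine schemes are connected.
-/

set_option autoImplicit false
set_option backward.isDefEq.respectTransparency false
set_option linter.style.haveILetI false

universe u

open CategoryTheory CategoryTheory.Limits AlgebraicGeometry TensorProduct

noncomputable section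

namespace Groth.Agent.Lib.EtSite.ZeroAcycFibre

variable {A B : Type u} [CommRing A] [CommRing B] [Algebra A B]
  (h0 : EtAcyc.IsZeroAcyclic (Spec.map (CommRingCat.ofHom (algebraMap A B))))

include h0 in
theorem isConnected_basicOpen {C : Type u} [CommRing C] [IsDomain C] [Algebra A C]
    (hC : (algebraMap A C).IsIntegral) (r : A) (hr : algebraMap A C r ≠ 0) :
    _root_.IsConnected (PrimeSpectrum.basicOpen (1 ⊗ₜ algebraMap A C r : B ⊗[A] C) :
      Set (PrimeSpectrum (B ⊗[A] C))) := by
  let h : Spec (CommRingCat.of B) ⟶ Spec (CommRingCat.of A) :=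
    Spec.map (CommRingCat.ofHom (algebraMap A B))
  let νC : Spec (CommRingCat.of C) ⟶ Spec (CommRingCat.of A) :=
    Spec.map (CommRingCat.ofHom (algebraMap A C))
  haveI : IsIntegralHom νC := IsIntegralHom.SpecMap_iff.2 hC
  let U : (Spec (CommRingCat.of A)).Opens := PrimeSpectrum.basicOpen r
  let V : (Spec (CommRingCat.of A)).Etale := Scheme.Etale.mk U.ι
  let D : (Spec (CommRingCat.of C)).Opens := νC ⁻¹ᵁ U
  let ν : D.toScheme ⟶ V.left := νC ∣_ U
  haveI : IsIntegralHom ν :=
    MorphismProperty.of_isPullback (P := @IsIntegralHom) (isPullback_morphismRestrict νC U).flip ‹_›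
  haveI : ConnectedSpace D.toScheme := by
    haveI : IrreducibleSpace (Spec (CommRingCat.of C)) :=
      inferInstanceAs (IrreducibleSpace (PrimeSpectrum C))
    refine isConnected_iff_connectedSpace.1 (IsIrreducible.isConnected ⟨⟨(⊥ : PrimeSpectrum C), ?_⟩,
      (IsPreirreducible.open_subset (PreirreducibleSpace.isPreirreducible_univ) D.2 (Set.subset_univ _))⟩)
    intro hm
    exact hr (Ideal.mem_bot.1 hm)
  haveI := ZeroAcycConn.connectedSpace_pullback h h0 V ν
  let Φ : pullback ν (EtAcyc.prj h V) ⟶ pullback h νC :=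
    pullback.lift (pullback.snd _ _ ≫ pullback.snd V.hom h) (pullback.fst _ _ ≫ D.ι) (by
      rw [Category.assoc, Category.assoc]
      refine (_ ≫= pullback.condition.symm).trans ?_
      refine (Category.assoc _ _ _).symm.trans ((eq_whisker pullback.condition.symm V.hom).trans ?_)
      refine (Category.assoc _ _ _).trans (_ ≫= ?_)
      exact (morphismRestrict_ι νC U))
  let τ := pullbackSpecIso A B C
  have e : Set.range (Φ ≫ τ.hom).base =
      (PrimeSpectrum.basicOpen (1 ⊗ₜ algebraMap A C r : B ⊗[A] C) : Set (PrimeSpectrum (B ⊗[A] C))) := by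
    have hsnd : ∀ z : ↥(pullback h νC), (pullback.snd h νC).base z ∈ D ↔
        τ.hom.base z ∈ (PrimeSpectrum.basicOpen (1 ⊗ₜ algebraMap A C r : B ⊗[A] C) :
          Set (PrimeSpectrum (B ⊗[A] C))) := by
      intro z
      have e1 : pullback.snd h νC = τ.hom ≫
          Spec.map (CommRingCat.ofHom (Algebra.TensorProduct.includeRight (R := A) (A := B) (B := C)).toRingHom) := by
        rw [← Iso.inv_comp_eq]
        exact pullbackSpecIso_inv_snd A B C
      rw [e1, Scheme.Hom.comp_apply]
      exact Iff.rfl
    refine Set.Subset.antisymm ?_ ?_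
    · rintro _ ⟨w, rfl⟩
      rw [Scheme.Hom.comp_apply, ← hsnd, ← Scheme.Hom.comp_apply, pullback.lift_snd,
        Scheme.Hom.comp_apply]
      exact ((pullback.fst ν (EtAcyc.prj h V)).base w).2
    · intro q hq
      obtain ⟨z, rfl⟩ := τ.hom.homeomorph.surjective q
      have hz : (pullback.snd h νC).base z ∈ D := (hsnd z).2 hq
      let ζ := EtSite.Push.algPoint (pullback h νC) z
      have hζ : Set.range (ζ ≫ pullback.snd h νC).base ⊆ Set.range D.ι.base := by
        rintro _ ⟨a, rfl⟩
        rw [Scheme.Opens.range_ι, Scheme.Hom.comp_apply, EtSite.Push.algPoint_apply]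
        exact hz
      let l := IsOpenImmersion.lift D.ι (ζ ≫ pullback.snd h νC) hζ
      have hl : l ≫ D.ι = ζ ≫ pullback.snd h νC := IsOpenImmersion.lift_fac _ _ _
      have w1 : (l ≫ ν) ≫ V.hom = (ζ ≫ pullback.fst h νC) ≫ h := by
        refine (Category.assoc _ _ _).trans ((l ≫= morphismRestrict_ι νC U).trans ?_)
        rw [← Category.assoc, hl, Category.assoc, ← pullback.condition, Category.assoc]
      let w : Spec _ ⟶ pullback ν (EtAcyc.prj h V) :=
        pullback.lift l (pullback.lift (l ≫ ν) (ζ ≫ pullback.fst h νC) w1) (pullback.lift_fst _ _ _).symm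
      have hw : w ≫ Φ = ζ := by
        apply pullback.hom_ext
        · rw [Category.assoc, pullback.lift_fst, ← Category.assoc, pullback.lift_snd]
          exact pullback.lift_snd _ _ _
        · rw [Category.assoc, pullback.lift_snd, ← Category.assoc, pullback.lift_fst, hl]
      refine ⟨w.base default, ?_⟩
      rw [Scheme.Hom.comp_apply, ← Scheme.Hom.comp_apply w Φ, hw]
      exact congrArg τ.hom.base (EtSite.Push.algPoint_apply _ z default)
  rw [← e]
  exact isConnected_range (Φ ≫ τ.hom).continuous

include h0 in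
theorem connectedSpace_tensor {C K : Type u} [CommRing C] [IsDomain C] [Algebra A C] [Field K]
    [Algebra A K] [Algebra C K] [IsScalarTower A C K] (hC : (algebraMap A C).IsIntegral)
    (p : Ideal A) [p.IsPrime] (hp : ∀ r ∈ p.primeCompl, algebraMap A C r ≠ 0)
    [IsLocalization (Algebra.algebraMapSubmonoid C p.primeCompl) K] :
    ConnectedSpace (PrimeSpectrum (B ⊗[A] K)) := by
  let M : Submonoid (B ⊗[A] C) := (Algebra.algebraMapSubmonoid C p.primeCompl).map
    (Algebra.TensorProduct.includeRight (R := A) (A := B))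
  let e := IsLocalization.tensorProductEquivOfMapIncludeRight A B
    (Algebra.algebraMapSubmonoid C p.primeCompl) K (Localization M)
  suffices ConnectedSpace (PrimeSpectrum (Localization M)) from
    (PrimeSpectrum.homeomorphOfRingEquiv e.toRingEquiv).connectedSpace_iff.2 this
  have hM : ∀ m ∈ M, _root_.IsConnected (PrimeSpectrum.basicOpen m : Set (PrimeSpectrum (B ⊗[A] C))) := by
    rintro m ⟨c, ⟨r, hr, rfl⟩, rfl⟩
    exact isConnected_basicOpen h0 hC r (hp r hr)
  haveI : Nontrivial (Localization M) := by
    refine not_subsingleton_iff_nontrivial.1 fun hs => ?_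
    have h0M : (0 : B ⊗[A] C) ∈ M := (IsLocalization.subsingleton_iff (M := M) (S := Localization M)).1 hs
    obtain ⟨⟨q, hq⟩, -⟩ := hM 0 h0M
    exact hq (zero_mem _)
  haveI : PreconnectedSpace (PrimeSpectrum (Localization M)) := by
    rw [preconnectedSpace_iff_clopen]
    intro s hs
    obtain ⟨z, hz, rfl⟩ := PrimeSpectrum.exists_idempotent_basicOpen_eq_of_isClopen hs
    obtain ⟨⟨x, m⟩, hzx⟩ := IsLocalization.surj M z
    have hh : algebraMap (B ⊗[A] C) (Localization M) (x * ((m : B ⊗[A] C) - x)) =
        algebraMap (B ⊗[A] C) (Localization M) 0 := by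
      have hzz : z * z = z := hz
      rw [map_mul, map_sub, map_zero, ← hzx]
      linear_combination (-(algebraMap (B ⊗[A] C) (Localization M) m) ^ 2) * hzz
    obtain ⟨c, hc⟩ := (IsLocalization.eq_iff_exists M _).1 hh
    rw [mul_zero] at hc
    let q : B ⊗[A] C := c * m
    have hqM : q ∈ M := M.mul_mem c.2 m.2
    have hqu : IsUnit (algebraMap (B ⊗[A] C) (Localization M) q) := IsLocalization.map_units _ ⟨q, hqM⟩
    have hmu : IsUnit (algebraMap (B ⊗[A] C) (Localization M) m) := IsLocalization.map_units _ m
    have hpre := (hM q hqM).isPreconnected (PrimeSpectrum.basicOpen x) (PrimeSpectrum.basicOpen ((m : B ⊗[A] C) - x))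
      (PrimeSpectrum.basicOpen x).2 (PrimeSpectrum.basicOpen ((m : B ⊗[A] C) - x)).2 (fun P hP => by
        by_contra hne
        rw [Set.mem_union, not_or] at hne
        simp only [SetLike.mem_coe, PrimeSpectrum.mem_basicOpen, not_not] at hne
        refine hP (Ideal.mul_mem_left _ _ ?_)
        simpa using P.asIdeal.add_mem hne.1 hne.2)
    have hdis : ¬ ((PrimeSpectrum.basicOpen q : Set (PrimeSpectrum (B ⊗[A] C))) ∩
        ((PrimeSpectrum.basicOpen x : Set (PrimeSpectrum (B ⊗[A] C))) ∩
          PrimeSpectrum.basicOpen ((m : B ⊗[A] C) - x))).Nonempty := by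
      rintro ⟨P, hq, hx, hy⟩
      have h1 : (c : B ⊗[A] C) * (x * ((m : B ⊗[A] C) - x)) ∈ P.asIdeal := by rw [hc]; exact zero_mem _
      rcases P.2.mem_or_mem h1 with h2 | h2
      · exact hq (Ideal.mul_mem_right _ _ h2)
      · exact (P.2.mem_or_mem h2).elim hx hy
    have hcancel : ∀ a b : Localization M, IsUnit a → IsNilpotent (a * b) → IsNilpotent b := by
      rintro _ b ⟨u, rfl⟩ hab
      have e : b = (u : Localization M) * b * ((u⁻¹ : (Localization M)ˣ) : Localization M) := by
        rw [mul_comm (u : Localization M) b, mul_assoc, Units.mul_inv, mul_one]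
      rw [e]
      exact (Commute.all _ _).isNilpotent_mul_right hab
    have hnil : ∀ y : B ⊗[A] C, ¬ ((PrimeSpectrum.basicOpen q : Set (PrimeSpectrum (B ⊗[A] C))) ∩
        PrimeSpectrum.basicOpen y).Nonempty → IsNilpotent (algebraMap (B ⊗[A] C) (Localization M) y) := by
      intro y hy
      have : PrimeSpectrum.basicOpen (q * y) = ⊥ := by
        rw [PrimeSpectrum.basicOpen_mul]
        exact SetLike.coe_injective (Set.not_nonempty_iff_eq_empty.1 hy)
      have h2 := (PrimeSpectrum.basicOpen_eq_bot_iff _).1 this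
      have h3 := h2.map (algebraMap (B ⊗[A] C) (Localization M))
      rw [map_mul] at h3
      exact hcancel _ _ hqu h3
    by_cases hx : ((PrimeSpectrum.basicOpen q : Set (PrimeSpectrum (B ⊗[A] C))) ∩
        PrimeSpectrum.basicOpen x).Nonempty
    · by_cases hy : ((PrimeSpectrum.basicOpen q : Set (PrimeSpectrum (B ⊗[A] C))) ∩
          PrimeSpectrum.basicOpen ((m : B ⊗[A] C) - x)).Nonempty
      · exact (hdis (hpre hx hy)).elim
      · have hn := hnil _ hy
        rw [map_sub, ← hzx, ← one_sub_mul] at hn
        have h1 : IsNilpotent (1 - z) := hcancel _ _ hmu (by rwa [mul_comm] at hn)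
        have h2 : (1 : Localization M) - z = 0 := IsIdempotentElem.eq_zero_of_isNilpotent hz.one_sub h1
        refine Or.inr ?_
        rw [← sub_eq_zero.1 h2]
        simp
    · have hn := hnil _ hx
      rw [← hzx] at hn
      have h1 : IsNilpotent z := hcancel _ _ hmu (by rwa [mul_comm] at hn)
      refine Or.inl ?_
      rw [IsIdempotentElem.eq_zero_of_isNilpotent hz h1]
      simp
  exact { toNonempty := inferInstance }

include h0 in
/-- Geometric fibres are connected. -/
theorem connectedSpace_fibre (Ω : Type u) [Field Ω] [IsAlgClosed Ω]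
    (s : Spec (CommRingCat.of Ω) ⟶ Spec (CommRingCat.of A)) :
    ConnectedSpace ↥(pullback (Spec.map (CommRingCat.ofHom (algebraMap A B))) s) := by
  obtain ⟨ρ, rfl⟩ := Spec.map_surjective s
  let p : Ideal A := RingHom.ker ρ.hom
  haveI : p.IsPrime := RingHom.ker_isPrime _
  let K := AlgebraicClosure p.ResidueField
  let κΩ : p.ResidueField →+* Ω := Ideal.ResidueField.lift p ρ.hom le_rfl
    (fun r hr => isUnit_iff_ne_zero.2 hr)
  letI : Algebra p.ResidueField Ω := κΩ.toAlgebra
  let ι : K →ₐ[p.ResidueField] Ω := IsAlgClosed.lift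
  have hρ : ρ = CommRingCat.ofHom (algebraMap A K) ≫ CommRingCat.ofHom ι.toRingHom := by
    refine CommRingCat.hom_ext (RingHom.ext fun r => ?_)
    change ρ.hom r = ι (algebraMap A K r)
    rw [IsScalarTower.algebraMap_apply A p.ResidueField K, AlgHom.commutes]
    exact (Ideal.ResidueField.lift_algebraMap p ρ.hom _ _ r).symm
  have hker : ∀ r ∈ p.primeCompl, algebraMap A (integralClosure A K) r ≠ 0 := by
    intro r hr e
    refine hr (?_ : r ∈ p)
    rw [← Ideal.algebraMap_residueField_eq_zero (I := p)]
    refine (algebraMap p.ResidueField K).injective ?_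
    rw [← IsScalarTower.algebraMap_apply, map_zero]
    exact congrArg Subtype.val e
  haveI : IsLocalization (Algebra.algebraMapSubmonoid (integralClosure A K) p.primeCompl) K :=
    { map_units := by
        rintro ⟨_, r, hr, rfl⟩
        exact isUnit_iff_ne_zero.2 fun e => hker r hr (Subtype.ext e)
      surj := fun z => by
        have hz : IsIntegral (Localization.AtPrime p) z :=
          isIntegral_trans (R := Localization.AtPrime p) (A := p.ResidueField) z
            (Algebra.IsIntegral.isIntegral z)
        obtain ⟨m, hm⟩ := hz.exists_multiple_integral_of_isLocalization p.primeCompl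
        refine ⟨(⟨_, hm⟩, ⟨_, m.1, m.2, rfl⟩), ?_⟩
        change z * algebraMap A K m = (m : A) • z
        rw [Algebra.smul_def, mul_comm]
      exists_of_eq := fun {x y} e => ⟨1, by simpa using Subtype.ext e⟩ }
  haveI := connectedSpace_tensor (B := B) (K := K) h0
    (fun x => Algebra.IsIntegral.isIntegral (R := A) x) p hker
  haveI : ConnectedSpace ↥(Spec (CommRingCat.of (B ⊗[A] K))) :=
    inferInstanceAs (ConnectedSpace (PrimeSpectrum (B ⊗[A] K)))
  haveI : ConnectedSpace ↥(pullback (Spec.map (CommRingCat.ofHom (algebraMap A B)))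
      (Spec.map (CommRingCat.ofHom (algebraMap A K)))) :=
    (Scheme.homeoOfIso (pullbackSpecIso A B K)).connectedSpace_iff.2 ‹_›
  haveI : ConnectedSpace ↥(Spec (CommRingCat.of Ω)) :=
    haveI : PreconnectedSpace ↥(Spec (CommRingCat.of Ω)) :=
      ⟨isPreconnected_univ (α := ↥(Spec (CommRingCat.of Ω)))⟩
    { toNonempty := inferInstance }
  have := FEt.GeomConn.connectedSpace_pullback_of_isAlgClosed K
    (pullback.snd (Spec.map (CommRingCat.ofHom (algebraMap A B)))
      (Spec.map (CommRingCat.ofHom (algebraMap A K)))) (Spec.map (CommRingCat.ofHom ι.toRingHom))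
  rw [hρ, Spec.map_comp]
  exact (Scheme.homeoOfIso (pullbackLeftPullbackSndIso _ _ _)).connectedSpace_iff.1 this

end Groth.Agent.Lib.EtSite.ZeroAcycFibre
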