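import Groth.Agent.Lib.EtSite.LocFlat
import Groth.Agent.Lib.EtSite.ZeroAcycFibre
import Groth.Agent.S0754
import Mathlib.AlgebraicGeometry.Morphisms.WeaklyEtale
import Mathlib.AlgebraicGeometry.Morphisms.UniversallyOpen

/-!
Maps of strictly local schemes of a universally locally zero-acyclic morphism: connected geometric
fibres and universal generalization.
-/

set_option autoImplicit false
set_option backward.isDefEq.respectTransparency false
set_option linter.style.haveILetI false

universe u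

open CategoryTheory CategoryTheory.Limits AlgebraicGeometry

noncomputable section

namespace Groth.Agent.Lib.EtSite.LocZeroAcyc

open Groth.Agent.Lib.EtSite.LocMap Groth.Agent.Lib.EtLim50

variable {X S : Scheme.{u}} (f : X ⟶ S) {Ω : Type u} [Field Ω] [IsSepClosed Ω]
  (η : Spec (CommRingCat.of Ω) ⟶ X)

theorem weaklyEtale_toBase : WeaklyEtale (toBase η) := by
  obtain ⟨aX, lX, hX, sX⟩ := exists_algebra η
  rw [← hX]
  exact Groth.Agent.S0754.result X (η.base default) (EtBase.etaleLocalRing η)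

theorem isZeroAcyclic_funct (hf : EtAcyc.IsLocZeroAcyclic f) :
    EtAcyc.IsZeroAcyclic (Spec.map (funct f η)) := by
  obtain ⟨aS, lS, hS, sS⟩ := exists_algebra (η ≫ f)
  obtain ⟨aX, lX, hX, sX⟩ := exists_algebra η
  exact @hf (η.base default) (EtBase.etaleLocalRing (η ≫ f)) (EtBase.etaleLocalRing η) _ _ _ _
    aS lS sS aX lX sX (funct f η).hom.toAlgebra (isLocalHom_funct f η)
    (LocFlat.funct_comp_algebraMap f η aS aX hS hX)

theorem connectedSpace_fibre (hf : EtAcyc.IsLocZeroAcyclic f) (Ω' : Type u) [Field Ω'] [IsAlgClosed Ω']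
    (s : Spec (CommRingCat.of Ω') ⟶ Nbhds.S S (η ≫ f)) :
    ConnectedSpace ↥(pullback (Spec.map (funct f η)) s) := by
  letI := (funct f η).hom.toAlgebra
  exact ZeroAcycFibre.connectedSpace_fibre (A := EtBase.etaleLocalRing (η ≫ f))
    (B := EtBase.etaleLocalRing η) (isZeroAcyclic_funct f η hf) Ω' s

theorem surjective_funct (hf : EtAcyc.IsLocZeroAcyclic f) :
    Function.Surjective (Spec.map (funct f η)).base := fun s => by
  have := connectedSpace_fibre f η hf _ (EtSite.Push.algPoint _ s)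
  obtain ⟨z⟩ := (inferInstance : Nonempty ↥(pullback (Spec.map (funct f η)) (EtSite.Push.algPoint _ s)))
  refine ⟨(pullback.fst (Spec.map (funct f η)) (EtSite.Push.algPoint _ s)).base z, ?_⟩
  exact (congrArg (fun k : pullback (Spec.map (funct f η)) (EtSite.Push.algPoint _ s) ⟶ _ => k.base z)
    pullback.condition).trans (EtSite.Push.algPoint_apply _ s _)

/-- Generalizations lift along a locally zero-acyclic morphism. -/
theorem exists_generalization {X' S' : Scheme.{u}} (g : X' ⟶ S') (hg : EtAcyc.IsLocZeroAcyclic g)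
    (x : X') (z : S') (hz : z ⤳ g.base x) : ∃ v : X', v ⤳ x ∧ g.base v = z := by
  let ξ := EtSite.Push.algPoint X' x
  haveI := weaklyEtale_toBase (ξ ≫ g)
  have hc : (toBase (ξ ≫ g)).base (IsLocalRing.closedPoint (EtBase.etaleLocalRing (ξ ≫ g))) = g.base x := by
    rw [toBase_closedPoint, Scheme.Hom.comp_apply, EtSite.Push.algPoint_apply]
  obtain ⟨z', -, hz'⟩ := Flat.generalizingMap (toBase (ξ ≫ g)) (hc.symm ▸ hz)
  obtain ⟨y, hy⟩ := surjective_funct g ξ hg z'
  refine ⟨(toBase ξ).base y, ?_, ?_⟩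
  · have h := (IsLocalRing.specializes_closedPoint (R := EtBase.etaleLocalRing ξ) y).map (toBase ξ).continuous
    rwa [toBase_closedPoint, EtSite.Push.algPoint_apply] at h
  · rw [← Scheme.Hom.comp_apply, ← funct_toBase, Scheme.Hom.comp_apply, hy, hz']

theorem universally_generalizing (hf : EtAcyc.IsULocZeroAcyclic f) :
    (topologically GeneralizingMap).universally (Spec.map (funct f η)) := by
  intro P S' i₁ i₂ k sq w₀ z hz
  let W₀ := pullback f (toBase (η ≫ f))
  let r₀ : Nbhds.S X η ⟶ W₀ := pullback.lift (toBase η) (Spec.map (funct f η)) (funct_toBase f η).symm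
  haveI := weaklyEtale_toBase (η ≫ f)
  haveI : WeaklyEtale (pullback.fst f (toBase (η ≫ f))) := MorphismProperty.pullback_fst _ _ ‹_›
  haveI : WeaklyEtale (r₀ ≫ pullback.fst f (toBase (η ≫ f))) := by
    rw [pullback.lift_fst]; exact weaklyEtale_toBase η
  haveI : WeaklyEtale r₀ := WeaklyEtale.of_comp r₀ (pullback.fst f (toBase (η ≫ f)))
  let p₂ := pullback.snd f (toBase (η ≫ f))
  let g₁ := pullback.snd p₂ i₂
  have sq₁ : IsPullback (pullback.fst p₂ i₂ ≫ pullback.fst f (toBase (η ≫ f))) g₁ f (i₂ ≫ toBase (η ≫ f)) :=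
    (IsPullback.of_hasPullback p₂ i₂).flip.paste_vert (IsPullback.of_hasPullback f (toBase (η ≫ f))).flip |>.flip
  have hloc : EtAcyc.IsLocZeroAcyclic g₁ := hf g₁ _ _ sq₁
  let r : P ⟶ pullback p₂ i₂ := pullback.lift (i₁ ≫ r₀) k (by
    rw [Category.assoc, pullback.lift_snd]; exact sq.w.symm)
  have sqr : IsPullback i₁ r r₀ (pullback.fst p₂ i₂) := by
    refine IsPullback.of_bot ?_ ?_ (IsPullback.of_hasPullback p₂ i₂)
    · rw [pullback.lift_snd, pullback.lift_snd]; exact sq.flip
    · exact (pullback.lift_fst _ _ _).symm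
  haveI : Flat r := MorphismProperty.of_isPullback (P := @Flat) sqr inferInstance
  have hk : r ≫ g₁ = k := pullback.lift_snd _ _ _
  have hz' : z ⤳ g₁.base (r.base w₀) := by
    rw [← Scheme.Hom.comp_apply, hk]; exact hz
  obtain ⟨v, hv, hgv⟩ := exists_generalization g₁ hloc _ z hz'
  obtain ⟨w, hw, hrw⟩ := Flat.generalizingMap r hv
  refine ⟨w, hw, ?_⟩
  rw [← hk, Scheme.Hom.comp_apply, hrw, hgv]

end Groth.Agent.Lib.EtSite.LocZeroAcyc
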