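import Groth.Prelude.Def_EtBaseX
import Groth.Agent.Lib.EtSite.Fiber
import Mathlib.Algebra.Category.Ring.FilteredColimits
import Mathlib.Algebra.Polynomial.Lifts
import Mathlib.RingTheory.Etale.StandardEtale
import Mathlib.AlgebraicGeometry.Morphisms.Etale

/-!
# The étale local ring at a geometric point is strictly henselian
-/

universe u

open CategoryTheory CategoryTheory.Limits AlgebraicGeometry Opposite Polynomial

namespace Groth.Agent.Lib.EtSite.LocalRing

open Groth.Agent.Lib.EtSite.Basic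

variable {X : Scheme.{u}} {Ω : Type u} [Field Ω] [IsSepClosed Ω] (ξ : Spec (CommRingCat.of Ω) ⟶ X)

/-- The germ map. -/
noncomputable def germ (U : X.Etale) (p : (Scheme.pointSmallEtale ξ).fiber.obj U) :
    Γ(U.left, ⊤) ⟶ EtBase.etaleLocalRing ξ :=
  (Scheme.pointSmallEtale ξ).toPresheafFiber U p (EtBase.OO X)

/-- Restriction to an étale neighbourhood. -/
noncomputable abbrev res {U V : X.Etale} (a : V ⟶ U) : Γ(U.left, ⊤) ⟶ Γ(V.left, ⊤) :=
  a.left.appTop

theorem res_germ {U V : X.Etale} (a : V ⟶ U) (q : (Scheme.pointSmallEtale ξ).fiber.obj V) :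
    res a ≫ germ ξ V q = germ ξ U ((Scheme.pointSmallEtale ξ).fiber.map a q) :=
  (Scheme.pointSmallEtale ξ).toPresheafFiber_w a q (EtBase.OO X)

theorem germ_res {U V : X.Etale} (a : V ⟶ U) (q : (Scheme.pointSmallEtale ξ).fiber.obj V)
    {p : (Scheme.pointSmallEtale ξ).fiber.obj U} (h : (Scheme.pointSmallEtale ξ).fiber.map a q = p)
    (s : Γ(U.left, ⊤)) : (germ ξ V q).hom ((res a).hom s) = (germ ξ U p).hom s := by
  subst h
  exact congrArg (fun m => m.hom s) (res_germ ξ a q)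

theorem exists_germ (z : EtBase.etaleLocalRing ξ) :
    ∃ (U : X.Etale) (p : (Scheme.pointSmallEtale ξ).fiber.obj U) (s : Γ(U.left, ⊤)),
      (germ ξ U p).hom s = z :=
  (Scheme.pointSmallEtale ξ).toPresheafFiber_jointly_surjective (P := EtBase.OO X) z

/-- Evaluation at the geometric point. -/
noncomputable def evApp (U : X.Etale) (p : (Scheme.pointSmallEtale ξ).fiber.obj U) :
    Γ(U.left, ⊤) ⟶ CommRingCat.of Ω :=
  (fiberHom p).appTop ≫ (Scheme.ΓSpecIso _).hom

/-- Evaluation at the geometric point. -/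
noncomputable def ev : EtBase.etaleLocalRing ξ ⟶ CommRingCat.of Ω :=
  (Scheme.pointSmallEtale ξ).presheafFiberDesc (P := EtBase.OO X) (fun U p => evApp ξ U p)
    (fun U V a p => by
      change a.left.appTop ≫ (fiberHom p).appTop ≫ _ =
        (fiberHom ((Scheme.pointSmallEtale ξ).fiber.map a p)).appTop ≫ _
      rw [← Category.assoc, ← Scheme.Hom.comp_appTop]
      rfl)

theorem germ_ev (U : X.Etale) (p : (Scheme.pointSmallEtale ξ).fiber.obj U) :
    germ ξ U p ≫ ev ξ = evApp ξ U p :=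
  (Scheme.pointSmallEtale ξ).toPresheafFiber_presheafFiberDesc (P := EtBase.OO X) _ _ U p

theorem ev_germ (U : X.Etale) (p : (Scheme.pointSmallEtale ξ).fiber.obj U) (s : Γ(U.left, ⊤)) :
    (ev ξ).hom ((germ ξ U p).hom s) = (evApp ξ U p).hom s :=
  congrArg (fun m => m.hom s) (germ_ev ξ U p)

theorem isUnit_of_ev_ne_zero (z : EtBase.etaleLocalRing ξ) (hz : (ev ξ).hom z ≠ 0) : IsUnit z := by
  obtain ⟨U, p, s, rfl⟩ := exists_germ ξ z
  rw [ev_germ] at hz
  have hmem : fiberPt p ∈ U.left.basicOpen s := by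
    have h1 : (default : Spec (CommRingCat.of Ω)) ∈
        fiberHom p ⁻¹ᵁ U.left.basicOpen s := by
      rw [Scheme.preimage_basicOpen_top, basicOpen_eq_of_affine']
      intro h2
      refine hz ?_
      rw [show (default : Spec (CommRingCat.of Ω)) = (⊥ : PrimeSpectrum Ω) from
        Subsingleton.elim _ _] at h2
      exact Ideal.mem_bot.1 h2
    exact h1
  have : Etale U.hom := U.prop
  let V : X.Etale := MorphismProperty.Over.mk ⊤ ((U.left.basicOpen s).ι ≫ U.hom)
    (show Etale _ from inferInstance)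
  let a : V ⟶ U := MorphismProperty.Over.homMk (U.left.basicOpen s).ι rfl
  obtain ⟨q, hq, -⟩ := Fiber.exists_fiber_map ξ a p (⟨fiberPt p, hmem⟩ : U.left.basicOpen s) rfl
  rw [← germ_res ξ a q hq s]
  refine IsUnit.map (germ ξ V q).hom ?_
  change IsUnit ((U.left.basicOpen s).ι.appTop.hom s)
  rw [Scheme.Opens.ι_appTop]
  have hle : (U.left.basicOpen s).ι ''ᵁ ⊤ ≤ U.left.basicOpen s := by
    rintro _ ⟨x, -, rfl⟩
    exact x.2
  rw [← homOfLE_comp hle (U.left.basicOpen_le s), op_comp, Functor.map_comp]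
  exact IsUnit.map (U.left.presheaf.map (homOfLE hle).op).hom (RingedSpace.isUnit_res_basicOpen U.left.toLocallyRingedSpace.toRingedSpace s)

instance isLocalRing : IsLocalRing (EtBase.etaleLocalRing ξ) := by
  have : Nontrivial (EtBase.etaleLocalRing ξ) := ⟨⟨0, 1, fun h => zero_ne_one (α := Ω) (by
    simpa using congrArg (ev ξ).hom h)⟩⟩
  refine IsLocalRing.of_nonunits_add fun a b ha hb hab => ?_
  by_cases h : (ev ξ).hom a = 0
  · by_cases h' : (ev ξ).hom b = 0
    · have := hab.map (ev ξ).hom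
      rw [map_add, h, h', add_zero] at this
      exact not_isUnit_zero this
    · exact hb (isUnit_of_ev_ne_zero ξ b h')
  · exact ha (isUnit_of_ev_ne_zero ξ a h)

theorem mem_maximalIdeal_iff (z : EtBase.etaleLocalRing ξ) :
    z ∈ IsLocalRing.maximalIdeal (EtBase.etaleLocalRing ξ) ↔ (ev ξ).hom z = 0 := by
  rw [IsLocalRing.mem_maximalIdeal, mem_nonunits_iff]
  exact ⟨fun h => by_contra fun h' => h (isUnit_of_ev_ne_zero ξ z h'),
    fun h hu => not_isUnit_zero (h ▸ hu.map (ev ξ).hom)⟩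

theorem exists_common (n : ℕ) (a : Fin n → EtBase.etaleLocalRing ξ) :
    ∃ (U : X.Etale) (p : (Scheme.pointSmallEtale ξ).fiber.obj U) (s : Fin n → Γ(U.left, ⊤)),
      ∀ k, (germ ξ U p).hom (s k) = a k := by
  induction n with
  | zero =>
    obtain ⟨p, -⟩ := exists_fiber ξ (EtCoh.top X) (ξ.base default) rfl
    exact ⟨_, p, Fin.elim0, fun k => k.elim0⟩
  | succ n ih =>
    obtain ⟨U, p, s, hs⟩ := ih fun k => a k.succ
    obtain ⟨U', p', s', hs'⟩ := exists_germ ξ (a 0)
    let E := IsCofiltered.min ((Scheme.pointSmallEtale ξ).fiber.elementsMk U p)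
      ((Scheme.pointSmallEtale ξ).fiber.elementsMk U' p')
    let a₁ : E ⟶ (Scheme.pointSmallEtale ξ).fiber.elementsMk U p := IsCofiltered.minToLeft _ _
    let b₁ : E ⟶ (Scheme.pointSmallEtale ξ).fiber.elementsMk U' p' := IsCofiltered.minToRight _ _
    refine ⟨E.1, E.2, Fin.cons ((res b₁.1).hom s') fun k => (res a₁.1).hom (s k), fun k => ?_⟩
    refine Fin.cases ?_ (fun k => ?_) k
    · rw [Fin.cons_zero]
      exact (germ_res ξ b₁.1 E.2 b₁.2 s').trans hs'
    · rw [Fin.cons_succ]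
      exact (germ_res ξ a₁.1 E.2 a₁.2 (s k)).trans (hs k)

/-- A simple root over the geometric point lifts to a root in the étale local ring. -/
theorem exists_root (f : (EtBase.etaleLocalRing ξ)[X]) (hf : f.Monic) (ω : Ω)
    (hω : f.eval₂ (ev ξ).hom ω = 0) (hω' : (derivative f).eval₂ (ev ξ).hom ω ≠ 0) :
    ∃ r, f.IsRoot r ∧ (ev ξ).hom r = ω := by
  obtain ⟨U, p, s, hs⟩ := exists_common ξ (f.natDegree + 1) fun k => f.coeff k
  have : Etale U.hom := U.prop
  obtain ⟨C, j, hj, ⟨c, hc⟩, -⟩ := Scheme.exists_affine_mem_range_and_range_subset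
    (x := fiberPt p) (U := (⊤ : U.left.Opens)) trivial
  let U₁ : X.Etale := MorphismProperty.Over.mk ⊤ (j ≫ U.hom) (show Etale _ from inferInstance)
  let a₁ : U₁ ⟶ U := MorphismProperty.Over.homMk j rfl
  obtain ⟨p₁, hp₁, -⟩ := Fiber.exists_fiber_map ξ a₁ p c hc
  let g₁ : C ⟶ EtBase.etaleLocalRing ξ := (Scheme.ΓSpecIso C).inv ≫ germ ξ U₁ p₁
  obtain ⟨ψ, hψ⟩ := Spec.map_surjective (fiberHom p₁)
  have hev : g₁ ≫ ev ξ = ψ := by
    refine (Category.assoc _ _ _).trans ((_ ≫= germ_ev ξ U₁ p₁).trans ?_)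
    change (Scheme.ΓSpecIso C).inv ≫ (fiberHom p₁).appTop ≫ (Scheme.ΓSpecIso _).hom = ψ
    rw [← hψ]
    exact (_ ≫= Scheme.ΓSpecIso_naturality ψ).trans (Iso.inv_hom_id_assoc _ _)
  have hlift : f ∈ lifts g₁.hom := by
    rw [lifts_iff_coeff_lifts]
    intro k
    by_cases hk : k < f.natDegree + 1
    · refine ⟨(Scheme.ΓSpecIso C).hom.hom ((res a₁).hom (s ⟨k, hk⟩)), ?_⟩
      change (germ ξ U₁ p₁).hom ((Scheme.ΓSpecIso C).inv.hom _) = _
      rw [Iso.hom_inv_id_apply]
      exact (germ_res ξ a₁ p₁ hp₁ _).trans (hs ⟨k, hk⟩)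
    · exact ⟨0, by rw [map_zero, coeff_eq_zero_of_natDegree_lt (by omega)]⟩
  obtain ⟨f₀, hf₀, -, hm⟩ := lifts_and_natDegree_eq_and_monic hlift hf
  let P : StandardEtalePair C :=
    ⟨f₀, hm, derivative f₀, ⟨1, 0, 1, by rw [mul_one, mul_zero, add_zero, pow_one]⟩⟩
  let : Algebra C Ω := ψ.hom.toAlgebra
  have hψ' : ψ.hom = (ev ξ).hom.comp g₁.hom := by rw [← hev]; rfl
  have hmap : P.HasMap ω := by
    constructor
    · change aeval ω f₀ = 0
      rw [aeval_def, show algebraMap C Ω = ψ.hom from rfl, hψ', ← eval₂_map, hf₀, hω]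
    · refine IsUnit.mk0 _ ?_
      change aeval ω (derivative f₀) ≠ 0
      rwa [aeval_def, show algebraMap C Ω = ψ.hom from rfl, hψ', ← eval₂_map, ← derivative_map, hf₀]
  let C' : CommRingCat.{u} := CommRingCat.of P.Ring
  let π : C ⟶ C' := CommRingCat.ofHom (algebraMap C P.Ring)
  have : Etale (Spec.map π) :=
    (HasRingHomProperty.Spec_iff (P := @Etale)).2 (RingHom.etale_algebraMap.2 inferInstance)
  have : Etale U₁.hom := U₁.prop
  let U₂ : X.Etale := MorphismProperty.Over.mk ⊤ (Spec.map π ≫ U₁.hom)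
    (MorphismProperty.comp_mem @Etale (Spec.map π) U₁.hom ‹_› U₁.prop)
  let a₂ : U₂ ⟶ U₁ := MorphismProperty.Over.homMk (Spec.map π) rfl
  let χ : C' ⟶ CommRingCat.of Ω := CommRingCat.ofHom (P.lift ω hmap).toRingHom
  have hχ : π ≫ χ = ψ := by
    ext x
    exact (P.lift ω hmap).commutes x
  let p₂ : (Scheme.pointSmallEtale ξ).fiber.obj U₂ := mkFiber ξ U₂ (Spec.map χ) (by
    refine (Category.assoc _ _ _).symm.trans ?_
    exact (congrArg (· ≫ U₁.hom) (((Spec.map_comp π χ).symm.trans (congrArg Spec.map hχ)).trans hψ)).trans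
      (fiberHom_comp p₁))
  have hp₂ : (Scheme.pointSmallEtale ξ).fiber.map a₂ p₂ = p₁ := by
    refine Over.OverMorphism.ext ?_
    exact ((Spec.map_comp π χ).symm.trans (congrArg Spec.map hχ)).trans hψ
  let g₂ : C' ⟶ EtBase.etaleLocalRing ξ := (Scheme.ΓSpecIso C').inv ≫ germ ξ U₂ p₂
  have hg : π ≫ g₂ = g₁ := by
    simp only [g₁, g₂, Scheme.ΓSpecIso_inv_naturality_assoc]
    congr 1
    rw [← hp₂]
    exact res_germ ξ a₂ p₂
  refine ⟨g₂.hom P.X, ?_, ?_⟩
  · have h0 := congrArg g₂.hom P.hasMap_X.1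
    rw [map_zero, aeval_def, hom_eval₂] at h0
    rw [IsRoot, ← hf₀, eval_map, ← hg]
    exact h0
  · have hev₂ : g₂ ≫ ev ξ = χ := by
      refine (Category.assoc _ _ _).trans ((_ ≫= germ_ev ξ U₂ p₂).trans ?_)
      change (Scheme.ΓSpecIso C').inv ≫ (Spec.map χ).appTop ≫ (Scheme.ΓSpecIso _).hom = χ
      exact (_ ≫= Scheme.ΓSpecIso_naturality χ).trans (Iso.inv_hom_id_assoc _ _)
    change (g₂ ≫ ev ξ).hom P.X = ω
    rw [hev₂]
    exact P.lift_X ω hmap

instance henselianLocalRing : HenselianLocalRing (EtBase.etaleLocalRing ξ) where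
  is_henselian f hf a₀ h₁ h₂ := by
    have hω : f.eval₂ (ev ξ).hom ((ev ξ).hom a₀) = 0 := by
      rw [eval₂_at_apply]
      exact (mem_maximalIdeal_iff ξ _).1 h₁
    have hω' : (derivative f).eval₂ (ev ξ).hom ((ev ξ).hom a₀) ≠ 0 := by
      rw [eval₂_at_apply]
      exact (h₂.map (ev ξ).hom).ne_zero
    obtain ⟨r, hr, hr'⟩ := exists_root ξ f hf _ hω hω'
    exact ⟨r, hr, (mem_maximalIdeal_iff ξ _).2 (by rw [map_sub, hr', sub_self])⟩

theorem isSepClosed_residueField :
    IsSepClosed (IsLocalRing.ResidueField (EtBase.etaleLocalRing ξ)) := by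
  refine IsSepClosed.of_exists_root _ fun p hm hi hsep => ?_
  let res' := IsLocalRing.residue (EtBase.etaleLocalRing ξ)
  let e : IsLocalRing.ResidueField (EtBase.etaleLocalRing ξ) →+* Ω :=
    Ideal.Quotient.lift _ (ev ξ).hom fun z hz => (mem_maximalIdeal_iff ξ z).1 hz
  have he : e.comp res' = (ev ξ).hom := RingHom.ext fun z => rfl
  obtain ⟨f, hf, -, hfm⟩ := lifts_and_natDegree_eq_and_monic (f := res')
    (by rw [mem_lifts]; exact map_surjective res' Ideal.Quotient.mk_surjective p) hm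
  obtain ⟨ω, hω⟩ := IsSepClosed.exists_root (p.map e)
    (by rw [degree_map]; exact (degree_pos_of_irreducible hi).ne') hsep.map
  have hω0 : f.eval₂ (ev ξ).hom ω = 0 := by
    rw [← he, ← eval₂_map, hf, ← eval_map]
    exact hω
  have hω1 : (derivative f).eval₂ (ev ξ).hom ω ≠ 0 := by
    rw [← he, ← eval₂_map, ← derivative_map, hf]
    exact hsep.eval₂_derivative_ne_zero e (by rwa [← eval_map])
  obtain ⟨r, hr, -⟩ := exists_root ξ f hfm ω hω0 hω1
  exact ⟨res' r, by rw [← hf, eval_map, eval₂_at_apply, hr, map_zero]⟩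

theorem isStrictlyHenselianLocalRing :
    EtCoh.IsStrictlyHenselianLocalRing (EtBase.etaleLocalRing ξ) :=
  ⟨inferInstance, isSepClosed_residueField ξ⟩

end Groth.Agent.Lib.EtSite.LocalRing
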