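import Groth.Agent.Lib.EtSite.Pull
import Groth.Agent.Lib.RDer.Compare
import Groth.Agent.H61.HpullFunct
import Mathlib.Algebra.Homology.DerivedCategory.Ext.ExactSequences
import Mathlib.Algebra.Homology.DerivedCategory.Ext.EnoughInjectives
import Mathlib.CategoryTheory.Abelian.RightDerived

/-!
# Cohomology of a sheaf and of its direct image in low degrees

If `R^q g_* M = 0` for `1 ≤ q ≤ n`, then `H^q(Y, g_* M) ⟶ H^q(X, M)` is bijective for `q ≤ n` and
injective for `q = n + 1`.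
-/

set_option autoImplicit false

universe u

open CategoryTheory CategoryTheory.Limits CategoryTheory.Abelian AlgebraicGeometry Opposite

noncomputable section

namespace Groth.Agent.Lib.EtSite.LowLeray

variable {X Y : Scheme.{u}} (g : X ⟶ Y)

instance push_preservesFiniteLimits : PreservesFiniteLimits (EtCoh.push g) :=
  have : PreservesLimitsOfSize.{0, 0} (EtCoh.push g) :=
    (EtCoh.pullPushAdj g).rightAdjoint_preservesLimits
  PreservesLimitsOfSize.preservesFiniteLimits _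

instance push_preservesInjective : (EtCoh.push g).PreservesInjectiveObjects :=
  Functor.preservesInjectiveObjects_of_adjunction_of_preservesMonomorphisms (EtCoh.pullPushAdj g)

theorem isZero_Rpush_of_injective (I : EtCoh.Ab X) [Injective I] (q : ℕ) :
    IsZero ((EtCoh.Rpush g (q + 1)).obj I) :=
  Functor.isZero_rightDerived_obj_injective_succ _ q I

/-- The push forward of an exact sequence stays exact when `R¹` of the first term vanishes. -/
theorem shortExact_push {S : ShortComplex (EtCoh.Ab X)} (hS : S.ShortExact) [Injective S.X₂]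
    (h : IsZero ((EtCoh.Rpush g 1).obj S.X₁)) : (S.map (EtCoh.push g)).ShortExact := by
  obtain ⟨Δ⟩ := RDer.Connecting.nonempty_derivedLES (EtCoh.push g)
  have hc : IsZero (cokernel (((EtCoh.push g).rightDerived 0).map S.g)) :=
    h.of_iso (RDer.Compare.cokernelIso Δ hS (isZero_Rpush_of_injective g S.X₂ 0))
  have : Epi (((EtCoh.push g).rightDerived 0).map S.g) :=
    Preadditive.epi_of_isZero_cokernel _ hc
  have hnat := (EtCoh.push g).rightDerivedZeroIsoSelf.hom.naturality S.g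
  have : Epi ((EtCoh.push g).map S.g) := by
    have : Epi ((EtCoh.push g).rightDerivedZeroIsoSelf.hom.app S.X₂ ≫ (EtCoh.push g).map S.g) := by
      rw [← hnat]
      infer_instance
    exact epi_of_epi ((EtCoh.push g).rightDerivedZeroIsoSelf.hom.app S.X₂) _
  have := hS.mono_f
  exact
    { exact := hS.exact.map_of_mono_of_preservesKernel (EtCoh.push g) inferInstance inferInstance
      mono_f := (EtCoh.push g).map_mono S.f
      epi_g := ‹Epi ((EtCoh.push g).map S.g)› }

theorem isZero_Rpush_one {S : ShortComplex (EtCoh.Ab X)} (hS : S.ShortExact)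
    (h : IsZero ((EtCoh.Rpush g 1).obj S.X₂)) [Epi ((EtCoh.push g).map S.g)] :
    IsZero ((EtCoh.Rpush g 1).obj S.X₁) := by
  obtain ⟨Δ⟩ := RDer.Connecting.nonempty_derivedLES (EtCoh.push g)
  have hnat := (EtCoh.push g).rightDerivedZeroIsoSelf.hom.naturality S.g
  have : Epi (((EtCoh.push g).rightDerived 0).map S.g) := by
    have : Epi (((EtCoh.push g).rightDerived 0).map S.g ≫
        (EtCoh.push g).rightDerivedZeroIsoSelf.hom.app S.X₃) := by
      rw [hnat]
      infer_instance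
    exact (MorphismProperty.epimorphisms.iff _).1
      ((MorphismProperty.epimorphisms _).cancel_right_of_respectsIso _
        ((EtCoh.push g).rightDerivedZeroIsoSelf.hom.app S.X₃) |>.1 ((MorphismProperty.epimorphisms.iff _).2 this))
  exact (isZero_cokernel_of_epi _).of_iso (RDer.Compare.cokernelIso Δ hS h).symm

theorem isZero_Rpush_succ {S : ShortComplex (EtCoh.Ab X)} (hS : S.ShortExact) (q : ℕ)
    (h₂ : IsZero ((EtCoh.Rpush g (q + 2)).obj S.X₂)) (h₃ : IsZero ((EtCoh.Rpush g (q + 1)).obj S.X₃)) :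
    IsZero ((EtCoh.Rpush g (q + 2)).obj S.X₁) := by
  obtain ⟨Δ⟩ := RDer.Connecting.nonempty_derivedLES (EtCoh.push g)
  have : Epi (Δ.δ S hS (q + 1) (q + 2) rfl) :=
    (Δ.exact₁ S hS (q + 1) (q + 2) rfl).epi_f (h₂.eq_zero_of_tgt _)
  exact IsZero.of_epi (Δ.δ S hS (q + 1) (q + 2) rfl) h₃

theorem isZero_Rpush_shift {S : ShortComplex (EtCoh.Ab X)} (hS : S.ShortExact) [Injective S.X₂]
    (q : ℕ) (h : IsZero ((EtCoh.Rpush g (q + 2)).obj S.X₁)) :
    IsZero ((EtCoh.Rpush g (q + 1)).obj S.X₃) := by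
  obtain ⟨Δ⟩ := RDer.Connecting.nonempty_derivedLES (EtCoh.push g)
  exact h.of_iso (RDer.Compare.shiftIso Δ hS q (isZero_Rpush_of_injective g S.X₂ q)
    (isZero_Rpush_of_injective g S.X₂ (q + 1)))

/-- The map on cohomology attached to a morphism `g⁻¹ G ⟶ M`. -/
def Tr {G : EtCoh.Ab Y} {M : EtCoh.Ab X} (φ : (EtCoh.pull g).obj G ⟶ M) (n : ℕ) :
    EtCoh.H Y G n →+ EtCoh.H X M n :=
  ((Ext.mk₀ φ).postcomp _ (add_zero n)).comp (EtCore.Hpull g G n)

theorem Tr_apply {G : EtCoh.Ab Y} {M : EtCoh.Ab X} (φ : (EtCoh.pull g).obj G ⟶ M) (n : ℕ)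
    (x : EtCoh.H Y G n) : Tr g φ n x = (EtCore.Hpull g G n x).comp (Ext.mk₀ φ) (add_zero n) := rfl

theorem Hpull_comp {G G' : EtCoh.Ab Y} (a : G ⟶ G') (n : ℕ) (x : EtCoh.H Y G n) :
    EtCore.Hpull g G' n (x.comp (Ext.mk₀ a) (add_zero n)) =
      (EtCore.Hpull g G n x).comp (Ext.mk₀ ((EtCoh.pull g).map a)) (add_zero n) := by
  simp only [EtCore.Hpull, AddMonoidHom.comp_apply, AddMonoidHom.mk'_apply,
    Functor.mapExtAddHom_coe, Ext.mapExactFunctor_comp, Ext.mapExactFunctor_mk₀,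
    Ext.comp_assoc_of_third_deg_zero]

theorem Tr_comp {G G' : EtCoh.Ab Y} {M : EtCoh.Ab X} (a : G ⟶ G')
    (φ : (EtCoh.pull g).obj G' ⟶ M) (n : ℕ) (x : EtCoh.H Y G n) :
    Tr g φ n (x.comp (Ext.mk₀ a) (add_zero n)) = Tr g ((EtCoh.pull g).map a ≫ φ) n x := by
  rw [Tr_apply, Tr_apply, Hpull_comp, Ext.comp_assoc_of_third_deg_zero, Ext.mk₀_comp_mk₀]

theorem Tr_postcomp {G : EtCoh.Ab Y} {M M' : EtCoh.Ab X} (φ : (EtCoh.pull g).obj G ⟶ M)
    (b : M ⟶ M') (n : ℕ) (x : EtCoh.H Y G n) :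
    Tr g (φ ≫ b) n x = (Tr g φ n x).comp (Ext.mk₀ b) (add_zero n) := by
  rw [Tr_apply, Tr_apply, Ext.comp_assoc_of_third_deg_zero, Ext.mk₀_comp_mk₀]

theorem Tr_δ {S₀ : ShortComplex (EtCoh.Ab Y)} {S : ShortComplex (EtCoh.Ab X)} (h₀ : S₀.ShortExact)
    (hS : S.ShortExact) (τ : S₀.map (EtCoh.pull g) ⟶ S) (n : ℕ) (x : EtCoh.H Y S₀.X₃ n) :
    Tr g τ.τ₁ (n + 1) (x.comp h₀.extClass rfl) = (Tr g τ.τ₃ n x).comp hS.extClass rfl := by
  have hpb := h₀.map_of_exact (EtCoh.pull g)
  have natδ : EtCore.Hpull g S₀.X₁ (n + 1) (x.comp h₀.extClass rfl) =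
      (EtCore.Hpull g S₀.X₃ n x).comp hpb.extClass rfl := by
    simp only [EtCore.Hpull, AddMonoidHom.comp_apply, AddMonoidHom.mk'_apply,
      Functor.mapExtAddHom_coe, Ext.mapExactFunctor_comp, Ext.mapExactFunctor_extClass]
    exact (Ext.comp_assoc _ _ _ _ _ (by lia)).symm
  rw [Tr_apply, Tr_apply, natδ]
  have e := hpb.extClass_naturality hS τ
  refine (Ext.comp_assoc_of_third_deg_zero (EtCore.Hpull g S₀.X₃ n x) hpb.extClass (Ext.mk₀ τ.τ₁) rfl).trans ?_
  refine (congrArg (fun m => (EtCore.Hpull g S₀.X₃ n x).comp m rfl) e).trans ?_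
  exact (Ext.comp_assoc_of_second_deg_zero _ _ _ _).symm

theorem Tr_zero {G : EtCoh.Ab Y} {M : EtCoh.Ab X} (φ : (EtCoh.pull g).obj G ⟶ M)
    (c : EtCoh.const Y ℤ ⟶ G) :
    Tr g φ 0 (Ext.mk₀ c) = Ext.mk₀ ((EtCore.pullConst g ℤ).inv ≫ (EtCoh.pull g).map c ≫ φ) := by
  simp only [Tr_apply, EtCore.Hpull, AddMonoidHom.comp_apply, AddMonoidHom.mk'_apply,
    Functor.mapExtAddHom_coe, Ext.mapExactFunctor_mk₀, Ext.mk₀_comp_mk₀, Category.assoc]

/-- `H^n(Y, g_* M) → H^n(X, M)`. -/
def lam (M : EtCoh.Ab X) (n : ℕ) : EtCoh.H Y ((EtCoh.push g).obj M) n →+ EtCoh.H X M n :=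
  Tr g ((EtCoh.pullPushAdj g).counit.app M) n

theorem lam_zero_bijective (M : EtCoh.Ab X) : Function.Bijective (lam g M 0) := by
  have hb : Function.Bijective fun c : EtCoh.const Y ℤ ⟶ (EtCoh.push g).obj M =>
      (EtCore.pullConst g ℤ).inv ≫ (EtCoh.pull g).map c ≫ (EtCoh.pullPushAdj g).counit.app M := by
    have h : (fun c : EtCoh.const Y ℤ ⟶ (EtCoh.push g).obj M =>
        (EtCore.pullConst g ℤ).inv ≫ (EtCoh.pull g).map c ≫ (EtCoh.pullPushAdj g).counit.app M) =
        (EtCore.pullConst g ℤ).homFromEquiv ∘ ((EtCoh.pullPushAdj g).homEquiv _ _).symm := by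
      funext c
      simp [Adjunction.homEquiv_counit, Iso.homFromEquiv]
    rw [h]
    exact (Iso.homFromEquiv _).bijective.comp (Equiv.bijective _)
  have h : (lam g M 0 : _ → _) ∘ Ext.mk₀ = Ext.mk₀ ∘ fun c : EtCoh.const Y ℤ ⟶ (EtCoh.push g).obj M =>
      (EtCore.pullConst g ℤ).inv ≫ (EtCoh.pull g).map c ≫ (EtCoh.pullPushAdj g).counit.app M :=
    funext fun c => Tr_zero g _ c
  exact (Function.Bijective.of_comp_iff _ (Ext.mk₀_bijective _ _)).1
    (h ▸ (Ext.mk₀_bijective _ _).comp hb)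

theorem lam_injective_one (M : EtCoh.Ab X) : Function.Injective (lam g M 1) := by
  let S := ShortComplex.mk (Injective.ι M) (cokernel.π _) (cokernel.condition _)
  have hS : S.ShortExact := { exact := ShortComplex.exact_cokernel (Injective.ι M) }
  have : Injective S.X₂ := inferInstanceAs (Injective (Injective.under M))
  have : Mono ((EtCoh.push g).map S.f) := (EtCoh.push g).map_mono S.f
  let S₀ := ShortComplex.mk ((EtCoh.push g).map S.f) (cokernel.π _) (cokernel.condition _)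
  have h₀ : S₀.ShortExact := { exact := ShortComplex.exact_cokernel ((EtCoh.push g).map S.f) }
  let ι : S₀.X₃ ⟶ (EtCoh.push g).obj S.X₃ := cokernel.desc _ ((EtCoh.push g).map S.g)
    (by rw [← Functor.map_comp, S.zero, Functor.map_zero])
  have : Mono ι := (S.map (EtCoh.push g)).exact_iff_mono_cokernel_desc.1
    (hS.exact.map_of_mono_of_preservesKernel (EtCoh.push g) inferInstance inferInstance)
  let τ : S₀.map (EtCoh.pull g) ⟶ S :=
    { τ₁ := (EtCoh.pullPushAdj g).counit.app _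
      τ₂ := (EtCoh.pullPushAdj g).counit.app _
      τ₃ := (EtCoh.pull g).map ι ≫ (EtCoh.pullPushAdj g).counit.app _
      comm₁₂ := ((EtCoh.pullPushAdj g).counit.naturality S.f).symm
      comm₂₃ := by
        change _ = (EtCoh.pull g).map (cokernel.π _) ≫ _ ≫ _
        rw [← Category.assoc, ← Functor.map_comp, cokernel.π_desc]
        exact ((EtCoh.pullPushAdj g).counit.naturality S.g).symm }
  refine (injective_iff_map_eq_zero _).2 fun x hx => ?_
  obtain ⟨c, rfl⟩ := Ext.covariant_sequence_exact₁ _ h₀ x (Ext.eq_zero_of_injective _) (n₀ := 0) rfl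
  have h1 : (Tr g τ.τ₃ 0 c).comp hS.extClass rfl = 0 := (Tr_δ g h₀ hS τ 0 c).symm.trans hx
  obtain ⟨z, hz⟩ := Ext.covariant_sequence_exact₃ _ hS (Tr g τ.τ₃ 0 c) rfl h1
  obtain ⟨z₀, rfl⟩ := (lam_zero_bijective g S.X₂).2 z
  have h2 : Tr g τ.τ₃ 0 (z₀.comp (Ext.mk₀ S₀.g) (add_zero 0)) = Tr g τ.τ₃ 0 c := by
    rw [Tr_comp]
    refine (congrArg (fun m => Tr g m 0 z₀) τ.comm₂₃.symm).trans ?_
    exact (Tr_postcomp g _ S.g 0 z₀).trans hz
  have h3 : z₀.comp (Ext.mk₀ S₀.g) (add_zero 0) = c := by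
    have hinj : Function.Injective (Tr g τ.τ₃ 0) := by
      intro a b hab
      have hab' : lam g S.X₃ 0 (a.comp (Ext.mk₀ ι) (add_zero 0)) =
          lam g S.X₃ 0 (b.comp (Ext.mk₀ ι) (add_zero 0)) :=
        (Tr_comp g ι _ 0 a).trans (hab.trans (Tr_comp g ι _ 0 b).symm)
      exact Ext.postcomp_mk₀_injective_of_mono _ ι ((lam_zero_bijective g S.X₃).1 hab')
    exact hinj h2
  rw [← h3, Ext.comp_assoc_of_second_deg_zero, h₀.comp_extClass, Ext.comp_zero]

theorem lam_bijective (n : ℕ) : ∀ M : EtCoh.Ab X,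
    (∀ q, 1 ≤ q → q ≤ n → IsZero ((EtCoh.Rpush g q).obj M)) →
    (∀ q, q ≤ n → Function.Bijective (lam g M q)) ∧ Function.Injective (lam g M (n + 1)) := by
  induction n with
  | zero =>
    intro M _
    exact ⟨fun q hq => by obtain rfl : q = 0 := by omega
                          exact lam_zero_bijective g M, lam_injective_one g M⟩
  | succ n ih =>
    intro M hM
    let S := ShortComplex.mk (Injective.ι M) (cokernel.π _) (cokernel.condition _)
    have hS : S.ShortExact := { exact := ShortComplex.exact_cokernel (Injective.ι M) }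
    have : Injective S.X₂ := inferInstanceAs (Injective (Injective.under M))
    have h₀ := shortExact_push g hS (hM 1 le_rfl (by omega))
    obtain ⟨hQb, hQi⟩ := ih S.X₃ fun q h1 h2 => by
      obtain ⟨q, rfl⟩ := Nat.exists_eq_add_of_le' h1
      exact isZero_Rpush_shift g hS q (hM (q + 2) (by omega) (by omega))
    have : Injective (S.map (EtCoh.push g)).X₂ :=
      (EtCoh.push g).injective_obj_of_injective (inferInstanceAs (Injective S.X₂))
    have hI : ∀ k, Function.Bijective (lam g S.X₂ k) := fun k => by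
      cases k with
      | zero => exact lam_zero_bijective g S.X₂
      | succ k =>
        have h1 : Subsingleton (EtCoh.H Y ((EtCoh.push g).obj S.X₂) (k + 1)) :=
          subsingleton_of_forall_eq 0 fun x =>
            @Ext.eq_zero_of_injective _ _ _ _ _ _ k (by assumption) x
        have h2 : Subsingleton (EtCoh.H X S.X₂ (k + 1)) :=
          subsingleton_of_forall_eq 0 fun x => Ext.eq_zero_of_injective x
        exact ⟨fun a b _ => h1.elim a b, fun y => ⟨0, h2.elim _ _⟩⟩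
    let τ : (S.map (EtCoh.push g)).map (EtCoh.pull g) ⟶ S :=
      { τ₁ := (EtCoh.pullPushAdj g).counit.app _
        τ₂ := (EtCoh.pullPushAdj g).counit.app _
        τ₃ := (EtCoh.pullPushAdj g).counit.app _
        comm₁₂ := ((EtCoh.pullPushAdj g).counit.naturality S.f).symm
        comm₂₃ := ((EtCoh.pullPushAdj g).counit.naturality S.g).symm }
    have hδ : ∀ (q : ℕ) (y : EtCoh.H Y ((EtCoh.push g).obj S.X₃) q),
        lam g M (q + 1) (y.comp h₀.extClass rfl) = (lam g S.X₃ q y).comp hS.extClass rfl :=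
      fun q y => Tr_δ g h₀ hS τ q y
    have hnat : ∀ (q : ℕ) (z : EtCoh.H Y ((EtCoh.push g).obj S.X₂) q),
        lam g S.X₃ q (z.comp (Ext.mk₀ ((EtCoh.push g).map S.g)) (add_zero q)) =
          (lam g S.X₂ q z).comp (Ext.mk₀ S.g) (add_zero q) := fun q z => by
      refine (Tr_comp g _ _ q z).trans ?_
      exact (congrArg (fun m => Tr g m q z) ((EtCoh.pullPushAdj g).counit.naturality S.g)).trans
        (Tr_postcomp g _ S.g q z)
    have hinj : ∀ q, Function.Injective (lam g S.X₃ q) → Function.Injective (lam g M (q + 1)) := by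
      intro q hq
      refine (injective_iff_map_eq_zero _).2 fun x hx => ?_
      obtain ⟨y, rfl⟩ := Ext.covariant_sequence_exact₁ _ h₀ x (Ext.eq_zero_of_injective _) (n₀ := q) rfl
      obtain ⟨z, hz⟩ := Ext.covariant_sequence_exact₃ _ hS (lam g S.X₃ q y) rfl ((hδ q y).symm.trans hx)
      obtain ⟨z, rfl⟩ := (hI q).2 z
      have hy : z.comp (Ext.mk₀ ((EtCoh.push g).map S.g)) (add_zero q) = y := hq ((hnat q z).trans hz)
      subst hy
      refine (Ext.comp_assoc_of_second_deg_zero z (Ext.mk₀ ((EtCoh.push g).map S.g)) h₀.extClass rfl).trans ?_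
      refine (congrArg (fun m => z.comp m rfl) h₀.comp_extClass).trans ?_
      exact Ext.comp_zero _ _ _ _ _
    refine ⟨fun q hq => ?_, hinj (n + 1) hQi⟩
    cases q with
    | zero => exact lam_zero_bijective g M
    | succ q =>
      refine ⟨hinj q (hQb q (by omega)).1, fun x => ?_⟩
      obtain ⟨y, rfl⟩ := Ext.covariant_sequence_exact₁ _ hS x (Ext.eq_zero_of_injective _) (n₀ := q) rfl
      obtain ⟨y, rfl⟩ := (hQb q (by omega)).2 y
      exact ⟨_, hδ q y⟩

theorem Hpull_eq_lam (F : EtCoh.Ab Y) (n : ℕ) (x : EtCoh.H Y F n) :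
    lam g ((EtCoh.pull g).obj F) n (x.comp (Ext.mk₀ ((EtCoh.pullPushAdj g).unit.app F)) (add_zero n)) =
      EtCore.Hpull g F n x := by
  refine (Tr_comp g _ _ n x).trans ?_
  rw [Adjunction.left_triangle_components, Tr_apply, Ext.comp_mk₀_id]

theorem Hpull_bijective (F : EtCoh.Ab Y) [IsIso ((EtCoh.pullPushAdj g).unit.app F)] (n : ℕ)
    (h : ∀ q, 1 ≤ q → q ≤ n → IsZero ((EtCoh.Rpush g q).obj ((EtCoh.pull g).obj F))) :
    (∀ q, q ≤ n → Function.Bijective (EtCore.Hpull g F q)) ∧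
      Function.Injective (EtCore.Hpull g F (n + 1)) := by
  obtain ⟨hb, hi⟩ := lam_bijective g n _ h
  have hu : ∀ q, Function.Bijective fun x : EtCoh.H Y F q =>
      x.comp (Ext.mk₀ ((EtCoh.pullPushAdj g).unit.app F)) (add_zero q) := fun q => by
    refine Function.bijective_iff_has_inverse.2
      ⟨fun y => y.comp (Ext.mk₀ (inv ((EtCoh.pullPushAdj g).unit.app F))) (add_zero q),
        fun x => ?_, fun y => ?_⟩
    · simp [Ext.comp_assoc_of_third_deg_zero]
    · simp [Ext.comp_assoc_of_third_deg_zero]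
  have he : ∀ q, (EtCore.Hpull g F q : _ → _) = lam g ((EtCoh.pull g).obj F) q ∘ fun x : EtCoh.H Y F q =>
      x.comp (Ext.mk₀ ((EtCoh.pullPushAdj g).unit.app F)) (add_zero q) :=
    fun q => funext fun x => (Hpull_eq_lam g F q x).symm
  exact ⟨fun q hq => he q ▸ (hb q hq).comp (hu q), he (n + 1) ▸ hi.comp (hu (n + 1)).1⟩

theorem bijective_unit_top (F : EtCoh.Ab Y) (h : Function.Bijective (EtCore.Hpull g F 0)) :
    Function.Bijective fun c : EtCoh.const Y ℤ ⟶ F => c ≫ (EtCoh.pullPushAdj g).unit.app F := by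
  have hp : Function.Bijective fun x : EtCoh.H Y F 0 =>
      x.comp (Ext.mk₀ ((EtCoh.pullPushAdj g).unit.app F)) (add_zero 0) := by
    refine (Function.Bijective.of_comp_iff' (lam_zero_bijective g _) _).1 ?_
    exact (funext fun x => Hpull_eq_lam g F 0 x :
      (lam g ((EtCoh.pull g).obj F) 0 : _ → _) ∘ _ = EtCore.Hpull g F 0).symm ▸ h
  refine (Function.Bijective.of_comp_iff' (Ext.mk₀_bijective _ _) _).1 ?_
  have : (Ext.mk₀ ∘ fun c : EtCoh.const Y ℤ ⟶ F => c ≫ (EtCoh.pullPushAdj g).unit.app F) =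
      (fun x : EtCoh.H Y F 0 => x.comp (Ext.mk₀ ((EtCoh.pullPushAdj g).unit.app F)) (add_zero 0)) ∘
        Ext.mk₀ := funext fun c => (Ext.mk₀_comp_mk₀ _ _).symm
  rw [this]
  exact hp.comp (Ext.mk₀_bijective _ _)

end Groth.Agent.Lib.EtSite.LowLeray
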