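import Groth.Agent.Lib.EtSite.BCGerm
import Groth.Agent.Lib.EtSite.Immersion
import Groth.Agent.Lib.EtSite.DisjointCover
import Groth.Agent.Lib.EtSite.Pull
import Groth.Agent.Lib.PBC50.SetsBC

/-!
Gluing of étale sheaves of sets along a proper modification square.
-/

set_option autoImplicit false
set_option backward.isDefEq.respectTransparency false
set_option linter.style.haveILetI false

universe u

open CategoryTheory CategoryTheory.Limits AlgebraicGeometry Opposite

noncomputable section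

namespace Groth.Agent.Lib.EtSite.ModSquare

open Groth.Agent.Lib.EtSite Groth.Agent.Lib.EtSite.Basic Groth.Agent.Lib.EtSite.SubDescent
open Groth.Agent.Lib.EtSite.PushStalk

section counit

variable {X S : Scheme.{u}} (f : X ⟶ S)

theorem stalkMap_symm {G : EtDesc.Sh S} {H : EtDesc.Sh X} (w : G ⟶ (EtDesc.pushSh f).obj H)
    {Ω : Type u} [Field Ω] [IsSepClosed Ω] {η : Spec (CommRingCat.of Ω) ⟶ S}
    {ξ : Spec (CommRingCat.of Ω) ⟶ X} (h : ξ ≫ f = η) (y : stalk η G) :
    stalkMap ξ (((EtDesc.adjSh f).homEquiv G H).symm w) (germUnit f G h y) =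
      (germTo f (Type (u + 1)) h).app H (stalkMap η w y) := by
  obtain ⟨V, p, t, rfl⟩ :=
    (Scheme.pointSmallEtale η).toPresheafFiber_jointly_surjective (P := G.obj) y
  refine (Effective.stalkMap_symm_germUnit f H w h p t).trans ?_
  refine Eq.trans ?_ (congrArg ((germTo f (Type (u + 1)) h).app H) (stalkMap_germ η w p t)).symm
  exact (germTo_toPresheafFiber f h H V p _).symm

theorem stalkMap_counit (H : EtDesc.Sh X) {Ω : Type u} [Field Ω] [IsSepClosed Ω]
    {η : Spec (CommRingCat.of Ω) ⟶ S} {ξ : Spec (CommRingCat.of Ω) ⟶ X} (h : ξ ≫ f = η)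
    (y : stalk η ((EtDesc.pushSh f).obj H)) :
    stalkMap ξ ((EtDesc.adjSh f).counit.app H) (germUnit f _ h y) =
      (germTo f (Type (u + 1)) h).app H y := by
  have e := stalkMap_symm f (𝟙 ((EtDesc.pushSh f).obj H)) h y
  rwa [Adjunction.homEquiv_counit, CategoryTheory.Functor.map_id, Category.id_comp,
    stalkMap_id] at e

theorem bijective_stalkMap_of_isIso {G H : EtDesc.Sh X} (a : G ⟶ H) [IsIso a] {Ω : Type u} [Field Ω]
    [IsSepClosed Ω] (ξ : Spec (CommRingCat.of Ω) ⟶ X) : Function.Bijective (stalkMap ξ a) :=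
  (isIso_iff_bijective ((Scheme.pointSmallEtale ξ).sheafFiber.map a)).1 inferInstance

theorem bijective_of_pull {G H : EtDesc.Sh S} (a : G ⟶ H) [IsIso ((EtDesc.pullSh f).map a)]
    {Ω : Type u} [Field Ω] [IsSepClosed Ω] (ξ : Spec (CommRingCat.of Ω) ⟶ X) :
    Function.Bijective (stalkMap (ξ ≫ f) a) := by
  have hG := bijective_germUnit f G (rfl : ξ ≫ f = ξ ≫ f)
  have hH := bijective_germUnit f H (rfl : ξ ≫ f = ξ ≫ f)
  refine (Function.Bijective.of_comp_iff' hH _).1 ?_
  rw [show germUnit f H (rfl : ξ ≫ f = ξ ≫ f) ∘ stalkMap (ξ ≫ f) a =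
    stalkMap ξ ((EtDesc.pullSh f).map a) ∘ germUnit f G rfl from
      funext fun y => (germUnit_naturality f a rfl y).symm]
  exact (bijective_stalkMap_of_isIso ((EtDesc.pullSh f).map a) ξ).comp hG

end counit

theorem exists_sect_of_isEmpty {X : Scheme.{u}} (T : X.Etale) [IsEmpty ↥T.left] (G : EtDesc.Sh X) :
    Nonempty (EtDesc.sect G T) := by
  have h : DisjointCover.IsDisjointCover (U := T) (fun e : PEmpty.{u + 1} => (e.elim : X.Etale))
      (fun e => e.elim) :=
    { isOpenImmersion := fun e => e.elim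
      exists_eq := fun x => isEmptyElim x
      disjoint := fun e => e.elim }
  exact ⟨(h.exists_glue G fun e => e.elim).choose⟩

section square

variable {X X' Z E U : Scheme.{u}} {f : X' ⟶ X} {i : Z ⟶ X} {j : E ⟶ X'} {g : E ⟶ Z}

/-- The transposed comparison. -/
def Ψ₀ (c : IsPullback j g f i) (F' : EtDesc.Sh X') :
    (EtDesc.pullSh g).obj ((EtDesc.pullSh i).obj ((EtDesc.pushSh f).obj F')) ⟶
      (EtDesc.pullSh j).obj F' :=
  (EtDesc.pullVia g i (j ≫ f) c.w.symm _).hom ≫ (EtDesc.pullVia j f (j ≫ f) rfl _).inv ≫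
    (EtDesc.pullSh j).map ((EtDesc.adjSh f).counit.app F')

theorem symm_baseChange (c : IsPullback j g f i) (F' : EtDesc.Sh X') :
    ((EtDesc.adjSh g).homEquiv _ _).symm (EtBC.baseChange0Sh f i g j c.w F') = Ψ₀ c F' := by
  refine Effective.hom_ext_of_stalks _ _ fun z => ?_
  let ξ := Push.algPoint E z
  refine ⟨_, inferInstance, inferInstance, ξ, Push.algPoint_apply E z default, fun x => ?_⟩
  obtain ⟨y, rfl⟩ := (bijective_germUnit g _ (rfl : ξ ≫ g = ξ ≫ g)).2 x
  obtain ⟨c₀, rfl⟩ := (bijective_germUnit i _ (rfl : (ξ ≫ g) ≫ i = (ξ ≫ g) ≫ i)).2 y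
  have h₀ : (ξ ≫ j) ≫ f = (ξ ≫ g) ≫ i := by rw [Category.assoc, c.w, Category.assoc]
  have hb : ξ ≫ j ≫ f = (ξ ≫ g) ≫ i := by rw [← Category.assoc]; exact h₀
  rw [stalkMap_symm, BCGerm.germTo_baseChange0Sh c.w F' rfl rfl rfl h₀]
  simp only [Ψ₀, stalkMap_comp]
  rw [pullVia_germUnit i g (j ≫ f) c.w.symm _ rfl rfl hb,
    ← pullVia_germUnit f j (j ≫ f) rfl _ rfl h₀ hb,
    ← stalkMap_comp ξ (EtDesc.pullVia j f (j ≫ f) rfl ((EtDesc.pushSh f).obj F')).hom, Iso.hom_inv_id, stalkMap_id,
    germUnit_naturality, stalkMap_counit]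

variable (c : IsPullback j g f i) {F' : EtDesc.Sh X'} {G : EtDesc.Sh Z}
  (α : (EtDesc.pullSh j).obj F' ≅ (EtDesc.pullSh g).obj G)

/-- The map of the direct image from the modification. -/
def amap : (EtDesc.pushSh f).obj F' ⟶
    (EtDesc.pushSh i).obj ((EtDesc.pushSh g).obj ((EtDesc.pullSh g).obj G)) :=
  (EtDesc.adjSh i).homEquiv _ _ ((EtDesc.adjSh g).homEquiv _ _ (Ψ₀ c F' ≫ α.hom))

/-- The map of the direct image from the closed subscheme. -/
def bmap (g : E ⟶ Z) (G : EtDesc.Sh Z) : (EtDesc.pushSh i).obj G ⟶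
    (EtDesc.pushSh i).obj ((EtDesc.pushSh g).obj ((EtDesc.pullSh g).obj G)) :=
  (EtDesc.pushSh i).map ((EtDesc.adjSh g).unit.app G)

theorem cond_iff (F₁ : EtDesc.Sh X) (x : (EtDesc.pullSh f).obj F₁ ⟶ F')
    (y : (EtDesc.pullSh i).obj F₁ ⟶ G) :
    (EtDesc.adjSh f).homEquiv _ _ x ≫ amap c α = (EtDesc.adjSh i).homEquiv _ _ y ≫ bmap g G ↔
      (EtDesc.pullSh j).map x ≫ α.hom =
        (EtDesc.pullVia j f (j ≫ f) rfl F₁ ≪≫ (EtDesc.pullVia g i (j ≫ f) c.w.symm F₁).symm).hom ≫
          (EtDesc.pullSh g).map y := by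
  let hx := (EtDesc.adjSh f).homEquiv _ _ x
  have e₁ : hx ≫ amap c α = (EtDesc.adjSh i).homEquiv _ _ ((EtDesc.adjSh g).homEquiv _ _
      ((EtDesc.pullSh g).map ((EtDesc.pullSh i).map hx) ≫ Ψ₀ c F' ≫ α.hom)) := by
    rw [Adjunction.homEquiv_naturality_left, Adjunction.homEquiv_naturality_left]
    rfl
  have e₂ : (EtDesc.adjSh i).homEquiv _ _ y ≫ bmap g G =
      (EtDesc.adjSh i).homEquiv _ _ ((EtDesc.adjSh g).homEquiv _ _ ((EtDesc.pullSh g).map y)) := by
    rw [bmap, ← Adjunction.homEquiv_naturality_right]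
    refine congrArg _ ?_
    rw [Adjunction.homEquiv_unit, ← Functor.comp_map, ← (EtDesc.adjSh g).unit.naturality y]
    rfl
  have n₁ : (EtDesc.pullSh g).map ((EtDesc.pullSh i).map hx) ≫
      (EtDesc.pullVia g i (j ≫ f) c.w.symm ((EtDesc.pushSh f).obj F')).hom =
      (EtDesc.pullVia g i (j ≫ f) c.w.symm F₁).hom ≫ (EtDesc.pullSh (j ≫ f)).map hx :=
    (((EtDesc.pullCompSh g i).symm ≪≫ EtDesc.pullCongrSh c.w.symm).hom.naturality hx)
  have n₂ : (EtDesc.pullSh (j ≫ f)).map hx ≫
      (EtDesc.pullVia j f (j ≫ f) rfl ((EtDesc.pushSh f).obj F')).inv =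
      (EtDesc.pullVia j f (j ≫ f) rfl F₁).inv ≫ (EtDesc.pullSh j).map ((EtDesc.pullSh f).map hx) :=
    (((EtDesc.pullCompSh j f).symm ≪≫ EtDesc.pullCongrSh rfl).inv.naturality hx)
  have e₃ : (EtDesc.pullSh g).map ((EtDesc.pullSh i).map hx) ≫ Ψ₀ c F' ≫ α.hom =
      (EtDesc.pullVia g i (j ≫ f) c.w.symm F₁).hom ≫ (EtDesc.pullVia j f (j ≫ f) rfl F₁).inv ≫
        (EtDesc.pullSh j).map x ≫ α.hom := by
    rw [Ψ₀]
    simp only [Category.assoc]
    rw [reassoc_of% n₁, reassoc_of% n₂, ← Functor.map_comp_assoc]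
    congr 4
    rw [← Adjunction.homEquiv_counit, Equiv.symm_apply_apply]
  rw [e₁, e₂, e₃, Iso.trans_hom, Iso.symm_hom]
  constructor
  · intro h
    rw [Category.assoc, ← ((EtDesc.adjSh g).homEquiv _ _).injective
      (((EtDesc.adjSh i).homEquiv _ _).injective h), Iso.inv_hom_id_assoc, Iso.hom_inv_id_assoc]
  · intro h
    rw [h, Category.assoc, Iso.inv_hom_id_assoc, Iso.hom_inv_id_assoc]

theorem bijective_germTo (u : U ⟶ X) [IsOpenImmersion u] [IsProper f]
    (hf : IsIso (pullback.snd f u)) (H : EtDesc.Sh X') {Ω : Type u} [Field Ω] [IsSepClosed Ω]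
    (θ : Spec (CommRingCat.of Ω) ⟶ pullback f u) :
    Function.Bijective ((germTo f (Type (u + 1))
      (show (θ ≫ pullback.fst f u) ≫ f = (θ ≫ pullback.snd f u) ≫ u by
        rw [Category.assoc, pullback.condition, Category.assoc])).app H) := by
  have sq := IsPullback.of_hasPullback f u
  haveI := PBC50.SetsBC.isIso_baseChange0Sh sq H
  haveI : IsIso (pullback.snd f u) := hf
  let v := pullback.snd f u
  let q := pullback.fst f u
  have h₀ : (θ ≫ q) ≫ f = (θ ≫ v) ≫ u := by
    rw [Category.assoc, pullback.condition, Category.assoc]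
  refine (Function.Bijective.of_comp_iff' (bijective_germUnit q H (rfl : θ ≫ q = θ ≫ q)) _).1 ?_
  rw [show (germUnit q H (rfl : θ ≫ q = θ ≫ q)) ∘ ((germTo f (Type (u + 1)) h₀).app H) =
      ((germTo v (Type (u + 1)) (rfl : θ ≫ v = θ ≫ v)).app ((EtDesc.pullSh q).obj H)) ∘
        (stalkMap (θ ≫ v) (EtBC.baseChange0Sh f u v q sq.w H)) ∘ (germUnit u _ rfl) from
    funext fun d => (BCGerm.germTo_baseChange0Sh sq.w H rfl rfl rfl h₀ d).symm]
  exact (Immersion.germTo_bijective_of_isOpenImmersion v rfl _).comp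
    ((bijective_stalkMap_of_isIso _ _).comp (bijective_germUnit u _ rfl))

variable [IsProper f] [IsClosedImmersion i]

theorem isIso_pull_amap : IsIso ((EtDesc.pullSh i).map (amap c α)) := by
  haveI := PBC50.SetsBC.isIso_baseChange0Sh c F'
  haveI : IsIso ((EtDesc.adjSh i).counit) :=
    Immersion.isIso_counit_of_isClosedImmersion (A := Type (u + 1)) i
  have e : (EtDesc.pullSh i).map (amap c α) ≫ (EtDesc.adjSh i).counit.app _ =
      EtBC.baseChange0Sh f i g j c.w F' ≫ (EtDesc.pushSh g).map α.hom := by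
    refine ((EtDesc.adjSh i).homEquiv_counit _ _ _).symm.trans ?_
    refine (Equiv.symm_apply_apply ((EtDesc.adjSh i).homEquiv _ _) _).trans ?_
    rw [← symm_baseChange c F',
      Adjunction.homEquiv_naturality_right, Equiv.apply_symm_apply]
  haveI : IsIso ((EtDesc.pullSh i).map (amap c α) ≫ (EtDesc.adjSh i).counit.app _) := by
    rw [e]; infer_instance
  exact IsIso.of_isIso_comp_right _ ((EtDesc.adjSh i).counit.app _)

theorem bijective_bmap_stalk {Ω : Type u} [Field Ω] [IsSepClosed Ω]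
    (η : Spec (CommRingCat.of Ω) ⟶ X) (hη : η.base default ∉ Set.range i.base) :
    Function.Bijective (stalkMap η (bmap (i := i) g G)) := by
  refine ⟨fun a b _ => Immersion.stalk_push_eq_of_disjoint (A := Type (u + 1)) i hη G a b,
    fun y => ?_⟩
  let W : X.Opens := ⟨(Set.range i.base)ᶜ, i.isClosedMap.isClosed_range.isOpen_compl⟩
  let V : X.Etale := Scheme.Etale.mk W.ι
  have hr : Set.range η.base ⊆ Set.range W.ι.base := by
    rintro _ ⟨d, rfl⟩
    rw [Subsingleton.elim d default, Scheme.Opens.range_ι]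
    exact hη
  let p : (Scheme.pointSmallEtale η).fiber.obj V :=
    mkFiber η V (IsOpenImmersion.lift W.ι η hr) (IsOpenImmersion.lift_fac _ _ _)
  haveI : IsEmpty ↥((EtCoh.bc i).obj V).left := ⟨fun w => by
    have h := congrArg (fun m : ((EtCoh.bc i).obj V).left ⟶ X => m.base w)
      (pullback.condition (f := W.ι) (g := i))
    simp only [Scheme.Hom.comp_apply] at h
    exact ((pullback.fst W.ι i).base w).2 ⟨_, h.symm⟩⟩
  obtain ⟨s⟩ := exists_sect_of_isEmpty ((EtCoh.bc i).obj V) G
  exact ⟨germ η ((EtDesc.pushSh i).obj G) p s,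
    Immersion.stalk_push_eq_of_disjoint (A := Type (u + 1)) i hη _ _ _⟩

/-- The glued sheaf. -/
abbrev glue : EtDesc.Sh X := pullback (amap c α) (bmap g G)

theorem isIso_γ :
    IsIso (((EtDesc.adjSh i).homEquiv _ _).symm (pullback.snd (amap c α) (bmap g G))) := by
  haveI : PreservesFiniteLimits (EtDesc.pullSh i) := Pull.preservesFiniteLimits_pullSh i
  haveI := isIso_pull_amap c α
  haveI : IsIso ((EtDesc.pullSh i).map (pullback.snd (amap c α) (bmap g G))) :=
    MorphismProperty.of_isPullback (P := MorphismProperty.isomorphisms _)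
      (((IsPullback.of_hasPullback (amap c α) (bmap g G)).map (EtDesc.pullSh i)))
      (show IsIso _ from isIso_pull_amap c α)
  haveI : IsIso ((EtDesc.adjSh i).counit) :=
    Immersion.isIso_counit_of_isClosedImmersion (A := Type (u + 1)) i
  rw [Adjunction.homEquiv_counit]
  infer_instance

theorem compat :
    (EtDesc.pullSh j).map (((EtDesc.adjSh f).homEquiv _ _).symm (pullback.fst (amap c α) (bmap g G))) ≫
        α.hom =
      (EtDesc.pullVia j f (j ≫ f) rfl (glue c α) ≪≫
        (EtDesc.pullVia g i (j ≫ f) c.w.symm (glue c α)).symm).hom ≫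
        (EtDesc.pullSh g).map (((EtDesc.adjSh i).homEquiv _ _).symm (pullback.snd (amap c α) (bmap g G))) := by
  rw [← cond_iff c α, Equiv.apply_symm_apply, Equiv.apply_symm_apply]
  exact pullback.condition

theorem isIso_β (u : U ⟶ X) [IsOpenImmersion u] (hU : Set.range u = (Set.range i)ᶜ)
    (hf : IsIso (pullback.snd f u)) :
    IsIso (((EtDesc.adjSh f).homEquiv _ _).symm (pullback.fst (amap c α) (bmap g G))) := by
  refine Stalk.isIso_of_stalks _ fun x => ?_
  by_cases hx : f.base x ∈ Set.range i.base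
  · obtain ⟨z, hz⟩ := hx
    obtain ⟨e, he, -⟩ := Scheme.Pullback.exists_preimage_pullback (f := f) (g := i) x z hz.symm
    let e' := c.isoPullback.inv.base e
    have he' : j.base e' = x := by
      rw [← Scheme.Hom.comp_apply, IsPullback.isoPullback_inv_fst, he]
    let θ := Push.algPoint E e'
    refine ⟨_, inferInstance, inferInstance, θ ≫ j, ?_, ?_⟩
    · rw [Scheme.Hom.comp_apply, Push.algPoint_apply, he']
    haveI := isIso_γ c α
    haveI : IsIso ((EtDesc.pullSh j).map
        (((EtDesc.adjSh f).homEquiv _ _).symm (pullback.fst (amap c α) (bmap g G))) ≫ α.hom) := by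
      rw [compat]; infer_instance
    haveI := IsIso.of_isIso_comp_right ((EtDesc.pullSh j).map
        (((EtDesc.adjSh f).homEquiv _ _).symm (pullback.fst (amap c α) (bmap g G)))) α.hom
    exact bijective_of_pull j _ θ
  · have hxu : f.base x ∈ Set.range u.base := by
      change f.base x ∈ Set.range u
      rw [hU]; exact hx
    obtain ⟨w, hw⟩ := hxu
    obtain ⟨e, he, -⟩ := Scheme.Pullback.exists_preimage_pullback (f := f) (g := u) x w hw.symm
    let θ := Push.algPoint (pullback f u) e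
    let η := (θ ≫ pullback.snd f u) ≫ u
    have h₀ : (θ ≫ pullback.fst f u) ≫ f = η := by
      change _ = (θ ≫ pullback.snd f u) ≫ u
      rw [Category.assoc, pullback.condition, Category.assoc]
    have hη : η.base default ∉ Set.range i.base := by
      rw [← h₀, Scheme.Hom.comp_apply, Scheme.Hom.comp_apply, Push.algPoint_apply, he]
      exact hx
    refine ⟨_, inferInstance, inferInstance, θ ≫ pullback.fst f u, ?_, ?_⟩
    · rw [Scheme.Hom.comp_apply, Push.algPoint_apply, he]
    have hb : IsIso ((Scheme.pointSmallEtale η).sheafFiber.map (bmap g G)) :=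
      (isIso_iff_bijective _).2 (bijective_bmap_stalk (i := i) (G := G) η hη)
    have hp : Function.Bijective (stalkMap η (pullback.fst (amap c α) (bmap g G))) :=
      (isIso_iff_bijective _).1 (MorphismProperty.of_isPullback (P := MorphismProperty.isomorphisms _)
        (((IsPullback.of_hasPullback (amap c α) (bmap g G)).map (Scheme.pointSmallEtale η).sheafFiber)).flip
        hb)
    refine (Function.Bijective.of_comp_iff _ (bijective_germUnit f _ h₀)).1 ?_
    rw [show stalkMap (θ ≫ pullback.fst f u)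
          (((EtDesc.adjSh f).homEquiv _ _).symm (pullback.fst (amap c α) (bmap g G))) ∘
          germUnit f _ h₀ =
        ((germTo f (Type (u + 1)) h₀).app F') ∘ stalkMap η (pullback.fst (amap c α) (bmap g G)) from
      funext fun y => stalkMap_symm f _ h₀ y]
    exact (bijective_germTo u hf F' θ).comp hp

end square

theorem result {X X' Z E U : Scheme.{u}} (f : X' ⟶ X) [IsProper f]
    (i : Z ⟶ X) [IsClosedImmersion i] (u : U ⟶ X) [IsOpenImmersion u] (hU : Set.range u = (Set.range i)ᶜ)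
    (hf : IsIso (pullback.snd f u)) (j : E ⟶ X') (g : E ⟶ Z) (c : IsPullback j g f i) :
    (∀ (F₁ F₂ : EtDesc.Sh X) (a : (EtDesc.pullSh f).obj F₁ ⟶ (EtDesc.pullSh f).obj F₂)
        (b : (EtDesc.pullSh i).obj F₁ ⟶ (EtDesc.pullSh i).obj F₂),
        (EtDesc.pullSh j).map a ≫ (EtDesc.pullVia j f (j ≫ f) rfl F₂ ≪≫ (EtDesc.pullVia g i (j ≫ f) c.w.symm F₂).symm).hom = (EtDesc.pullVia j f (j ≫ f) rfl F₁ ≪≫ (EtDesc.pullVia g i (j ≫ f) c.w.symm F₁).symm).hom ≫ (EtDesc.pullSh g).map b →
        ∃! φ : F₁ ⟶ F₂, (EtDesc.pullSh f).map φ = a ∧ (EtDesc.pullSh i).map φ = b) ∧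
    (∀ (F' : EtDesc.Sh X') (G : EtDesc.Sh Z) (α : (EtDesc.pullSh j).obj F' ≅ (EtDesc.pullSh g).obj G),
        ∃ (F : EtDesc.Sh X) (β : (EtDesc.pullSh f).obj F ≅ F') (γ : (EtDesc.pullSh i).obj F ≅ G),
          (EtDesc.pullSh j).map β.hom ≫ α.hom = (EtDesc.pullVia j f (j ≫ f) rfl F ≪≫ (EtDesc.pullVia g i (j ≫ f) c.w.symm F).symm).hom ≫ (EtDesc.pullSh g).map γ.hom) := by
  refine ⟨fun F₁ F₂ a b hab => ?_, fun F' G α => ?_⟩
  · let α := EtDesc.pullVia j f (j ≫ f) rfl F₂ ≪≫ (EtDesc.pullVia g i (j ≫ f) c.w.symm F₂).symm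
    let uf := (EtDesc.adjSh f).homEquiv _ _ (𝟙 ((EtDesc.pullSh f).obj F₂))
    let ui := (EtDesc.adjSh i).homEquiv _ _ (𝟙 ((EtDesc.pullSh i).obj F₂))
    let θ : F₂ ⟶ glue c α := pullback.lift uf ui ((cond_iff c α F₂ (𝟙 _) (𝟙 _)).2 (by
      simp only [CategoryTheory.Functor.map_id, Category.id_comp, Category.comp_id]
      rfl))
    haveI := isIso_β c α u hU hf
    haveI := isIso_γ c α
    let β := ((EtDesc.adjSh f).homEquiv _ _).symm (pullback.fst (amap c α) (bmap g _))
    let γ := ((EtDesc.adjSh i).homEquiv _ _).symm (pullback.snd (amap c α) (bmap g _))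
    have hθf : (EtDesc.pullSh f).map θ ≫ β = 𝟙 _ := by
      rw [← Adjunction.homEquiv_naturality_left_symm, pullback.lift_fst, Equiv.symm_apply_apply]
    have hθi : (EtDesc.pullSh i).map θ ≫ γ = 𝟙 _ := by
      rw [← Adjunction.homEquiv_naturality_left_symm, pullback.lift_snd, Equiv.symm_apply_apply]
    haveI : IsIso ((EtDesc.pullSh f).map θ) := by
      haveI : IsIso ((EtDesc.pullSh f).map θ ≫ β) := by rw [hθf]; infer_instance
      exact IsIso.of_isIso_comp_right _ β
    haveI : IsIso θ := by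
      refine Stalk.isIso_of_stalks _ fun x => ?_
      by_cases hx : x ∈ Set.range i.base
      · obtain ⟨z, rfl⟩ := hx
        haveI : IsIso ((EtDesc.pullSh i).map θ ≫ γ) := by rw [hθi]; infer_instance
        haveI := IsIso.of_isIso_comp_right ((EtDesc.pullSh i).map θ) γ
        exact ⟨_, inferInstance, inferInstance, Push.algPoint Z z ≫ i,
          by rw [Scheme.Hom.comp_apply, Push.algPoint_apply], bijective_of_pull i θ _⟩
      · have hxu : x ∈ Set.range u.base := by change x ∈ Set.range u; rw [hU]; exact hx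
        obtain ⟨w, rfl⟩ := hxu
        obtain ⟨e, he⟩ := (asIso (pullback.snd f u)).hom.surjective w
        refine ⟨_, inferInstance, inferInstance, (Push.algPoint _ e ≫ pullback.fst f u) ≫ f, ?_,
          bijective_of_pull f θ _⟩
        rw [Category.assoc, pullback.condition, Scheme.Hom.comp_apply, Scheme.Hom.comp_apply,
          Push.algPoint_apply]
        exact congrArg u.base he
    let φ₀ : F₁ ⟶ glue c α := pullback.lift ((EtDesc.adjSh f).homEquiv _ _ a)
      ((EtDesc.adjSh i).homEquiv _ _ b) ((cond_iff c α F₁ a b).2 hab)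
    refine ⟨φ₀ ≫ inv θ, ⟨?_, ?_⟩, fun φ hφ => ?_⟩
    · apply ((EtDesc.adjSh f).homEquiv _ _).injective
      rw [← Category.comp_id ((EtDesc.pullSh f).map _), Adjunction.homEquiv_naturality_left]
      have : inv θ ≫ uf = pullback.fst (amap c α) (bmap g _) := by
        rw [IsIso.inv_comp_eq]; exact (pullback.lift_fst _ _ _).symm
      exact (Category.assoc _ _ _).trans ((congrArg (φ₀ ≫ ·) this).trans (pullback.lift_fst _ _ _))
    · apply ((EtDesc.adjSh i).homEquiv _ _).injective
      rw [← Category.comp_id ((EtDesc.pullSh i).map _), Adjunction.homEquiv_naturality_left]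
      have : inv θ ≫ ui = pullback.snd (amap c α) (bmap g _) := by
        rw [IsIso.inv_comp_eq]; exact (pullback.lift_snd _ _ _).symm
      exact (Category.assoc _ _ _).trans ((congrArg (φ₀ ≫ ·) this).trans (pullback.lift_snd _ _ _))
    · rw [← IsIso.comp_inv_eq, IsIso.inv_inv]
      apply pullback.hom_ext
      · rw [Category.assoc, pullback.lift_fst, pullback.lift_fst, ← Adjunction.homEquiv_naturality_left,
          Category.comp_id, hφ.1]
      · rw [Category.assoc, pullback.lift_snd, pullback.lift_snd, ← Adjunction.homEquiv_naturality_left,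
          Category.comp_id, hφ.2]
  · haveI := isIso_β c α u hU hf
    haveI := isIso_γ c α
    exact ⟨glue c α, asIso (((EtDesc.adjSh f).homEquiv _ _).symm (pullback.fst (amap c α) (bmap g G))),
      asIso (((EtDesc.adjSh i).homEquiv _ _).symm (pullback.snd (amap c α) (bmap g G))), compat c α⟩

end Groth.Agent.Lib.EtSite.ModSquare
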