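import Groth.Agent.Lib.EtSite.NormalSepClosed
import Groth.Agent.Lib.EtSite.StrictHens
import Groth.Agent.Lib.EtSite.Sheets
import Groth.Agent.Lib.Unram.EtaleMono
import Mathlib.AlgebraicGeometry.SpreadingOut
import Mathlib.AlgebraicGeometry.FunctionField
import Mathlib.AlgebraicGeometry.Morphisms.Separated

/-!
# Separated étale schemes over normal schemes with separably closed function field
-/

set_option autoImplicit false

universe u

open CategoryTheory CategoryTheory.Limits AlgebraicGeometry TopologicalSpace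

noncomputable section

namespace Groth.Agent.Lib.EtSite.NormalEtaleSep

open Groth.Agent.Lib.EtSite

variable {U X : Scheme.{u}} [IsIntegral X] (g : U ⟶ X) [Etale g]

theorem exists_section (hN : ∀ x : X, IsIntegrallyClosed (X.presheaf.stalk x))
    [IsSepClosed X.functionField] (u : U) :
    ∃ (V : X.Opens) (σ : (V : Scheme.{u}) ⟶ U) (v : (V : Scheme.{u})),
      σ ≫ g = V.ι ∧ σ.base v = u := by
  let x := g.base u
  let R := X.presheaf.stalk x
  have := hN x
  obtain ⟨_, _⟩ := NormalSepClosed.isStrictlyHenselianLocalRing (R := R) (K := X.functionField)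
  let P := pullback g (X.fromSpecStalk x)
  let W : (Spec (CommRingCat.of R)).Etale := Scheme.Etale.mk (pullback.snd g (X.fromSpecStalk x))
  obtain ⟨z, hz, hz'⟩ := Scheme.Pullback.exists_preimage_pullback (f := g) (g := X.fromSpecStalk x) u
    (IsLocalRing.closedPoint R) Scheme.fromSpecStalk_closedPoint.symm
  obtain ⟨p, hp⟩ := Basic.exists_fiber (StrictHens.cpt R) W z (hz'.trans (by
    rw [Subsingleton.elim (default : Spec (CommRingCat.of (IsLocalRing.ResidueField R)))
      (IsLocalRing.closedPoint (IsLocalRing.ResidueField R))]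
    exact (IsLocalRing.comap_closedPoint (IsLocalRing.residue R)).symm))
  obtain ⟨s, hs⟩ := StrictHens.exists_section R W p
  let φ : Spec R ⟶ U := s.left ≫ pullback.fst g (X.fromSpecStalk x)
  have hφ : φ ≫ g = X.fromSpecStalk x ≫ 𝟙 X := by
    rw [Category.comp_id]
    refine (Category.assoc _ _ _).trans ((_ ≫= pullback.condition).trans ?_)
    exact (Category.assoc _ _ _).symm.trans ((eq_whisker (MorphismProperty.Over.w s) _).trans
      (Category.id_comp _))
  obtain ⟨V, hxV, σ, h₁, h₂⟩ := spread_out_of_isGermInjective' (𝟙 X) g (x := x) φ hφ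
  refine ⟨V, σ, (V.fromSpecStalkOfMem x hxV).base (IsLocalRing.closedPoint R), h₂.trans (Category.comp_id _), ?_⟩
  rw [← Scheme.Hom.comp_apply, ← h₁, ← hz, ← hp, ← hs]
  refine (congrArg φ.base ?_).trans (by rfl)
  let c₀ : Spec (CommRingCat.of (IsLocalRing.ResidueField R)) :=
    IsLocalRing.closedPoint (IsLocalRing.ResidueField R)
  refine Eq.trans ?_ (congrArg (StrictHens.cpt R).base (Subsingleton.elim c₀ default))
  exact (IsLocalRing.comap_closedPoint (IsLocalRing.residue R)).symm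

theorem isOpenImmersion_section {V : X.Opens} (σ : (V : Scheme.{u}) ⟶ U) (hσ : σ ≫ g = V.ι) :
    IsOpenImmersion σ := by
  have h1 : Etale (σ ≫ g) := hσ ▸ inferInstance
  have : Etale σ := MorphismProperty.of_postcomp @Etale (W' := @Etale) σ g ‹Etale g› h1
  have : Mono (σ ≫ g) := hσ ▸ inferInstance
  have : Mono σ := mono_of_mono σ g
  exact IsOpenImmersion.of_flat_of_mono σ

theorem genericPoint_mem {V : X.Opens} (v : (V : Scheme.{u})) : genericPoint X ∈ V :=
  ((genericPoint_spec X).mem_open_set_iff V.2).2 (by simpa using ⟨v.1, v.2⟩)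

/-- The point of a section over the generic point. -/
def gen {V : X.Opens} (σ : (V : Scheme.{u}) ⟶ U) (v : (V : Scheme.{u})) : U :=
  σ.base ⟨genericPoint X, genericPoint_mem v⟩

theorem eq_of_gen {V V' : X.Opens} (σ : (V : Scheme.{u}) ⟶ U) (σ' : (V' : Scheme.{u}) ⟶ U)
    (hσ : σ ≫ g = V.ι) (hσ' : σ' ≫ g = V'.ι) [IsSeparated g] (v : (V : Scheme.{u})) (v' : (V' : Scheme.{u}))
    (he : gen σ v = gen σ' v') (h : v.1 = v'.1) : σ.base v = σ'.base v' := by
  have := isOpenImmersion_section g σ' hσ'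
  let W : X.Opens := V ⊓ V'
  let a : (W : Scheme.{u}) ⟶ U := X.homOfLE inf_le_left ≫ σ
  let a' : (W : Scheme.{u}) ⟶ U := X.homOfLE inf_le_right ≫ σ'
  have ha : a ≫ g = a' ≫ g := by
    simp only [a, a', Category.assoc, hσ, hσ', Scheme.homOfLE_ι]
  let D : (W : Scheme.{u}).Opens := a ⁻¹ᵁ σ'.opensRange
  have hη : genericPoint X ∈ W := ⟨genericPoint_mem v, genericPoint_mem v'⟩
  have e0 : (X.homOfLE (inf_le_left : W ≤ V)).base ⟨genericPoint X, hη⟩ = ⟨genericPoint X, genericPoint_mem v⟩ :=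
    Subtype.ext (Scheme.homOfLE_apply _ _)
  have e3 : a.base ⟨genericPoint X, hη⟩ = gen σ v := by
    simp only [a, Scheme.Hom.comp_apply, e0, gen]
  have hηD : (⟨genericPoint X, hη⟩ : (W : Scheme.{u})) ∈ D := by
    show a.base ⟨genericPoint X, hη⟩ ∈ σ'.opensRange
    rw [e3, he]
    exact ⟨_, rfl⟩
  have : IsIntegral (W : Scheme.{u}) := by
    have : Nonempty (W : Scheme.{u}) := ⟨⟨_, hη⟩⟩
    exact isIntegral_of_isOpenImmersion W.ι
  have : IsDominant D.ι := ⟨by
    rw [DenseRange, Scheme.Opens.range_ι]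
    exact D.2.dense ⟨_, hηD⟩⟩
  have hD : D.ι ≫ a = D.ι ≫ a' := by
    obtain ⟨l, hl⟩ : ∃ l, l ≫ σ' = D.ι ≫ a := ⟨_, IsOpenImmersion.lift_fac σ' (D.ι ≫ a) (by
      rintro _ ⟨t, rfl⟩
      exact t.2)⟩
    have hl' : l = D.ι ≫ X.homOfLE inf_le_right := by
      rw [← cancel_mono V'.ι, ← hσ', ← Category.assoc, hl, Category.assoc, ha]
      simp only [a', Category.assoc, hσ']
    rw [← hl, hl', Category.assoc]
  have key := ext_of_isDominant_of_isSeparated g ha D.ι hD
  have hv : v.1 ∈ W := ⟨v.2, h ▸ v'.2⟩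
  obtain ⟨x, hx⟩ := v
  obtain ⟨x', hx'⟩ := v'
  obtain rfl : x = x' := h
  have e₁ : (X.homOfLE (inf_le_left : W ≤ V)).base ⟨x, hv⟩ = ⟨x, hx⟩ := Subtype.ext (Scheme.homOfLE_apply _ _)
  have e₂ : (X.homOfLE (inf_le_right : W ≤ V')).base ⟨x, hv⟩ = ⟨x, hx'⟩ :=
    Subtype.ext (Scheme.homOfLE_apply _ _)
  have e₄ := congrArg (fun m : (W : Scheme.{u}) ⟶ U => m.base ⟨x, hv⟩) key
  simp only [a, a', Scheme.Hom.comp_apply, e₁, e₂] at e₄
  exact e₄

theorem exists_lift_section {V : X.Opens} (σ : (V : Scheme.{u}) ⟶ U) (hσ : σ ≫ g = V.ι)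
    {Ω : Type u} [Field Ω] (w : Spec (CommRingCat.of Ω) ⟶ U) (t : (V : Scheme.{u}))
    (hw : w.base default = σ.base t) : ∃ τ, τ ≫ σ = w ∧ τ ≫ V.ι = w ≫ g := by
  have := isOpenImmersion_section g σ hσ
  obtain ⟨τ, hτ⟩ : ∃ τ, τ ≫ σ = w := ⟨_, IsOpenImmersion.lift_fac σ w (by
    rintro _ ⟨a, rfl⟩
    rw [Subsingleton.elim a default]
    exact ⟨t, hw.symm⟩)⟩
  exact ⟨τ, hτ, by rw [← hσ, ← Category.assoc, hτ]⟩

/-- Separated étale schemes are disjoint unions of opens of the base. -/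
theorem exists_decomposition [IsSeparated g] (hN : ∀ x : X, IsIntegrallyClosed (X.presheaf.stalk x))
    [IsSepClosed X.functionField] :
    ∃ (ι : Type u) (V : ι → X.Opens) (e : (∐ fun i => (V i : Scheme.{u})) ≅ U),
      ∀ i, Sigma.ι (fun i => (V i : Scheme.{u})) i ≫ e.hom ≫ g = (V i).ι := by
  choose V σ v hσ hv using exists_section g hN
  have := fun u => isOpenImmersion_section g (σ u) (hσ u)
  have hgσ : ∀ u (t : (V u : Scheme.{u})), g.base ((σ u).base t) = t.1 := fun u t =>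
    congrArg (fun m => m.base t) (hσ u)
  let ι := {η : U // g.base η = genericPoint X}
  let gσ : U → ι := fun u => ⟨gen (σ u) (v u), hgσ u ⟨_, genericPoint_mem (v u)⟩⟩
  let W : ι → U.Opens := fun i => ⨆ (u : U) (_ : gσ u = i), (σ u).opensRange
  have hmem : ∀ i w, w ∈ W i ↔ ∃ u, gσ u = i ∧ w ∈ (σ u).opensRange := fun i w => by
    simp [W, Opens.mem_iSup]
  have hcov : ∀ w, w ∈ W (gσ w) := fun w => (hmem _ w).2 ⟨w, rfl, v w, hv w⟩
  have huniq : ∀ u u' w, w ∈ (σ u).opensRange → w ∈ (σ u').opensRange → gσ u = gσ u' := by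
    intro u u' w hw hw'
    let O : U.Opens := (σ u).opensRange ⊓ (σ u').opensRange
    obtain ⟨y, hy, hyg⟩ : ∃ y ∈ O, g.base y = genericPoint X := by
      have hopen : IsOpen (g.base '' (O : Set U)) := g.isOpenMap _ O.2
      obtain ⟨y, hy, hyg⟩ := ((genericPoint_spec X).mem_open_set_iff hopen).2
        ⟨g.base w, trivial, w, ⟨hw, hw'⟩, rfl⟩
      exact ⟨y, hy, hyg⟩
    have key : ∀ u'', y ∈ (σ u'').opensRange → (gσ u'').1 = y := by
      rintro u'' ⟨t, rfl⟩
      rw [hgσ] at hyg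
      exact congrArg (σ u'').base (Subtype.ext hyg.symm)
    exact Subtype.ext ((key u hy.1).trans (key u' hy.2).symm)
  have himm : ∀ i, IsOpenImmersion ((W i).ι ≫ g) := by
    intro i
    have hsd : Surjective (pullback.diagonal ((W i).ι ≫ g)) := ⟨fun z => by
      let γ := Basic.geomPoint _ z
      let w₁ := γ ≫ pullback.fst ((W i).ι ≫ g) ((W i).ι ≫ g)
      let w₂ := γ ≫ pullback.snd ((W i).ι ≫ g) ((W i).ι ≫ g)
      have hc : w₁ ≫ (W i).ι ≫ g = w₂ ≫ (W i).ι ≫ g := by
        simp only [w₁, w₂, Category.assoc, pullback.condition]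
      obtain ⟨u₁, hu₁, t₁, ht₁⟩ := (hmem i _).1 (w₁.base default).2
      obtain ⟨u₂, hu₂, t₂, ht₂⟩ := (hmem i _).1 (w₂.base default).2
      have hx : t₁.1 = t₂.1 := by
        rw [← hgσ u₁ t₁, ← hgσ u₂ t₂, ht₁, ht₂]
        exact congrArg (fun m => m.base default) hc
      have he : gen (σ u₁) t₁ = gen (σ u₂) t₂ := (congrArg Subtype.val (hu₁.trans hu₂.symm) :)
      have htop : (σ u₁).base t₁ = (σ u₂).base t₂ := eq_of_gen g _ _ (hσ u₁) (hσ u₂) t₁ t₂ he hx
      obtain ⟨τ₁, a₁, b₁⟩ := exists_lift_section g (σ u₁) (hσ u₁) (w₁ ≫ (W i).ι) t₁ ht₁.symm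
      obtain ⟨τ₂, a₂, b₂⟩ := exists_lift_section g (σ u₁) (hσ u₁) (w₂ ≫ (W i).ι) t₁ (ht₂.symm.trans htop.symm)
      rw [Category.assoc] at b₁ b₂
      have hw : w₁ = w₂ := by
        rw [← cancel_mono (W i).ι, ← a₁, ← a₂]
        exact congrArg (· ≫ σ u₁) ((cancel_mono (V u₁).ι).1 (b₁.trans (hc.trans b₂.symm)))
      refine ⟨w₁.base default, ?_⟩
      have : w₁ ≫ pullback.diagonal ((W i).ι ≫ g) = γ := by
        apply pullback.hom_ext
        · rw [Category.assoc, pullback.diagonal_fst, Category.comp_id]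
        · rw [Category.assoc, pullback.diagonal_snd, Category.comp_id]; exact hw
      rw [← Scheme.Hom.comp_apply, this]
      exact Basic.geomPoint_apply z default⟩
    exact Unram.EtaleMono.isOpenImmersion_of_surjective_diagonal _
  let V' : ι → X.Opens := fun i => ((W i).ι ≫ g).opensRange
  let a : ∀ i, (V' i : Scheme.{u}) ⟶ U := fun i =>
    (((W i).ι ≫ g).isoOpensRange).inv ≫ (W i).ι
  have hag : ∀ i, a i ≫ g = (V' i).ι := fun i => by
    rw [Category.assoc]
    exact ((W i).ι ≫ g).isoOpensRange_inv_comp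
  have haR : ∀ i, (a i).opensRange = W i := fun i => by
    rw [Scheme.Hom.opensRange_comp_of_isIso, Scheme.Opens.opensRange_ι]
  obtain ⟨hc⟩ := nonempty_isColimit_cofanMk_of a (by
    refine eq_top_iff.2 fun w _ => ?_
    exact Opens.mem_iSup.2 ⟨gσ w, (haR _).symm ▸ hcov w⟩) (fun i j hij => by
    simp only [Function.onFun, haR]
    rw [disjoint_iff_inf_le]
    intro w hw
    obtain ⟨u, hu, hu'⟩ := (hmem i w).1 hw.1
    obtain ⟨u', hu₂, hu₂'⟩ := (hmem j w).1 hw.2
    exact (hij (hu.symm.trans ((huniq u u' w hu' hu₂').trans hu₂))).elim)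
  refine ⟨ι, V', (coproductIsCoproduct _).coconePointUniqueUpToIso hc, fun i => ?_⟩
  refine (Category.assoc _ _ _).symm.trans ?_
  exact (eq_whisker (IsColimit.comp_coconePointUniqueUpToIso_hom (coproductIsCoproduct _) hc ⟨i⟩) g).trans (hag i)

end Groth.Agent.Lib.EtSite.NormalEtaleSep
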