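import Groth.Prelude.Def_EtCore
import Mathlib.RingTheory.Polynomial.GaussLemma
import Mathlib.RingTheory.Henselian
import Mathlib.FieldTheory.IsSepClosed
import Mathlib.AlgebraicGeometry.FunctionField

/-!
# Normal local domains with separably closed fraction field are strictly henselian
-/

universe u

open Polynomial IsLocalRing

namespace Groth.Agent.Lib.EtSite.NormalSepClosed

variable {R : Type u} [CommRing R] [IsDomain R] [IsIntegrallyClosed R]
  (K : Type u) [Field K] [Algebra R K] [IsFractionRing R K] [IsSepClosed K]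

include K in
/-- A monic polynomial of positive degree has a monic factor that is linear or has zero derivative. -/
theorem exists_factor (f : R[X]) (hf : f.Monic) (hd : 0 < f.natDegree) :
    ∃ g h : R[X], f = g * h ∧ g.Monic ∧ h.Monic ∧ 0 < g.natDegree ∧
      (g.natDegree = 1 ∨ derivative g = 0) := by
  have hfK : (f.map (algebraMap R K)).natDegree ≠ 0 := by
    rw [hf.natDegree_map]; omega
  obtain ⟨g, hgm, hgi, hgd⟩ := exists_monic_irreducible_factor _ (fun h => hfK (natDegree_eq_zero_of_isUnit h))
  obtain ⟨g₀, hg₀⟩ := IsIntegrallyClosed.eq_map_mul_C_of_dvd K hf hgd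
  rw [hgm.leadingCoeff, C_1, mul_one] at hg₀
  have hm : g₀.Monic := monic_of_injective (IsFractionRing.injective R K) (hg₀ ▸ hgm)
  have hdeg : g₀.natDegree = g.natDegree := by rw [← hg₀, hm.natDegree_map]
  have hdvd : g₀ ∣ f := by
    rw [← map_dvd_map _ (IsFractionRing.injective R K) hm, hg₀]
    exact hgd
  obtain ⟨h, rfl⟩ := hdvd
  refine ⟨g₀, h, rfl, hm, hm.of_mul_monic_left hf, hdeg ▸ hgi.natDegree_pos, ?_⟩
  by_cases hs : g.Separable
  · left
    rw [hdeg]
    exact natDegree_eq_of_degree_eq_some (IsSepClosed.degree_eq_one_of_irreducible K hgi hs)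
  · right
    have h0 : derivative g = 0 := by
      by_contra hne
      exact hs ((separable_iff_derivative_ne_zero hgi).2 hne)
    exact (Polynomial.map_eq_zero_iff (IsFractionRing.injective R K)).1 (by rw [← derivative_map, hg₀, h0])

variable [IsLocalRing R]

include K in
theorem exists_root : ∀ (n : ℕ) (f : R[X]), f.Monic → f.natDegree = n → ∀ a : R,
    residue R (f.eval a) = 0 → residue R ((derivative f).eval a) ≠ 0 →
    ∃ r, f.IsRoot r ∧ residue R r = residue R a := by
  intro n
  induction n using Nat.strong_induction_on with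
  | _ n ih =>
  intro f hf hn a h0 h1
  rcases Nat.eq_zero_or_pos n with rfl | hpos
  · rw [hf.natDegree_eq_zero.1 hn] at h0
    simp at h0
  obtain ⟨g, h, rfl, hg, hh, hgd, hcase⟩ := exists_factor K f hf (hn ▸ hpos)
  rw [eval_mul, map_mul, mul_eq_zero] at h0
  rw [derivative_mul, eval_add, eval_mul, eval_mul, map_add, map_mul, map_mul] at h1
  rcases h0 with hg0 | hh0
  · rcases hcase with h' | h'
    · obtain ⟨b, rfl⟩ : ∃ b, g = X + C b := ⟨g.coeff 0, by
        conv_lhs => rw [hg.as_sum, h']
        simp⟩
      refine ⟨-b, by simp [IsRoot], ?_⟩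
      rw [eval_add, eval_X, eval_C, map_add, add_eq_zero_iff_eq_neg] at hg0
      rw [map_neg, hg0]
    · rw [h', hg0] at h1
      simp at h1
  · rw [hh0, mul_zero, zero_add] at h1
    have hlt : h.natDegree < n := by
      rw [hg.natDegree_mul hh] at hn
      omega
    obtain ⟨r, hr, hr'⟩ := ih _ hlt h hh rfl a hh0 (right_ne_zero_of_mul h1)
    exact ⟨r, by rw [IsRoot, eval_mul, hr, mul_zero], hr'⟩

include K in
theorem isStrictlyHenselianLocalRing : EtCoh.IsStrictlyHenselianLocalRing R := by
  have hens : HenselianLocalRing R :=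
    { is_henselian := fun f hf a₀ h₁ h₂ => by
        obtain ⟨r, hr, hr'⟩ := exists_root K _ f hf rfl a₀ ((residue_eq_zero_iff _).2 h₁)
          (fun h => (mem_maximalIdeal _).1 ((residue_eq_zero_iff _).1 h) h₂)
        exact ⟨r, hr, (residue_eq_zero_iff _).1 (by rw [map_sub, hr', sub_self])⟩ }
  refine ⟨hens, IsSepClosed.of_exists_root _ fun p hm hi hsep => ?_⟩
  obtain ⟨f, hf, hdeg, hfm⟩ := lifts_and_natDegree_eq_and_monic (f := residue R)
    (by rw [mem_lifts]; exact map_surjective (residue R) residue_surjective p) hm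
  obtain ⟨g, h, rfl, hg, hh, hgd, hcase⟩ := exists_factor K f hfm (hdeg ▸ hi.natDegree_pos)
  rw [Polynomial.map_mul] at hf
  have hunit : IsUnit (g.map (residue R)) ∨ IsUnit (h.map (residue R)) := hi.isUnit_or_isUnit hf.symm
  rcases hunit with hu | hu
  · have := natDegree_eq_zero_of_isUnit hu
    rw [hg.natDegree_map] at this
    omega
  · rw [(hh.map _).isUnit_iff.1 hu, mul_one] at hf
    rcases hcase with h' | h'
    · refine ⟨-(g.map (residue R)).coeff 0, ?_⟩
      rw [← hf, (hg.map (residue R)).as_sum, hg.natDegree_map, h']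
      simp
    · exact absurd (by rw [← hf, derivative_map, h', Polynomial.map_zero])
        ((separable_iff_derivative_ne_zero hi).1 hsep)

end Groth.Agent.Lib.EtSite.NormalSepClosed
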