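import Groth.Prelude.Def_BigSite
import Groth.Prelude.Def_SGA4b
import Groth.Agent.Lib.EtSite.DisjointCover
import Groth.Agent.Lib.EtSite.Fiber
import Mathlib.CategoryTheory.Sites.EpiMono

/-!
# Direct images along morphisms with properties (B) and (C)
-/

universe u

open CategoryTheory CategoryTheory.Limits AlgebraicGeometry Opposite

namespace Groth.Agent.Lib.EtSite.PropBC

open Groth.Agent.Lib.EtSite.Basic Groth.Agent.Lib.EtSite.Stalk Groth.Agent.Lib.EtSite.DisjointCover

variable {X Y : Scheme.{u}} (f : X ⟶ Y)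

theorem exists_preimage_bc {V V' : Y.Etale} (a : V' ⟶ V) (x : ((EtCoh.bc f).obj V).left) (v' : V'.left)
    (h : a.left.base v' = (pullback.fst V.hom f).base x) :
    ∃ x' : ((EtCoh.bc f).obj V').left, ((EtCoh.bc f).map a).left.base x' = x := by
  have sq := EtCoh.isPullback_bc_map f a
  obtain ⟨z, hz1, -⟩ := Scheme.Pullback.exists_preimage_pullback
    (f := (pullback.fst V.hom f : ((EtCoh.bc f).obj V).left ⟶ V.left)) (g := a.left) x v' h.symm
  refine ⟨sq.isoPullback.inv z, ?_⟩
  rw [← hz1, ← Scheme.Hom.comp_apply, IsPullback.isoPullback_inv_fst]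
  rfl

theorem preservesEpimorphisms_of_propB (hB : BigSite.PropB f) :
    (EtDesc.pushSh f).PreservesEpimorphisms where
  preserves {F G} φ h := by
    have := (Sheaf.isLocallySurjective_iff_epi φ).2 h
    suffices Sheaf.IsLocallySurjective ((EtDesc.pushSh f).map φ) from Sheaf.epi_of_isLocallySurjective _
    refine ⟨fun {V} t => (mem_topology_iff _).2 fun v => ?_⟩
    let S : Sieve ((EtCoh.bc f).obj V) := Presheaf.imageSieve φ.hom t
    have hS : S ∈ X.smallEtaleTopology _ := Presheaf.imageSieve_mem X.smallEtaleTopology φ.hom t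
    choose Z g hg z hz using fun x : ((EtCoh.bc f).obj V).left => (mem_topology_iff S).1 hS x
    have : Etale V.hom := V.prop
    let σ := pullbackSymmetry V.hom f
    obtain ⟨κ, V', v', hv'E, hcov, hW⟩ := hB V.left V.hom ((EtCoh.bc f).obj V).left (fun x => (Z x).left)
      (fun x => (g x).left ≫ σ.hom)
      (fun x => by have := Fiber.etale_left (g x); infer_instance)
      (fun y => ⟨σ.inv.base y, z (σ.inv.base y), by
        rw [Scheme.Hom.comp_apply, hz (σ.inv.base y)]
        exact (Scheme.Hom.comp_apply _ _ _).symm.trans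
          (congrArg (fun m : pullback f V.hom ⟶ pullback f V.hom => m.base y) σ.inv_hom_id)⟩)
    obtain ⟨j, y, hy⟩ := hcov v
    obtain ⟨μ, W, hdisj, htop, hh⟩ := hW j
    choose i hi hfac using hh
    have : Etale (v' j) := hv'E j
    let V'' : Y.Etale := MorphismProperty.Over.mk ⊤ (v' j ≫ V.hom) (show Etale _ from inferInstance)
    let a : V'' ⟶ V := MorphismProperty.Over.homMk (v' j) rfl
    refine ⟨V'', a, ?_, y, hy⟩
    let τ : ((EtCoh.bc f).obj V'').left ≅ pullback f (v' j ≫ V.hom) := pullbackSymmetry _ _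
    have : Etale ((EtCoh.bc f).obj V'').hom := ((EtCoh.bc f).obj V'').prop
    let O : μ → ((EtCoh.bc f).obj V'').left.Opens := fun m => τ.hom ⁻¹ᵁ W m
    let D : μ → X.Etale := fun m => MorphismProperty.Over.mk ⊤ ((O m).ι ≫ ((EtCoh.bc f).obj V'').hom)
      (show Etale _ from inferInstance)
    let o : ∀ m, D m ⟶ (EtCoh.bc f).obj V'' := fun m => MorphismProperty.Over.homMk (O m).ι rfl
    have hD : IsDisjointCover D o := by
      refine ⟨fun m => inferInstanceAs (IsOpenImmersion (O m).ι), fun x => ?_, fun m m' x x' hxx => ?_⟩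
      · have : τ.hom.base x ∈ (⨆ m, W m : (pullback f (v' j ≫ V.hom)).Opens) := by rw [htop]; trivial
        obtain ⟨m, hm⟩ := TopologicalSpace.Opens.mem_iSup.1 this
        exact ⟨m, ⟨x, hm⟩, rfl⟩
      · by_contra hne
        have h1 : τ.hom.base ((O m).ι.base x) ∈ W m := x.2
        have h2 : τ.hom.base ((O m').ι.base x') ∈ W m' := x'.2
        rw [← show (O m).ι.base x = (O m').ι.base x' from hxx] at h2
        exact ((hdisj m m' hne).le_bot ⟨h1, h2⟩).elim
    let r : ∀ m, (D m).left ⟶ (W m : Scheme.{u}) := fun m =>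
      IsOpenImmersion.lift (W m).ι ((O m).ι ≫ τ.hom) (by
        rw [Scheme.Opens.range_ι]
        rintro _ ⟨x, rfl⟩
        exact x.2)
    have hr : ∀ m, r m ≫ (W m).ι = (O m).ι ≫ τ.hom := fun m => IsOpenImmersion.lift_fac _ _ _
    have hmap : τ.hom ≫ pullback.map f (v' j ≫ V.hom) f V.hom (𝟙 X) (v' j) (𝟙 Y) (by simp) (by simp) =
        ((EtCoh.bc f).map a).left ≫ σ.hom := by
      have e1 : ((EtCoh.bc f).map a).left ≫ pullback.fst V.hom f = pullback.fst V''.hom f ≫ v' j :=
        pullback.lift_fst _ _ _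
      have e2 : ((EtCoh.bc f).map a).left ≫ pullback.snd V.hom f = pullback.snd V''.hom f :=
        pullback.lift_snd _ _ _
      apply pullback.hom_ext
      · refine Eq.trans ?_ (Eq.symm ((Category.assoc _ _ _).trans
          ((_ ≫= pullbackSymmetry_hom_comp_fst _ _).trans e2)))
        rw [Category.assoc, pullback.lift_fst, Category.comp_id]
        exact pullbackSymmetry_hom_comp_fst _ _
      · refine Eq.trans ?_ (Eq.symm ((Category.assoc _ _ _).trans
          ((_ ≫= pullbackSymmetry_hom_comp_snd _ _).trans e1)))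
        rw [Category.assoc, pullback.lift_snd, ← Category.assoc]
        exact congrArg (· ≫ v' j) (pullbackSymmetry_hom_comp_snd _ _)
    have hb : ∀ m, (r m ≫ hi m) ≫ (g (i m)).left = (o m).left ≫ ((EtCoh.bc f).map a).left := fun m => by
      refine (cancel_mono σ.hom).1 ?_
      refine ((Category.assoc _ _ _).trans ((Category.assoc _ _ _).trans (_ ≫= hfac m))).trans ?_
      refine ((Category.assoc _ _ _).symm.trans (congrArg (· ≫ _) (hr m))).trans ?_
      exact ((Category.assoc _ _ _).trans (_ ≫= hmap)).trans (Category.assoc _ _ _).symm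
    let b : ∀ m, D m ⟶ Z (i m) := fun m => MorphismProperty.Over.homMk (r m ≫ hi m)
      ((_ ≫= (Over.w (g (i m)).hom :).symm).trans ((Category.assoc _ _ _).symm.trans
        ((congrArg (· ≫ ((EtCoh.bc f).obj V).hom) (hb m)).trans
          ((Category.assoc _ _ _).trans (_ ≫= (Over.w ((EtCoh.bc f).map a).hom :))))))
    obtain ⟨s, hs⟩ := hD.exists_glue F fun m =>
      F.obj.map (b m).op (Presheaf.localPreimage φ.hom t (g (i m)) (hg (i m)))
    refine ⟨s, sections_ext G _ _ fun x => ?_⟩
    obtain ⟨m, d, hd⟩ := hD.exists_eq x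
    refine ⟨D m, o m, ?_, d, hd⟩
    refine (NatTrans.naturality_apply φ.hom (o m).op s).symm.trans ?_
    rw [hs]
    refine (NatTrans.naturality_apply φ.hom (b m).op _).trans ?_
    erw [Presheaf.app_localPreimage]
    simp only [Functor.op_obj, ← ConcreteCategory.comp_apply, ← Functor.map_comp, ← op_comp]
    have : b m ≫ g (i m) = o m ≫ (EtCoh.bc f).map a := MorphismProperty.Over.Hom.ext (hb m)
    erw [← ConcreteCategory.comp_apply]
    rw [this, op_comp, Functor.map_comp]
    rfl

theorem exists_surjective_bc (hC : BigSite.PropC f) (U : X.Etale) :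
    ∃ (V : Y.Etale) (c : (EtCoh.bc f).obj V ⟶ U), Function.Surjective c.left.base := by
  have : Etale U.hom := U.prop
  obtain ⟨V, v, hv, h, hh, hs⟩ := hC U.left U.hom
  refine ⟨MorphismProperty.Over.mk ⊤ v hv,
    MorphismProperty.Over.homMk ((pullbackSymmetry v f).hom ≫ h) ?_, ?_⟩
  · rw [Category.assoc]
    exact (_ ≫= hh).trans (pullbackSymmetry_hom_comp_fst _ _)
  · have : Surjective ((pullbackSymmetry v f).hom ≫ h) := inferInstance
    exact this.surj

theorem reflects_of_propC (hC : BigSite.PropC f) :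
    (EtDesc.pushSh f).ReflectsMonomorphisms ∧ (EtDesc.pushSh f).ReflectsEpimorphisms := by
  refine ⟨⟨fun {F G} φ hφ => ?_⟩, ⟨fun {F G} φ hφ => ?_⟩⟩
  · refine Sheaf.mono_of_injective φ fun U s t hst => ?_
    obtain ⟨V, c, hc⟩ := exists_surjective_bc f hC U.unop
    refine sections_ext F s t fun u => ?_
    obtain ⟨w, hw⟩ := hc u
    refine ⟨_, c, ?_, w, hw⟩
    have hinj : Function.Injective (((EtDesc.pushSh f).map φ).hom.app (op V)) := by
      have : Mono ((EtDesc.pushSh f).map φ).hom :=
        inferInstanceAs (Mono ((sheafToPresheaf _ _).map ((EtDesc.pushSh f).map φ)))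
      exact (mono_iff_injective _).1 inferInstance
    refine hinj ?_
    exact (NatTrans.naturality_apply φ.hom c.op s).trans
      ((congrArg (G.obj.map c.op) hst).trans (NatTrans.naturality_apply φ.hom c.op t).symm)
  · have := (Sheaf.isLocallySurjective_iff_epi _).2 hφ
    suffices Sheaf.IsLocallySurjective φ from Sheaf.epi_of_isLocallySurjective _
    refine ⟨fun {U} t => (mem_topology_iff _).2 fun u => ?_⟩
    obtain ⟨V, c, hc⟩ := exists_surjective_bc f hC U
    obtain ⟨x, hx⟩ := hc u
    have hS := Presheaf.imageSieve_mem Y.smallEtaleTopology ((EtDesc.pushSh f).map φ).hom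
      (U := op V) (G.obj.map c.op t)
    obtain ⟨V', a, ⟨s, hs⟩, v', hv'⟩ := (mem_topology_iff _).1 hS ((pullback.fst V.hom f).base x)
    obtain ⟨x', hx'⟩ := exists_preimage_bc f a x v' hv'
    refine ⟨(EtCoh.bc f).obj V', (EtCoh.bc f).map a ≫ c, ⟨s, ?_⟩, x', ?_⟩
    · refine hs.trans ?_
      rw [op_comp, Functor.map_comp]
      rfl
    · exact (congrArg c.left.base hx').trans hx

end Groth.Agent.Lib.EtSite.PropBC
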