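import Groth.Agent.Lib.EtSite.Effective
import Groth.Agent.Lib.EtSite.IntegralDescent
import Groth.Agent.Lib.PBC50.SetsBC

/-!
Descent of étale sheaves of sets along proper surjective morphisms is effective.
-/

set_option autoImplicit false

universe u

open CategoryTheory CategoryTheory.Limits AlgebraicGeometry Opposite

noncomputable section

namespace Groth.Agent.Lib.EtSite.ProperDescent

open Groth.Agent.Lib.EtSite Groth.Agent.Lib.EtSite.Basic Groth.Agent.Lib.EtSite.SubDescent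
open Groth.Agent.Lib.EtSite.PushStalk Groth.Agent.Lib.EtSite.SubSheaf
open Groth.Agent.Lib.EtSite.Effective
open Groth.Agent.Lib.EtSite.IntegralDescent (exists_fibre_section)

theorem isUnivSubmersive_of_proper {X S : Scheme.{u}} (f : X ⟶ S) [IsProper f]
    [Surjective f] : EtDesc.IsUnivSubmersive f := fun Y g =>
  ⟨(pullback.snd f g).surjective, IsClosedMap.isQuotientMap (pullback.snd f g).isClosedMap
    (pullback.snd f g).continuous (pullback.snd f g).surjective⟩

variable {X S : Scheme.{u}} (f : X ⟶ S) (F' : EtDesc.Sh X)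
  (φ : (EtDesc.pullSh (pullback.fst f f)).obj F' ≅ (EtDesc.pullSh (pullback.snd f f)).obj F')

/-- Compatibility of the base change map with germs. -/
theorem exists_bc_section [IsProper f] {Ω : Type u} [Field Ω] [IsAlgClosed Ω]
    (η : Spec (CommRingCat.of Ω) ⟶ S)
    (τ : EtDesc.sect ((EtDesc.pullSh (pullback.fst f η)).obj F') (EtCoh.top (pullback f η))) :
    ∃ (V : S.Etale) (p : (Scheme.pointSmallEtale (𝟙 _ ≫ η)).fiber.obj V)
      (t : EtDesc.sect F' ((EtCoh.bc f).obj V)),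
      ∀ (ξ : Spec (CommRingCat.of Ω) ⟶ pullback f η) (_ : ξ ≫ pullback.snd f η = 𝟙 _)
        (h : (ξ ≫ pullback.fst f η) ≫ f = 𝟙 _ ≫ η),
        germ ξ _ (topPt ξ) τ = germUnit (pullback.fst f η) F' rfl
          (germ (ξ ≫ pullback.fst f η) F' (liftPt f h V p) t) := by
  let q := pullback.fst f η
  let β := pullback.snd f η
  have sq : IsPullback q β f η := IsPullback.of_hasPullback f η
  let one := 𝟙 (Spec (CommRingCat.of Ω))
  let G := (EtDesc.pullSh q).obj F'
  obtain ⟨c, hc⟩ := PBC50.SetsBC.exists_good sq (η := one) F'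
    (germ one ((EtDesc.pushSh β).obj G) (topPt one) (G.obj.map (EtCore.bcTopIso β).hom.op τ))
  obtain ⟨V, p, t, rfl⟩ := (Scheme.pointSmallEtale (one ≫ η)).toPresheafFiber_jointly_surjective
    (P := ((EtDesc.pushSh f).obj F').obj) c
  refine ⟨V, p, t, fun ξ hξ h => ?_⟩
  have e := hc ξ hξ h
  rw [show (germTo β (Type (u + 1)) hξ).app G
      (germ one ((EtDesc.pushSh β).obj G) (topPt one) (G.obj.map (EtCore.bcTopIso β).hom.op τ)) =
      germ ξ G (liftPt β hξ _ (topPt one)) (G.obj.map (EtCore.bcTopIso β).hom.op τ)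
      from germTo_toPresheafFiber β hξ _ _ _ _, germ_map_bcTop] at e
  refine e.trans (congrArg (germUnit q F' rfl) ?_)
  exact germTo_toPresheafFiber f h _ _ _ _

/-- A section compatible at one geometric point of the base is compatible nearby. -/
theorem exists_compat_nhd [IsProper f] {Ω : Type u} [Field Ω] [IsAlgClosed Ω]
    (η : Spec (CommRingCat.of Ω) ⟶ S) (V : S.Etale) (p : (Scheme.pointSmallEtale η).fiber.obj V)
    (t : EtDesc.sect F' ((EtCoh.bc f).obj V))
    (hc : ∀ (ξ₁ ξ₂ : Spec (CommRingCat.of Ω) ⟶ X) (h₁ : ξ₁ ≫ f = η) (h₂ : ξ₂ ≫ f = η),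
      transport f F' φ h₁ h₂ (germ ξ₁ F' (liftPt f h₁ V p) t) = germ ξ₂ F' (liftPt f h₂ V p) t) :
    ∃ (W : S.Etale) (g : W ⟶ V) (q : (Scheme.pointSmallEtale η).fiber.obj W),
      (Scheme.pointSmallEtale η).fiber.map g q = p ∧
      Compat f F' φ W (F'.obj.map ((EtCoh.bc f).map g).op t) := by
  obtain ⟨O, hO, hmem⟩ := exists_compat_locus f F' φ V t
  let b := pullback.fst f f ≫ f
  let π := pullback.fst V.hom b
  have hfib : ∀ w, π.base w = fiberPt p → w ∈ O := by
    intro w hw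
    obtain ⟨z, hz, -⟩ := Scheme.Pullback.exists_preimage_pullback (f := π) (g := fiberHom p) w
      default hw
    haveI : JacobsonSpace ↥(pullback π (fiberHom p)) :=
      LocallyOfFiniteType.jacobsonSpace (pullback.snd π (fiberHom p))
    suffices H : ((pullback.fst π (fiberHom p)).base ⁻¹' Oᶜ) = ∅ by
      by_contra hw'
      exact Set.notMem_empty z (H ▸ (show (pullback.fst π (fiberHom p)).base z ∈ Oᶜ from hz.symm ▸ hw'))
    by_contra hne
    obtain ⟨z', hz', hc'⟩ := nonempty_inter_closedPoints (Set.nonempty_iff_ne_empty.2 hne)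
      (hO.isClosed_compl.preimage (pullback.fst π (fiberHom p)).continuous).isLocallyClosed
    refine hz' ?_
    clear! z hw
    obtain ⟨w, hz⟩ : ∃ w, (pullback.fst π (fiberHom p)).base z' = w := ⟨_, rfl⟩
    rw [hz]
    let s := pointOfClosedPoint (pullback.snd π (fiberHom p)) z' hc'
    have hs : s ≫ pullback.snd π (fiberHom p) = 𝟙 _ := pointOfClosedPoint_comp _ _ _
    have hsz : s.base default = z' := pointOfClosedPoint_apply _ _ _ _
    let m := s ≫ pullback.fst π (fiberHom p)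
    have hm : m ≫ π = fiberHom p := by
      simp only [m, Category.assoc, pullback.condition]
      rw [← Category.assoc, hs, Category.id_comp]
    let ζ := m ≫ pullback.snd V.hom b
    have hb : ζ ≫ pullback.fst f f ≫ f = η := by
      refine (Category.assoc _ _ _).trans ((m ≫= pullback.condition.symm).trans ?_)
      exact ((Category.assoc _ _ _).symm.trans ((congrArg (· ≫ V.hom) hm).trans (fiberHom_comp p)))
    have h₁ : (ζ ≫ pullback.fst f f) ≫ f = η := (Category.assoc _ _ _).trans hb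
    have h₂ : (ζ ≫ pullback.snd f f) ≫ f = η := by
      rw [Category.assoc, ← pullback.condition]; exact hb
    have hmem' := (hmem Ω η _ _ h₁ h₂ ζ rfl rfl hb p).2 (hc _ _ h₁ h₂)
    have e : fiberPt (liftPt b hb V p) = w := by
      have e' : fiberHom (liftPt b hb V p) = m :=
        pullback.hom_ext ((pullback.lift_fst _ _ _).trans hm.symm) (pullback.lift_snd _ _ _)
      refine (congrArg (fun r : Spec (CommRingCat.of Ω) ⟶ _ => r.base default) e').trans ?_
      exact (congrArg (pullback.fst π (fiberHom p)).base hsz).trans hz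
    exact e ▸ hmem'
  have : IsProper b := inferInstance
  have : Etale V.hom := V.prop
  let E : V.left.Opens := ⟨(π.base '' Oᶜ)ᶜ, (π.isClosedMap _ hO.isClosed_compl).isOpen_compl⟩
  have hpE : fiberPt p ∈ E := fun ⟨w, hw, e⟩ => hw (hfib w e)
  let W : S.Etale := Scheme.Etale.mk (E.ι ≫ V.hom)
  let g : W ⟶ V := MorphismProperty.Over.homMk E.ι rfl
  obtain ⟨q, hq, -⟩ := Fiber.exists_fiber_map η g p ⟨fiberPt p, hpE⟩ rfl
  refine ⟨W, g, q, hq, ?_⟩
  intro Ω' _ _ η' ξ₁ ξ₂ h₁ h₂ r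
  rw [germ_bc_map, germ_bc_map]
  have hb : pullback.lift ξ₁ ξ₂ (h₁.trans h₂.symm) ≫ pullback.fst f f ≫ f = η' := by
    rw [← Category.assoc, pullback.lift_fst, h₁]
  refine (hmem Ω' η' ξ₁ ξ₂ h₁ h₂ _ (pullback.lift_fst _ _ _) (pullback.lift_snd _ _ _) hb _).1 ?_
  by_contra hne
  exact (fiberPt r).2 ⟨_, hne, (fiberPt_liftPt b hb V _).trans (fiberPt_map g r)⟩

theorem exists_compat [IsProper f] (hφ : EtDesc.IsCocycle F' φ) {Ω : Type u} [Field Ω]
    [IsAlgClosed Ω] {η : Spec (CommRingCat.of Ω) ⟶ S} {ξ₀ : Spec (CommRingCat.of Ω) ⟶ X}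
    (h₀ : ξ₀ ≫ f = η) (g : stalk ξ₀ F') :
    ∃ (V : S.Etale) (p : (Scheme.pointSmallEtale η).fiber.obj V)
      (t : EtDesc.sect F' ((EtCoh.bc f).obj V)),
      Compat f F' φ V t ∧ germ ξ₀ F' (liftPt f h₀ V p) t = g := by
  have key : ∀ η' : Spec (CommRingCat.of Ω) ⟶ S, η' = η → ∀ h₀' : ξ₀ ≫ f = η',
      (∃ (V : S.Etale) (p : (Scheme.pointSmallEtale η').fiber.obj V)
        (t : EtDesc.sect F' ((EtCoh.bc f).obj V)), Compat f F' φ V t ∧
          germ ξ₀ F' (liftPt f h₀' V p) t = g) →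
      ∃ (V : S.Etale) (p : (Scheme.pointSmallEtale η).fiber.obj V)
        (t : EtDesc.sect F' ((EtCoh.bc f).obj V)), Compat f F' φ V t ∧
          germ ξ₀ F' (liftPt f h₀ V p) t = g := by
    intro η' e h₀' he
    subst e
    exact he
  refine key (𝟙 _ ≫ η) (Category.id_comp η) (h₀.trans (Category.id_comp η).symm) ?_
  obtain ⟨τ, hτ⟩ := exists_fibre_section f F' φ h₀ g
  obtain ⟨V, p, t, ht⟩ := exists_bc_section f F' η τ
  have hlift : ∀ (ξ₂ : Spec (CommRingCat.of Ω) ⟶ X)
      (h₂ : ξ₂ ≫ f = 𝟙 _ ≫ η),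
      germ ξ₂ F' (liftPt f h₂ V p) t = transport f F' φ h₀ (h₂.trans (Category.id_comp η)) g := by
    intro ξ₂ h₂
    obtain ⟨ξ, rfl, hξ⟩ : ∃ ξ, ξ ≫ pullback.fst f η = ξ₂ ∧ ξ ≫ pullback.snd f η = 𝟙 _ :=
      ⟨pullback.lift ξ₂ (𝟙 _) h₂, pullback.lift_fst _ _ _, pullback.lift_snd _ _ _⟩
    exact (bijective_germUnit (pullback.fst f η) F' rfl).1
      ((ht ξ hξ h₂).symm.trans (hτ ξ hξ _ rfl (h₂.trans (Category.id_comp η))))
  obtain ⟨W, e, q, hq, hW⟩ := exists_compat_nhd f F' φ (𝟙 _ ≫ η) V p t fun ξ₁ ξ₂ h₁ h₂ => by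
    rw [hlift, hlift]
    have cg : ∀ (η' : Spec (CommRingCat.of Ω) ⟶ S)
        (_ : η = η') (h₁' : ξ₁ ≫ f = η') (h₂' : ξ₂ ≫ f = η') (y : stalk ξ₁ F'),
        transport f F' φ h₁' h₂' y = transport f F' φ (h₁'.trans ‹η = η'›.symm)
          (h₂'.trans ‹η = η'›.symm) y := by
      intro η' e' h₁' h₂' y
      subst e'
      rfl
    rw [cg _ (Category.id_comp η).symm h₁ h₂]
    exact transport_trans f F' φ hφ h₀ _ _ g
  refine ⟨W, q, _, hW, ?_⟩
  rw [germ_bc_map, hq, hlift]
  exact transport_refl f F' φ hφ h₀ g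

theorem isEffective [IsProper f] [Surjective f] (hφ : EtDesc.IsCocycle F' φ) :
    EtDesc.IsEffective f F' φ := by
  refine isEffective_of_extend f F' φ (isUnivSubmersive_of_proper f) fun x => ?_
  exact ⟨_, inferInstance, inferInstance, Push.algPoint X x, Push.algPoint_apply X x default,
    fun g => exists_compat f F' φ hφ rfl g⟩

end Groth.Agent.Lib.EtSite.ProperDescent
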