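import Groth.Prelude.Def_EtOpen
import Groth.Agent.Lib.EtSite.BaseChange
import Groth.Agent.Lib.EtSite.SubDescent
import Groth.Agent.Lib.EtSite.DisjointCover
import Groth.Agent.Lib.EtSite.Push
import Groth.Agent.Lib.FFDesc.Effective
import Groth.Agent.Lib.AlgSpMor.AffineDescent
import Groth.Agent.Lib.Unram.EtaleMono
import Mathlib.AlgebraicGeometry.Morphisms.Etale

/-!
# Small étale site: sheaves of sets étale locally represented by finite étale schemes
-/

set_option autoImplicit false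

universe u

open CategoryTheory CategoryTheory.Limits AlgebraicGeometry Opposite

noncomputable section

namespace Groth.Agent.Lib.EtSite.RepFEt

open Groth.Agent.Lib.EtSite Groth.Agent.Lib.EtSite.Basic Groth.Agent.Lib.EtSite.SubDescent

variable {X : Scheme.{u}} (F : EtDesc.Sh X)

/-- A sheaf with a finite étale model over an étale covering. -/
structure Model where
  U : Scheme.{u}
  p : U ⟶ X
  etale_p : Etale p
  surj_p : Surjective p
  Z : Scheme.{u}
  π : Z ⟶ U
  finite_π : IsFinite π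
  etale_π : Etale π
  s : EtDesc.sect F (haveI := etale_p; haveI := etale_π; Scheme.Etale.mk (π ≫ p))
  bij : ∀ (Ω : Type u) [Field Ω] [IsSepClosed Ω] (η : Spec (CommRingCat.of Ω) ⟶ U),
    Function.Bijective fun v : {v : Spec (CommRingCat.of Ω) ⟶ Z // v ≫ π = η} =>
      germ (η ≫ p) F (mkFiber (η ≫ p) (haveI := etale_p; haveI := etale_π; Scheme.Etale.mk (π ≫ p)) v.1
        ((Category.assoc _ _ _).symm.trans (eq_whisker v.2 p))) s

variable {F}
variable (M : Model F)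

attribute [instance] Model.etale_p Model.surj_p Model.finite_π Model.etale_π

/-- The model as an étale scheme over the base. -/
def T₀ : X.Etale := Scheme.Etale.mk (M.π ≫ M.p)

/-- The value at a geometric point of the model. -/
def val {Ω : Type u} [Field Ω] [IsSepClosed Ω] (ξ : Spec (CommRingCat.of Ω) ⟶ X)
    (v : Spec (CommRingCat.of Ω) ⟶ M.Z) (h : v ≫ M.π ≫ M.p = ξ) : stalk ξ F :=
  germ ξ F (mkFiber ξ (T₀ M) v h) M.s

theorem val_bij {Ω : Type u} [Field Ω] [IsSepClosed Ω] (ξ : Spec (CommRingCat.of Ω) ⟶ X)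
    (η : Spec (CommRingCat.of Ω) ⟶ M.U) (hη : η ≫ M.p = ξ) :
    Function.Bijective fun v : {v : Spec (CommRingCat.of Ω) ⟶ M.Z // v ≫ M.π = η} =>
      val M ξ v.1 ((Category.assoc _ _ _).symm.trans ((eq_whisker v.2 M.p).trans hη)) := by
  subst hη
  exact M.bij Ω η

/-- The square of the model. -/
def Q : X.Etale :=
  haveI : Etale (pullback.fst (M.π ≫ M.p) (M.π ≫ M.p)) := inferInstance
  Scheme.Etale.mk (pullback.fst (M.π ≫ M.p) (M.π ≫ M.p) ≫ M.π ≫ M.p)

def pr₁ : Q M ⟶ T₀ M := MorphismProperty.Over.homMk (pullback.fst _ _) rfl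

def pr₂ : Q M ⟶ T₀ M := MorphismProperty.Over.homMk (pullback.snd _ _) pullback.condition.symm

theorem isOpen_agree_set : IsOpen {x : (Q M).left | ∃ (W : X.Etale) (a : W ⟶ Q M),
    F.obj.map a.op (F.obj.map (pr₁ M).op M.s) = F.obj.map a.op (F.obj.map (pr₂ M).op M.s) ∧
      x ∈ Set.range a.left.base} := by
  let s₁ : EtDesc.sect F (Q M) := F.obj.map (pr₁ M).op M.s
  let s₂ : EtDesc.sect F (Q M) := F.obj.map (pr₂ M).op M.s
  exact BaseChange.isOpen_agree (Z := X) (A := Type (u + 1)) F.obj (Q M) s₁ s₂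

/-- The locus where the two values agree. -/
def agree : (pullback (M.π ≫ M.p) (M.π ≫ M.p)).Opens :=
  ⟨{x | ∃ (W : X.Etale) (a : W ⟶ Q M),
      F.obj.map a.op (F.obj.map (pr₁ M).op M.s) = F.obj.map a.op (F.obj.map (pr₂ M).op M.s) ∧
        x ∈ Set.range a.left.base},
    isOpen_agree_set M⟩

theorem mem_agree {Ω : Type u} [Field Ω] [IsSepClosed Ω] (ξ : Spec (CommRingCat.of Ω) ⟶ X)
    (w : Spec (CommRingCat.of Ω) ⟶ pullback (M.π ≫ M.p) (M.π ≫ M.p))
    (a b : Spec (CommRingCat.of Ω) ⟶ M.Z) (e₁ : w ≫ pullback.fst _ _ = a)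
    (e₂ : w ≫ pullback.snd _ _ = b) (ha : a ≫ M.π ≫ M.p = ξ) (hb : b ≫ M.π ≫ M.p = ξ) :
    w.base default ∈ agree M ↔ val M ξ a ha = val M ξ b hb := by
  subst e₁ e₂
  let r : (Scheme.pointSmallEtale ξ).fiber.obj (Q M) :=
    mkFiber ξ (Q M) w ((Category.assoc _ _ _).symm.trans ha)
  have h₁ : germ ξ F r (F.obj.map (pr₁ M).op M.s) = val M ξ _ ha := germ_map ξ F (pr₁ M) r M.s
  have h₂ : germ ξ F r (F.obj.map (pr₂ M).op M.s) = val M ξ _ hb :=
    (germ_map ξ F (pr₂ M) r M.s).trans (congrArg (fun k => germ ξ F k M.s) (Over.OverMorphism.ext rfl))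
  rw [← h₁, ← h₂]
  exact (BaseChange.toPresheafFiber_eq_iff_mem (Z := X) (A := Type (u + 1)) F.obj (Q M) _ _ r).symm

/-- Two points of the model with the same values. -/
def Rel {T : Scheme.{u}} (v₀ v₁ : T ⟶ M.Z) : Prop :=
  ∃ w : T ⟶ (agree M : Scheme.{u}), w ≫ (agree M).ι ≫ pullback.fst (M.π ≫ M.p) (M.π ≫ M.p) = v₀ ∧
    w ≫ (agree M).ι ≫ pullback.snd (M.π ≫ M.p) (M.π ≫ M.p) = v₁

theorem Rel.w {T : Scheme.{u}} {v₀ v₁ : T ⟶ M.Z} (h : Rel M v₀ v₁) :
    v₀ ≫ M.π ≫ M.p = v₁ ≫ M.π ≫ M.p := by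
  obtain ⟨w, rfl, rfl⟩ := h
  simp only [Category.assoc]
  rw [pullback.condition]

theorem Rel.val_eq {T : Scheme.{u}} {v₀ v₁ : T ⟶ M.Z} (h : Rel M v₀ v₁)
    {Ω : Type u} [Field Ω] [IsSepClosed Ω] (ξ : Spec (CommRingCat.of Ω) ⟶ X)
    (τ : Spec (CommRingCat.of Ω) ⟶ T) (h₀ : (τ ≫ v₀) ≫ M.π ≫ M.p = ξ)
    (h₁ : (τ ≫ v₁) ≫ M.π ≫ M.p = ξ) : val M ξ (τ ≫ v₀) h₀ = val M ξ (τ ≫ v₁) h₁ := by
  obtain ⟨w, rfl, rfl⟩ := h
  refine (mem_agree M ξ ((τ ≫ w) ≫ (agree M).ι) _ _ (by simp only [Category.assoc])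
    (by simp only [Category.assoc]) h₀ h₁).1 ?_
  exact ((τ ≫ w).base default).2

theorem rel_of_val_eq {T : Scheme.{u}} (v₀ v₁ : T ⟶ M.Z) (h : v₀ ≫ M.π ≫ M.p = v₁ ≫ M.π ≫ M.p)
    (he : ∀ (Ω : Type u) [Field Ω] [IsSepClosed Ω] (τ : Spec (CommRingCat.of Ω) ⟶ T),
      val M ((τ ≫ v₀) ≫ M.π ≫ M.p) (τ ≫ v₀) rfl =
        val M ((τ ≫ v₀) ≫ M.π ≫ M.p) (τ ≫ v₁) (by rw [Category.assoc, ← h, Category.assoc])) :
    Rel M v₀ v₁ := by
  let l : T ⟶ pullback (M.π ≫ M.p) (M.π ≫ M.p) := pullback.lift v₀ v₁ h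
  have hl : Set.range l.base ⊆ Set.range (agree M).ι.base := by
    rintro _ ⟨t, rfl⟩
    have hmem := (mem_agree M _ (geomPoint T t ≫ l) (geomPoint T t ≫ v₀) (geomPoint T t ≫ v₁)
      ((Category.assoc _ _ _).trans (_ ≫= pullback.lift_fst _ _ _))
      ((Category.assoc _ _ _).trans (_ ≫= pullback.lift_snd _ _ _)) rfl
      (by rw [Category.assoc, ← h, Category.assoc])).2 (he _ (geomPoint T t))
    rw [Scheme.Hom.comp_apply, geomPoint_apply] at hmem
    exact ⟨⟨l.base t, hmem⟩, rfl⟩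
  refine ⟨IsOpenImmersion.lift (agree M).ι l hl, ?_, ?_⟩
  · rw [IsOpenImmersion.lift_fac_assoc]; exact pullback.lift_fst _ _ _
  · rw [IsOpenImmersion.lift_fac_assoc]; exact pullback.lift_snd _ _ _

theorem rel_refl {T : Scheme.{u}} (v : T ⟶ M.Z) : Rel M v v :=
  rel_of_val_eq M v v rfl fun _ _ _ _ => rfl

theorem Rel.symm {T : Scheme.{u}} {v₀ v₁ : T ⟶ M.Z} (h : Rel M v₀ v₁) : Rel M v₁ v₀ :=
  rel_of_val_eq M v₁ v₀ (h.w M).symm fun _ _ _ τ =>
    (h.val_eq M ((τ ≫ v₁) ≫ M.π ≫ M.p) τ (by rw [Category.assoc, h.w M, Category.assoc]) rfl).symm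

theorem Rel.trans {T : Scheme.{u}} {v₀ v₁ v₂ : T ⟶ M.Z} (h : Rel M v₀ v₁) (h' : Rel M v₁ v₂) :
    Rel M v₀ v₂ :=
  rel_of_val_eq M v₀ v₂ ((h.w M).trans (h'.w M)) fun _ _ _ τ =>
    (h.val_eq M ((τ ≫ v₀) ≫ M.π ≫ M.p) τ rfl (by rw [Category.assoc, ← h.w M, Category.assoc])).trans
      (h'.val_eq M ((τ ≫ v₀) ≫ M.π ≫ M.p) τ (by rw [Category.assoc, ← h.w M, Category.assoc])
        (by rw [Category.assoc, ← h'.w M, ← h.w M, Category.assoc]))

theorem Rel.comp {T T' : Scheme.{u}} (g : T' ⟶ T) {v₀ v₁ : T ⟶ M.Z} (h : Rel M v₀ v₁) :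
    Rel M (g ≫ v₀) (g ≫ v₁) := by
  obtain ⟨w, rfl, rfl⟩ := h
  exact ⟨g ≫ w, by simp only [Category.assoc], by simp only [Category.assoc]⟩

/-- The comparison of the agreement locus with `Z ×_X U`. -/
def cmp : (agree M : Scheme.{u}) ⟶ pullback (M.π ≫ M.p) M.p :=
  pullback.lift ((agree M).ι ≫ pullback.fst (M.π ≫ M.p) (M.π ≫ M.p))
    (((agree M).ι ≫ pullback.snd (M.π ≫ M.p) (M.π ≫ M.p)) ≫ M.π)
    (by simp only [Category.assoc]; rw [pullback.condition])

theorem cmp_fst : cmp M ≫ pullback.fst (M.π ≫ M.p) M.p =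
    (agree M).ι ≫ pullback.fst (M.π ≫ M.p) (M.π ≫ M.p) := pullback.lift_fst _ _ _

theorem cmp_snd : cmp M ≫ pullback.snd (M.π ≫ M.p) M.p =
    ((agree M).ι ≫ pullback.snd (M.π ≫ M.p) (M.π ≫ M.p)) ≫ M.π := pullback.lift_snd _ _ _

theorem etale_cmp : Etale (cmp M) := by
  let c : pullback (M.π ≫ M.p) (M.π ≫ M.p) ⟶ pullback (M.π ≫ M.p) M.p :=
    pullback.lift (pullback.fst (M.π ≫ M.p) (M.π ≫ M.p)) (pullback.snd (M.π ≫ M.p) (M.π ≫ M.p) ≫ M.π)
      (pullback.condition.trans (Category.assoc _ _ _).symm)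
  have c₁ : c ≫ pullback.fst (M.π ≫ M.p) M.p = pullback.fst (M.π ≫ M.p) (M.π ≫ M.p) :=
    pullback.lift_fst _ _ _
  have c₂ : c ≫ pullback.snd (M.π ≫ M.p) M.p = pullback.snd (M.π ≫ M.p) (M.π ≫ M.p) ≫ M.π :=
    pullback.lift_snd _ _ _
  have h : cmp M = (agree M).ι ≫ c := by
    apply pullback.hom_ext
    · exact (cmp_fst M).trans ((congrArg ((agree M).ι ≫ ·) c₁.symm).trans (Category.assoc _ _ _).symm)
    · exact (cmp_snd M).trans ((Category.assoc _ _ _).trans
        ((congrArg ((agree M).ι ≫ ·) c₂.symm).trans (Category.assoc _ _ _).symm))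
  have hc : IsPullback c (pullback.snd (M.π ≫ M.p) (M.π ≫ M.p)) (pullback.snd (M.π ≫ M.p) M.p) M.π := by
    refine IsPullback.of_right ?_ c₂ (IsPullback.of_hasPullback (M.π ≫ M.p) M.p)
    rw [c₁]
    exact IsPullback.of_hasPullback (M.π ≫ M.p) (M.π ≫ M.p)
  have : Etale c := MorphismProperty.of_isPullback (P := @Etale) hc.flip M.etale_π
  rw [h]
  infer_instance

theorem isIso_cmp : IsIso (cmp M) := by
  have := etale_cmp M
  have hsurj : Surjective (cmp M) := ⟨fun z => by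
    let γ := geomPoint (pullback (M.π ≫ M.p) M.p) z
    let a := γ ≫ pullback.fst (M.π ≫ M.p) M.p
    let η := γ ≫ pullback.snd (M.π ≫ M.p) M.p
    have hη : η ≫ M.p = a ≫ M.π ≫ M.p := by simp only [a, η, Category.assoc, pullback.condition]
    obtain ⟨⟨b, hb⟩, he⟩ := (val_bij M (a ≫ M.π ≫ M.p) η hη).2 (val M _ a rfl)
    have hb' : b ≫ M.π ≫ M.p = a ≫ M.π ≫ M.p := by rw [← hη, ← hb, Category.assoc]
    let w : Spec (CommRingCat.of (SeparableClosure ((pullback (M.π ≫ M.p) M.p).residueField z))) ⟶ _ :=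
      pullback.lift a b hb'.symm
    have hw : w.base default ∈ agree M :=
      (mem_agree M _ w a b (pullback.lift_fst _ _ _) (pullback.lift_snd _ _ _) rfl hb').2 he.symm
    obtain ⟨w', hw'⟩ : ∃ w', w' ≫ (agree M).ι = w := ⟨_, IsOpenImmersion.lift_fac (agree M).ι w (by
      rintro _ ⟨t, rfl⟩
      rw [Subsingleton.elim t default]
      exact ⟨⟨_, hw⟩, rfl⟩)⟩
    have : w' ≫ cmp M = γ := by
      apply pullback.hom_ext
      · rw [Category.assoc, cmp_fst, reassoc_of% hw']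
        exact pullback.lift_fst _ _ _
      · rw [Category.assoc, cmp_snd, Category.assoc, reassoc_of% hw']
        exact ((Category.assoc _ _ _).symm.trans (eq_whisker (pullback.lift_snd _ _ _) M.π)).trans hb
    refine ⟨w'.base default, ?_⟩
    rw [← Scheme.Hom.comp_apply, this]
    exact geomPoint_apply z default⟩
  have hdiag : Surjective (pullback.diagonal (cmp M)) := ⟨fun z => by
    let γ := geomPoint (pullback (cmp M) (cmp M)) z
    let w₁ := γ ≫ pullback.fst (cmp M) (cmp M)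
    let w₂ := γ ≫ pullback.snd (cmp M) (cmp M)
    have hc : w₁ ≫ cmp M = w₂ ≫ cmp M := by simp only [w₁, w₂, Category.assoc, pullback.condition]
    have h1 : w₁ ≫ (agree M).ι ≫ pullback.fst (M.π ≫ M.p) (M.π ≫ M.p) =
        w₂ ≫ (agree M).ι ≫ pullback.fst (M.π ≫ M.p) (M.π ≫ M.p) := by
      rw [← cmp_fst, ← Category.assoc, hc, Category.assoc]
    have h2 : w₁ ≫ ((agree M).ι ≫ pullback.snd (M.π ≫ M.p) (M.π ≫ M.p)) ≫ M.π =
        w₂ ≫ ((agree M).ι ≫ pullback.snd (M.π ≫ M.p) (M.π ≫ M.p)) ≫ M.π := by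
      rw [← cmp_snd, ← Category.assoc, hc, Category.assoc]
    rw [Category.assoc] at h2
    let b₁ := w₁ ≫ (agree M).ι ≫ pullback.snd (M.π ≫ M.p) (M.π ≫ M.p)
    let b₂ := w₂ ≫ (agree M).ι ≫ pullback.snd (M.π ≫ M.p) (M.π ≫ M.p)
    let a := w₁ ≫ (agree M).ι ≫ pullback.fst (M.π ≫ M.p) (M.π ≫ M.p)
    have hη : (b₁ ≫ M.π) ≫ M.p = a ≫ M.π ≫ M.p := by
      simp only [a, b₁, Category.assoc]
      rw [pullback.condition]
    have hb₂ : b₂ ≫ M.π = b₁ ≫ M.π := by simp only [b₁, b₂, Category.assoc]; exact h2.symm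
    have e₁ := (mem_agree M (a ≫ M.π ≫ M.p) (w₁ ≫ (agree M).ι) a b₁ (Category.assoc _ _ _)
      (Category.assoc _ _ _) rfl ((Category.assoc _ _ _).symm.trans hη)).1 ((w₁.base default).2)
    have e₂ := (mem_agree M (a ≫ M.π ≫ M.p) (w₂ ≫ (agree M).ι) a b₂
      ((Category.assoc _ _ _).trans h1.symm)
      (Category.assoc _ _ _) rfl ((Category.assoc _ _ _).symm.trans ((eq_whisker hb₂ M.p).trans hη))).1
      ((w₂.base default).2)
    have hb : b₁ = b₂ :=
      congrArg Subtype.val ((val_bij M _ (b₁ ≫ M.π) hη).1 (a₁ := ⟨b₁, rfl⟩) (a₂ := ⟨b₂, hb₂⟩) (e₁.symm.trans e₂))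
    have hw : w₁ = w₂ := by
      rw [← cancel_mono (agree M).ι]
      apply pullback.hom_ext
      · rw [Category.assoc, Category.assoc]; exact h1
      · rw [Category.assoc, Category.assoc]; exact hb
    refine ⟨w₁.base default, ?_⟩
    rw [← Scheme.Hom.comp_apply]
    have : w₁ ≫ pullback.diagonal (cmp M) = γ := by
      apply pullback.hom_ext
      · rw [Category.assoc, pullback.diagonal_fst, Category.comp_id]
      · rw [Category.assoc, pullback.diagonal_snd, Category.comp_id]; exact hw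
    rw [this]
    exact geomPoint_apply z default⟩
  have := Groth.Agent.Lib.Unram.EtaleMono.isOpenImmersion_of_surjective_diagonal (cmp M)
  exact (isIso_iff_isOpenImmersion_and_epi_base (cmp M)).2 ⟨this, (TopCat.epi_iff_surjective _).2 hsurj.1⟩

theorem existsUnique_rel {T : Scheme.{u}} (v : T ⟶ M.Z) (x : T ⟶ M.U)
    (h : v ≫ M.π ≫ M.p = x ≫ M.p) : ∃! v' : T ⟶ M.Z, v' ≫ M.π = x ∧ Rel M v v' := by
  have := isIso_cmp M
  let l : T ⟶ pullback (M.π ≫ M.p) M.p := pullback.lift v x h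
  let w := l ≫ inv (cmp M)
  have hw : w ≫ cmp M = l := by simp [w]
  refine ⟨w ≫ (agree M).ι ≫ pullback.snd (M.π ≫ M.p) (M.π ≫ M.p), ⟨?_, w, ?_, rfl⟩, ?_⟩
  · refine Eq.trans ?_ ((eq_whisker hw (pullback.snd (M.π ≫ M.p) M.p)).trans (pullback.lift_snd _ _ _))
    rw [Category.assoc w (cmp M), cmp_snd]
    simp only [Category.assoc]
  · refine Eq.trans ?_ ((eq_whisker hw (pullback.fst (M.π ≫ M.p) M.p)).trans (pullback.lift_fst _ _ _))
    rw [Category.assoc w (cmp M), cmp_fst]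
  · rintro v' ⟨hv', w', hw₁, hw₂⟩
    have : w' = w := by
      rw [← cancel_mono (cmp M), hw]
      apply pullback.hom_ext
      · rw [Category.assoc, cmp_fst]
        exact hw₁.trans (pullback.lift_fst _ _ _).symm
      · rw [Category.assoc, cmp_snd, ← Category.assoc w']
        refine ((eq_whisker hw₂ M.π).trans hv').trans ?_
        exact (pullback.lift_snd _ _ _).symm
    rw [← hw₂, this]

/-- The transported point. -/
def tr {T : Scheme.{u}} (v : T ⟶ M.Z) (x : T ⟶ M.U) (h : v ≫ M.π ≫ M.p = x ≫ M.p) : T ⟶ M.Z :=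
  (existsUnique_rel M v x h).exists.choose

theorem tr_spec {T : Scheme.{u}} (v : T ⟶ M.Z) (x : T ⟶ M.U) (h : v ≫ M.π ≫ M.p = x ≫ M.p) :
    tr M v x h ≫ M.π = x ∧ Rel M v (tr M v x h) :=
  (existsUnique_rel M v x h).exists.choose_spec

theorem tr_unique {T : Scheme.{u}} {v : T ⟶ M.Z} {x : T ⟶ M.U} (h : v ≫ M.π ≫ M.p = x ≫ M.p)
    {v' : T ⟶ M.Z} (h₁ : v' ≫ M.π = x) (h₂ : Rel M v v') : v' = tr M v x h :=
  (existsUnique_rel M v x h).unique ⟨h₁, h₂⟩ (tr_spec M v x h)

theorem lift_w {T : Scheme.{u}} {x₀ x₁ : T ⟶ M.U} (h : x₀ ≫ M.p = x₁ ≫ M.p)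
    (v : Desc.Lifts (Over.mk M.π) x₀) : v.1 ≫ M.π ≫ M.p = x₁ ≫ M.p :=
  ((Category.assoc _ _ _).symm.trans (eq_whisker v.2 M.p)).trans h

/-- The descent datum of a model. -/
def datum : Desc.SchDD M.p where
  obj := Over.mk M.π
  φ T x₀ x₁ h :=
    { toFun := fun v => ⟨tr M v.1 x₁ (lift_w M h v), (tr_spec M v.1 x₁ (lift_w M h v)).1⟩
      invFun := fun v => ⟨tr M v.1 x₀ (lift_w M h.symm v), (tr_spec M v.1 x₀ (lift_w M h.symm v)).1⟩
      left_inv := fun v => Subtype.ext (tr_unique M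
        (lift_w M h.symm ⟨tr M v.1 x₁ (lift_w M h v), (tr_spec M v.1 x₁ (lift_w M h v)).1⟩) v.2
        ((tr_spec M v.1 x₁ (lift_w M h v)).2.symm M)).symm
      right_inv := fun v => Subtype.ext (tr_unique M
        (lift_w M h ⟨tr M v.1 x₀ (lift_w M h.symm v), (tr_spec M v.1 x₀ (lift_w M h.symm v)).1⟩) v.2
        ((tr_spec M v.1 x₀ (lift_w M h.symm v)).2.symm M)).symm }
  φ_natural T T' g x₀ x₁ h h' v v' hv := by
    refine (tr_unique M (lift_w M h' v') ?_ ?_).symm
    · exact (Category.assoc _ _ _).trans (congrArg (g ≫ ·) (tr_spec M v.1 x₁ (lift_w M h v)).1)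
    · rw [hv]
      exact (tr_spec M v.1 x₁ (lift_w M h v)).2.comp M g
  φ_self T x v := Subtype.ext (tr_unique M (lift_w M rfl v) v.2 (rel_refl M _)).symm
  φ_comp T x₀ x₁ x₂ h₀₁ h₁₂ v := by
    let v₁ : Desc.Lifts (Over.mk M.π) x₁ := ⟨tr M v.1 x₁ (lift_w M h₀₁ v), (tr_spec M v.1 x₁ (lift_w M h₀₁ v)).1⟩
    exact Subtype.ext (tr_unique M (lift_w M (h₀₁.trans h₁₂) v) (tr_spec M v₁.1 x₂ (lift_w M h₁₂ v₁)).1
      ((tr_spec M v.1 x₁ (lift_w M h₀₁ v)).2.trans M (tr_spec M v₁.1 x₂ (lift_w M h₁₂ v₁)).2))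

theorem rel_of_φ {T : Scheme.{u}} (x₀ x₁ : T ⟶ M.U) (h : x₀ ≫ M.p = x₁ ≫ M.p)
    (v : Desc.Lifts (datum M).obj x₀) : Rel M v.1 ((datum M).φ x₀ x₁ h v).1 :=
  (tr_spec M v.1 x₁ (lift_w M h v)).2

/-- A sheaf with a finite étale model is representable by a finite étale scheme. -/
theorem exists_repSh_iso (M : Model F) :
    ∃ (U : X.Etale) (_ : IsFinite U.hom), Nonempty (F ≅ EtDesc.repSh U) := by
  let D := datum M
  have hp : FFDesc.fpqcCover M.p := FFDesc.fpqcCover_of_lfp M.p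
  have haff : IsAffineHom D.obj.hom := show IsAffineHom M.π from inferInstance
  obtain ⟨W, q, H, -, -⟩ := FFDesc.exists_isDescended D hp (show Mor2.IsQuasiAffine M.π from ⟨inferInstance, fun V hV => by
    have : IsAffine (M.π ⁻¹ᵁ V : Scheme.{u}) := hV.preimage M.π
    infer_instance⟩)
  have hcov : (@Surjective ⊓ @Flat ⊓ @LocallyOfFinitePresentation : MorphismProperty Scheme.{u}) M.p :=
    ⟨⟨inferInstance, inferInstance⟩, inferInstance⟩
  have hfin : IsFinite W.hom :=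
    MorphismProperty.of_isPullback_of_descendsAlong (P := @IsFinite) H.isPullback hcov M.finite_π
  have het : Etale W.hom :=
    MorphismProperty.of_isPullback_of_descendsAlong (P := @Etale) H.isPullback hcov M.etale_π
  let Z : X.Etale := Scheme.Etale.mk W.hom
  let g : T₀ M ⟶ Z := MorphismProperty.Over.homMk q H.isPullback.w.symm
  have hrel : ∀ {T : Scheme.{u}} (a b : T ⟶ M.Z), a ≫ q = b ≫ q → Rel M a b := by
    intro T a b h
    obtain ⟨h', hb⟩ := H.kernelPair a b h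
    have e := FFDesc.φ_eq D (a ≫ M.π) (b ≫ M.π)
      ((Category.assoc _ _ _).trans h') ⟨a, rfl⟩
    exact (e.trans hb) ▸ rel_of_φ M (a ≫ M.π) (b ≫ M.π) ((Category.assoc _ _ _).trans h') ⟨a, rfl⟩
  have hqsurj : Function.Surjective q.base :=
    (MorphismProperty.of_isPullback (P := @Surjective) H.isPullback M.surj_p).1
  have hF : Presieve.IsSheaf X.smallEtaleTopology F.obj := (isSheaf_iff_isSheaf_of_type _ _).1 F.2
  obtain ⟨σ, hσ, -⟩ := ((Presieve.isSheafFor_arrows_iff F.obj (fun _ : PUnit.{u + 1} => g)).1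
    ((Presieve.isSheafFor_iff_generate _).2 (hF _ (ofArrows_mem _ _ fun z =>
      ⟨PUnit.unit, hqsurj z⟩)))) (fun _ => M.s) (fun i j V gi gj hij => by
        have e : gi.left ≫ q = gj.left ≫ q := congrArg (fun k => k.left) hij
        have hr := hrel gi.left gj.left e
        refine Stalk.sections_ext_of_germ F _ _ fun v => ?_
        refine ⟨_, inferInstance, inferInstance, geomPoint X v, geomPoint_apply v default, fun r => ?_⟩
        refine (germ_map _ F gi r _).trans (Eq.trans ?_ (germ_map _ F gj r _).symm)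
        exact hr.val_eq M (geomPoint X v) (fiberHom r)
          (fiberHom_comp ((Scheme.pointSmallEtale _).fiber.map gi r))
          (fiberHom_comp ((Scheme.pointSmallEtale _).fiber.map gj r)))
  have hσ' : F.obj.map g.op σ = M.s := hσ PUnit.unit
  -- geometric points of `W` over a geometric point of `X` with a lift to `U`
  have hlift : ∀ {Ω : Type u} [Field Ω] [IsSepClosed Ω] (ξ : Spec (CommRingCat.of Ω) ⟶ X)
      (η : Spec (CommRingCat.of Ω) ⟶ M.U) (_ : η ≫ M.p = ξ) (z : (Scheme.pointSmallEtale ξ).fiber.obj Z),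
      ∃ (b : Spec (CommRingCat.of Ω) ⟶ M.Z) (hb : b ≫ M.π ≫ M.p = ξ), b ≫ M.π = η ∧
        b ≫ q = fiberHom z ∧ germ ξ F z σ = val M ξ b hb := by
    intro Ω _ _ ξ η hη z
    let b := H.isPullback.lift η (fiberHom z) (hη.trans (fiberHom_comp z).symm)
    have hb₁ : b ≫ M.π = η := H.isPullback.lift_fst _ _ _
    have hb₂ : b ≫ q = fiberHom z := H.isPullback.lift_snd _ _ _
    have hb : b ≫ M.π ≫ M.p = ξ := (Category.assoc _ _ _).symm.trans ((eq_whisker hb₁ _).trans hη)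
    refine ⟨b, hb, hb₁, hb₂, ?_⟩
    have hz : (Scheme.pointSmallEtale ξ).fiber.map g (mkFiber ξ (T₀ M) b hb) = z :=
      Over.OverMorphism.ext hb₂
    rw [val, ← hσ', germ_map, hz]
  let τ : yoneda.obj Z ⋙ uliftFunctor.{u + 1, u} ⟶ F.obj :=
    { app := fun V => ↾fun h => F.obj.map h.down.op σ
      naturality := fun V V' k => by
        ext h
        change F.obj.map (k.unop ≫ h.down).op σ = F.obj.map k (F.obj.map h.down.op σ)
        rw [op_comp, Functor.map_comp]
        rfl }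
  let J := X.smallEtaleTopology
  have hgeom : ∀ (V : X.Etale) (v : V.left), ∃ (η : Spec (CommRingCat.of
      (SeparableClosure (X.residueField (V.hom.base v)))) ⟶ M.U), η ≫ M.p = geomPoint X (V.hom.base v) := by
    intro V v
    obtain ⟨u, hu⟩ := M.p.surjective (V.hom.base v)
    obtain ⟨η, hη, -⟩ := Scheme.exists_fac_of_etale_of_isSepClosed M.p (geomPoint X (V.hom.base v)) u
      (hu.trans (geomPoint_apply _ default).symm)
    exact ⟨η, hη⟩
  have hinj : Presheaf.IsLocallyInjective J τ := by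
    refine ⟨fun {V} h h' hh => (mem_topology_iff _).2 fun v => ?_⟩
    obtain ⟨r, hr⟩ := exists_fiber_geomPoint V.unop v
    obtain ⟨η, hη⟩ := hgeom V.unop v
    obtain ⟨b, hb, hb₁, hb₂, hbv⟩ := hlift _ η hη ((Scheme.pointSmallEtale _).fiber.map h.down r)
    obtain ⟨b', hb', hb₁', hb₂', hbv'⟩ := hlift _ η hη ((Scheme.pointSmallEtale _).fiber.map h'.down r)
    have hval : val M _ b hb = val M _ b' hb' := by
      rw [← hbv, ← hbv', ← germ_map, ← germ_map]
      exact congrArg _ hh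
    obtain rfl : b = b' := congrArg Subtype.val
      ((val_bij M _ η hη).1 (a₁ := ⟨b, hb₁⟩) (a₂ := ⟨b', hb₁'⟩) hval)
    have hrh : fiberHom r ≫ h.down.left = fiberHom r ≫ h'.down.left := hb₂.symm.trans hb₂'
    let L : V.unop.left ⟶ pullback W.hom W.hom := pullback.lift h.down.left h'.down.left
      ((MorphismProperty.Over.w h.down).trans (MorphismProperty.Over.w h'.down).symm)
    have : IsOpenImmersion (pullback.fst L (pullback.diagonal W.hom)) := inferInstance
    let E := pullback L (pullback.diagonal W.hom)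
    have hE : Etale (pullback.fst L (pullback.diagonal W.hom)) := inferInstance
    let T : X.Etale := MorphismProperty.Over.mk ⊤ (pullback.fst L (pullback.diagonal W.hom) ≫ V.unop.hom)
      (MorphismProperty.comp_mem @Etale _ _ hE V.unop.prop)
    let k : T ⟶ V.unop := MorphismProperty.Over.homMk (pullback.fst L (pullback.diagonal W.hom)) rfl
    let e := pullback.lift (f := L) (g := pullback.diagonal W.hom) (fiberHom r) (fiberHom r ≫ h.down.left) (by
      apply pullback.hom_ext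
      · simp only [Category.assoc, L, pullback.lift_fst, pullback.diagonal_fst, Category.comp_id]
      · simp only [Category.assoc, L, pullback.lift_snd, pullback.diagonal_snd, Category.comp_id]
        exact hrh.symm)
    refine ⟨T, k, ?_, e.base default, ?_⟩
    · refine ULift.ext _ _ (MorphismProperty.Over.Hom.ext ?_)
      change pullback.fst L (pullback.diagonal W.hom) ≫ h.down.left =
        pullback.fst L (pullback.diagonal W.hom) ≫ h'.down.left
      have c := pullback.condition (f := L) (g := pullback.diagonal W.hom)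
      have c₁ := eq_whisker c (pullback.fst W.hom W.hom)
      have c₂ := eq_whisker c (pullback.snd W.hom W.hom)
      simp only [Category.assoc, L, pullback.lift_fst, pullback.lift_snd, pullback.diagonal_fst,
        pullback.diagonal_snd, Category.comp_id] at c₁ c₂
      exact c₁.trans c₂.symm
    · change (pullback.fst L (pullback.diagonal W.hom)).base (e.base default) = v
      rw [← Scheme.Hom.comp_apply]
      have he : e ≫ pullback.fst L (pullback.diagonal W.hom) = fiberHom r := pullback.lift_fst _ _ _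
      exact (congrArg (fun m => m.base default) he).trans hr
  have hsurj : Presheaf.IsLocallySurjective J τ := by
    refine ⟨fun {V} t => (mem_topology_iff _).2 fun v => ?_⟩
    obtain ⟨r, hr⟩ := exists_fiber_geomPoint V v
    obtain ⟨η, hη⟩ := hgeom V v
    obtain ⟨⟨b, hb₁⟩, hbv⟩ := (val_bij M _ η hη).2 (germ _ F r t)
    let A : X.Etale := MorphismProperty.Over.mk ⊤ (pullback.fst V.hom (M.π ≫ M.p) ≫ V.hom)
      (MorphismProperty.comp_mem @Etale _ _
        (show Etale (pullback.fst V.hom (M.π ≫ M.p)) from inferInstance) V.prop)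
    let a₁ : A ⟶ V := MorphismProperty.Over.homMk (pullback.fst V.hom (M.π ≫ M.p)) rfl
    let a₂ : A ⟶ T₀ M := MorphismProperty.Over.homMk (pullback.snd V.hom (M.π ≫ M.p)) pullback.condition.symm
    have hb : b ≫ M.π ≫ M.p = geomPoint X (V.hom.base v) :=
      (Category.assoc _ _ _).symm.trans ((eq_whisker hb₁ _).trans hη)
    let rA : (Scheme.pointSmallEtale (geomPoint X (V.hom.base v))).fiber.obj A :=
      mkFiber (geomPoint X (V.hom.base v)) A (pullback.lift (fiberHom r) b ((fiberHom_comp r).trans hb.symm))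
        ((Category.assoc _ _ _).symm.trans ((eq_whisker (pullback.lift_fst _ _ _) _).trans (fiberHom_comp r)))
    have hmem : fiberPt rA ∈ {x : A.left | ∃ (W' : X.Etale) (c : W' ⟶ A),
        F.obj.map c.op (F.obj.map a₂.op M.s) = F.obj.map c.op (F.obj.map a₁.op t) ∧
          x ∈ Set.range c.left.base} := by
      refine (BaseChange.toPresheafFiber_eq_iff_mem (Z := X) (A := Type (u + 1)) F.obj A _ _ rA).1 ?_
      refine (germ_map _ F a₂ rA M.s).trans (Eq.trans ?_ (germ_map _ F a₁ rA t).symm)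
      have e₂ : (Scheme.pointSmallEtale _).fiber.map a₂ rA = mkFiber _ (T₀ M) b hb :=
        Over.OverMorphism.ext (pullback.lift_snd _ _ _)
      have e₁ : (Scheme.pointSmallEtale _).fiber.map a₁ rA = r :=
        Over.OverMorphism.ext (pullback.lift_fst _ _ _)
      rw [e₁, e₂]
      exact hbv
    obtain ⟨W', c, hc, w, hw⟩ := hmem
    refine ⟨W', c ≫ a₁, ⟨⟨c ≫ a₂ ≫ g⟩, ?_⟩, w, ?_⟩
    · change F.obj.map (c ≫ a₂ ≫ g).op σ = F.obj.map (c ≫ a₁).op t
      simp only [op_comp, Functor.map_comp]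
      change F.obj.map c.op (F.obj.map a₂.op (F.obj.map g.op σ)) = F.obj.map c.op (F.obj.map a₁.op t)
      rw [hσ']
      exact hc
    · change a₁.left.base (c.left.base w) = v
      rw [hw]
      refine Eq.trans ?_ hr
      have he : fiberHom rA ≫ pullback.fst V.hom (M.π ≫ M.p) = fiberHom r := pullback.lift_fst _ _ _
      exact congrArg (fun m => m.base default) he
  refine ⟨Z, hfin, ⟨(?_ : EtDesc.repSh Z ≅ F).symm⟩⟩
  have : IsIso ((presheafToSheaf J (Type (u + 1))).map τ) :=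
    (J.W_iff τ).1 ((J.W_iff_isLocallyBijective τ).2 ⟨hinj, hsurj⟩)
  exact asIso ((presheafToSheaf J (Type (u + 1))).map τ) ≪≫
    asIso ((sheafificationAdjunction J (Type (u + 1))).counit.app F)

end Groth.Agent.Lib.EtSite.RepFEt
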