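import Groth.Prelude.Def_EtCore
import Groth.Agent.Lib.EtSite.IntegralSection
import Groth.Agent.Lib.EtSite.DisjointCover
import Groth.Agent.Lib.EtSite.Fiber
import Groth.Agent.Lib.EtSite.StrictHens
import Mathlib.CategoryTheory.Sites.EpiMono

/-!
# Affine schemes on which étale covers split: cohomology vanishes
-/

universe u

open CategoryTheory CategoryTheory.Limits AlgebraicGeometry Opposite

namespace Groth.Agent.Lib.EtSite.Sections

open Groth.Agent.Lib.EtSite.Basic Groth.Agent.Lib.EtSite.Stalk Groth.Agent.Lib.EtSite.DisjointCover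

/-- Every étale algebra covering all maximal ideals has a section. -/
def HasSections (B : Type u) [CommRing B] : Prop :=
  ∀ (C : Type u) [CommRing C] [Algebra B C] [Algebra.Etale B C],
    (∀ q : Ideal B, q.IsMaximal → ∃ c : Ideal C, c.IsPrime ∧ c.comap (algebraMap B C) = q) →
    Nonempty (C →ₐ[B] B)

theorem hasSections_of_isIntegral (A : Type u) [CommRing A] [HenselianLocalRing A]
    [IsSepClosed (IsLocalRing.ResidueField A)] (T : Type u) [CommRing T] [Algebra A T]
    [Algebra.IsIntegral A T] : HasSections T := fun C _ _ _ hC => by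
  obtain ⟨n, k, σ, -⟩ := IntegralSection.exists_fin_section (A := A) (T := T) (κ := PUnit.{1})
    (fun _ => C) (fun _ => 1) (fun q hq hJ => by
      obtain ⟨c, hc, hcq⟩ := hC q (IntegralSection.isMaximal_of_le hJ)
      exact ⟨PUnit.unit, c, hc, hcq, hc.ne_top ∘ (Ideal.eq_top_iff_one c).2⟩)
  exact ⟨σ.comp (AlgHom.pi fun _ => AlgHom.id T C)⟩

theorem hasSections_of_krullDimLE_zero (S : Type u) [CommRing S] [Ring.KrullDimLE 0 S]
    (hsep : ∀ (q : Ideal S) [q.IsPrime], IsSepClosed q.ResidueField) : HasSections S :=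
  fun C _ _ _ hC => ZeroDim.exists_section hsep fun q hq => by
    obtain ⟨c, hc, hcq⟩ := hC q (Ideal.IsPrime.isMaximal' hq)
    exact ⟨c, hc, ⟨hcq.symm⟩⟩

theorem isSepClosed_of_ringEquiv {K L : Type*} [Field K] [Field L] (e : K ≃+* L) [IsSepClosed K] :
    IsSepClosed L := by
  refine IsSepClosed.of_exists_root _ fun p hm hi hs => ?_
  obtain ⟨x, hx⟩ := IsSepClosed.exists_root (p.map e.symm.toRingHom)
    (by rw [Polynomial.degree_map]; exact (Polynomial.degree_pos_of_irreducible hi).ne') hs.map
  refine ⟨e x, e.symm.injective ?_⟩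
  have h := Polynomial.eval_map_apply (p := p) e.symm.toRingHom (e x)
  change (p.map e.symm.toRingHom).eval (e.symm (e x)) = e.symm (p.eval (e x)) at h
  rw [e.symm_apply_apply, hx] at h
  rw [← h, map_zero]

/-- Covers split by finitely many disjoint open pieces. -/
theorem exists_disjointCover {X : Scheme.{u}} [IsAffine X] (hX : HasSections Γ(X, ⊤))
    (S : Sieve (EtCoh.top X)) (hS : S ∈ X.smallEtaleTopology (EtCoh.top X)) :
    ∃ (n : ℕ) (D : Fin n → X.Etale) (o : ∀ j, D j ⟶ EtCoh.top X),
      IsDisjointCover D o ∧ ∀ j, S (o j) := by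
  classical
  set B := Γ(X, ⊤)
  let e := X.isoSpec
  -- affine pieces
  have hp : ∀ x : X, ∃ (Z : X.Etale) (g : Z ⟶ EtCoh.top X) (C : CommRingCat.{u}) (φ : B ⟶ C)
      (j : Spec C ⟶ Z.left), S g ∧ j ≫ g.left = Spec.map φ ≫ e.inv ∧ φ.hom.Etale ∧
        x ∈ Set.range (j ≫ g.left).base ∧ IsOpen (Set.range (j ≫ g.left).base) := by
    intro x
    obtain ⟨Z, g, hg, z, hz⟩ := (mem_topology_iff S).1 hS x
    obtain ⟨C, j, hj, ⟨c, hc⟩, -⟩ := Scheme.exists_affine_mem_range_and_range_subset
      (x := z) (U := (⊤ : Z.left.Opens)) trivial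
    obtain ⟨φ, hφ⟩ := Spec.map_surjective ((j ≫ g.left) ≫ e.hom)
    have hgE : Etale g.left := Fiber.etale_left g
    have hjg : Etale (j ≫ g.left) := MorphismProperty.comp_mem @Etale j g.left inferInstance hgE
    have : Etale (Spec.map φ) :=
      hφ ▸ MorphismProperty.comp_mem @Etale (j ≫ g.left) e.hom hjg inferInstance
    refine ⟨Z, g, C, φ, j, hg, ?_, (HasRingHomProperty.Spec_iff (P := @Etale)).1 this,
      ⟨c, (congrArg g.left.base hc).trans hz⟩, ?_⟩
    · rw [hφ, Category.assoc]
      exact ((_ ≫= e.hom_inv_id).trans (Category.comp_id _)).symm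
    · exact (j ≫ g.left).isOpenMap.isOpen_range
  choose Z g C φ j hg hfac hφ hmem hopen using hp
  obtain ⟨t, ht⟩ := (isCompact_univ (X := X)).elim_finite_subcover
    (fun x : X => Set.range (j x ≫ (g x).left).base) hopen
    (fun x _ => Set.mem_iUnion.2 ⟨x, hmem x⟩)
  let m := t.card
  let idx : Fin m → X := fun a => (t.equivFin.symm a : X)
  let alg : ∀ a, Algebra B (C (idx a)) := fun a => (φ (idx a)).hom.toAlgebra
  have : ∀ a, Algebra.Etale B (C (idx a)) := fun a => RingHom.etale_algebraMap.1 (hφ (idx a))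
  obtain ⟨σ⟩ := hX (Π a, C (idx a)) (fun q hq => by
    obtain ⟨x, hx, c, hc⟩ := Set.mem_iUnion₂.1 (ht (Set.mem_univ (e.inv.base ⟨q, hq.isPrime⟩)))
    obtain ⟨a, ha⟩ := t.equivFin.symm.surjective ⟨x, hx⟩
    obtain rfl : idx a = x := congrArg Subtype.val ha
    have h1 : (Spec.map (φ (idx a))).base c = ⟨q, hq.isPrime⟩ :=
      (Scheme.homeoOfIso e.symm).injective
        ((congrArg (fun m => m.base c) (hfac (idx a))).symm.trans hc)
    refine ⟨c.asIdeal.comap (Pi.evalRingHom (fun a => (C (idx a) : Type u)) a), inferInstance, ?_⟩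
    rw [Ideal.comap_comap]
    exact congrArg PrimeSpectrum.asIdeal h1)
  let ej : Fin m → B := fun a => σ (Pi.single a 1)
  let loc : ∀ a, B ⟶ CommRingCat.of (Localization.Away (ej a)) := fun a =>
    CommRingCat.ofHom (algebraMap B (Localization.Away (ej a)))
  have hloc : ∀ a, IsOpenImmersion (Spec.map (loc a)) := fun a =>
    IsOpenImmersion.of_isLocalization (ej a)
  let D : Fin m → X.Etale := fun a =>
    MorphismProperty.Over.mk ⊤ (Spec.map (loc a) ≫ e.inv) (show Etale _ from inferInstance)
  let o : ∀ a, D a ⟶ EtCoh.top X := fun a =>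
    MorphismProperty.Over.homMk (Spec.map (loc a) ≫ e.inv) (Category.comp_id _)
  have hidem : ∀ a, IsIdempotentElem (ej a) := fun a => by
    rw [IsIdempotentElem, ← map_mul, ← Pi.single_mul, one_mul]
  have he1 : ∀ a, algebraMap B (Localization.Away (ej a)) (ej a) = 1 := fun a => by
    refine (IsLocalization.Away.algebraMap_isUnit (ej a)).mul_left_cancel ?_
    rw [mul_one, ← map_mul, (hidem a).eq]
  let ψ : ∀ a, C (idx a) ⟶ CommRingCat.of (Localization.Away (ej a)) := fun a =>
    CommRingCat.ofHom (RingHom.mk'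
      { toFun := fun c => algebraMap B _ (σ (Pi.single a c))
        map_one' := he1 a
        map_mul' := fun x y => by rw [Pi.single_mul, map_mul, map_mul] }
      fun x y => by
        change algebraMap B _ (σ (Pi.single a (x + y))) = _
        rw [Pi.single_add, map_add, map_add]
        rfl)
  have hψ : ∀ a, φ (idx a) ≫ ψ a = loc a := fun a => by
    ext b
    change algebraMap B _ (σ (Pi.single a (algebraMap B (C (idx a)) b))) = algebraMap B _ b
    have : (Pi.single a (algebraMap B (C (idx a)) b) : Π i, C (idx i)) =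
        b • Pi.single a 1 := by
      rw [← Pi.single_smul, Algebra.algebraMap_eq_smul_one]
    rw [this, map_smul, smul_eq_mul, map_mul]
    exact (congrArg (_ * ·) (he1 a)).trans (mul_one _)
  refine ⟨m, D, o, ⟨fun a => ?_, fun x => ?_, fun a a' z z' h => ?_⟩, fun a => ?_⟩
  · change IsOpenImmersion (Spec.map (loc a) ≫ e.inv)
    infer_instance
  · let x' : PrimeSpectrum B := e.hom.base x
    obtain ⟨a, ha⟩ : ∃ a, ej a ∉ x'.asIdeal := by
      by_contra hne
      push Not at hne
      refine x'.isPrime.ne_top ((Ideal.eq_top_iff_one _).2 ?_)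
      rw [← map_one σ, ← Finset.univ_sum_single (1 : Π i, C (idx i)), map_sum]
      exact Ideal.sum_mem _ fun i _ => hne i
    obtain ⟨d, hd⟩ : x' ∈ Set.range (PrimeSpectrum.comap (algebraMap B (Localization.Away (ej a)))) := by
      rw [PrimeSpectrum.localization_away_comap_range (Localization.Away (ej a)) (ej a)]
      exact ha
    refine ⟨a, d, ?_⟩
    change e.inv.base ((Spec.map (loc a)).base d) = x
    rw [show (Spec.map (loc a)).base d = e.hom.base x from hd, ← Scheme.Hom.comp_apply, e.hom_inv_id]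
    rfl
  · by_contra hne
    have hz : (Spec.map (loc a)).base z = (Spec.map (loc a')).base z' :=
      (Scheme.homeoOfIso e.symm).injective h
    have hm : ∀ (a : Fin m) (z : (D a).left), ej a ∉ ((Spec.map (loc a)).base z).asIdeal :=
      fun a z hz => z.isPrime.ne_top ((Ideal.eq_top_iff_one _).2 (he1 a ▸ hz))
    have h0 : ej a * ej a' = 0 := by
      have hs : (Pi.single a 1 : Π i, C (idx i)) * Pi.single a' 1 = 0 := by
        funext l
        rcases eq_or_ne l a with rfl | h1
        · simp [hne]
        · simp [h1]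
      rw [← map_mul, hs, map_zero]
    have hprime := ((Spec.map (loc a)).base z).isPrime
    exact (hprime.mem_or_mem (h0 ▸ zero_mem _)).elim (hm a z) fun h' => hm a' z' (hz ▸ h')
  · have hb : (Spec.map (ψ a) ≫ j (idx a)) ≫ (g (idx a)).left = (o a).left := by
      refine (Category.assoc _ _ _).trans ((_ ≫= hfac (idx a)).trans ?_)
      refine (Category.assoc _ _ _).symm.trans ?_
      rw [← Spec.map_comp, hψ]
      rfl
    let b : D a ⟶ Z (idx a) := MorphismProperty.Over.homMk (Spec.map (ψ a) ≫ j (idx a)) (by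
      refine ((Spec.map (ψ a) ≫ j (idx a)) ≫= (Over.w (g (idx a)).hom).symm).trans ?_
      refine (Category.assoc _ _ _).symm.trans ?_
      exact (congrArg (· ≫ (EtCoh.top X).hom) hb).trans (Category.comp_id _))
    have : b ≫ g (idx a) = o a := MorphismProperty.Over.Hom.ext hb
    rw [← this]
    exact S.downward_closed (hg _) b

theorem gsec_preservesEpimorphisms {X : Scheme.{u}} [IsAffine X] (hX : HasSections Γ(X, ⊤)) :
    (EtCore.gsec X).PreservesEpimorphisms where
  preserves {F G} φ h := by
    have := (Sheaf.isLocallySurjective_iff_epi' (φ := φ)).2 h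
    rw [AddCommGrpCat.epi_iff_surjective]
    intro t
    let S : Sieve (EtCoh.top X) := Presheaf.imageSieve φ.hom t
    obtain ⟨n, D, o, hD, ho⟩ :=
      exists_disjointCover hX S (Presheaf.imageSieve_mem X.smallEtaleTopology φ.hom t)
    obtain ⟨s, hs⟩ := hD.exists_glue F fun a => Presheaf.localPreimage φ.hom t (o a) (ho a)
    refine ⟨s, sections_ext G _ _ fun x => ?_⟩
    obtain ⟨a, d, hd⟩ := hD.exists_eq x
    refine ⟨D a, o a, ?_, d, hd⟩
    refine (NatTrans.naturality_apply φ.hom (o a).op s).symm.trans ?_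
    rw [hs]
    exact Presheaf.app_localPreimage φ.hom t _ (ho a)

/-- Positive degree cohomology vanishes when global sections are exact. -/
theorem H_subsingleton_of_gsec {X : Scheme.{u}} (hX : (EtCore.gsec X).PreservesEpimorphisms)
    (F : EtCoh.Ab X) (p : ℕ) (hp : 1 ≤ p) : Subsingleton (EtCoh.H X F p) := by
  obtain ⟨n, rfl⟩ := Nat.exists_eq_add_of_le hp
  have : Projective ((constantSheaf X.smallEtaleTopology AddCommGrpCat.{u + 1}).obj
      (AddCommGrpCat.of (ULift ℤ))) :=
    (EtCore.constAdj _).map_projective _ StrictHens.projective_ulift_int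
  rw [add_comm]
  exact subsingleton_of_forall_eq 0 fun x => Abelian.Ext.eq_zero_of_projective x

end Groth.Agent.Lib.EtSite.Sections
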