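import Groth.Prelude.Def_SGA4b
import Groth.Agent.Lib.EtSite.Fiber
import Groth.Agent.Lib.EtSite.FieldExt
import Mathlib.CategoryTheory.Adjunction.Unique

/-!
# Étale sheaves of sets on the spectrum of a separably closed field
-/

universe u

open CategoryTheory CategoryTheory.Limits AlgebraicGeometry Opposite

namespace Groth.Agent.Lib.EtSite.SepPoint

open Groth.Agent.Lib.EtSite.Basic Groth.Agent.Lib.EtSite.Stalk

/-- Functions on the points. -/
def pointFun (X : Scheme.{u}) (β : Type (u + 1)) : X.Etaleᵒᵖ ⥤ Type (u + 1) where
  obj T := T.unop.left → β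
  map a := ↾fun F t => F (a.unop.left.base t)

theorem isSheaf_pointFun (X : Scheme.{u}) (β : Type (u + 1)) :
    Presheaf.IsSheaf X.smallEtaleTopology (pointFun X β) := by
  rw [isSheaf_iff_isSheaf_of_type]
  intro U R hR x hx
  classical
  choose V f hf v hv using fun t : U.left => (mem_topology_iff R).1 hR t
  refine ⟨fun t => x (f t) (hf t) (v t), fun T g hg => funext fun z => ?_,
    fun y hy => funext fun t => ?_⟩
  · let t : U.left := g.left.base z
    obtain ⟨w, ha, hb⟩ := Scheme.Pullback.exists_preimage_pullback
      (f := (f t).left) (g := g.left) (v t) z (hv t)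
    have := Fiber.etale_left g
    have : Etale (V t).hom := (V t).prop
    let W : X.Etale := MorphismProperty.Over.mk ⊤ (pullback.fst (f t).left g.left ≫ (V t).hom)
      (show Etale _ from inferInstance)
    let a : W ⟶ V t := MorphismProperty.Over.homMk (pullback.fst (f t).left g.left) rfl
    let b : W ⟶ T := MorphismProperty.Over.homMk (pullback.snd (f t).left g.left)
      ((_ ≫= (Over.w g.hom :).symm).trans ((Category.assoc _ _ _).symm.trans
        ((congrArg (· ≫ U.hom) pullback.condition.symm).trans ((Category.assoc _ _ _).trans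
          (_ ≫= (Over.w (f t).hom :))))))
    have hab : a ≫ f t = b ≫ g := MorphismProperty.Over.Hom.ext pullback.condition
    have h1 := congrFun (hx a b (hf t) hg hab) w
    refine Eq.trans ?_ (h1.trans ?_)
    · exact congrArg (x (f t) (hf t)) ha.symm
    · exact congrArg (x g hg) hb
  · exact (congrArg y (hv t).symm).trans (congrFun (hy (f t) (hf t)) (v t))

variable (k : Type u) [Field k] [IsSepClosed k]

/-- The base scheme. -/
noncomputable abbrev base : Scheme.{u} := Spec (CommRingCat.of k)

theorem existsUnique_sec (U : (base k).Etale) (t : U.left) :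
    ∃! σ : EtCoh.top (base k) ⟶ U, σ.left.base (default : Spec (CommRingCat.of k)) = t := by
  have : Etale U.hom := U.prop
  obtain ⟨l, hl, hlt⟩ := Scheme.exists_fac_of_etale_of_isSepClosed U.hom (𝟙 (base k)) t
    (Subsingleton.elim (α := PrimeSpectrum k) _ _)
  refine ⟨MorphismProperty.Over.homMk l hl, hlt, fun σ hσ => MorphismProperty.Over.Hom.ext ?_⟩
  have hσw : σ.left ≫ U.hom = 𝟙 _ := Over.w σ.hom
  have := FieldExt.eq_comp_section (h := U.hom) hl σ.left (hσ.trans hlt.symm)
  rw [this]
  exact (congrArg (· ≫ l) hσw).trans (Category.id_comp l)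

/-- The section through a point. -/
noncomputable def sec (U : (base k).Etale) (t : U.left) : EtCoh.top (base k) ⟶ U :=
  (existsUnique_sec k U t).exists.choose

theorem sec_apply (U : (base k).Etale) (t : U.left) : (sec k U t).left.base (default : Spec (CommRingCat.of k)) = t :=
  (existsUnique_sec k U t).exists.choose_spec

theorem sec_comp {U V : (base k).Etale} (g : V ⟶ U) (t : V.left) :
    sec k V t ≫ g = sec k U (g.left.base t) :=
  (existsUnique_sec k U (g.left.base t)).unique
    (congrArg g.left.base (sec_apply k V t)) (sec_apply k U _)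

theorem sec_top (t : (EtCoh.top (base k)).left) : sec k (EtCoh.top (base k)) t = 𝟙 _ :=
  (existsUnique_sec k _ t).unique (sec_apply k _ t) (Subsingleton.elim (α := PrimeSpectrum k) _ _)

/-- Sections as families of global sections indexed by the points. -/
noncomputable def toFamily (F : EtDesc.Sh (base k)) (U : (base k).Etale)
    (s : F.obj.obj (op U)) (t : U.left) : F.obj.obj (op (EtCoh.top (base k))) :=
  F.obj.map (sec k U t).op s

theorem toFamily_bijective (F : EtDesc.Sh (base k)) (U : (base k).Etale) :
    Function.Bijective (toFamily k F U) := by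
  refine ⟨fun s s' h => sections_ext F s s' fun t => ⟨_, sec k U t, congrFun h t, _, sec_apply k U t⟩,
    fun x => ?_⟩
  have hF : Presieve.IsSheaf (base k).smallEtaleTopology F.obj :=
    (isSheaf_iff_isSheaf_of_type _ _).1 F.2
  have hS : (Presieve.ofArrows (fun _ : U.left => EtCoh.top (base k)) (sec k U)).IsSheafFor F.obj := by
    rw [Presieve.isSheafFor_iff_generate]
    exact hF _ (ofArrows_mem _ _ fun t => ⟨t, _, sec_apply k U t⟩)
  obtain ⟨s, hs, -⟩ := (Presieve.isSheafFor_arrows_iff _ _).1 hS x fun i j Z gi gj h => by
    refine sections_ext F _ _ fun z => ?_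
    have hij : i = j := by
      have h1 : ((gi ≫ sec k U i).left.base z : U.left) = (gj ≫ sec k U j).left.base z := by rw [h]
      refine ((sec_apply k U i).symm.trans (Eq.trans ?_ (sec_apply k U j)))
      refine Eq.trans (congrArg (sec k U i).left.base (Subsingleton.elim (α := PrimeSpectrum k) _ _))
        (h1.trans (congrArg (sec k U j).left.base (Subsingleton.elim (α := PrimeSpectrum k) _ _)))
    subst hij
    obtain rfl : gi = gj := (IsTerminal.isTerminalOfObj (Scheme.Etale.forget (base k))
      (EtCoh.top (base k)) Over.mkIdTerminal).hom_ext _ _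
    exact ⟨Z, 𝟙 Z, rfl, z, rfl⟩
  exact ⟨s, funext hs⟩

/-- Global sections. -/
noncomputable abbrev gsecSh : EtDesc.Sh (base k) ⥤ Type (u + 1) :=
  (sheafSections (base k).smallEtaleTopology (Type (u + 1))).obj (op (EtCoh.top (base k)))

theorem gsec_isEquivalence : (gsecSh k).IsEquivalence := by
  have key : ∀ {F G : EtDesc.Sh (base k)} (φ : F ⟶ G) (U : (base k).Etale) (s : F.obj.obj (op U))
      (t : U.left), toFamily k G U (φ.hom.app (op U) s) t = (gsecSh k).map φ (toFamily k F U s t) :=
    fun φ U s t => (NatTrans.naturality_apply φ.hom (sec k U t).op s).symm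
  refine { faithful := ⟨fun {F G φ ψ} h => ?_⟩, full := ⟨fun {F G} h => ?_⟩, essSurj := ⟨fun β => ?_⟩ }
  · ext U s
    obtain ⟨U⟩ := U
    refine (toFamily_bijective k G U).1 (funext fun t => ?_)
    exact (key φ U s t).trans (Eq.trans (by rw [h]) (key ψ U s t).symm)
  · let e := fun U => Equiv.ofBijective _ (toFamily_bijective k G U)
    have he : ∀ (U : (base k).Etale) (y : U.left → G.obj.obj (op (EtCoh.top (base k)))),
        toFamily k G U ((e U).symm y) = y := fun U y => (e U).apply_symm_apply y
    refine ⟨⟨{
      app := fun U => ↾fun s => (e U.unop).symm fun t => h (toFamily k F U.unop s t)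
      naturality := fun U V g => ?_ }⟩, ?_⟩
    · ext s
      refine (toFamily_bijective k G V.unop).1 (funext fun t => ?_)
      change toFamily k G V.unop ((e V.unop).symm _) t =
        toFamily k G V.unop (G.obj.map g ((e U.unop).symm _)) t
      rw [he]
      have hn : ∀ (H : EtDesc.Sh (base k)) (z : H.obj.obj U),
          toFamily k H V.unop (H.obj.map g z) t = toFamily k H U.unop z (g.unop.left.base t) := by
        intro H z
        change H.obj.map (sec k V.unop t).op (H.obj.map g z) = H.obj.map (sec k U.unop _).op z
        rw [← sec_comp k g.unop t, op_comp, Functor.map_comp]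
        rfl
      rw [hn G, he]
      exact congrArg h (hn F s)
    · ext s
      refine (toFamily_bijective k G _).1 (funext fun t => ?_)
      change toFamily k G _ ((e _).symm _) t = _
      rw [he]
      change h (F.obj.map (sec k _ t).op s) = G.obj.map (sec k _ t).op (h s)
      rw [sec_top]
      simp
  · refine ⟨⟨pointFun (base k) β, isSheaf_pointFun _ _⟩, ⟨Equiv.toIso ?_⟩⟩
    exact { toFun := fun F => F (default : Spec (CommRingCat.of k))
            invFun := fun b _ => b
            left_inv := fun F => funext fun t => congrArg F (Subsingleton.elim (α := PrimeSpectrum k) _ _)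
            right_inv := fun b => rfl }

theorem pullSh_isEquivalence (k' : Type u) [Field k'] [IsSepClosed k'] [Algebra k k'] :
    (EtDesc.pullSh (Spec.map (CommRingCat.ofHom (algebraMap k k')))).IsEquivalence := by
  let f := Spec.map (CommRingCat.ofHom (algebraMap k k'))
  let e : EtDesc.pushSh f ⋙ gsecSh k ≅ gsecSh k' :=
    NatIso.ofComponents (fun F => F.obj.mapIso (EtCore.bcTopIso f).op.symm) fun {F G} φ => by
      exact (φ.hom.naturality _).symm
  have := gsec_isEquivalence k
  have := gsec_isEquivalence k'
  have : (EtDesc.pushSh f ⋙ gsecSh k).IsEquivalence := Functor.isEquivalence_of_iso e.symm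
  have : (EtDesc.pushSh f).IsEquivalence :=
    Functor.isEquivalence_of_comp_right (EtDesc.pushSh f) (gsecSh k)
  exact (EtDesc.adjSh f).isEquivalence_left_of_isEquivalence_right

end Groth.Agent.Lib.EtSite.SepPoint
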