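import Groth.Agent.Lib.EtSite.BCGerm
import Groth.Agent.Lib.PBC50.SetsBC

/-!
Base change for sheaves of sets follows from base change for abelian sheaves.
-/

set_option autoImplicit false
set_option linter.style.haveILetI false
set_option backward.isDefEq.respectTransparency false

universe u

open CategoryTheory CategoryTheory.Limits AlgebraicGeometry Opposite

noncomputable section

namespace Groth.Agent.Lib.EtSite.SetsFromAb

open Groth.Agent.Lib.EtSite Groth.Agent.Lib.EtSite.Basic Groth.Agent.Lib.EtSite.SubDescent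
open Groth.Agent.Lib.EtSite.PushStalk
open Groth.Agent.Lib.PBC50.SetsExt (U toFree freeSh)
open Groth.Agent.Lib.PBC50.SetsBC (κ κ_germ κ_injective ψ ψ_unitSh injective_ψ κ_ψ_germUnit)

variable {X Y X' Y' : Scheme.{u}} {f : X ⟶ Y} {g : Y' ⟶ Y} {f' : X' ⟶ Y'} {g' : X' ⟶ X}

theorem cmp_hom_eq {V : Y.Etale} (c c' : BaseChange.Cmp f g f' g' V) : c.hom = c'.hom := by
  refine MorphismProperty.Over.Hom.ext (pullback.hom_ext ?_ ?_)
  · refine pullback.hom_ext ?_ ?_
    · rw [Category.assoc, Category.assoc]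
      exact c.fst_fst.trans c'.fst_fst.symm
    · have e : ∀ d : BaseChange.Cmp f g f' g' V,
          (d.hom.left ≫ pullback.fst ((EtCoh.bc f).obj V).hom g') ≫ pullback.snd V.hom f =
            ((EtCoh.bc f').obj ((EtCoh.bc g).obj V)).hom ≫ g' := fun d =>
        (Category.assoc _ _ _).trans ((d.hom.left ≫= pullback.condition).trans
          ((Category.assoc _ _ _).symm.trans (eq_whisker (Over.w d.hom.hom) g')))
      exact (e c).trans (e c').symm
  · exact (Over.w c.hom.hom).trans (Over.w c'.hom.hom).symm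

variable (w : g' ≫ f = f' ≫ g) {Ω : Type u} [Field Ω] [IsSepClosed Ω]
  (η : Spec (CommRingCat.of Ω) ⟶ Y')

/-- The base change map on stalks. -/
abbrev Θ (F : EtDesc.Sh X) (c : stalk (η ≫ g) ((EtDesc.pushSh f).obj F)) :
    stalk η ((EtDesc.pushSh f').obj ((EtDesc.pullSh g').obj F)) :=
  stalkMap η (EtBC.baseChange0Sh f g f' g' w F) (germUnit g ((EtDesc.pushSh f).obj F) rfl c)

theorem Θ_germ (F : EtDesc.Sh X) (V : Y.Etale)
    (p : (Scheme.pointSmallEtale (η ≫ g)).fiber.obj V) (t : EtDesc.sect ((EtDesc.pushSh f).obj F) V) :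
    Θ w η F (germ (η ≫ g) ((EtDesc.pushSh f).obj F) p t) =
      germ η ((EtDesc.pushSh f').obj ((EtDesc.pullSh g').obj F)) (liftPt g rfl V p)
        (((EtDesc.pullSh g').obj F).obj.map (BaseChange.cmp w V).hom.op
          (unitSh g' F ((EtCoh.bc f).obj V) t)) := by
  unfold Θ EtBC.baseChange0Sh
  rw [Effective.stalkMap_symm_germUnit g _ _ rfl p t]
  refine congrArg (germ η _ (liftPt g rfl V p)) ?_
  have hc : ((EtDesc.pushSh f).map ((EtDesc.adjSh g').unit.app F) ≫ (EtDesc.pushCompSh f g').hom.app _ ≫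
        (EtBC.pushCongrSh w).hom.app _ ≫ (EtDesc.pushCompSh g f').inv.app _).hom.app (op V) =
        ((EtDesc.adjSh g').unit.app F).hom.app (op ((EtCoh.bc f).obj V)) ≫
          ((EtDesc.pullSh g').obj F).obj.map (BaseChange.cmp w V).hom.op := by
    simp only [EtDesc.pushCompSh, EtBC.pushCongrSh, BaseChange.cmp, op_comp, Functor.map_comp,
      Category.assoc]
    simp
  exact ConcreteCategory.congr_hom hc t

theorem stalkMap_Θ {F G : EtDesc.Sh X} (φ : F ⟶ G)
    (c : stalk (η ≫ g) ((EtDesc.pushSh f).obj F)) :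
    stalkMap η ((EtDesc.pushSh f').map ((EtDesc.pullSh g').map φ)) (Θ w η F c) =
      Θ w η G (stalkMap (η ≫ g) ((EtDesc.pushSh f).map φ) c) := by
  obtain ⟨V, p, t, rfl⟩ := (Scheme.pointSmallEtale (η ≫ g)).toPresheafFiber_jointly_surjective
    (P := ((EtDesc.pushSh f).obj F).obj) c
  rw [stalkMap_germ]
  refine (congrArg (stalkMap η _) (Θ_germ w η F V p t)).trans ?_
  refine (stalkMap_germ η _ _ _).trans ?_
  refine Eq.trans ?_ (Θ_germ w η G V p _).symm
  refine congrArg (germ η _ (liftPt g rfl V p)) ?_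
  refine (NatTrans.naturality_apply ((EtDesc.pullSh g').map φ).hom (BaseChange.cmp w V).hom.op _).trans ?_
  refine congrArg (((EtDesc.pullSh g').obj G).obj.map (BaseChange.cmp w V).hom.op) ?_
  have h' := (EtDesc.adjSh g').unit.naturality φ
  exact (congrArg (fun χ : F ⟶ (EtDesc.pushSh g').obj ((EtDesc.pullSh g').obj G) =>
    χ.hom.app (op ((EtCoh.bc f).obj V)) t) h').symm

theorem mono_of_injective_stalk {Z : Scheme.{u}} {F G : EtDesc.Sh Z} (φ : F ⟶ G)
    (h : ∀ (Ω : Type u) [Field Ω] [IsSepClosed Ω] (ξ : Spec (CommRingCat.of Ω) ⟶ Z),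
      Function.Injective (stalkMap ξ φ)) : Mono φ :=
  Stalk.mono_of_stalks φ (Stalk.enoughPts_pt fun _ => h _ _)

theorem bijective_κ {Z : Scheme.{u}} (A : EtCoh.Ab Z) (ξ : Spec (CommRingCat.of Ω) ⟶ Z) :
    Function.Bijective (κ A ξ) := ⟨κ_injective A ξ, fun z => by
  obtain ⟨V, p, s, rfl⟩ := EtGerm.Basic.exists_germ A z
  exact ⟨germ ξ (U A) p s, κ_germ A ξ p s⟩⟩

theorem mono_ψ (A : EtCoh.Ab X) : Mono (ψ g' A) :=
  mono_of_injective_stalk _ fun _ _ _ ξ => injective_ψ g' A ξ

/-- Abelian stalk of the composite. -/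
abbrev toAb (A : EtCoh.Ab X) (σ : stalk η ((EtDesc.pushSh f').obj ((EtDesc.pullSh g').obj (U A)))) :
    EtGerm.Basic.Stk ((EtCoh.push f').obj ((EtCoh.pull g').obj A)) η :=
  κ ((EtCoh.push f').obj ((EtCoh.pull g').obj A)) η (stalkMap η ((EtDesc.pushSh f').map (ψ g' A)) σ)

theorem injective_toAb (A : EtCoh.Ab X) : Function.Injective (toAb (f' := f') (g' := g') η A) := by
  haveI := mono_ψ (g' := g') A
  haveI : Mono ((EtDesc.pushSh f').map (ψ g' A)) :=
    haveI : (EtDesc.pushSh f').IsRightAdjoint := (EtDesc.adjSh f').isRightAdjoint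
    inferInstance
  exact (κ_injective _ η).comp (SubSheaf.injective_stalk _ η)

theorem toAb_Θ (A : EtCoh.Ab X) (c : stalk (η ≫ g) ((EtDesc.pushSh f).obj (U A))) :
    toAb η A (Θ w η (U A) c) =
      (Scheme.pointSmallEtale η).sheafFiber.map (EtCoh.baseChange0 f g f' g' w A)
        (EtSubmersive.Basic.germUnit g ((EtCoh.push f).obj A) rfl
          (κ ((EtCoh.push f).obj A) (η ≫ g) c)) := by
  obtain ⟨V, p, t, rfl⟩ := (Scheme.pointSmallEtale (η ≫ g)).toPresheafFiber_jointly_surjective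
    (P := ((EtDesc.pushSh f).obj (U A)).obj) c
  obtain ⟨cc, hcc⟩ := PBC50.BC.germ_bc w A η V p t
  refine Eq.trans ?_ (hcc.symm.trans (congrArg (fun z => (Scheme.pointSmallEtale η).sheafFiber.map
    (EtCoh.baseChange0 f g f' g' w A) (EtSubmersive.Basic.germUnit g ((EtCoh.push f).obj A) rfl z))
    (κ_germ ((EtCoh.push f).obj A) (η ≫ g) p t).symm))
  refine (congrArg (fun z => κ ((EtCoh.push f').obj ((EtCoh.pull g').obj A)) η
    (stalkMap η ((EtDesc.pushSh f').map (ψ g' A)) z)) (Θ_germ w η (U A) V p t)).trans ?_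
  refine (congrArg (κ _ η) (stalkMap_germ η _ _ _)).trans ?_
  refine (κ_germ ((EtCoh.push f').obj ((EtCoh.pull g').obj A)) η _ _).trans ?_
  refine congrArg (EtGerm.Basic.germ ((EtCoh.push f').obj ((EtCoh.pull g').obj A)) η _ (liftPt g rfl V p)) ?_
  refine (NatTrans.naturality_apply (ψ g' A).hom (BaseChange.cmp w V).hom.op _).trans ?_
  rw [cmp_hom_eq (BaseChange.cmp w V) cc]
  exact congrArg (((EtCoh.pull g').obj A).obj.map cc.hom.op) (ψ_unitSh g' A ((EtCoh.bc f).obj V) t)

theorem bijective_Θ (hAb : ∀ A : EtCoh.Ab X, IsIso (EtCoh.baseChange0 f g f' g' w A))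
    (F : EtDesc.Sh X) : Function.Bijective (Θ w η F) := by
  haveI : (EtDesc.pushSh f).IsRightAdjoint := (EtDesc.adjSh f).isRightAdjoint
  haveI : (EtDesc.pushSh f').IsRightAdjoint := (EtDesc.adjSh f').isRightAdjoint
  have hU : ∀ A : EtCoh.Ab X, Function.Bijective (Θ w η (U A)) := fun A => by
    haveI := hAb A
    have hb : Function.Bijective ((Scheme.pointSmallEtale η).sheafFiber.map
        (EtCoh.baseChange0 f g f' g' w A)) := (ConcreteCategory.isIso_iff_bijective _).1 inferInstance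
    have h2 : Function.Bijective (fun c => toAb η A (Θ w η (U A) c)) := by
      rw [funext (toAb_Θ w η A)]
      exact (hb.comp (EtSubmersive.Basic.bijective_germUnit g _ rfl)).comp (bijective_κ _ _)
    refine ⟨Function.Injective.of_comp (f := toAb η A) h2.1, fun σ => ?_⟩
    obtain ⟨c, hc⟩ := h2.2 (toAb η A σ)
    exact ⟨c, injective_toAb η A hc⟩
  obtain ⟨H, a, b, hab, hsec⟩ := BCGerm.exists_of_regularMono (toFree F)
  let φ := toFree F
  haveI : Mono ((EtDesc.pullSh g').map φ) := mono_of_injective_stalk _ fun Ω _ _ ξ x y e => by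
    obtain ⟨x₀, rfl⟩ := (bijective_germUnit g' F (rfl : ξ ≫ g' = _)).2 x
    obtain ⟨y₀, rfl⟩ := (bijective_germUnit g' F (rfl : ξ ≫ g' = _)).2 y
    rw [germUnit_naturality, germUnit_naturality] at e
    rw [SubSheaf.injective_stalk φ _ ((bijective_germUnit g' _ rfl).1 e)]
  haveI : Mono ((EtDesc.pushSh f').map ((EtDesc.pullSh g').map φ)) := inferInstance
  refine ⟨fun c c' e => ?_, fun σ => ?_⟩
  · refine SubSheaf.injective_stalk ((EtDesc.pushSh f).map φ) (η ≫ g) ((hU _).1 ?_)
    exact (stalkMap_Θ w η φ c).symm.trans ((congrArg _ e).trans (stalkMap_Θ w η φ c'))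
  · obtain ⟨c', hc'⟩ := (hU (freeSh F)).2
      (stalkMap η ((EtDesc.pushSh f').map ((EtDesc.pullSh g').map φ)) σ)
    let K := toFree H
    have hinj : Function.Injective (stalkMap (η ≫ g) ((EtDesc.pushSh f).map K)) :=
      SubSheaf.injective_stalk _ _
    have key : ∀ d : U (freeSh F) ⟶ H,
        Θ w η (U (freeSh H)) (stalkMap (η ≫ g) ((EtDesc.pushSh f).map (d ≫ K)) c') =
          stalkMap η ((EtDesc.pushSh f').map ((EtDesc.pullSh g').map (φ ≫ d ≫ K))) σ := fun d => by
      rw [← stalkMap_Θ, hc', ← stalkMap_comp, ← Functor.map_comp, ← Functor.map_comp]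
    have e1 : stalkMap (η ≫ g) ((EtDesc.pushSh f).map a) c' =
        stalkMap (η ≫ g) ((EtDesc.pushSh f).map b) c' := hinj (by
      rw [← stalkMap_comp, ← stalkMap_comp, ← Functor.map_comp, ← Functor.map_comp]
      apply (hU (freeSh H)).1
      rw [key, key, reassoc_of% hab])
    obtain ⟨V, p, s, rfl⟩ := (Scheme.pointSmallEtale (η ≫ g)).toPresheafFiber_jointly_surjective
      (P := ((EtDesc.pushSh f).obj (U (freeSh F))).obj) c'
    change stalkMap (η ≫ g) ((EtDesc.pushSh f).map a) (germ (η ≫ g) _ p s) =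
      stalkMap (η ≫ g) ((EtDesc.pushSh f).map b) (germ (η ≫ g) _ p s) at e1
    rw [stalkMap_germ, stalkMap_germ] at e1
    obtain ⟨V₁, o, p₁, hp₁, ho⟩ :=
      ((Scheme.pointSmallEtale (η ≫ g)).toPresheafFiber_eq_iff' V p _ _).1 e1
    obtain ⟨r, hr⟩ := hsec _ ((U (freeSh F)).obj.map ((EtCoh.bc f).map o).op s) (by
      rw [NatTrans.naturality_apply a.hom, NatTrans.naturality_apply b.hom]
      exact ho)
    refine ⟨germ (η ≫ g) ((EtDesc.pushSh f).obj F) p₁ r,
      SubSheaf.injective_stalk ((EtDesc.pushSh f').map ((EtDesc.pullSh g').map φ)) η ?_⟩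
    refine (stalkMap_Θ w η φ _).trans (Eq.trans (congrArg (Θ w η _) ?_) hc')
    refine (stalkMap_germ (η ≫ g) ((EtDesc.pushSh f).map φ) p₁ r).trans ?_
    refine (congrArg (germ (η ≫ g) ((EtDesc.pushSh f).obj (U _)) p₁) hr).trans ?_
    exact (germ_map (η ≫ g) ((EtDesc.pushSh f).obj (U _)) o p₁ s).trans
      (congrArg (fun q => germ (η ≫ g) ((EtDesc.pushSh f).obj (U _)) q s) hp₁)

/-- Base change for sheaves of sets follows from base change for all abelian sheaves. -/
theorem isIso_baseChange0Sh (hAb : ∀ A : EtCoh.Ab X, IsIso (EtCoh.baseChange0 f g f' g' w A))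
    (F : EtDesc.Sh X) : IsIso (EtBC.baseChange0Sh f g f' g' w F) :=
  Stalk.isIso_of_stalks _ fun y => ⟨_, inferInstance, inferInstance, Push.algPoint Y' y,
    Push.algPoint_apply Y' y default,
    (Function.Bijective.of_comp_iff _
      (bijective_germUnit g ((EtDesc.pushSh f).obj F) rfl)).1
      (bijective_Θ w (Push.algPoint Y' y) hAb F)⟩

end Groth.Agent.Lib.EtSite.SetsFromAb
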