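import Groth.Agent.Lib.Regular.Descent
import Mathlib.AlgebraicGeometry.Morphisms.Etale
import Mathlib.AlgebraicGeometry.Noetherian
import Mathlib.RingTheory.Unramified.LocalRing
import Mathlib.RingTheory.Unramified.Field

/-!
# Local rings along étale morphisms
-/

universe u

open CategoryTheory AlgebraicGeometry IsLocalRing TensorProduct

namespace Groth.Agent.Lib.EtSite.StalkEtale

section Ring

variable (R S : Type u) [CommRing R] [CommRing S] [Algebra R S] [Module.Flat R S]

/-- A flat, formally unramified, essentially finite type algebra over a reduced Noetherian ring is reduced. -/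
theorem isReduced_of_flat [IsNoetherianRing R] [_root_.IsReduced R] [Algebra.FormallyUnramified R S]
    [Algebra.EssFiniteType R S] : _root_.IsReduced S := by
  classical
  let ι := {p : Ideal R // p ∈ minimalPrimes R}
  have : Finite ι := (minimalPrimes.finite_of_isNoetherianRing R).to_subtype
  have : Fintype ι := Fintype.ofFinite ι
  have hp : ∀ p : ι, p.1.IsPrime := fun p => p.2.1.1
  let K : ι → Type u := fun p => p.1.ResidueField
  let j : R →ₗ[R] (∀ p, K p) := LinearMap.pi fun p => Algebra.linearMap R (K p)
  have hj : Function.Injective j := by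
    refine (injective_iff_map_eq_zero j).2 fun r hr => ?_
    have hmem : r ∈ sInf (minimalPrimes R) := by
      refine Ideal.mem_sInf.2 fun {p} hp' => ?_
      have : p.IsPrime := hp'.1.1
      have := congrFun hr ⟨p, hp'⟩
      exact (Ideal.algebraMap_residueField_eq_zero (I := p)).1 this
    rw [minimalPrimes, Ideal.sInf_minimalPrimes] at hmem
    have : Ideal.radical (⊥ : Ideal R) = ⊥ := nilradical_eq_zero R
    rwa [this] at hmem
  refine ⟨fun s hs => ?_⟩
  have h1 : ∀ p : ι, s ⊗ₜ[R] (1 : K p) = 0 := fun p => by
    have : _root_.IsReduced (K p ⊗[R] S) := Algebra.FormallyUnramified.isReduced_of_field (K p) _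
    have h := ((hs.map (Algebra.TensorProduct.includeRight : S →ₐ[R] K p ⊗[R] S))).eq_zero
    exact (Algebra.TensorProduct.comm R S (K p)).injective (by
      rw [map_zero]; exact h)
  have h2 : (s ⊗ₜ[R] (1 : ∀ p, K p) : S ⊗[R] (∀ p, K p)) = 0 := by
    apply (TensorProduct.piRight R R S K).injective
    rw [map_zero]
    funext p
    simpa using h1 p
  have h3 : j.lTensor S (s ⊗ₜ[R] (1 : R)) = 0 := by
    rw [LinearMap.lTensor_tmul]
    have : j 1 = 1 := funext fun p => map_one (algebraMap R (K p))
    rw [this]; exact h2
  have h4 : (s ⊗ₜ[R] (1 : R)) = 0 :=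
    Module.Flat.lTensor_preserves_injective_linearMap j hj (h3.trans (map_zero _).symm)
  simpa using congrArg (TensorProduct.rid R S) h4

theorem isReduced_iff [IsLocalRing R] [IsLocalRing S] [IsLocalHom (algebraMap R S)] [IsNoetherianRing R]
    [Algebra.FormallyUnramified R S] [Algebra.EssFiniteType R S] :
    _root_.IsReduced R ↔ _root_.IsReduced S := by
  refine ⟨fun h => isReduced_of_flat R S, fun h => ?_⟩
  have : Module.FaithfullyFlat R S := Module.FaithfullyFlat.of_flat_of_isLocalHom
  exact isReduced_of_injective (algebraMap R S) (FaithfulSMul.algebraMap_injective R S)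

end Ring

variable {X Y : Scheme.{u}} (f : X ⟶ Y) [AlgebraicGeometry.Etale f] [IsLocallyNoetherian Y] (x : X)

theorem regular_iff :
    IsRegularLocalRing (X.presheaf.stalk x) ↔ IsRegularLocalRing (Y.presheaf.stalk (f.base x)) := by
  have : IsLocallyNoetherian X := LocallyOfFiniteType.isLocallyNoetherian f
  algebraize [(f.stalkMap x).hom]
  have : IsLocalHom (algebraMap (Y.presheaf.stalk (f x)) (X.presheaf.stalk x)) :=
    inferInstanceAs <| IsLocalHom (f.stalkMap x).hom
  have : Module.Flat (Y.presheaf.stalk (f x)) (X.presheaf.stalk x) := Flat.stalkMap f x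
  have : Algebra.EssFiniteType (Y.presheaf.stalk (f x)) (X.presheaf.stalk x) := by
    rw [← RingHom.essFiniteType_algebraMap, RingHom.algebraMap_toAlgebra]
    exact LocallyOfFiniteType.stalkMap f x
  have : Algebra.FormallyUnramified (Y.presheaf.stalk (f x)) (X.presheaf.stalk x) := by
    rw [← RingHom.formallyUnramified_algebraMap, RingHom.algebraMap_toAlgebra]
    exact FormallyUnramified.stalkMap f x
  exact (Groth.Agent.Lib.Regular.Descent.isRegularLocalRing_iff _
    Algebra.FormallyUnramified.map_maximalIdeal).symm

theorem dim_eq :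
    ringKrullDim (X.presheaf.stalk x) = ringKrullDim (Y.presheaf.stalk (f.base x)) := by
  have : IsLocallyNoetherian X := LocallyOfFiniteType.isLocallyNoetherian f
  algebraize [(f.stalkMap x).hom]
  have : IsLocalHom (algebraMap (Y.presheaf.stalk (f x)) (X.presheaf.stalk x)) :=
    inferInstanceAs <| IsLocalHom (f.stalkMap x).hom
  have : Module.Flat (Y.presheaf.stalk (f x)) (X.presheaf.stalk x) := Flat.stalkMap f x
  have : Algebra.EssFiniteType (Y.presheaf.stalk (f x)) (X.presheaf.stalk x) := by
    rw [← RingHom.essFiniteType_algebraMap, RingHom.algebraMap_toAlgebra]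
    exact LocallyOfFiniteType.stalkMap f x
  have : Algebra.FormallyUnramified (Y.presheaf.stalk (f x)) (X.presheaf.stalk x) := by
    rw [← RingHom.formallyUnramified_algebraMap, RingHom.algebraMap_toAlgebra]
    exact FormallyUnramified.stalkMap f x
  exact Groth.Agent.Lib.Regular.Descent.ringKrullDim_eq _ Algebra.FormallyUnramified.map_maximalIdeal

theorem reduced_iff :
    _root_.IsReduced (X.presheaf.stalk x) ↔ _root_.IsReduced (Y.presheaf.stalk (f.base x)) := by
  algebraize [(f.stalkMap x).hom]
  have : IsLocalHom (algebraMap (Y.presheaf.stalk (f x)) (X.presheaf.stalk x)) :=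
    inferInstanceAs <| IsLocalHom (f.stalkMap x).hom
  have : Module.Flat (Y.presheaf.stalk (f x)) (X.presheaf.stalk x) := Flat.stalkMap f x
  have : Algebra.EssFiniteType (Y.presheaf.stalk (f x)) (X.presheaf.stalk x) := by
    rw [← RingHom.essFiniteType_algebraMap, RingHom.algebraMap_toAlgebra]
    exact LocallyOfFiniteType.stalkMap f x
  have : Algebra.FormallyUnramified (Y.presheaf.stalk (f x)) (X.presheaf.stalk x) := by
    rw [← RingHom.formallyUnramified_algebraMap, RingHom.algebraMap_toAlgebra]
    exact FormallyUnramified.stalkMap f x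
  exact (isReduced_iff _ _).symm

end Groth.Agent.Lib.EtSite.StalkEtale
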