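import Groth.Agent.Lib.EtSite.StrictLocus
import Mathlib.AlgebraicGeometry.Morphisms.UniversallyOpen

/-!
One affine piece covering the base change to a strictly local scheme, all whose pairs match.
-/

set_option autoImplicit false
set_option backward.isDefEq.respectTransparency false
set_option linter.style.haveILetI false

universe u

open CategoryTheory CategoryTheory.Limits AlgebraicGeometry Opposite

noncomputable section

namespace Groth.Agent.Lib.EtSite.StrictCover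

open Groth.Agent.Lib.EtSite Groth.Agent.Lib.EtSite.Basic Groth.Agent.Lib.EtSite.SubDescent
open Groth.Agent.Lib.EtSite.GoodPairs Groth.Agent.Lib.EtSite.StrictPieces
open Groth.Agent.Lib.EtSite.StrictLocus Groth.Agent.Lib.EtSite.Effective Groth.Agent.Lib.EtLim50

theorem exists_map {X' Y' E L : Scheme.{u}} (g' : X' ⟶ Y') (b : L ⟶ Y') (u : E ⟶ X') [Etale u] :
    ∃ m : pullback (u ≫ g') b ⟶ pullback g' b, m ≫ pullback.fst g' b = pullback.fst (u ≫ g') b ≫ u ∧
      m ≫ pullback.snd g' b = pullback.snd (u ≫ g') b ∧ IsOpenMap m.base := by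
  let e := pullbackRightPullbackFstIso g' b u
  haveI : Etale (pullback.snd u (pullback.fst g' b)) := MorphismProperty.pullback_snd _ _ ‹Etale u›
  haveI : Etale (e.inv ≫ pullback.snd u (pullback.fst g' b)) := inferInstance
  refine ⟨e.inv ≫ pullback.snd u (pullback.fst g' b), ?_, ?_,
    (e.inv ≫ pullback.snd u (pullback.fst g' b)).isOpenMap⟩
  · rw [Category.assoc, ← pullback.condition]
    simp only [e, pullbackRightPullbackFstIso_inv_fst_assoc]
  · simp only [e, Category.assoc, pullbackRightPullbackFstIso_inv_snd_snd]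

theorem good_of_ext {X₁ Y₁ : Scheme.{u}} (g₁ : X₁ ⟶ Y₁) (F' : EtDesc.Sh X₁)
    (φ : (EtDesc.pullSh (pullback.fst g₁ g₁)).obj F' ≅ (EtDesc.pullSh (pullback.snd g₁ g₁)).obj F')
    {U₁ U₂ : X₁.Etale} {t₁ : EtDesc.sect F' U₁} {t₂ : EtDesc.sect F' U₂}
    {Ω Ω' : Type u} [Field Ω] [IsSepClosed Ω] [Field Ω'] [IsSepClosed Ω']
    (ρ : Spec (CommRingCat.of Ω') ⟶ Spec (CommRingCat.of Ω))
    (z₁ : Spec (CommRingCat.of Ω) ⟶ U₁.left) (z₂ : Spec (CommRingCat.of Ω) ⟶ U₂.left)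
    (e : z₁ ≫ U₁.hom ≫ g₁ = z₂ ≫ U₂.hom ≫ g₁)
    (h : Good g₁ F' φ U₁ U₂ t₁ t₂ (ρ ≫ z₁) (ρ ≫ z₂)) : Good g₁ F' φ U₁ U₂ t₁ t₂ z₁ z₂ := by
  obtain ⟨O, -, hmem⟩ := exists_locus g₁ F' φ U₁ U₂ t₁ t₂
  let c := pullback.lift z₁ z₂ e
  refine (hmem Ω c z₁ (pullback.lift_fst _ _ _) z₂ (pullback.lift_snd _ _ _)).1 ?_
  have h' := (hmem Ω' (ρ ≫ c) _ (by rw [Category.assoc, pullback.lift_fst]) _
    (by rw [Category.assoc, pullback.lift_snd])).2 h
  rw [Scheme.Hom.comp_apply, Subsingleton.elim (ρ.base default) default] at h'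
  exact h'

variable {X₁ Y₁ X' Y' : Scheme.{u}} (g₁ : X₁ ⟶ Y₁) (F' : EtDesc.Sh X₁)
  (φ : (EtDesc.pullSh (pullback.fst g₁ g₁)).obj F' ≅ (EtDesc.pullSh (pullback.snd g₁ g₁)).obj F')

theorem exists_cover_piece (hφ : EtDesc.IsCocycle F' φ) (j : X' ⟶ X₁) [IsOpenImmersion j]
    (iY : Y' ⟶ Y₁) (g' : X' ⟶ Y') [Flat g'] [QuasiCompact g'] (wj : j ≫ g₁ = g' ≫ iY)
    {Ω : Type u} [Field Ω] [IsSepClosed Ω] (ξ : Spec (CommRingCat.of Ω) ⟶ X')
    (hconn : ∀ (Ω' : Type u) [Field Ω'] [IsSepClosed Ω']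
      (s : Spec (CommRingCat.of Ω') ⟶ Nbhds.S Y' (ξ ≫ g')),
      ConnectedSpace ↥(pullback (Spec.map (LocMap.funct g' ξ)) s))
    (gg : stalk (ξ ≫ j) F') :
    ∃ (Q : Piece j F') (K : (pullback (Q.hom ≫ g') (LocMap.toBase (ξ ≫ g'))).Opens),
      IsCompact (K : Set ↥(pullback (Q.hom ≫ g') (LocMap.toBase (ξ ≫ g')))) ∧
      (∀ (Ω' : Type u) [Field Ω'] [IsSepClosed Ω']
        (θ₁ θ₂ : Spec (CommRingCat.of Ω') ⟶ pullback (Q.hom ≫ g') (LocMap.toBase (ξ ≫ g'))),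
        θ₁ ≫ pullback.snd _ _ = θ₂ ≫ pullback.snd _ _ → θ₁.base default ∈ K → θ₂.base default ∈ K →
        Good g₁ F' φ Q.U Q.U Q.t Q.t (θ₁ ≫ pullback.fst _ _) (θ₂ ≫ pullback.fst _ _)) ∧
      (∀ x : ↥(pullback g' (LocMap.toBase (ξ ≫ g'))), ∃ k ∈ K,
        (pullback.fst (Q.hom ≫ g') (LocMap.toBase (ξ ≫ g')) ≫ Q.hom).base k =
            (pullback.fst g' (LocMap.toBase (ξ ≫ g'))).base x ∧
        ∀ (m : pullback (Q.hom ≫ g') (LocMap.toBase (ξ ≫ g')) ⟶ pullback g' (LocMap.toBase (ξ ≫ g'))),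
          m ≫ pullback.fst g' _ = pullback.fst (Q.hom ≫ g') _ ≫ Q.hom →
          m ≫ pullback.snd g' _ = pullback.snd (Q.hom ≫ g') _ → m.base k = x) ∧
      ∃ z₀ : Spec (CommRingCat.of Ω) ⟶ pullback (Q.hom ≫ g') (LocMap.toBase (ξ ≫ g')),
        z₀.base default ∈ K ∧ z₀ ≫ pullback.snd _ _ = LocMap.point (ξ ≫ g') ∧
        ∃ hz : (z₀ ≫ pullback.fst _ _) ≫ Q.U.hom = ξ ≫ j,
          val F' Q.U Q.t (z₀ ≫ pullback.fst _ _) hz = gg := by
  let η := ξ ≫ g'
  let tb := LocMap.toBase η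
  let h : Nbhds.S X' ξ ⟶ Nbhds.S Y' η := Spec.map (LocMap.funct g' ξ)
  haveI : Flat h := LocFlat.flat_specMap_funct g' ξ
  haveI : Surjective h := ⟨fun l => by
    haveI := hconn _ (Push.algPoint _ l)
    obtain ⟨z⟩ := (inferInstance : Nonempty ↥(pullback h (Push.algPoint _ l)))
    refine ⟨(pullback.fst h (Push.algPoint _ l)).base z, ?_⟩
    rw [← Scheme.Hom.comp_apply, pullback.condition, Scheme.Hom.comp_apply]
    exact Push.algPoint_apply _ l _⟩
  obtain ⟨P₀, p₀, hp₀, hp₀', hv₀⟩ := exists_piece (F' := F') ξ gg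
  obtain ⟨jH, hjH, hjp⟩ := exists_jH ξ P₀ p₀ hp₀
  have hpt : LocMap.point ξ ≫ h = LocMap.point η := by
    change Spec.map _ ≫ Spec.map _ = Spec.map _
    rw [← Spec.map_comp, LocMap.funct_ev]
  have wH : (jH ≫ P₀.U.hom) ≫ g₁ = h ≫ tb ≫ iY := by
    change (jH ≫ P₀.hom ≫ j) ≫ g₁ = _
    rw [Category.assoc, Category.assoc, wj, reassoc_of% hjH, ← Category.assoc,
      ← LocMap.funct_toBase, Category.assoc]
  have wP : ∀ P : Piece j F', (pullback.fst (P.hom ≫ g') tb ≫ P.U.hom) ≫ g₁ =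
      pullback.snd (P.hom ≫ g') tb ≫ tb ≫ iY := fun P => by
    change (pullback.fst (P.hom ≫ g') tb ≫ P.hom ≫ j) ≫ g₁ = _
    rw [Category.assoc, Category.assoc, wj, ← pullback.condition_assoc, Category.assoc]
  choose G hG using fun P : Piece j F' => exists_good_open g₁ F' φ h (tb ≫ iY) hφ P₀ jH wH
    (fun Ω' _ _ s => hconn Ω' s) P (pullback.fst (P.hom ≫ g') tb) (pullback.snd (P.hom ≫ g') tb) (wP P)
  choose m hm₁ hm₂ hmo using fun P : Piece j F' => exists_map g' tb P.hom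
  -- every point is reached by some piece
  have hreach : ∀ x : ↥(pullback g' tb), ∃ P : Piece j F', x ∈ (m P).base '' (G P) := fun x => by
    obtain ⟨Ω', _, _, ρ, ζ, hρζ⟩ := exists_lift h (Push.algPoint _ x ≫ pullback.snd g' tb)
    let θ' := ρ ≫ Push.algPoint _ x
    have hθ' : θ' ≫ pullback.snd g' tb = ζ ≫ h := by rw [Category.assoc, hρζ]
    let ξ' := θ' ≫ pullback.fst g' tb
    have k₁ : ((ζ ≫ jH) ≫ P₀.U.hom) ≫ g₁ = (ξ' ≫ j) ≫ g₁ := by
      rw [Category.assoc ζ, Category.assoc ζ, wH, ← Category.assoc, ← hθ', Category.assoc ξ', wj]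
      simp only [ξ', Category.assoc]
      rw [← Category.assoc (pullback.snd g' tb), ← pullback.condition, Category.assoc]
      simp only [θ', Category.assoc]
    obtain ⟨P, p, hp, hp', hv⟩ := exists_piece (j := j) (F' := F') ξ'
      (transport g₁ F' φ k₁ rfl (val F' P₀.U P₀.t (ζ ≫ jH) rfl))
    let θ : Spec (CommRingCat.of Ω') ⟶ pullback (P.hom ≫ g') tb :=
      pullback.lift p (θ' ≫ pullback.snd g' tb) (by
        rw [← Category.assoc, hp]
        simp only [ξ', Category.assoc]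
        rw [pullback.condition])
    have e₁ : θ ≫ pullback.fst (P.hom ≫ g') tb = p := pullback.lift_fst _ _ _
    have e₂ : θ ≫ pullback.snd (P.hom ≫ g') tb = ζ ≫ h := (pullback.lift_snd _ _ _).trans hθ'
    refine ⟨P, θ.base default, (hG P Ω' θ ζ e₂).2 ?_, ?_⟩
    · rw [e₁]
      refine (good_iff g₁ F' φ (U₁ := P.U) (U₂ := P₀.U) hp' rfl rfl k₁).2 ?_
      rw [hv, transport_trans g₁ F' φ hφ, transport_refl g₁ F' φ hφ]
    · have eθ : θ ≫ m P = θ' := by
        apply pullback.hom_ext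
        · rw [Category.assoc, hm₁, ← Category.assoc, e₁, hp]
        · rw [Category.assoc, hm₂, pullback.lift_snd]
      rw [← Scheme.Hom.comp_apply, eθ, Scheme.Hom.comp_apply, Push.algPoint_apply]
  choose P hP using hreach
  haveI : QuasiCompact (pullback.snd g' tb) := MorphismProperty.pullback_snd _ _ ‹QuasiCompact g'›
  haveI : CompactSpace ↥(pullback g' tb) := QuasiCompact.compactSpace_of_compactSpace (pullback.snd g' tb)
  obtain ⟨s, hs⟩ := isCompact_univ.elim_finite_subcover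
    (fun x : ↥(pullback g' tb) => (m (P x)).base '' (G (P x)))
    (fun x => hmo (P x) _ (G (P x)).2) (fun x _ => Set.mem_iUnion.2 ⟨x, hP x⟩)
  let P' : Option ↥s → Piece j F' := fun i => i.elim P₀ fun x => P x.1
  obtain ⟨Q, o, ho, hot⟩ := exists_glue P'
  let n : ∀ i, pullback ((P' i).hom ≫ g') tb ⟶ pullback (Q.hom ≫ g') tb := fun i =>
    pullback.lift (pullback.fst _ _ ≫ (o i).left) (pullback.snd _ _) (by
      rw [Category.assoc, ← Category.assoc (o i).left, ho, pullback.condition])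
  have hn : ∀ i y, y ∈ G (P' i) → (n i).base y ∈ G Q := fun i y hy => by
    obtain ⟨Ω', _, _, ρ, ζ, hρζ⟩ := exists_lift h (Push.algPoint _ y ≫ pullback.snd ((P' i).hom ≫ g') tb)
    let θ := ρ ≫ Push.algPoint _ y
    have eθ : θ.base default = y := by
      rw [Scheme.Hom.comp_apply, Push.algPoint_apply]
    have e : θ ≫ pullback.snd ((P' i).hom ≫ g') tb = ζ ≫ h := by rw [Category.assoc, hρζ]
    have hgood := (hG (P' i) Ω' θ ζ e).1 (by rw [eθ]; exact hy)
    have e' : (θ ≫ n i) ≫ pullback.snd (Q.hom ≫ g') tb = ζ ≫ h := by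
      rw [Category.assoc, pullback.lift_snd, e]
    have hgood' := good_map g₁ F' φ (o i) (hot i) hgood
    have hmem := (hG Q Ω' (θ ≫ n i) ζ e').2 (by
      rw [Category.assoc, pullback.lift_fst, ← Category.assoc]; exact hgood')
    rw [Scheme.Hom.comp_apply, eθ] at hmem
    exact hmem
  have hmn : ∀ i y, (m Q).base ((n i).base y) = (m (P' i)).base y := fun i y => by
    rw [← Scheme.Hom.comp_apply]
    refine congrArg (fun k : pullback ((P' i).hom ≫ g') tb ⟶ pullback g' tb => k.base y) ?_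
    apply pullback.hom_ext
    · rw [Category.assoc, hm₁, pullback.lift_fst_assoc, Category.assoc, ho, hm₁]
    · rw [Category.assoc, hm₂, pullback.lift_snd, hm₂]
  let z' : Spec (CommRingCat.of Ω) ⟶ pullback ((P' none).hom ≫ g') tb :=
    pullback.lift p₀ (LocMap.point η) (by
      change p₀ ≫ P₀.hom ≫ g' = _
      rw [← Category.assoc, hp₀, LocMap.point_toBase])
  have hz' : z'.base default ∈ G (P' none) :=
    (hG (P' none) Ω z' (LocMap.point ξ) ((pullback.lift_snd _ _ _).trans hpt.symm)).2 (by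
      rw [pullback.lift_fst, hjp]
      exact good_refl g₁ F' φ hφ)
  let z₀ := z' ≫ n none
  have hz₀ : z₀.base default ∈ G Q := by
    rw [Scheme.Hom.comp_apply]; exact hn none _ hz'
  -- a quasi-compact part of the good set
  let ι' := {V : (pullback (Q.hom ≫ g') tb).Opens // IsAffineOpen V ∧ V ≤ G Q}
  have hb : ∀ y, y ∈ G Q → ∃ V : ι', y ∈ V.1 := fun y hy => by
    obtain ⟨V, hV, hyV, hle⟩ := exists_isAffineOpen_mem_and_subset hy
    exact ⟨⟨V, hV, hle⟩, hyV⟩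
  obtain ⟨V₀, hV₀⟩ := hb _ hz₀
  obtain ⟨s', hs'⟩ := isCompact_univ.elim_finite_subcover
    (fun V : ι' => (m Q).base '' (V.1 : Set ↥(pullback (Q.hom ≫ g') tb)))
    (fun V => hmo Q _ V.1.2) (fun x _ => by
      obtain ⟨x', hx', hxm⟩ := Set.mem_iUnion₂.1 (hs (Set.mem_univ x))
      obtain ⟨y, hy, rfl⟩ := hxm
      obtain ⟨V, hV⟩ := hb _ (hn (some ⟨x', hx'⟩) y hy)
      exact Set.mem_iUnion.2 ⟨V, _, hV, hmn (some ⟨x', hx'⟩) y⟩)
  classical
  let s'' := insert V₀ s'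
  let K : (pullback (Q.hom ≫ g') tb).Opens := ⨆ V ∈ s'', V.1
  have hK : ∀ y, y ∈ K ↔ ∃ V ∈ s'', y ∈ V.1 := fun y => by
    simp only [K, TopologicalSpace.Opens.mem_iSup, exists_prop]
  have hKG : ∀ y, y ∈ K → y ∈ G Q := fun y hy => by
    obtain ⟨V, -, hyV⟩ := (hK y).1 hy
    exact V.2.2 hyV
  refine ⟨Q, K, ?_, ?_, fun x => ?_, z₀, (hK _).2 ⟨V₀, Finset.mem_insert_self _ _, hV₀⟩, ?_, ?_, ?_⟩
  · have : (K : Set ↥(pullback (Q.hom ≫ g') tb)) = ⋃ V ∈ s'', (V.1 : Set ↥(pullback (Q.hom ≫ g') tb)) := by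
      ext y
      simp only [Set.mem_iUnion, exists_prop]
      exact hK y
    rw [this]
    exact s''.isCompact_biUnion fun V _ => V.2.1.isCompact
  · intro Ω' _ _ θ₁ θ₂ e h₁ h₂
    obtain ⟨Ω'', _, _, ρ, ζ, hρζ⟩ := exists_lift h (θ₁ ≫ pullback.snd (Q.hom ≫ g') tb)
    have f₁ := (hG Q Ω'' (ρ ≫ θ₁) ζ (by rw [Category.assoc, hρζ])).1 (by
      rw [Scheme.Hom.comp_apply, Subsingleton.elim (ρ.base default) default]; exact hKG _ h₁)
    have f₂ := (hG Q Ω'' (ρ ≫ θ₂) ζ (by rw [Category.assoc, ← e, hρζ])).1 (by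
      rw [Scheme.Hom.comp_apply, Subsingleton.elim (ρ.base default) default]; exact hKG _ h₂)
    refine good_of_ext g₁ F' φ ρ _ _ ?_ ?_
    · have := fun θ : Spec (CommRingCat.of Ω') ⟶ pullback (Q.hom ≫ g') tb =>
        congrArg (θ ≫ ·) (wP Q)
      simp only [Category.assoc] at this ⊢
      rw [this θ₁, this θ₂, reassoc_of% e]
    · rw [← Category.assoc, ← Category.assoc]
      exact good_trans g₁ F' φ hφ f₁ (good_symm g₁ F' φ hφ f₂)
  · obtain ⟨V, hV, y, hy, hyx⟩ := Set.mem_iUnion₂.1 (hs' (Set.mem_univ x))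
    refine ⟨y, (hK y).2 ⟨V, Finset.mem_insert_of_mem hV, hy⟩, ?_, fun m' h₁ h₂ => ?_⟩
    · rw [← hm₁, Scheme.Hom.comp_apply, hyx]
    · rw [show m' = m Q from pullback.hom_ext (h₁.trans (hm₁ Q).symm) (h₂.trans (hm₂ Q).symm), hyx]
  · rw [Category.assoc, pullback.lift_snd, pullback.lift_snd]
  · change ((z' ≫ n none) ≫ _) ≫ Q.hom ≫ j = _
    rw [Category.assoc z', pullback.lift_fst, pullback.lift_fst_assoc, Category.assoc,
      ← Category.assoc (o none).left, ho]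
    exact hp₀'
  · have e : z₀ ≫ pullback.fst (Q.hom ≫ g') tb = p₀ ≫ (o none).left := by
      rw [Category.assoc, pullback.lift_fst, ← Category.assoc, pullback.lift_fst]
    have hh : (p₀ ≫ (o none).left) ≫ Q.U.hom = ξ ≫ j := by
      rw [Category.assoc, Over.w (o none).hom]; exact hp₀'
    refine Eq.trans ?_ hv₀
    refine Eq.trans ?_ (val_map F' (o none) (hot none) hp₀' hh)
    congr 1

end Groth.Agent.Lib.EtSite.StrictCover
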