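import Groth.Agent.Lib.Henselian.StrictHenselization
import Groth.Prelude.Def_Hens2
import Mathlib.RingTheory.Unramified.Field

/-!
# Maps between strict localisations
-/

set_option autoImplicit false

universe u

open CategoryTheory AlgebraicGeometry TensorProduct IsLocalRing

namespace Groth.Agent.Lib.EtSite.StrictLocLift

open Groth.Agent.Lib.Henselian.Pointed Groth.Agent.Lib.Henselian.Pointed.Lim Groth.Agent.Lib.Henselian.Basic Groth.Agent.Lib.Henselian.Etale
open Groth.Agent.Lib.Henselian.StrictHenselization

/-- Maps from the colimit to a henselian pair lift uniquely from the quotient. -/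
theorem existsUnique_lim_lift {A : Type u} [CommRing A] {Ω : Type u} [CommRing Ω] [Algebra A Ω]
    {C : Type u} [CommRing C] [Algebra A C] (J : Ideal C) [HenselianRing C J]
    (ψ : Lim A Ω →ₐ[A] C ⧸ J) :
    ∃! G : Lim A Ω →ₐ[A] C, (Ideal.Quotient.mkₐ A J).comp G = ψ := by
  have := isLocalHom_of_le_jacobson_bot J HenselianRing.jac
  have hstage : ∀ i : Pt A Ω, ∃ g : i.Loc →ₐ[A] C,
      (Ideal.Quotient.mkₐ A J).comp g = ψ.comp (of i) := by
    intro i
    obtain ⟨τ, hτ⟩ := exists_algHom_lift J ((ψ.comp (of i)).comp (IsScalarTower.toAlgHom A i.Alg i.Loc))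
    have hu : ∀ y : i.units, IsUnit (τ y) := fun y => by
      refine isUnit_of_isUnit_mk (I := J) HenselianRing.jac ?_
      have h : Ideal.Quotient.mk J (τ y) = ψ (of i (algebraMap i.Alg i.Loc (y : i.Alg))) :=
        AlgHom.congr_fun hτ (y : i.Alg)
      rw [h]
      exact ((IsLocalization.map_units i.Loc y).map (of i)).map ψ
    refine ⟨IsLocalization.liftAlgHom (S := i.Loc) hu,
      IsLocalization.algHom_ext i.units (AlgHom.ext fun x => ?_)⟩
    change Ideal.Quotient.mk J (IsLocalization.lift (S := i.Loc) hu (algebraMap i.Alg i.Loc x)) =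
      ψ (of i (algebraMap i.Alg i.Loc x))
    rw [IsLocalization.lift_eq]
    exact AlgHom.congr_fun hτ x
  choose g hg using hstage
  have hcompat : ∀ i j (h : i ≤ j) (x : i.Loc), g j (Pt.trans h x) = g i x := by
    intro i j h x
    refine AlgHom.congr_fun (Pt.locMap_unique (Ideal.Quotient.mk J) ((g j).comp (Pt.trans h)) (g i)
      fun y => ?_) x
    exact ((AlgHom.congr_fun (hg j) (Pt.trans h y)).trans (congrArg ψ (of_trans h y))).trans
      (AlgHom.congr_fun (hg i) y).symm
  let G : Lim A Ω →ₐ[A] C :=
    DirectLimit.Algebra.lift (fun i : Pt A Ω => i.Loc) (fun _ _ h => Pt.trans h) C g hcompat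
  refine ⟨G, AlgHom.ext fun x => ?_, fun G' hG' => AlgHom.ext fun x => ?_⟩
  · obtain ⟨i, y, rfl⟩ := exists_of x
    exact AlgHom.congr_fun (hg i) y
  · obtain ⟨i, y, rfl⟩ := exists_of x
    refine AlgHom.congr_fun (Pt.locMap_unique (Ideal.Quotient.mk J) (G'.comp (of i)) (g i)
      fun z => ?_) y
    exact (AlgHom.congr_fun hG' (of i z)).trans (AlgHom.congr_fun (hg i) z).symm

/-- Maps out of a strict henselization over any map to a henselian local ring are determined by,
and exist for, compatible maps to the residue field. -/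
theorem existsUnique_hom {A R R' : Type u} [CommRing A] [IsLocalRing A] [CommRing R] [IsLocalRing R]
    [Algebra A R] [IsLocalHom (algebraMap A R)] [Hensel.IsStrictHenselization A R]
    [CommRing R'] [HenselianLocalRing R'] (c : A →+* R') (ψ : R →+* ResidueField R')
    (hψ : ψ.comp (algebraMap A R) = (residue R').comp c) :
    ∃! φ : R →+* R', φ.comp (algebraMap A R) = c ∧ (residue R').comp φ = ψ := by
  algebraize [c]
  let e := equivOfIsStrictHenselization A R
  let ψ' : Lim A (SK A) →ₐ[A] R' ⧸ maximalIdeal R' :=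
    AlgHom.mk (ψ.comp (e : StrictHenselization A →+* R)) fun a => by
      change ψ (e (algebraMap A _ a)) = _
      rw [e.commutes]
      exact RingHom.congr_fun hψ a
  obtain ⟨G, hG, huniq⟩ := existsUnique_lim_lift (maximalIdeal R') ψ'
  refine ⟨G.toRingHom.comp (e.symm : R →+* StrictHenselization A), ⟨RingHom.ext fun a => ?_,
    RingHom.ext fun r => ?_⟩, fun φ hφ => RingHom.ext fun r => ?_⟩
  · change G (e.symm (algebraMap A R a)) = c a
    rw [e.symm.commutes]
    exact G.commutes a
  · change residue R' (G (e.symm r)) = ψ r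
    refine (AlgHom.congr_fun hG (e.symm r)).trans ?_
    change ψ (e (e.symm r)) = ψ r
    rw [e.apply_symm_apply]
  · let G' : Lim A (SK A) →ₐ[A] R' :=
      AlgHom.mk (φ.comp (e : StrictHenselization A →+* R)) fun a => by
        change φ (e (algebraMap A _ a)) = _
        rw [e.commutes]
        exact RingHom.congr_fun hφ.1 a
    have h := huniq G' (AlgHom.ext fun z => RingHom.congr_fun hφ.2 (e z))
    change φ r = G (e.symm r)
    rw [← h]
    change φ r = φ (e (e.symm r))
    rw [e.apply_symm_apply]

/-- Images of étale algebras over a field in a field are separable. -/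
theorem isSeparable_image {k E L : Type u} [Field k] [CommRing E] [Algebra k E] [Algebra.Etale k E]
    [Field L] [Algebra k L] (θ : E →ₐ[k] L) (z : E) : IsSeparable k (θ z) := by
  have : Module.Finite k E := Algebra.FormallyUnramified.finite_of_free k E
  have : IsArtinianRing E := IsArtinianRing.of_finite k E
  let P : Ideal E := RingHom.ker θ.toRingHom
  have : P.IsPrime := RingHom.ker_isPrime _
  have : P.IsMaximal := IsArtinianRing.isMaximal_of_isPrime P
  let _ : Field (E ⧸ P) := Ideal.Quotient.field P
  have h1 : Algebra.FormallyUnramified k (E ⧸ P) :=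
    Algebra.FormallyUnramified.of_surjective (Ideal.Quotient.mkₐ k P) Ideal.Quotient.mk_surjective
  have h2 : Algebra.IsSeparable k (E ⧸ P) := Algebra.FormallyUnramified.isSeparable k (E ⧸ P)
  let φ : E ⧸ P →ₐ[k] L := Ideal.Quotient.liftₐ P θ (fun a ha => (RingHom.mem_ker.1 ha : θ.toRingHom a = 0))
  have hφ : Function.Injective φ := (injective_iff_map_eq_zero φ).2 fun a ha => by
    obtain ⟨b, rfl⟩ := Ideal.Quotient.mk_surjective a
    exact Ideal.Quotient.eq_zero_iff_mem.2 (RingHom.mem_ker.2 ha)
  have hz : θ z = φ (Ideal.Quotient.mkₐ k P z) := rfl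
  rw [hz]
  exact IsSeparable.map φ hφ (Algebra.IsSeparable.isSeparable k _)

/-- Fields generated by a strict henselization over a field are separable. -/
theorem isSeparable_of_generated {A R : Type u} [CommRing A] [IsLocalRing A] [CommRing R] [IsLocalRing R]
    [Algebra A R] [IsLocalHom (algebraMap A R)] [Hensel.IsStrictHenselization A R]
    {k L : Type u} [Field k] [Field L] [Algebra A k] [Algebra k L] [Algebra A L] [IsScalarTower A k L]
    (ι : R →ₐ[A] L) (hgen : ∀ l : L, l ∈ Algebra.adjoin k (Set.range ι)) :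
    Algebra.IsSeparable k L := by
  let e := equivOfIsStrictHenselization A R
  have hsep : ∀ r : R, IsSeparable k (ι r) := by
    intro r
    obtain ⟨i, y, hy⟩ := exists_of (e.symm r)
    obtain ⟨a, b, hab⟩ := IsLocalization.exists_mk'_eq i.units y
    let j : i.Alg →ₐ[A] R := e.toAlgHom.comp ((of i).comp (IsScalarTower.toAlgHom A i.Alg i.Loc))
    have hmem : ∀ z : i.Alg, IsSeparable k (ι (j z)) := fun z => by
      let θ : k ⊗[A] i.Alg →ₐ[k] L := Algebra.TensorProduct.lift (Algebra.ofId k L)
        (ι.comp j) fun _ _ => Commute.all _ _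
      have h := isSeparable_image (k := k) (E := k ⊗[A] i.Alg) (L := L) θ ((1 : k) ⊗ₜ z)
      simpa [θ] using h
    have hr : r = e (of i y) := by rw [hy, e.apply_symm_apply]
    have hyb : y * algebraMap i.Alg i.Loc b = algebraMap i.Alg i.Loc a := by
      rw [← hab, IsLocalization.mk'_spec]
    have h1 : ι r * ι (j b) = ι (j a) := by
      rw [← map_mul, hr]
      refine congrArg ι ?_
      change e (of i y) * e (of i (algebraMap i.Alg i.Loc b)) = e (of i (algebraMap i.Alg i.Loc a))
      rw [← map_mul, ← map_mul, hyb]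
    have hb : IsUnit (ι (j b)) :=
      (((IsLocalization.map_units i.Loc b).map (of i)).map e.toAlgHom).map ι
    have h2 : ι r = ι (j a) / ι (j b) := by
      rw [← h1, mul_div_cancel_right₀ _ hb.ne_zero]
    rw [h2]
    exact (mem_separableClosure_iff.1 ((separableClosure k L).div_mem
      (mem_separableClosure_iff.2 (hmem a)) (mem_separableClosure_iff.2 (hmem b))))
  refine ⟨fun l => mem_separableClosure_iff.1 ?_⟩
  have hle : Algebra.adjoin k (Set.range ι) ≤ (separableClosure k L).toSubalgebra := by
    refine Algebra.adjoin_le ?_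
    rintro _ ⟨r, rfl⟩
    exact mem_separableClosure_iff.2 (hsep r)
  exact hle (hgen l)

/-- A point of a strict henselization above any map to a separably closed field. -/
theorem exists_point {A R : Type u} [CommRing A] [IsLocalRing A] [CommRing R] [IsLocalRing R]
    [Algebra A R] [IsLocalHom (algebraMap A R)] [Hensel.IsStrictHenselization A R]
    (k Ω : Type u) [Field k] [Field Ω] [IsSepClosed Ω] [Algebra A k] [Algebra k Ω] :
    ∃ ψ : R →+* Ω, ψ.comp (algebraMap A R) = (algebraMap k Ω).comp (algebraMap A k) := by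
  have := faithfullyFlat A R
  have : Nontrivial (k ⊗[A] R) := inferInstance
  obtain ⟨m, hm⟩ := Ideal.exists_maximal (k ⊗[A] R)
  let _ : Field ((k ⊗[A] R) ⧸ m) := Ideal.Quotient.field m
  let ι : R →ₐ[A] (k ⊗[A] R) ⧸ m :=
    (Ideal.Quotient.mkₐ A m).comp (Algebra.TensorProduct.includeRight : R →ₐ[A] k ⊗[A] R)
  have : Algebra.IsSeparable k ((k ⊗[A] R) ⧸ m) := by
    refine isSeparable_of_generated ι fun l => ?_
    obtain ⟨t, rfl⟩ := Ideal.Quotient.mk_surjective l
    induction t using TensorProduct.induction_on with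
    | zero => rw [map_zero]; exact Subalgebra.zero_mem _
    | add s s' hs hs' => rw [map_add]; exact Subalgebra.add_mem _ hs hs'
    | tmul c r =>
      have hcr : Ideal.Quotient.mk m (c ⊗ₜ[A] r) = c • ι r := by
        rw [show (c ⊗ₜ[A] r : k ⊗[A] R) = c • (1 ⊗ₜ r) by rw [TensorProduct.smul_tmul', smul_eq_mul, mul_one]]
        rfl
      rw [hcr]
      exact Subalgebra.smul_mem _ (Algebra.subset_adjoin (Set.mem_range_self r)) c
  let lft : (k ⊗[A] R) ⧸ m →ₐ[k] Ω := IsSepClosed.lift
  refine ⟨lft.toRingHom.comp ι.toRingHom, RingHom.ext fun a => ?_⟩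
  change lft (ι (algebraMap A R a)) = algebraMap k Ω (algebraMap A k a)
  rw [ι.commutes, IsScalarTower.algebraMap_apply A k ((k ⊗[A] R) ⧸ m), lft.commutes]

/-- The specialisation map of a point in the range of the local scheme. -/
theorem specializes_of_comp_eq {X : Scheme.{u}} (x x' : X) {T : Scheme.{u}}
    (g : T ⟶ Spec (X.presheaf.stalk x)) (t : T) (ht : (g ≫ X.fromSpecStalk x).base t = x') :
    x' ⤳ x := by
  have h : (X.fromSpecStalk x).base (g.base t) ∈ Set.range (X.fromSpecStalk x).base := ⟨_, rfl⟩
  rw [Scheme.range_fromSpecStalk] at h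
  exact ht ▸ h

/-- The strict localisation sends the closed point to the point. -/
theorem specOf_closedPoint {X : Scheme.{u}} (x : X) (R : Type u) [CommRing R] [IsLocalRing R]
    [Algebra (X.presheaf.stalk x) R] [hl : IsLocalHom (algebraMap (X.presheaf.stalk x) R)]
    (t : Spec (CommRingCat.of R)) (ht : t = closedPoint R) :
    (Hens2.specOf X x R).base t = x := by
  subst ht
  have e : (Spec.map (CommRingCat.ofHom (algebraMap (X.presheaf.stalk x) R))).base (closedPoint R) =
      closedPoint (X.presheaf.stalk x) :=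
    IsLocalRing.comap_closedPoint (algebraMap (X.presheaf.stalk x) R)
  rw [Hens2.specOf, Scheme.Hom.comp_apply, e]
  exact Scheme.fromSpecStalk_closedPoint

/-- The geometric point lies over the point. -/
theorem geomPt_apply {X : Scheme.{u}} (x : X) (R : Type u) [CommRing R] [IsLocalRing R]
    [Algebra (X.presheaf.stalk x) R] [IsLocalHom (algebraMap (X.presheaf.stalk x) R)]
    (t : Spec (CommRingCat.of (ResidueField R))) : (Hens2.geomPt X x R).base t = x := by
  rw [Hens2.geomPt, Scheme.Hom.comp_apply]
  refine specOf_closedPoint x R _ ?_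
  obtain rfl : t = closedPoint (ResidueField R) := Subsingleton.elim _ _
  exact IsLocalRing.comap_closedPoint (residue R)

/-- Arrows between strict localisations are maps of rings over the specialisation. -/
theorem comp_specOf_eq_iff {X : Scheme.{u}} {x x' : X} (hx : x' ⤳ x)
    (R : Type u) [CommRing R] [Algebra (X.presheaf.stalk x) R]
    (T : Type u) [CommRing T] (c : X.presheaf.stalk x' →+* T) (φ : R →+* T) :
    Spec.map (CommRingCat.ofHom φ) ≫ Hens2.specOf X x R =
        Spec.map (CommRingCat.ofHom c) ≫ X.fromSpecStalk x' ↔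
      φ.comp (algebraMap (X.presheaf.stalk x) R) = c.comp (X.presheaf.stalkSpecializes hx).hom := by
  rw [← Scheme.SpecMap_stalkSpecializes_fromSpecStalk hx, ← Category.assoc, ← Category.assoc,
    cancel_mono, ← Spec.map_comp, ← Spec.map_comp]
  exact ⟨fun h => congrArg CommRingCat.Hom.hom (Spec.map_injective h),
    fun h => congrArg Spec.map (CommRingCat.hom_ext h)⟩

end Groth.Agent.Lib.EtSite.StrictLocLift
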