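import Groth.Agent.Lib.EtSite.StrictPieces
import Mathlib.AlgebraicGeometry.Morphisms.Flat

/-!
The open set of points of a piece over a strictly local scheme that match a given germ.
-/

set_option autoImplicit false
set_option backward.isDefEq.respectTransparency false
set_option linter.style.haveILetI false

universe u

open CategoryTheory CategoryTheory.Limits AlgebraicGeometry Opposite

noncomputable section

namespace Groth.Agent.Lib.EtSite.StrictLocus

open Groth.Agent.Lib.EtSite Groth.Agent.Lib.EtSite.Basic Groth.Agent.Lib.EtSite.SubDescent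
open Groth.Agent.Lib.EtSite.GoodPairs Groth.Agent.Lib.EtSite.StrictPieces
open Groth.Agent.Lib.EtSite.Effective

/-- A geometric point of the source over a given geometric point of the target, after extending. -/
theorem exists_lift {H L : Scheme.{u}} (h : H ⟶ L) [Surjective h] {Ω : Type u} [Field Ω]
    (l : Spec (CommRingCat.of Ω) ⟶ L) :
    ∃ (Ω' : Type u) (_ : Field Ω') (_ : IsSepClosed Ω')
      (ρ : Spec (CommRingCat.of Ω') ⟶ Spec (CommRingCat.of Ω))
      (ζ : Spec (CommRingCat.of Ω') ⟶ H), ρ ≫ l = ζ ≫ h := by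
  haveI : Surjective (pullback.snd h l) := MorphismProperty.pullback_snd _ _ ‹Surjective h›
  obtain ⟨z, -⟩ := (pullback.snd h l).surjective default
  exact ⟨_, inferInstance, inferInstance, Push.algPoint _ z ≫ pullback.snd h l,
    Push.algPoint _ z ≫ pullback.fst h l, by rw [Category.assoc, Category.assoc, pullback.condition]⟩

variable {X₁ Y₁ X' : Scheme.{u}} (g₁ : X₁ ⟶ Y₁) (F' : EtDesc.Sh X₁)
  (φ : (EtDesc.pullSh (pullback.fst g₁ g₁)).obj F' ≅ (EtDesc.pullSh (pullback.snd g₁ g₁)).obj F')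
  {j : X' ⟶ X₁} [IsOpenImmersion j] {H L : Scheme.{u}} (h : H ⟶ L) (iL : L ⟶ Y₁)

theorem exists_good_open [Flat h] [QuasiCompact h] [Surjective h]
    (hφ : EtDesc.IsCocycle F' φ) (P₀ : Piece j F') (jH : H ⟶ P₀.E)
    (wH : (jH ≫ P₀.U.hom) ≫ g₁ = h ≫ iL)
    (hconn : ∀ (Ω : Type u) [Field Ω] [IsSepClosed Ω] (η : Spec (CommRingCat.of Ω) ⟶ L),
      ConnectedSpace ↥(pullback h η))
    (P : Piece j F') {T : Scheme.{u}} (a : T ⟶ P.E) (b : T ⟶ L)
    (w : (a ≫ P.U.hom) ≫ g₁ = b ≫ iL) :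
    ∃ G : T.Opens, ∀ (Ω : Type u) [Field Ω] [IsSepClosed Ω] (θ : Spec (CommRingCat.of Ω) ⟶ T)
      (ζ : Spec (CommRingCat.of Ω) ⟶ H), θ ≫ b = ζ ≫ h →
      (θ.base default ∈ G ↔ Good g₁ F' φ P.U P₀.U P.t P₀.t (θ ≫ a) (ζ ≫ jH)) := by
  obtain ⟨O, hO, hmem⟩ := exists_locus g₁ F' φ P.U P₀.U P.t P₀.t
  let p := pullback.fst b h
  let q := pullback.snd b h
  let m : pullback b h ⟶ pullback (P.U.hom ≫ g₁) (P₀.U.hom ≫ g₁) :=
    pullback.lift (p ≫ a) (q ≫ jH) (by
      have e₁ : (p ≫ a) ≫ P.U.hom ≫ g₁ = p ≫ b ≫ iL := by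
        rw [← w]; simp only [Category.assoc]
      have e₂ : (q ≫ jH) ≫ P₀.U.hom ≫ g₁ = q ≫ h ≫ iL := by
        rw [← wH]; simp only [Category.assoc]
      rw [e₁, e₂, pullback.condition_assoc])
  let O' : Set ↥(pullback b h) := m.base ⁻¹' O
  have hm : ∀ (Ω : Type u) [Field Ω] [IsSepClosed Ω] (c : Spec (CommRingCat.of Ω) ⟶ pullback b h),
      c.base default ∈ O' ↔
        Good g₁ F' φ P.U P₀.U P.t P₀.t ((c ≫ p) ≫ a) ((c ≫ q) ≫ jH) := fun Ω _ _ c => by
    have e₁ : (c ≫ m) ≫ pullback.fst (P.U.hom ≫ g₁) (P₀.U.hom ≫ g₁) = (c ≫ p) ≫ a := by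
      rw [Category.assoc, pullback.lift_fst, Category.assoc]
    have e₂ : (c ≫ m) ≫ pullback.snd (P.U.hom ≫ g₁) (P₀.U.hom ≫ g₁) = (c ≫ q) ≫ jH := by
      rw [Category.assoc, pullback.lift_snd, Category.assoc]
    refine Iff.trans ?_ (hmem Ω (c ≫ m) _ e₁ _ e₂)
    exact iff_of_eq (congrArg (· ∈ O) (Scheme.Hom.comp_apply c m default).symm)
  have hsat : ∀ x x' : ↥(pullback b h), p.base x = p.base x' → x ∈ O' → x' ∈ O' := fun x x' e hx => by
    obtain ⟨z, hz, hz'⟩ := Scheme.Pullback.exists_preimage_pullback (f := p) (g := p) x x' e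
    let c := Push.algPoint _ z ≫ pullback.fst p p
    let c' := Push.algPoint _ z ≫ pullback.snd p p
    have hc : c.base default = x := by
      rw [Scheme.Hom.comp_apply, Push.algPoint_apply, hz]
    have hc' : c'.base default = x' := by
      rw [Scheme.Hom.comp_apply, Push.algPoint_apply, hz']
    have hp : c ≫ p = c' ≫ p := by
      simp only [c, c', Category.assoc, pullback.condition]
    rw [← hc] at hx
    have h1 := (hm _ c).1 hx
    rw [← hc']
    refine (hm _ c').2 ?_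
    rw [← hp]
    refine good_trans g₁ F' φ hφ h1 (good_of_connected g₁ F' φ hφ P₀.U P₀.t jH h iL wH hconn _ _ ?_)
    have e₁ : ∀ {K : Scheme.{u}} (d : K ⟶ pullback b h), (d ≫ q) ≫ h = (d ≫ p) ≫ b := fun d => by
      rw [Category.assoc, Category.assoc, pullback.condition]
    rw [e₁, e₁, hp]
  haveI : Flat p := MorphismProperty.pullback_fst _ _ ‹Flat h›
  haveI : QuasiCompact p := MorphismProperty.pullback_fst _ _ ‹QuasiCompact h›
  haveI : Surjective p := MorphismProperty.pullback_fst _ _ ‹Surjective h›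
  have hpre : p.base ⁻¹' (p.base '' O') = O' := by
    refine Set.Subset.antisymm ?_ (Set.subset_preimage_image _ _)
    rintro x ⟨x', hx', e⟩
    exact hsat x' x e hx'
  have hopen : IsOpen (p.base '' O') := by
    rw [← (Flat.isQuotientMap_of_surjective p).isOpen_preimage, hpre]
    exact hO.preimage m.continuous
  refine ⟨⟨p.base '' O', hopen⟩, fun Ω _ _ θ ζ e => ?_⟩
  let c := pullback.lift θ ζ e
  have cp : c ≫ p = θ := pullback.lift_fst _ _ _
  have cq : c ≫ q = ζ := pullback.lift_snd _ _ _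
  have e0 : θ.base default = p.base (c.base default) := by rw [← Scheme.Hom.comp_apply, cp]
  have h2 := hm Ω c
  rw [cp, cq] at h2
  refine Iff.trans ?_ h2
  change θ.base default ∈ p.base '' O' ↔ _
  rw [e0]
  exact Set.ext_iff.1 hpre (c.base default)

end Groth.Agent.Lib.EtSite.StrictLocus
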