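import Groth.Agent.Lib.EtSite.GoodPairs
import Groth.Agent.Lib.EtSite.DisjointCover
import Groth.Agent.Lib.EtSite.LocFlat
import Mathlib.AlgebraicGeometry.Morphisms.Etale

/-!
Affine étale pieces with sections, and the open set of their points over a strictly local scheme
matching a given germ.
-/

set_option autoImplicit false
set_option backward.isDefEq.respectTransparency false
set_option linter.style.haveILetI false

universe u

open CategoryTheory CategoryTheory.Limits AlgebraicGeometry Opposite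

noncomputable section

namespace Groth.Agent.Lib.EtSite.StrictPieces

open Groth.Agent.Lib.EtSite Groth.Agent.Lib.EtSite.Basic Groth.Agent.Lib.EtSite.SubDescent
open Groth.Agent.Lib.EtSite.GoodPairs Groth.Agent.Lib.EtLim50

variable {X₁ X' : Scheme.{u}} (j : X' ⟶ X₁) [IsOpenImmersion j] (F' : EtDesc.Sh X₁)

/-- An affine étale scheme over `X'` with a section. -/
structure Piece where
  /-- The scheme. -/
  E : Scheme.{u}
  isAffine : IsAffine E
  /-- The structure map. -/
  hom : E ⟶ X'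
  etale : Etale hom
  /-- The section. -/
  t : haveI := etale; EtDesc.sect F' (Scheme.Etale.mk (hom ≫ j))

attribute [instance] Piece.isAffine Piece.etale

variable {j F'}

/-- The piece as an étale neighbourhood. -/
abbrev Piece.U (P : Piece j F') : X₁.Etale := Scheme.Etale.mk (P.hom ≫ j)

theorem exists_piece {Ω : Type u} [Field Ω] [IsSepClosed Ω]
    (ξ : Spec (CommRingCat.of Ω) ⟶ X') (c : stalk (ξ ≫ j) F') :
    ∃ (P : Piece j F') (p : Spec (CommRingCat.of Ω) ⟶ P.E) (_ : p ≫ P.hom = ξ)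
      (h : p ≫ P.hom ≫ j = ξ ≫ j), val F' P.U P.t p h = c := by
  obtain ⟨U, p, s, rfl⟩ :=
    (Scheme.pointSmallEtale (ξ ≫ j)).toPresheafFiber_jointly_surjective (P := F'.obj) c
  haveI : Etale U.hom := U.prop
  have hx : fiberPt p ∈ U.hom ⁻¹ᵁ j.opensRange := by
    change U.hom.base (fiberPt p) ∈ Set.range j.base
    rw [hom_fiberPt]
    exact ⟨ξ.base default, (Scheme.Hom.comp_apply _ _ _).symm⟩
  obtain ⟨V, hV, hpV, hle⟩ := exists_isAffineOpen_mem_and_subset hx
  have hr : Set.range (V.ι ≫ U.hom).base ⊆ Set.range j.base := by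
    rintro _ ⟨v, rfl⟩
    exact hle v.2
  let u := IsOpenImmersion.lift j (V.ι ≫ U.hom) hr
  have hu : u ≫ j = V.ι ≫ U.hom := IsOpenImmersion.lift_fac _ _ _
  haveI : IsAffine V.toScheme := hV
  haveI : Etale (u ≫ j) := by rw [hu]; infer_instance
  haveI : Etale u := Etale.of_comp u j
  let o : Scheme.Etale.mk (u ≫ j) ⟶ U := MorphismProperty.Over.homMk V.ι hu.symm
  have hq : Set.range (fiberHom p).base ⊆ Set.range V.ι.base := by
    rintro _ ⟨a, rfl⟩
    rw [Subsingleton.elim a default, Scheme.Opens.range_ι]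
    exact hpV
  let p' := IsOpenImmersion.lift V.ι (fiberHom p) hq
  have hp' : p' ≫ V.ι = fiberHom p := IsOpenImmersion.lift_fac _ _ _
  have hp1 : p' ≫ u ≫ j = ξ ≫ j := by
    rw [hu, ← Category.assoc, hp']; exact fiberHom_comp p
  have hp2 : p' ≫ u = ξ := by
    apply (cancel_mono j).1
    rw [Category.assoc, hp1]
  refine ⟨⟨_, inferInstance, u, inferInstance, F'.obj.map o.op s⟩, p', hp2, hp1, ?_⟩
  refine (germ_map _ F' o _ s).trans (congrArg (fun r => germ (ξ ≫ j) F' r s) ?_)
  exact Over.OverMorphism.ext hp'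

theorem exists_glue {ι : Type u} [Finite ι] (P : ι → Piece j F') :
    ∃ (Q : Piece j F') (o : ∀ i, (P i).U ⟶ Q.U),
      (∀ i, (o i).left ≫ Q.hom = (P i).hom) ∧ ∀ i, F'.obj.map (o i).op Q.t = (P i).t := by
  let u : (∐ fun i => (P i).E) ⟶ X' := Sigma.desc fun i => (P i).hom
  haveI : Etale u := IsZariskiLocalAtSource.sigmaDesc (P := @Etale) fun i => (P i).etale
  have hι : ∀ i, Sigma.ι (fun i => (P i).E) i ≫ u = (P i).hom := fun i => Sigma.ι_desc _ i
  let o : ∀ i, (P i).U ⟶ Scheme.Etale.mk (u ≫ j) := fun i =>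
    MorphismProperty.Over.homMk (Sigma.ι (fun i => (P i).E) i) (by
      change Sigma.ι (fun i => (P i).E) i ≫ u ≫ j = (P i).hom ≫ j
      rw [← Category.assoc, hι])
  have hD : DisjointCover.IsDisjointCover (fun i => (P i).U) o :=
    { isOpenImmersion := fun i => by
        change IsOpenImmersion (Sigma.ι (fun i => (P i).E) i)
        infer_instance
      exists_eq := fun x => (sigmaOpenCover fun i => (P i).E).exists_eq x
      disjoint := fun i k x y e => by
        by_contra hne
        exact Set.disjoint_left.1 (TopologicalSpace.Opens.coe_disjoint.2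
          (disjoint_opensRange_sigmaι (fun i => (P i).E) i k hne)) ⟨x, rfl⟩ ⟨y, e.symm⟩ }
  obtain ⟨s, hs⟩ := hD.exists_glue F' fun i => (P i).t
  exact ⟨⟨_, inferInstance, u, inferInstance, s⟩, o, hι, hs⟩

theorem exists_jH {Ω : Type u} [Field Ω] [IsSepClosed Ω] (ξ : Spec (CommRingCat.of Ω) ⟶ X')
    (P : Piece j F') (p : Spec (CommRingCat.of Ω) ⟶ P.E) (hp : p ≫ P.hom = ξ) :
    ∃ jH : Nbhds.S X' ξ ⟶ P.E, jH ≫ P.hom = LocMap.toBase ξ ∧ LocMap.point ξ ≫ jH = p := by
  let U : X'.Etale := Scheme.Etale.mk P.hom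
  haveI : IsAffine U.left := P.isAffine
  let q : (Scheme.pointSmallEtale ξ).fiber.obj U := mkFiber ξ U p hp
  obtain ⟨a, ⟨ψ⟩⟩ := Nbhds.exists_hom X' ξ ((Scheme.pointSmallEtale ξ).fiber.elementsMk U q)
  refine ⟨(Nbhds.cone X' ξ).π.app a ≫ ψ.1.left, ?_, ?_⟩
  · refine (Category.assoc _ _ _).trans ?_
    exact (_ ≫= Over.w ψ.1.hom).trans (LocMap.π_comp_hom ξ a)
  · rw [← Category.assoc, LocMap.point_π]
    exact congrArg fiberHom (show (Scheme.pointSmallEtale ξ).fiber.map ψ.1 a.2 = q from ψ.2)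

end Groth.Agent.Lib.EtSite.StrictPieces
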