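import Groth.Agent.Lib.EtSite.StrictCover
import Groth.Agent.Lib.EtSite.LocSect
import Groth.Agent.Lib.EtDiscrete.Gen

/-!
An étale neighbourhood with a compatible section through a given germ, for flat morphisms whose
maps of strictly local schemes have connected geometric fibres.
-/

set_option autoImplicit false
set_option backward.isDefEq.respectTransparency false
set_option linter.style.haveILetI false

universe u

open CategoryTheory CategoryTheory.Limits AlgebraicGeometry Opposite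

noncomputable section

namespace Groth.Agent.Lib.EtSite.StrictStage

open Groth.Agent.Lib.EtSite Groth.Agent.Lib.EtSite.Basic Groth.Agent.Lib.EtSite.SubDescent
open Groth.Agent.Lib.EtSite.GoodPairs Groth.Agent.Lib.EtSite.StrictPieces
open Groth.Agent.Lib.EtSite.Effective Groth.Agent.Lib.EtLim50 Groth.Agent.Lib.EtSite.PushStalk
open Groth.Agent.Lib.EtSite.FppfDescent

section transition

variable {E E' Y : Scheme.{u}} (f : E ⟶ Y) (f' : E' ⟶ Y) {Ω : Type u} [Field Ω] [IsSepClosed Ω]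
  (η : Spec (CommRingCat.of Ω) ⟶ Y) (v : E ⟶ E') (hv : v ≫ f' = f)

/-- The stage of the base change. -/
abbrev D : Nbhds.Idx Y η ⥤ Scheme.{u} := Sections.diag (LocSect.W f η)

theorem map_fst {a b : Nbhds.Idx Y η} (χ : a ⟶ b) :
    (D f η).map χ ≫ pullback.fst ((Nbhds.nbhd Y η).obj b).hom f =
      pullback.fst ((Nbhds.nbhd Y η).obj a).hom f ≫ (Nbhds.diag Y η).map χ :=
  (EtCoh.isPullback_bc_map f ((Nbhds.nbhd Y η).map χ)).w

theorem map_snd {a b : Nbhds.Idx Y η} (χ : a ⟶ b) :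
    (D f η).map χ ≫ pullback.snd ((Nbhds.nbhd Y η).obj b).hom f =
      pullback.snd ((Nbhds.nbhd Y η).obj a).hom f :=
  Over.w ((LocSect.W f η).map χ).hom

theorem leg_fst (a : Nbhds.Idx Y η) :
    (LocSect.c f η).π.app a ≫ pullback.fst ((Nbhds.nbhd Y η).obj a).hom f =
      pullback.snd f (LocMap.toBase η) ≫ (Nbhds.cone Y η).π.app a :=
  pullback.lift_fst _ _ _

theorem leg_snd (a : Nbhds.Idx Y η) :
    (LocSect.c f η).π.app a ≫ pullback.snd ((Nbhds.nbhd Y η).obj a).hom f =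
      pullback.fst f (LocMap.toBase η) :=
  pullback.lift_snd _ _ _

/-- The projection between stages. -/
def pr (a : Nbhds.Idx Y η) :
    pullback ((Nbhds.nbhd Y η).obj a).hom f ⟶ pullback ((Nbhds.nbhd Y η).obj a).hom f' :=
  pullback.lift (pullback.fst _ _) (pullback.snd _ _ ≫ v) (by
    rw [Category.assoc, hv]; exact pullback.condition)

/-- The projection between the base changes to the strictly local scheme. -/
def prInf : pullback f (LocMap.toBase η) ⟶ pullback f' (LocMap.toBase η) :=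
  pullback.lift (pullback.fst _ _ ≫ v) (pullback.snd _ _) (by
    rw [Category.assoc, hv]; exact pullback.condition)

theorem pr_fst (a : Nbhds.Idx Y η) : pr f f' η v hv a ≫ pullback.fst _ _ = pullback.fst _ _ :=
  pullback.lift_fst _ _ _

theorem pr_snd (a : Nbhds.Idx Y η) : pr f f' η v hv a ≫ pullback.snd _ _ = pullback.snd _ _ ≫ v :=
  pullback.lift_snd _ _ _

theorem map_pr {a b : Nbhds.Idx Y η} (χ : a ⟶ b) :
    (D f η).map χ ≫ pr f f' η v hv b = pr f f' η v hv a ≫ (D f' η).map χ := by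
  refine pullback.hom_ext ?_ ?_
  · refine (Category.assoc _ _ _).trans ?_
    rw [pr_fst]
    refine (map_fst f η χ).trans (Eq.symm ?_)
    refine (Category.assoc _ _ _).trans ?_
    rw [map_fst, ← Category.assoc, pr_fst]
  · refine (Category.assoc _ _ _).trans ?_
    rw [pr_snd]
    refine ((Category.assoc _ _ _).symm.trans (congrArg (· ≫ v) (map_snd f η χ))).trans (Eq.symm ?_)
    refine (Category.assoc _ _ _).trans ?_
    rw [map_snd, pr_snd]

theorem leg_pr (a : Nbhds.Idx Y η) :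
    (LocSect.c f η).π.app a ≫ pr f f' η v hv a = prInf f f' η v hv ≫ (LocSect.c f' η).π.app a := by
  refine pullback.hom_ext ?_ ?_
  · refine (Category.assoc _ _ _).trans ?_
    rw [pr_fst]
    refine (leg_fst f η a).trans (Eq.symm ?_)
    refine (Category.assoc _ _ _).trans ?_
    rw [leg_fst, ← Category.assoc, prInf, pullback.lift_snd]
  · refine (Category.assoc _ _ _).trans ?_
    rw [pr_snd]
    refine ((Category.assoc _ _ _).symm.trans (congrArg (· ≫ v) (leg_snd f η a))).trans (Eq.symm ?_)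
    refine (Category.assoc _ _ _).trans ?_
    rw [leg_snd, prInf, pullback.lift_fst]

theorem isOpenMap_pr [Etale v] (a : Nbhds.Idx Y η) : IsOpenMap (pr f f' η v hv a).base := by
  subst hv
  obtain ⟨m, hm₁, hm₂, hmo⟩ := StrictCover.exists_map f' ((Nbhds.nbhd Y η).obj a).hom v
  have e : pr (v ≫ f') f' η v rfl a =
      (pullbackSymmetry _ _).hom ≫ m ≫ (pullbackSymmetry _ _).hom := by
    refine pullback.hom_ext ?_ ?_
    · rw [pr_fst, Category.assoc, Category.assoc, pullbackSymmetry_hom_comp_fst, hm₂,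
        pullbackSymmetry_hom_comp_snd]
    · rw [pr_snd, Category.assoc, Category.assoc, pullbackSymmetry_hom_comp_snd, hm₁,
        ← Category.assoc, pullbackSymmetry_hom_comp_fst]
  rw [e, Scheme.Hom.comp_base, Scheme.Hom.comp_base]
  exact ((Scheme.homeoOfIso (pullbackSymmetry _ _)).isOpenMap.comp hmo).comp
    (Scheme.homeoOfIso (pullbackSymmetry _ _)).isOpenMap

end transition

theorem isUnivSubmersive_of_flat {Z W : Scheme.{u}} (π : Z ⟶ W) [Flat π] [QuasiCompact π]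
    [Surjective π] : EtDesc.IsUnivSubmersive π := fun T k => by
  haveI : Flat (pullback.snd π k) := MorphismProperty.pullback_snd _ _ ‹Flat π›
  haveI : QuasiCompact (pullback.snd π k) := MorphismProperty.pullback_snd _ _ ‹QuasiCompact π›
  haveI : Surjective (pullback.snd π k) := MorphismProperty.pullback_snd _ _ ‹Surjective π›
  exact ⟨(pullback.snd π k).surjective, Flat.isQuotientMap_of_surjective _⟩

theorem exists_tau {X : Scheme.{u}} (F' : EtDesc.Sh X) (U : X.Etale) (t : EtDesc.sect F' U)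
    {Z : Scheme.{u}} (rZ : Z ⟶ U.left) :
    ∃ τ : EtDesc.sect ((EtDesc.pullSh (rZ ≫ U.hom)).obj F') (EtCoh.top Z),
      ∀ (Ω : Type u) [Field Ω] [IsSepClosed Ω] (z : Spec (CommRingCat.of Ω) ⟶ Z)
        (ξ : Spec (CommRingCat.of Ω) ⟶ X) (h : z ≫ rZ ≫ U.hom = ξ)
        (h' : (z ≫ rZ) ≫ U.hom = ξ),
        germ z _ (topPt z) τ = germUnit (rZ ≫ U.hom) F' h (val F' U t (z ≫ rZ) h') := by
  refine ⟨(EtDesc.pullVia rZ U.hom _ rfl F').hom.hom.app (op (EtCoh.top Z))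
    (EtDesc.secPull rZ _ (toTopSec U F' t)), fun Ω _ _ z ξ h h' => ?_⟩
  refine (stalkMap_germ z _ (topPt z) _).symm.trans ?_
  rw [germ_secPull rZ _ rfl]
  refine (congrArg (stalkMap z _) (congrArg (germUnit rZ _ rfl) (germ_toTop F' U t (z ≫ rZ) h'))).trans ?_
  exact pullVia_germUnit U.hom rZ _ rfl F' rfl h' h _

variable {X₁ Y₁ X' Y' : Scheme.{u}} (g₁ : X₁ ⟶ Y₁) (F' : EtDesc.Sh X₁)
  (φ : (EtDesc.pullSh (pullback.fst g₁ g₁)).obj F' ≅ (EtDesc.pullSh (pullback.snd g₁ g₁)).obj F')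

set_option maxHeartbeats 1000000 in
theorem exists_compat (hφ : EtDesc.IsCocycle F' φ) (j : X' ⟶ X₁) [IsOpenImmersion j]
    (iY : Y' ⟶ Y₁) [IsOpenImmersion iY] [IsAffine Y'] (g' : X' ⟶ Y') [Flat g'] [QuasiCompact g']
    [Surjective g'] (wj : j ≫ g₁ = g' ≫ iY)
    {Ω : Type u} [Field Ω] [IsSepClosed Ω] (ξ : Spec (CommRingCat.of Ω) ⟶ X')
    (hconn : ∀ (Ω' : Type u) [Field Ω'] [IsSepClosed Ω']
      (s : Spec (CommRingCat.of Ω') ⟶ Nbhds.S Y' (ξ ≫ g')),
      ConnectedSpace ↥(pullback (Spec.map (LocMap.funct g' ξ)) s))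
    (gg : stalk (ξ ≫ j) F') :
    ∃ (V : Y₁.Etale) (p : (Scheme.pointSmallEtale ((ξ ≫ j) ≫ g₁)).fiber.obj V)
      (t : EtDesc.sect F' ((EtCoh.bc g₁).obj V)),
      Compat g₁ F' φ V t ∧ germ (ξ ≫ j) F' (liftPt g₁ rfl V p) t = gg := by
  obtain ⟨Q, K, hKc, hpairs, hcov, z₀, hz₀K, hz₀s, hz, hval⟩ :=
    StrictCover.exists_cover_piece g₁ F' φ hφ j iY g' wj ξ hconn gg
  haveI : IsAffine Q.E := Q.isAffine
  let η := ξ ≫ g'
  let f₁ := Q.hom ≫ g'
  haveI : Flat f₁ := inferInstance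
  -- stage with an open
  obtain ⟨a, Va, hVa, hVaK⟩ := exists_preimage_eq (D f₁ η) (LocSect.c f₁ η) (LocSect.isLimit f₁ η) K hKc
  let f₂ := pullback.fst f₁ f₁ ≫ f₁
  let u₁ := pullback.fst f₁ f₁
  let u₂ := pullback.snd f₁ f₁
  have hu₁ : u₁ ≫ f₁ = f₂ := rfl
  have hu₂ : u₂ ≫ f₁ = f₂ := pullback.condition.symm
  have hQ : Q.U.hom ≫ g₁ = f₁ ≫ iY := by
    change (Q.hom ≫ j) ≫ g₁ = (Q.hom ≫ g') ≫ iY
    rw [Category.assoc, Category.assoc, wj]
  let μ : pullback f₁ f₁ ⟶ pullback (Q.U.hom ≫ g₁) (Q.U.hom ≫ g₁) :=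
    pullback.lift u₁ u₂ ((congrArg (u₁ ≫ ·) hQ).trans ((((Category.assoc _ _ _).symm.trans (congrArg (· ≫ iY) (hu₁.trans hu₂.symm))).trans (Category.assoc _ _ _)).trans (congrArg (u₂ ≫ ·) hQ.symm)))
  obtain ⟨O, hO, hOmem⟩ := exists_locus g₁ F' φ Q.U Q.U Q.t Q.t
  let sa : (D f₂ η).obj a ⟶ pullback (Q.U.hom ≫ g₁) (Q.U.hom ≫ g₁) :=
    pullback.snd ((Nbhds.nbhd Y' η).obj a).hom f₂ ≫ μ
  let O₂ : ((D f₂ η).obj a).Opens := sa ⁻¹ᵁ ⟨O, hO⟩
  let K₂ : ((D f₂ η).obj a).Opens :=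
    (pr f₂ f₁ η u₁ hu₁ a) ⁻¹ᵁ Va ⊓ (pr f₂ f₁ η u₂ hu₂ a) ⁻¹ᵁ Va
  haveI : IsAffine ((Nbhds.nbhd Y' η).obj a).left := Nbhds.isAffine_nbhd Y' η a
  haveI : IsAffine (pullback f₁ f₁) := Scheme.Pullback.isAffine_of_isAffine_isAffine_isAffine f₁ f₁
  haveI : IsAffine ((D f₂ η).obj a) :=
    @Scheme.Pullback.isAffine_of_isAffine_isAffine_isAffine _ _ _ ((Nbhds.nbhd Y' η).obj a).hom f₂
      (Nbhds.isAffine_nbhd Y' η a) inferInstance ‹IsAffine Y'›
  haveI : IsAffine ((D f₁ η).obj a) :=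
    @Scheme.Pullback.isAffine_of_isAffine_isAffine_isAffine _ _ _ ((Nbhds.nbhd Y' η).obj a).hom f₁
      (Nbhds.isAffine_nbhd Y' η a) inferInstance ‹IsAffine Y'›
  haveI : QuasiCompact (pr f₂ f₁ η u₁ hu₁ a) :=
    (quasiCompact_iff_compactSpace (Y := (D f₁ η).obj a) _).2 (inferInstanceAs (CompactSpace ↥((D f₂ η).obj a)))
  haveI : QuasiCompact (pr f₂ f₁ η u₂ hu₂ a) :=
    (quasiCompact_iff_compactSpace (Y := (D f₁ η).obj a) _).2 (inferInstanceAs (CompactSpace ↥((D f₂ η).obj a)))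
  have hK₂ : IsCompact (K₂ : Set ↥((D f₂ η).obj a)) :=
    IsCompact.inter_of_isOpen (QuasiCompact.isCompact_preimage (f := pr f₂ f₁ η u₁ hu₁ a) _ Va.2 hVa)
      (QuasiCompact.isCompact_preimage (f := pr f₂ f₁ η u₂ hu₂ a) _ Va.2 hVa)
      ((pr f₂ f₁ η u₁ hu₁ a) ⁻¹ᵁ Va).2 ((pr f₂ f₁ η u₂ hu₂ a) ⁻¹ᵁ Va).2
  have hlim : (LocSect.c f₂ η).π.app a ⁻¹ᵁ K₂ ≤ (LocSect.c f₂ η).π.app a ⁻¹ᵁ O₂ := fun x hx => by
    let c := Push.algPoint _ x
    have hmem : ∀ (v : pullback f₁ f₁ ⟶ Q.E) (hv : v ≫ f₁ = f₂),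
        (LocSect.c f₂ η).π.app a x ∈ (pr f₂ f₁ η v hv a) ⁻¹ᵁ Va →
        (c ≫ prInf f₂ f₁ η v hv).base default ∈ K := fun v hv hh => by
      rw [← hVaK, Scheme.Hom.comp_apply, Push.algPoint_apply]
      change ((LocSect.c f₁ η).π.app a) ((prInf f₂ f₁ η v hv) x) ∈ Va
      have hl := congrArg (fun m : (LocSect.c f₂ η).pt ⟶ _ => m x) (leg_pr f₂ f₁ η v hv a)
      exact (congrArg (· ∈ Va) hl).mp hh
    have hg := hpairs _ (c ≫ prInf f₂ f₁ η u₁ hu₁) (c ≫ prInf f₂ f₁ η u₂ hu₂)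
      (by rw [Category.assoc, Category.assoc, prInf, prInf, pullback.lift_snd, pullback.lift_snd])
      (hmem u₁ hu₁ hx.1) (hmem u₂ hu₂ hx.2)
    have h' := (hOmem _ (c ≫ pullback.fst f₂ (LocMap.toBase η) ≫ μ) _ (by
        rw [Category.assoc, Category.assoc, pullback.lift_fst, Category.assoc, prInf,
          pullback.lift_fst]) _ (by
        rw [Category.assoc, Category.assoc, pullback.lift_snd, Category.assoc, prInf,
          pullback.lift_fst])).2 hg
    rw [Scheme.Hom.comp_apply, Push.algPoint_apply] at h'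
    change ((LocSect.c f₂ η).π.app a ≫ sa) x ∈ O
    rw [show (LocSect.c f₂ η).π.app a ≫ sa = pullback.fst f₂ (LocMap.toBase η) ≫ μ from
      (Category.assoc _ _ _).symm.trans (congrArg (· ≫ μ) (leg_snd f₂ η a))]
    exact h'
  obtain ⟨b, ψ, hψ⟩ := exists_map_preimage_le_map_preimage (D f₂ η) (LocSect.c f₂ η)
    (LocSect.isLimit f₂ η) hK₂ hlim
  let Kb : ((D f₁ η).obj b).Opens := (D f₁ η).map ψ ⁻¹ᵁ Va
  let mb := pr f₁ g' η Q.hom rfl b
  let Im : ((D g' η).obj b).Opens := ⟨mb.base '' (Kb : Set ↥((D f₁ η).obj b)),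
    isOpenMap_pr f₁ g' η Q.hom rfl b _ Kb.2⟩
  have hIm : (LocSect.c g' η).π.app b ⁻¹ᵁ Im = ⊤ := by
    rw [eq_top_iff]
    intro x _
    obtain ⟨k, hk, -, hkm⟩ := hcov x
    have hk' := hkm (prInf f₁ g' η Q.hom rfl) (pullback.lift_fst _ _ _) (pullback.lift_snd _ _ _)
    refine ⟨(LocSect.c f₁ η).π.app b k, ?_, ?_⟩
    · change ((LocSect.c f₁ η).π.app b ≫ (D f₁ η).map ψ) k ∈ Va
      rw [(LocSect.c f₁ η).w ψ]
      exact (SetLike.ext_iff.1 hVaK k).2 hk
    · rw [← hk']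
      exact congrArg (fun m : (LocSect.c f₁ η).pt ⟶ _ => m k) (leg_pr f₁ g' η Q.hom rfl b)
  haveI : ∀ i, CompactSpace ↥((D g' η).obj i) := fun i => LocSect.compact g' η i
  obtain ⟨c, χ, hχ⟩ := exists_map_eq_top (D g' η) (LocSect.c g' η) (LocSect.isLimit g' η) Im hIm
  -- the refinement
  let Wb := (Nbhds.nbhd Y' η).obj b
  let Wc := (Nbhds.nbhd Y' η).obj c
  let ab : (Kb.toScheme) ⟶ Wb.left := Kb.ι ≫ pullback.fst Wb.hom f₁
  let tr : Wc.left ⟶ Wb.left := (Nbhds.diag Y' η).map χ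
  let π : pullback ab tr ⟶ Wc.left := pullback.snd ab tr
  haveI : Etale Wc.hom := Wc.prop
  haveI : IsAffine Wb.left := Nbhds.isAffine_nbhd Y' η b
  haveI : IsAffine ((D f₁ η).obj b) := @Scheme.Pullback.isAffine_of_isAffine_isAffine_isAffine _ _ _ Wb.hom f₁
      (Nbhds.isAffine_nbhd Y' η b) inferInstance ‹IsAffine Y'›
  haveI : CompactSpace ↥Kb.toScheme := isCompact_iff_compactSpace.mp
    (QuasiCompact.isCompact_preimage (f := (D f₁ η).map ψ) _ Va.2 hVa)
  haveI : QuasiCompact ab := (quasiCompact_iff_compactSpace ab).2 inferInstance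
  haveI : Flat (pullback.fst Wb.hom f₁) := MorphismProperty.pullback_fst _ _ ‹Flat f₁›
  haveI : Flat ab := inferInstance
  haveI : Flat π := MorphismProperty.pullback_snd _ _ ‹Flat ab›
  haveI : QuasiCompact π := MorphismProperty.pullback_snd _ _ ‹QuasiCompact ab›
  haveI : Surjective π := ⟨fun w => by
    haveI : Surjective (pullback.fst Wc.hom g') := MorphismProperty.pullback_fst _ _ ‹Surjective g'›
    obtain ⟨y, hy⟩ := (pullback.fst Wc.hom g').surjective w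
    have hy' : (D g' η).map χ y ∈ Im := (SetLike.ext_iff.1 hχ y).2 trivial
    obtain ⟨k, hk, hke⟩ := hy'
    have e : ab.base ⟨k, hk⟩ = tr.base w := by
      change (pullback.fst Wb.hom f₁) k = tr w
      rw [← show mb ≫ pullback.fst Wb.hom g' = pullback.fst Wb.hom f₁ from pr_fst _ _ _ _ _ _,
        Scheme.Hom.comp_apply, ← hy]
      refine (congrArg (pullback.fst Wb.hom g').base hke).trans ?_
      exact congrArg (fun m : (D g' η).obj c ⟶ Wb.left => m y) (map_fst g' η χ)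
    obtain ⟨z, -, hz'⟩ := Scheme.Pullback.exists_preimage_pullback (f := ab) (g := tr) ⟨k, hk⟩ w e
    exact ⟨z, hz'⟩⟩
  let W : Y₁.Etale := Scheme.Etale.mk (Wc.hom ≫ iY)
  let rZ : pullback ab tr ⟶ Q.U.left := pullback.fst ab tr ≫ Kb.ι ≫ pullback.snd Wb.hom f₁
  have hw : (rZ ≫ Q.U.hom) ≫ g₁ = π ≫ W.hom := by
    change (rZ ≫ Q.U.hom) ≫ g₁ = pullback.snd ab tr ≫ Wc.hom ≫ iY
    rw [Category.assoc, hQ]
    simp only [rZ, Category.assoc]
    rw [← pullback.condition_assoc, ← show tr ≫ Wb.hom = Wc.hom from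
      Over.w ((Nbhds.nbhd Y' η).map χ).hom, Category.assoc tr, ← pullback.condition_assoc]
    simp only [ab, Category.assoc]
  obtain ⟨τ, hτ⟩ := exists_tau F' Q.U Q.t rZ
  let k₀ := z₀ ≫ (LocSect.c f₁ η).π.app b
  have hk₀ : k₀.base default ∈ Kb := by
    rw [Scheme.Hom.comp_apply]
    change ((LocSect.c f₁ η).π.app b ≫ (D f₁ η).map ψ) _ ∈ Va
    rw [(LocSect.c f₁ η).w ψ]
    exact (SetLike.ext_iff.1 hVaK _).2 hz₀K
  have hr₀ : Set.range k₀.base ⊆ Set.range Kb.ι.base := by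
    rintro _ ⟨d, rfl⟩
    rw [Subsingleton.elim d default, Scheme.Opens.range_ι]
    exact hk₀
  let k₁ := IsOpenImmersion.lift Kb.ι k₀ hr₀
  have hk₁ : k₁ ≫ Kb.ι = k₀ := IsOpenImmersion.lift_fac _ _ _
  let ζ₀ : Spec (CommRingCat.of Ω) ⟶ pullback ab tr :=
    pullback.lift k₁ (LocMap.point η ≫ (Nbhds.cone Y' η).π.app c) (by
      rw [← Category.assoc, hk₁, Category.assoc z₀]
      refine (_ ≫= leg_fst f₁ η b).trans ?_
      rw [← Category.assoc, hz₀s, Category.assoc, (Nbhds.cone Y' η).w χ])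
  have hζ₀ : ζ₀ ≫ rZ = z₀ ≫ pullback.fst f₁ (LocMap.toBase η) := by
    rw [pullback.lift_fst_assoc, reassoc_of% hk₁]
    exact (Category.assoc _ _ _).trans (_ ≫= leg_snd f₁ η b)
  have hξ : ζ₀ ≫ rZ ≫ Q.U.hom = ξ ≫ j := by rw [← Category.assoc, hζ₀]; exact hz
  obtain ⟨q, t, ht, htg⟩ := EtDiscrete.exists_compat_of_submersive g₁ F' φ hφ W π
    (isUnivSubmersive_of_flat π) (rZ ≫ Q.U.hom) hw τ
    (fun Ω' _ _ η' z₁ z₂ e l₁ l₂ y₁ y₂ hy₁ hy₂ => by
      have h₁ : (z₁ ≫ rZ) ≫ Q.U.hom = z₁ ≫ rZ ≫ Q.U.hom := Category.assoc _ _ _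
      have h₂ : (z₂ ≫ rZ) ≫ Q.U.hom = z₂ ≫ rZ ≫ Q.U.hom := Category.assoc _ _ _
      have e₁' := (hτ Ω' z₁ _ rfl h₁).symm.trans hy₁
      have e₂' := (hτ Ω' z₂ _ rfl h₂).symm.trans hy₂
      rw [← (bijective_germUnit _ F' rfl).1 e₁', ← (bijective_germUnit _ F' rfl).1 e₂']
      refine (good_iff g₁ F' φ h₁ h₂ l₁ l₂).1 ?_
      let p₁ := z₁ ≫ pullback.fst ab tr ≫ Kb.ι
      let p₂ := z₂ ≫ pullback.fst ab tr ≫ Kb.ι
      have hp : p₁ ≫ pullback.fst Wb.hom f₁ = p₂ ≫ pullback.fst Wb.hom f₁ := by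
        have := congrArg (· ≫ tr) e
        simp only [Category.assoc, π, ← pullback.condition] at this
        simpa only [p₁, p₂, ab, Category.assoc] using this
      have hc : ∀ p : Spec (CommRingCat.of Ω') ⟶ pullback Wb.hom f₁,
          (p ≫ pullback.snd Wb.hom f₁) ≫ f₁ = (p ≫ pullback.fst Wb.hom f₁) ≫ Wb.hom := fun p =>
        (Category.assoc _ _ _).trans ((p ≫= pullback.condition.symm).trans (Category.assoc _ _ _).symm)
      let d : Spec (CommRingCat.of Ω') ⟶ (D f₂ η).obj b :=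
        pullback.lift (p₁ ≫ pullback.fst Wb.hom f₁)
          (pullback.lift (p₁ ≫ pullback.snd Wb.hom f₁) (p₂ ≫ pullback.snd Wb.hom f₁)
            ((hc p₁).trans ((congrArg (· ≫ Wb.hom) hp).trans (hc p₂).symm)))
          ((hc p₁).symm.trans ((congrArg (· ≫ f₁) (pullback.lift_fst _ _ _).symm).trans (Category.assoc _ _ _)))
      have d₁ : d ≫ pr f₂ f₁ η u₁ hu₁ b = p₁ := by
        refine pullback.hom_ext ?_ ?_
        · rw [Category.assoc, pr_fst, pullback.lift_fst]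
        · rw [Category.assoc, pr_snd, pullback.lift_snd_assoc, pullback.lift_fst]
      have d₂ : d ≫ pr f₂ f₁ η u₂ hu₂ b = p₂ := by
        refine pullback.hom_ext ?_ ?_
        · rw [Category.assoc, pr_fst, pullback.lift_fst, hp]
        · rw [Category.assoc, pr_snd, pullback.lift_snd_assoc, pullback.lift_snd]
      have hin : ∀ z : Spec (CommRingCat.of Ω') ⟶ pullback ab tr,
          (z ≫ pullback.fst ab tr ≫ Kb.ι).base default ∈ Kb := fun z => by
        rw [← Category.assoc, Scheme.Hom.comp_apply]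
        exact ((z ≫ pullback.fst ab tr).base default).2
      have hK : d.base default ∈ (D f₂ η).map ψ ⁻¹ᵁ K₂ := by
        refine ⟨?_, ?_⟩
        · change (d ≫ (D f₂ η).map ψ ≫ pr f₂ f₁ η u₁ hu₁ a).base default ∈ Va
          rw [map_pr, ← Category.assoc, d₁]
          exact hin z₁
        · change (d ≫ (D f₂ η).map ψ ≫ pr f₂ f₁ η u₂ hu₂ a).base default ∈ Va
          rw [map_pr, ← Category.assoc, d₂]
          exact hin z₂
      have hO' : (d ≫ (D f₂ η).map ψ ≫ sa).base default ∈ O := hψ hK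
      have hsnd : d ≫ (D f₂ η).map ψ ≫ sa = d ≫ pullback.snd Wb.hom f₂ ≫ μ := by
        refine congrArg (d ≫ ·) ?_
        exact (Category.assoc _ _ _).symm.trans (congrArg (· ≫ μ) (map_snd f₂ η ψ))
      rw [hsnd] at hO'
      refine (hOmem Ω' _ (z₁ ≫ rZ) ?_ (z₂ ≫ rZ) ?_).1 hO'
      · rw [Category.assoc, Category.assoc, pullback.lift_fst, pullback.lift_snd_assoc, pullback.lift_fst]
        simp only [p₁, rZ, Category.assoc]
      · rw [Category.assoc, Category.assoc, pullback.lift_snd, pullback.lift_snd_assoc, pullback.lift_snd]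
        simp only [p₂, rZ, Category.assoc])
    ζ₀ (ξ ≫ j) hξ gg (by
      refine (hτ Ω ζ₀ _ hξ (by rw [hζ₀]; exact hz)).trans ?_
      refine congrArg (germUnit _ F' hξ) (Eq.trans ?_ hval)
      congr 1)
  exact ⟨W, q, t, ht, htg⟩

end Groth.Agent.Lib.EtSite.StrictStage
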