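import Groth.Agent.Lib.EtSite.SubDescent
import Mathlib.CategoryTheory.Sites.Subsheaf

/-!
Subsheaves of sheaves of sets on the small étale site: membership is local and can be tested on
stalks; descent of subsheaves along universally submersive morphisms.
-/

set_option autoImplicit false

universe u

open CategoryTheory CategoryTheory.Limits AlgebraicGeometry Opposite

noncomputable section

namespace Groth.Agent.Lib.EtSite.SubSheaf

open Groth.Agent.Lib.EtSite Groth.Agent.Lib.EtSite.Basic Groth.Agent.Lib.EtSite.SubDescent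
open Groth.Agent.Lib.EtSite.PushStalk

section

variable {Z : Scheme.{u}} {G F : EtDesc.Sh Z} (a : G ⟶ F)

theorem injective_app [Mono a] (V : Z.Etale) : Function.Injective (a.hom.app (op V)) := by
  have h : Mono ((sheafToPresheaf Z.smallEtaleTopology (Type (u + 1))).map a) := inferInstance
  exact (mono_iff_injective _).1 ((NatTrans.mono_iff_mono_app a.hom).1 h (op V))

theorem injective_stalk [Mono a] {Ω : Type u} [Field Ω] [IsSepClosed Ω]
    (ξ : Spec (CommRingCat.of Ω) ⟶ Z) : Function.Injective (stalkMap ξ a) :=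
  (mono_iff_injective _).1 (inferInstanceAs (Mono ((Scheme.pointSmallEtale ξ).sheafFiber.map a)))

/-- The locus where a section of `F` locally lies in `G`. -/
def locus {T : Z.Etale} (t : EtDesc.sect F T) : Set T.left :=
  {z | ∃ (W : Z.Etale) (b : W ⟶ T) (r : EtDesc.sect G W),
    a.hom.app (op W) r = F.obj.map b.op t ∧ z ∈ Set.range b.left.base}

theorem isOpen_locus {T : Z.Etale} (t : EtDesc.sect F T) : IsOpen (locus a t) := by
  rw [isOpen_iff_forall_mem_open]
  rintro x ⟨W, b, r, e, hx⟩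
  exact ⟨_, fun y hy => ⟨W, b, r, e, hy⟩, Fiber.isOpen_range_left b, hx⟩

theorem mem_locus_iff {T : Z.Etale} (t : EtDesc.sect F T) {Ω : Type u} [Field Ω] [IsSepClosed Ω]
    {ξ : Spec (CommRingCat.of Ω) ⟶ Z} (p : (Scheme.pointSmallEtale ξ).fiber.obj T) :
    fiberPt p ∈ locus a t ↔ germ ξ F p t ∈ Set.range (stalkMap ξ a) := by
  constructor
  · rintro ⟨W, b, r, e, w, hw⟩
    obtain ⟨q, hq, -⟩ := Fiber.exists_fiber_map ξ b p w hw
    refine ⟨germ ξ G q r, ?_⟩
    rw [stalkMap_germ, e, germ_map, hq]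
  · rintro ⟨x, hx⟩
    obtain ⟨V', q', r', rfl⟩ :=
      (Scheme.pointSmallEtale ξ).toPresheafFiber_jointly_surjective (P := G.obj) x
    let M := IsCofiltered.min ((Scheme.pointSmallEtale ξ).fiber.elementsMk T p)
      ((Scheme.pointSmallEtale ξ).fiber.elementsMk V' q')
    let g : M ⟶ (Scheme.pointSmallEtale ξ).fiber.elementsMk T p := IsCofiltered.minToLeft _ _
    let g' : M ⟶ (Scheme.pointSmallEtale ξ).fiber.elementsMk V' q' := IsCofiltered.minToRight _ _
    have hg : (Scheme.pointSmallEtale ξ).fiber.map g.1 M.2 = p := g.2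
    have hg' : (Scheme.pointSmallEtale ξ).fiber.map g'.1 M.2 = q' := g'.2
    have e : germ ξ F M.2 (F.obj.map g'.1.op (a.hom.app (op V') r')) =
        germ ξ F M.2 (F.obj.map g.1.op t) := by
      rw [germ_map, germ_map, hg, hg', ← stalkMap_germ]
      exact hx
    obtain ⟨W, b₀, q₀, hq₀, e₀⟩ :=
      ((Scheme.pointSmallEtale ξ).toPresheafFiber_eq_iff' M.1 M.2 _ _).1 e
    refine ⟨W, b₀ ≫ g.1, G.obj.map b₀.op (G.obj.map g'.1.op r'), ?_, fiberPt q₀, ?_⟩
    · rw [op_comp, Functor.map_comp]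
      refine (NatTrans.naturality_apply a.hom b₀.op _).trans ?_
      exact (congrArg (F.obj.map b₀.op) (NatTrans.naturality_apply a.hom g'.1.op r')).trans e₀
    · have hh : (Scheme.pointSmallEtale ξ).fiber.map (b₀ ≫ g.1) q₀ = p := by
        rw [Functor.map_comp, ConcreteCategory.comp_apply, hq₀, hg]
      exact (fiberPt_map _ q₀).symm.trans (congrArg fiberPt hh)

theorem mem_range_of_locus [Mono a] {T : Z.Etale} (t : EtDesc.sect F T)
    (h : ∀ z, z ∈ locus a t) : t ∈ Set.range (a.hom.app (op T)) := by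
  choose W b r e w hw using h
  have hG : Presieve.IsSheaf Z.smallEtaleTopology G.obj := (isSheaf_iff_isSheaf_of_type _ _).1 G.2
  have hS := (Presieve.isSheafFor_arrows_iff G.obj b).1
    ((Presieve.isSheafFor_iff_generate _).2 (hG _ (ofArrows_mem W b fun v => ⟨v, w v, hw v⟩)))
  obtain ⟨q, hq, -⟩ := hS r fun i j Z' gi gj hij => by
    apply injective_app a Z'
    refine (NatTrans.naturality_apply a.hom gi.op (r i)).trans
      (Eq.trans ?_ (NatTrans.naturality_apply a.hom gj.op (r j)).symm)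
    rw [e, e, ← ConcreteCategory.comp_apply, ← ConcreteCategory.comp_apply, ← Functor.map_comp,
      ← Functor.map_comp, ← op_comp, ← op_comp, hij]
  refine ⟨q, Stalk.sections_ext F _ _ fun x => ⟨W x, b x, ?_, w x, hw x⟩⟩
  exact (NatTrans.naturality_apply a.hom (b x).op q).symm.trans
    ((congrArg (a.hom.app (op (W x))) (hq x)).trans (e x))

theorem mem_range_of_germs [Mono a] {T : Z.Etale} (t : EtDesc.sect F T)
    (h : ∀ z : T.left, ∃ (Ω : Type u) (_ : Field Ω) (_ : IsSepClosed Ω)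
      (ξ : Spec (CommRingCat.of Ω) ⟶ Z) (p : (Scheme.pointSmallEtale ξ).fiber.obj T),
      fiberPt p = z ∧ germ ξ F p t ∈ Set.range (stalkMap ξ a)) :
    t ∈ Set.range (a.hom.app (op T)) := by
  refine mem_range_of_locus a t fun z => ?_
  obtain ⟨Ω, _, _, ξ, p, rfl, hp⟩ := h z
  exact (mem_locus_iff a t p).2 hp

end

variable {X S : Scheme.{u}} (f : X ⟶ S)

theorem fiberPt_liftPt {Ω : Type u} [Field Ω] [IsSepClosed Ω] {η : Spec (CommRingCat.of Ω) ⟶ S}
    {ξ : Spec (CommRingCat.of Ω) ⟶ X} (h : ξ ≫ f = η) (V : S.Etale)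
    (p : (Scheme.pointSmallEtale η).fiber.obj V) :
    (pullback.fst V.hom f).base (fiberPt (liftPt f h V p)) = fiberPt p :=
  congrArg (fun m : Spec (CommRingCat.of Ω) ⟶ V.left => m.base default)
    (pullback.lift_fst (fiberHom p) ξ ((fiberHom_comp p).trans h.symm))

/-- Subsheaves with the same inverse image are contained in one another. -/
theorem mem_range_of_pull (hf : EtDesc.IsUnivSubmersive f) {F G₁ G₂ : EtDesc.Sh S} (a₁ : G₁ ⟶ F)
    (a₂ : G₂ ⟶ F) [Mono a₂] (φ : (EtDesc.pullSh f).obj G₁ ⟶ (EtDesc.pullSh f).obj G₂)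
    (hφ : φ ≫ (EtDesc.pullSh f).map a₂ = (EtDesc.pullSh f).map a₁) (V : S.Etale)
    (s : EtDesc.sect G₁ V) : a₁.hom.app (op V) s ∈ Set.range (a₂.hom.app (op V)) := by
  refine mem_range_of_germs a₂ _ fun v => ?_
  obtain ⟨z, rfl⟩ := surjective_fst f hf V v
  obtain ⟨Ω, _, _, η, ξ, h, p, rfl⟩ := exists_geom f z
  obtain ⟨y, hy⟩ := (bijective_germUnit f G₂ h).2 (stalkMap ξ φ (germUnit f G₁ h (germ η G₁ p s)))
  refine ⟨Ω, inferInstance, inferInstance, η, p, (fiberPt_liftPt f h V p).symm, y, ?_⟩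
  apply (bijective_germUnit f F h).1
  rw [← stalkMap_germ η a₁ p s, ← germUnit_naturality, ← germUnit_naturality, hy,
    ← stalkMap_comp, hφ]

/-- The subsheaf of sections whose inverse image lies in a given subsheaf. -/
def descSub {F : EtDesc.Sh S} {G' : EtDesc.Sh X} (a' : G' ⟶ (EtDesc.pullSh f).obj F) :
    Subfunctor F.obj where
  obj V := {t | unitSh f F V.unop t ∈ Set.range (a'.hom.app (op ((EtCoh.bc f).obj V.unop)))}
  map {V W} i := by
    rintro t ⟨r, hr⟩
    refine ⟨G'.obj.map ((EtCoh.bc f).map i.unop).op r, ?_⟩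
    refine (NatTrans.naturality_apply a'.hom _ r).trans ?_
    exact (congrArg (((EtDesc.pullSh f).obj F).obj.map ((EtCoh.bc f).map i.unop).op) hr).trans
      (unitSh_map f F i.unop t).symm

theorem isSheaf_descSub {F : EtDesc.Sh S} {G' : EtDesc.Sh X}
    (a' : G' ⟶ (EtDesc.pullSh f).obj F) [Mono a'] :
    Presieve.IsSheaf S.smallEtaleTopology (descSub f a').toFunctor := by
  refine (Subfunctor.isSheaf_iff _ ((isSheaf_iff_isSheaf_of_type _ _).1 F.2)).2 fun V t ht => ?_
  refine mem_range_of_germs a' _ fun z => ?_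
  obtain ⟨Ω, _, _, η, ξ, h, p, rfl⟩ := exists_geom f z
  obtain ⟨W, g, hg, w, hw⟩ := (mem_topology_iff _).1 ht (fiberPt p)
  obtain ⟨q, hq, -⟩ := Fiber.exists_fiber_map η g p w hw
  refine ⟨Ω, inferInstance, inferInstance, ξ, _, rfl, ?_⟩
  rw [← germUnit_germ, ← hq, ← germ_map, germUnit_germ]
  obtain ⟨r, hr⟩ : unitSh f F W (F.obj.map g.op t) ∈
      Set.range (a'.hom.app (op ((EtCoh.bc f).obj W))) := hg
  exact ⟨germ ξ G' (liftPt f h W q) r, (stalkMap_germ ξ a' _ r).trans (congrArg _ hr)⟩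

/-- A subsheaf of the inverse image compatible with the canonical datum comes from the base. -/
theorem exists_descended (hf : EtDesc.IsUnivSubmersive f) (F : EtDesc.Sh S) (G' : EtDesc.Sh X)
    (a' : G' ⟶ (EtDesc.pullSh f).obj F) [Mono a']
    (φ : (EtDesc.pullSh (pullback.fst f f)).obj G' ≅ (EtDesc.pullSh (pullback.snd f f)).obj G')
    (hφ : φ.hom ≫ (EtDesc.pullSh (pullback.snd f f)).map a' =
      (EtDesc.pullSh (pullback.fst f f)).map a' ≫ (EtDesc.canIso f F).hom) :
    ∃ (G : EtDesc.Sh S) (a : G ⟶ F) (_ : Mono a) (ψ : (EtDesc.pullSh f).obj G ≅ G'),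
      ψ.hom ≫ a' = (EtDesc.pullSh f).map a := by
  classical
  have indep : ∀ (Ω : Type u) [Field Ω] [IsSepClosed Ω] (η : Spec (CommRingCat.of Ω) ⟶ S)
      (ξ₁ ξ₂ : Spec (CommRingCat.of Ω) ⟶ X) (h₁ : ξ₁ ≫ f = η) (h₂ : ξ₂ ≫ f = η) (c : stalk η F),
      germUnit f F h₁ c ∈ Set.range (stalkMap ξ₁ a') →
        germUnit f F h₂ c ∈ Set.range (stalkMap ξ₂ a') := by
    rintro Ω _ _ η ξ₁ ξ₂ h₁ h₂ c ⟨g, hg⟩
    have k₁ : pullback.lift ξ₁ ξ₂ (h₁.trans h₂.symm) ≫ pullback.fst f f = ξ₁ := pullback.lift_fst _ _ _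
    have k₂ : pullback.lift ξ₁ ξ₂ (h₁.trans h₂.symm) ≫ pullback.snd f f = ξ₂ := pullback.lift_snd _ _ _
    obtain ⟨g₂, hg₂⟩ := (bijective_germUnit (pullback.snd f f) G' k₂).2
      (stalkMap _ φ.hom (germUnit (pullback.fst f f) G' k₁ g))
    refine ⟨g₂, ?_⟩
    apply (bijective_germUnit (pullback.snd f f) ((EtDesc.pullSh f).obj F) k₂).1
    rw [← germUnit_naturality, hg₂, ← stalkMap_comp, hφ, stalkMap_comp, germUnit_naturality, hg,
      canIso_germUnit f F k₁ k₂ h₁ h₂]
  let G : EtDesc.Sh S :=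
    ⟨(descSub f a').toFunctor, (isSheaf_iff_isSheaf_of_type _ _).2 (isSheaf_descSub f a')⟩
  let aG : G ⟶ F := { hom := (descSub f a').ι }
  have : Mono ((sheafToPresheaf S.smallEtaleTopology (Type (u + 1))).map aG) :=
    inferInstanceAs (Mono (descSub f a').ι)
  have hmono : Mono aG := (sheafToPresheaf _ _).mono_of_mono_map this
  have hmem : ∀ (V : S.Etale) (t : EtDesc.sect G V),
      ∃ r, a'.hom.app (op ((EtCoh.bc f).obj V)) r = unitSh f F V (aG.hom.app (op V) t) :=
    fun V t => t.2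
  choose r hr using hmem
  let uG : G ⟶ (EtDesc.pushSh f).obj G' :=
    { hom :=
        { app := fun V => TypeCat.ofHom (r V.unop)
          naturality := fun V W g => by
            ext t
            apply injective_app a' ((EtCoh.bc f).obj W.unop)
            change a'.hom.app _ (r W.unop (G.obj.map g t)) =
              a'.hom.app _ (G'.obj.map ((EtCoh.bc f).map g.unop).op (r V.unop t))
            refine (hr _ _).trans ?_
            refine Eq.trans ?_ (NatTrans.naturality_apply a'.hom _ _).symm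
            rw [hr]
            exact (congrArg (unitSh f F W.unop) (NatTrans.naturality_apply aG.hom g t)).trans
              (unitSh_map f F g.unop _) } }
  let ψ₀ : (EtDesc.pullSh f).obj G ⟶ G' := ((EtDesc.adjSh f).homEquiv G G').symm uG
  have hψ : ψ₀ ≫ a' = (EtDesc.pullSh f).map aG := by
    apply ((EtDesc.adjSh f).homEquiv _ _).injective
    rw [Adjunction.homEquiv_naturality_right, Equiv.apply_symm_apply, Adjunction.homEquiv_unit,
      show (EtDesc.adjSh f).unit.app G ≫ (EtDesc.pushSh f).map ((EtDesc.pullSh f).map aG) =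
        aG ≫ (EtDesc.adjSh f).unit.app F from ((EtDesc.adjSh f).unit.naturality aG).symm]
    ext V t
    exact hr V.unop t
  have : IsIso ψ₀ := by
    refine Stalk.isIso_of_stalks ψ₀ fun x => ?_
    let ξ := Push.algPoint X x
    refine ⟨_, inferInstance, inferInstance, ξ, Push.algPoint_apply X x default, ?_⟩
    have hcomp : ∀ y : stalk (ξ ≫ f) G, stalkMap ξ a' (stalkMap ξ ψ₀ (germUnit f G rfl y)) =
        germUnit f F rfl (stalkMap (ξ ≫ f) aG y) := fun y => by
      rw [← stalkMap_comp, hψ, germUnit_naturality]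
    constructor
    · intro y₁ y₂ e
      obtain ⟨z₁, rfl⟩ := (bijective_germUnit f G (rfl : ξ ≫ f = _)).2 y₁
      obtain ⟨z₂, rfl⟩ := (bijective_germUnit f G (rfl : ξ ≫ f = _)).2 y₂
      refine congrArg _ (injective_stalk aG (ξ ≫ f) ((bijective_germUnit f F rfl).1 ?_))
      rw [← hcomp, ← hcomp]
      exact congrArg (stalkMap ξ a') e
    · intro g
      obtain ⟨c, hc⟩ := (bijective_germUnit f F (rfl : ξ ≫ f = _)).2 (stalkMap ξ a' g)
      suffices hsuf : c ∈ Set.range (stalkMap (ξ ≫ f) aG) by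
        obtain ⟨y, rfl⟩ := hsuf
        exact ⟨germUnit f G rfl y, injective_stalk a' ξ ((hcomp y).trans hc)⟩
      obtain ⟨V, q, t, rfl⟩ :=
        (Scheme.pointSmallEtale (ξ ≫ f)).toPresheafFiber_jointly_surjective (P := F.obj) c
      obtain ⟨E, hE⟩ := exists_open_sub f hf V _ (isOpen_locus a' (unitSh f F V t))
        fun w₁ w₂ h12 hw₁ => by
          obtain ⟨Ω', _, _, η', ξ₁, ξ₂, h₁, h₂, p, rfl, rfl⟩ := exists_geom_pair f w₁ w₂ h12
          rw [mem_locus_iff, ← germUnit_germ] at hw₁ ⊢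
          exact indep Ω' η' ξ₁ ξ₂ h₁ h₂ _ hw₁
      have hqE : fiberPt q ∈ E := by
        rw [← fiberPt_liftPt f (rfl : ξ ≫ f = _) V q]
        refine (hE _).2 ((mem_locus_iff a' _ (liftPt f (rfl : ξ ≫ f = _) V q)).2 ?_)
        rw [← germUnit_germ, hc]
        exact ⟨g, rfl⟩
      have : Etale V.hom := V.prop
      let W₁ : S.Etale := Scheme.Etale.mk (E.ι ≫ V.hom)
      let e : W₁ ⟶ V := MorphismProperty.Over.homMk E.ι rfl
      obtain ⟨q₁, hq₁, -⟩ := Fiber.exists_fiber_map (ξ ≫ f) e q ⟨fiberPt q, hqE⟩ rfl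
      have ht : F.obj.map e.op t ∈ (descSub f a').obj (op W₁) := by
        refine mem_range_of_germs a' _ fun z => ?_
        obtain ⟨Ω', _, _, η', ξ', h', p', rfl⟩ := exists_geom f z
        refine ⟨Ω', inferInstance, inferInstance, ξ', _, rfl, ?_⟩
        rw [← germUnit_germ, germ_map, germUnit_germ]
        refine (mem_locus_iff a' _ (liftPt f h' V
          ((Scheme.pointSmallEtale η').fiber.map e p'))).1 ((hE _).1 ?_)
        rw [fiberPt_liftPt, fiberPt_map]
        exact (fiberPt p').2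
      refine ⟨germ (ξ ≫ f) G q₁ (⟨F.obj.map e.op t, ht⟩ : EtDesc.sect G W₁),
        (stalkMap_germ _ _ _ _).trans ?_⟩
      refine (germ_map (ξ ≫ f) F e q₁ t).trans ?_
      rw [hq₁]
  exact ⟨G, aG, hmono, asIso ψ₀, hψ⟩

end Groth.Agent.Lib.EtSite.SubSheaf
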