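import Groth.Agent.Lib.EtSite.AcyclicCrit
import Groth.Agent.Lib.EtSubmersive.Main
import Groth.Agent.Lib.EtSite.SetsFromAb
import Groth.Prelude.Def_EtAcyc
import Mathlib.AlgebraicGeometry.Morphisms.Flat
import Mathlib.AlgebraicGeometry.PullbackCarrier

/-!
Flat quasi-compact morphisms with connected geometric fibres are zero-acyclic.
-/

set_option autoImplicit false
set_option linter.style.haveILetI false

universe u

open CategoryTheory CategoryTheory.Limits CategoryTheory.Abelian AlgebraicGeometry Opposite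

noncomputable section

namespace Groth.Agent.Lib.EtSite.UnitIso

open Groth.Agent.Lib.EtSite Groth.Agent.H61.FieldCoh Groth.Agent.Lib.EtJ

theorem bijective_Hpull_zero {X Y : Scheme.{u}} (g : X ⟶ Y) (F : EtCoh.Ab Y)
    (h : Function.Bijective (((EtCoh.pullPushAdj g).unit.app F).hom.app (op (EtCoh.top Y)))) :
    Function.Bijective (EtCore.Hpull g F 0) := by
  have hc : Function.Bijective fun c : EtCoh.const Y ℤ ⟶ F => c ≫ (EtCoh.pullPushAdj g).unit.app F := by
    refine (Function.Bijective.of_comp_iff' (PullSec.elem Y _).bijective _).1 ?_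
    have : ((PullSec.elem Y _) ∘ fun c : EtCoh.const Y ℤ ⟶ F => c ≫ (EtCoh.pullPushAdj g).unit.app F) =
        (((EtCoh.pullPushAdj g).unit.app F).hom.app (op (EtCoh.top Y))) ∘ (PullSec.elem Y F) :=
      funext fun c => PullSec.elem_comp Y c _
    rw [this]
    exact h.comp (PullSec.elem Y F).bijective
  have hp : Function.Bijective fun x : EtCoh.H Y F 0 =>
      x.comp (Ext.mk₀ ((EtCoh.pullPushAdj g).unit.app F)) (add_zero 0) := by
    refine (Function.Bijective.of_comp_iff _ (Ext.mk₀_bijective _ _)).1 ?_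
    have : ((fun x : EtCoh.H Y F 0 => x.comp (Ext.mk₀ ((EtCoh.pullPushAdj g).unit.app F)) (add_zero 0)) ∘
        Ext.mk₀) = Ext.mk₀ ∘ fun c : EtCoh.const Y ℤ ⟶ F => c ≫ (EtCoh.pullPushAdj g).unit.app F :=
      funext fun c => Ext.mk₀_comp_mk₀ _ _
    rw [this]
    exact (Ext.mk₀_bijective _ _).comp hc
  exact (funext fun x => LowLeray.Hpull_eq_lam g F 0 x :
    (LowLeray.lam g ((EtCoh.pull g).obj F) 0 : _ → _) ∘ _ = EtCore.Hpull g F 0) ▸
      (LowLeray.lam_zero_bijective g _).comp hp

variable {X Y : Scheme.{u}} (g : X ⟶ Y) [Flat g] [QuasiCompact g]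
  (hc : ∀ (Ω : Type u) [Field Ω] [IsAlgClosed Ω] (s : Spec (CommRingCat.of Ω) ⟶ Y),
    ConnectedSpace ↥(pullback g s))

include hc in
omit [Flat g] [QuasiCompact g] in
theorem surjective_of_connected : Surjective g := ⟨fun s => by
  have := hc _ (Push.algPoint Y s)
  obtain ⟨z⟩ := (inferInstance : Nonempty ↥(pullback g (Push.algPoint Y s)))
  refine ⟨(pullback.fst g (Push.algPoint Y s)).base z, ?_⟩
  refine (congrArg (fun q : pullback g (Push.algPoint Y s) ⟶ Y => q.base z) pullback.condition).trans ?_
  exact Push.algPoint_apply Y s _⟩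

include hc in
theorem isIso_unit (F : EtCoh.Ab Y) : IsIso ((EtCoh.pullPushAdj g).unit.app F) := by
  haveI := surjective_of_connected g hc
  refine Stalk.isIso_of_app_bijective _ fun W => ?_
  have : Etale W.hom := W.prop
  let k := pullback.fst g W.hom
  let p := pullback.snd g W.hom
  have sq : IsPullback k p g W.hom := IsPullback.of_hasPullback g W.hom
  have : Etale k := MorphismProperty.of_isPullback (P := @Etale) sq.flip W.prop
  haveI : Surjective p := MorphismProperty.of_isPullback (P := @Surjective) sq (surjective_of_connected g hc)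
  have hcp : ∀ (Ω : Type u) [Field Ω] [IsAlgClosed Ω] (s : Spec (CommRingCat.of Ω) ⟶ W.left),
      ConnectedSpace ↥(pullback p s) := fun Ω _ _ s => by
    have := hc Ω (s ≫ W.hom)
    exact (pullbackLeftPullbackSndIso g W.hom s).inv.homeomorph.surjective.connectedSpace
      (pullbackLeftPullbackSndIso g W.hom s).inv.homeomorph.continuous
  have h0 : Function.Bijective (EtCore.Hpull p ((EtCoh.pull W.hom).obj F) 0) :=
    bijective_Hpull_zero p _ (EtSubmersive.Main.bijective_unit p ((EtCoh.pull W.hom).obj F)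
      (fun S' g' =>
        haveI : Surjective (pullback.snd p g') := MorphismProperty.of_isPullback (P := @Surjective) (IsPullback.of_hasPullback p g') ‹Surjective p›
        Flat.isQuotientMap_of_surjective (pullback.snd p g')) hcp)
  let η := (EtCoh.pullPushAdj g).unit.app F
  have hb := AcyclicCrit.bijective_unit_square g (j := W.hom) sq F h0
  have h1 : Function.Bijective fun c : free W.hom ⟶ F => c ≫ η := by
    refine (Function.Bijective.of_comp_iff' (hom W.hom _).bijective _).1 ?_
    refine Eq.mp (congrArg Function.Bijective (funext fun c => ?_)) (hb.comp (hom W.hom F).bijective)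
    exact (hom_comp W.hom c η).symm
  have h2 : Function.Bijective (η.hom.app (op (obj W.hom))) := by
    refine (Function.Bijective.of_comp_iff _ (ev W.hom F).bijective).1 ?_
    refine Eq.mp (congrArg Function.Bijective (funext fun c => ?_)) ((ev W.hom _).bijective.comp h1)
    exact ev_comp W.hom c η
  let a : obj W.hom ≅ W := MorphismProperty.Over.isoMk (Iso.refl W.left)
    (by change 𝟙 W.left ≫ W.hom = 𝟙 W.left ≫ W.hom; rfl)
  have : IsIso (η.hom.app (op (obj W.hom))) := (ConcreteCategory.isIso_iff_bijective _).2 h2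
  have : IsIso (η.hom.app (op W)) := (NatTrans.isIso_app_iff_of_iso η.hom a.op).2 ‹_›
  exact (ConcreteCategory.isIso_iff_bijective _).1 this

open Groth.Agent.Lib.PBC50.SetsExt (U toFree freeSh)
open Groth.Agent.Lib.PBC50.SetsBC (ψ ψ_unitSh)
open Groth.Agent.Lib.EtSite.Basic Groth.Agent.Lib.EtSite.PushStalk Groth.Agent.Lib.EtSite.SubDescent

/-- The unit for sheaves of sets follows from the abelian case. -/
theorem isIso_unitSh (hAb : ∀ A : EtCoh.Ab Y, IsIso ((EtCoh.pullPushAdj g).unit.app A))
    (F : EtDesc.Sh Y) : IsIso ((EtDesc.adjSh g).unit.app F) := by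
  have key : ∀ (A : EtCoh.Ab Y) (V : Y.Etale), Function.Bijective (unitSh g (U A) V) := fun A V => by
    haveI := hAb A
    have hb : Function.Bijective (HensClosed.unitAt g A V) :=
      ((ConcreteCategory.isIso_iff_bijective _).1 (inferInstance :
        IsIso (((sheafToPresheaf _ _).map ((EtCoh.pullPushAdj g).unit.app A)).app (op V))))
    haveI : Mono (ψ g A) := SetsFromAb.mono_ψ (g' := g) A
    have hψ : Function.Injective ((ψ g A).hom.app (op ((EtCoh.bc g).obj V))) := by
      haveI : Mono ((ψ g A).hom) := inferInstanceAs (Mono ((sheafToPresheaf _ _).map (ψ g A)))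
      haveI : Mono ((ψ g A).hom.app (op ((EtCoh.bc g).obj V))) := inferInstance
      exact (mono_iff_injective _).1 inferInstance
    have h2 : Function.Bijective
        ((ψ g A).hom.app (op ((EtCoh.bc g).obj V)) ∘ unitSh g (U A) V) := by
      rw [show ((ψ g A).hom.app (op ((EtCoh.bc g).obj V)) ∘ unitSh g (U A) V : _ → _) =
        HensClosed.unitAt g A V from funext fun s => ψ_unitSh g A V s]
      exact hb
    exact ⟨h2.1.of_comp, fun t => (h2.2 ((ψ g A).hom.app _ t)).imp fun s hs => hψ hs⟩
  obtain ⟨H, a, b, hab, hsec⟩ := BCGerm.exists_of_regularMono (toFree F)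
  let φ := toFree F
  have hmono : ∀ {G G' : EtDesc.Sh Y} (m : G ⟶ G') [Mono m] (V : Y.Etale),
      Function.Injective (m.hom.app (op V)) := fun m _ V => by
    haveI : Mono m.hom := inferInstanceAs (Mono ((sheafToPresheaf _ _).map m))
    exact (mono_iff_injective _).1 inferInstance
  haveI : Mono ((EtDesc.pullSh g).map φ) := SetsFromAb.mono_of_injective_stalk _ fun Ω _ _ ξ x y e => by
    obtain ⟨x₀, rfl⟩ := (bijective_germUnit g F (rfl : ξ ≫ g = _)).2 x
    obtain ⟨y₀, rfl⟩ := (bijective_germUnit g F (rfl : ξ ≫ g = _)).2 y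
    rw [germUnit_naturality, germUnit_naturality] at e
    rw [SubSheaf.injective_stalk φ _ ((bijective_germUnit g _ rfl).1 e)]
  have nat : ∀ {G G' : EtDesc.Sh Y} (m : G ⟶ G') (V : Y.Etale) (s : EtDesc.sect G V),
      unitSh g G' V (m.hom.app (op V) s) =
        ((EtDesc.pullSh g).map m).hom.app (op ((EtCoh.bc g).obj V)) (unitSh g G V s) := fun m V s =>
    congrArg (fun χ : _ ⟶ (EtDesc.pushSh g).obj _ => χ.hom.app (op V) s)
      ((EtDesc.adjSh g).unit.naturality m)
  have hbij : ∀ V, Function.Bijective (unitSh g F V) := fun V => by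
    refine ⟨fun s s' e => hmono φ V ((key _ V).1 ?_), fun t => ?_⟩
    · rw [nat, nat, e]
    · obtain ⟨c, hc⟩ := (key (freeSh F) V).2 (((EtDesc.pullSh g).map φ).hom.app _ t)
      have e1 : a.hom.app (op V) c = b.hom.app (op V) c := hmono (toFree H) V ((key _ V).1 (by
        rw [nat, nat, nat, nat, hc]
        have hh := congrArg (fun m => (((EtDesc.pullSh g).map m).hom.app (op ((EtCoh.bc g).obj V)) t)) hab
        simp only [Functor.map_comp] at hh
        exact congrArg (fun z => ((EtDesc.pullSh g).map (toFree H)).hom.app (op ((EtCoh.bc g).obj V)) z) hh))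
      obtain ⟨r, hr⟩ := hsec V c e1
      refine ⟨r, ?_⟩
      haveI : Mono (((EtDesc.pullSh g).map φ).hom) :=
        inferInstanceAs (Mono ((sheafToPresheaf _ _).map ((EtDesc.pullSh g).map φ)))
      refine (mono_iff_injective (((EtDesc.pullSh g).map φ).hom.app (op ((EtCoh.bc g).obj V)))).1
        inferInstance ?_
      rw [← nat, hr, hc]
  haveI : IsIso ((sheafToPresheaf _ _).map ((EtDesc.adjSh g).unit.app F)) :=
    haveI : ∀ V, IsIso (((sheafToPresheaf _ _).map ((EtDesc.adjSh g).unit.app F)).app V) := fun V =>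
      (ConcreteCategory.isIso_iff_bijective _).2 (hbij V.unop)
    NatIso.isIso_of_isIso_app _
  exact isIso_of_reflects_iso _ (sheafToPresheaf _ _)

include hc in
theorem isZeroAcyclic : EtAcyc.IsZeroAcyclic g := by
  intro V F
  have sq := (IsPullback.of_hasPullback V.hom g).flip
  haveI : Flat (EtAcyc.prj g V) := MorphismProperty.of_isPullback (P := @Flat) sq ‹_›
  haveI : QuasiCompact (EtAcyc.prj g V) := MorphismProperty.of_isPullback (P := @QuasiCompact) sq ‹_›
  refine isIso_unitSh _ (fun A => isIso_unit (EtAcyc.prj g V) (fun Ω _ _ s => ?_) A) F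
  have := hc Ω (s ≫ V.hom)
  let i : pullback (EtAcyc.prj g V) s ≅ pullback g (s ≫ V.hom) :=
    ((IsPullback.of_hasPullback (EtAcyc.prj g V) s).paste_horiz (IsPullback.of_hasPullback V.hom g).flip).isoPullback
  exact i.inv.homeomorph.surjective.connectedSpace i.inv.homeomorph.continuous

end Groth.Agent.Lib.EtSite.UnitIso
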