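import Groth.Agent.Lib.Unram.EtaleSplit
import Mathlib.FieldTheory.IsAlgClosed.Basic
import Mathlib.FieldTheory.IntermediateField.Adjoin.Basic
import Mathlib.RingTheory.Ideal.GoingUp
import Mathlib.RingTheory.Unramified.LocalStructure
import Mathlib.RingTheory.TensorProduct.Pi
import Mathlib.RingTheory.Idempotents
import Mathlib.RingTheory.Localization.Finiteness

/-!
# Finite unramified algebras split into closed pieces on an etale neighbourhood
-/

universe u

open TensorProduct

namespace Groth.Agent.Lib.EtSite.UnramSplit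

/-- A decomposition of an algebra into pieces on which the base surjects. -/
def IsSplit (R T : Type u) [CommRing R] [CommRing T] [Algebra R T] {m : ℕ} (e : Fin m → T) : Prop :=
  CompleteOrthogonalIdempotents e ∧ ∀ j t, ∃ r : R, e j * t = algebraMap R T r * e j

theorem IsSplit.map {R T T' : Type u} [CommRing R] [CommRing T] [Algebra R T] [CommRing T']
    [Algebra R T'] {m : ℕ} {e : Fin m → T} (h : IsSplit R T e) (g : T ≃ₐ[R] T') :
    IsSplit R T' fun j => g (e j) := by
  refine ⟨h.1.map g.toAlgHom.toRingHom, fun j t => ?_⟩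
  obtain ⟨r, hr⟩ := h.2 j (g.symm t)
  exact ⟨r, by simpa using congrArg g hr⟩

theorem IsSplit.cons {R P Q : Type u} [CommRing R] [CommRing P] [Algebra R P] [CommRing Q] [Algebra R Q]
    (hP : Function.Surjective (algebraMap R P)) {m : ℕ} {e : Fin m → Q} (h : IsSplit R Q e) :
    IsSplit R (P × Q) (Fin.cons (1, 0) fun j => (0, e j)) := by
  refine ⟨⟨⟨fun i => ?_, fun i j hij => ?_⟩, ?_⟩, fun i t => ?_⟩
  · refine Fin.cases ?_ (fun i => ?_) i
    · simp [IsIdempotentElem, Prod.mk_mul_mk]
    · simp [IsIdempotentElem, Prod.mk_mul_mk, (h.1.idem i).eq]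
  · revert hij
    refine Fin.cases ?_ (fun i => ?_) i <;> refine Fin.cases ?_ (fun j => ?_) j
    · intro h'; exact absurd rfl h'
    · intro _; simp [Prod.mk_mul_mk]
    · intro _; simp [Prod.mk_mul_mk]
    · intro h'
      simpa [Prod.mk_mul_mk] using h.1.ortho (fun hh => h' (congrArg Fin.succ hh))
  · rw [Fin.sum_univ_succ]
    refine Prod.ext ?_ ?_
    · simp [Prod.fst_sum]
    · simp [Prod.snd_sum, h.1.complete]
  · refine Fin.cases ?_ (fun i => ?_) i
    · obtain ⟨r, hr⟩ := hP t.1
      exact ⟨r, Prod.ext (by simp [hr]) (by simp)⟩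
    · obtain ⟨r, hr⟩ := h.2 i t.2
      exact ⟨r, Prod.ext (by simp) (by simpa using hr)⟩

theorem surjective_baseChange {R A B : Type u} [CommRing R] [CommRing A] [CommRing B] [Algebra R A]
    [Algebra R B] (h : Function.Surjective (algebraMap R B)) :
    Function.Surjective (algebraMap A (A ⊗[R] B)) := fun z => by
  induction z using TensorProduct.induction_on with
  | zero => exact ⟨0, map_zero _⟩
  | tmul a b =>
    obtain ⟨r, rfl⟩ := h b
    refine ⟨r • a, ?_⟩
    rw [Algebra.TensorProduct.algebraMap_apply, Algebra.algebraMap_self_apply, Algebra.algebraMap_eq_smul_one,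
      TensorProduct.tmul_smul, TensorProduct.smul_tmul']
  | add x y hx hy =>
    obtain ⟨a, rfl⟩ := hx
    obtain ⟨b, rfl⟩ := hy
    exact ⟨a + b, map_add _ _ _⟩

variable (Ω : Type u) [Field Ω] [IsAlgClosed Ω]

theorem exists_kill (R S : Type u) [CommRing R] [CommRing S] [Algebra R S] [Algebra R Ω]
    [Module.Finite R S] (h : IsEmpty (S →ₐ[R] Ω)) :
    ∃ r : R, algebraMap R Ω r ≠ 0 ∧ algebraMap R S r = 0 := by
  by_contra hc
  push_neg at hc
  let p := RingHom.ker (algebraMap R Ω)
  have hp : RingHom.ker (algebraMap R S) ≤ p := fun r hr => by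
    by_contra hrp
    exact hc r hrp hr
  have : p.IsPrime := RingHom.ker_isPrime _
  obtain ⟨q, -, hq, hqp⟩ := Ideal.exists_ideal_over_prime_of_isIntegral (S := S) p ⊥ (by
    rwa [← RingHom.ker_eq_comap_bot])
  let : Algebra (R ⧸ p) (S ⧸ q) := (Ideal.quotientMap q (algebraMap R S) hqp.ge).toAlgebra
  let : Algebra (R ⧸ p) Ω := (RingHom.kerLift (algebraMap R Ω)).toAlgebra
  have : IsScalarTower R (R ⧸ p) (S ⧸ q) := IsScalarTower.of_algebraMap_eq fun r => rfl
  have : IsScalarTower R (R ⧸ p) Ω := IsScalarTower.of_algebraMap_eq fun r => rfl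
  have : FaithfulSMul (R ⧸ p) Ω := (faithfulSMul_iff_algebraMap_injective _ _).2
    (RingHom.kerLift_injective (algebraMap R Ω))
  have : FaithfulSMul (R ⧸ p) (S ⧸ q) := (faithfulSMul_iff_algebraMap_injective _ _).2
    (Ideal.quotientMap_injective' hqp.le)
  have : Algebra.IsIntegral R (S ⧸ q) := inferInstance
  have : Algebra.IsIntegral (R ⧸ p) (S ⧸ q) := Algebra.IsIntegral.tower_top R
  have : Algebra.IsAlgebraic (R ⧸ p) (S ⧸ q) := inferInstance
  let τ : S ⧸ q →ₐ[R ⧸ p] Ω := IsAlgClosed.lift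
  exact h.elim ((τ.restrictScalars R).comp (Ideal.Quotient.mkₐ R q))

set_option maxHeartbeats 1000000 in
theorem exists_split : ∀ (n : ℕ) (R S : Type u) [CommRing R] [CommRing S] [Algebra R S] [Algebra R Ω]
    [Module.Finite R S] [Algebra.FormallyUnramified R S], Nat.card (S →ₐ[R] Ω) = n →
    ∃ (R' : Type u) (_ : CommRing R') (_ : Algebra R R') (_ : Algebra.Etale R R') (_ : R' →ₐ[R] Ω)
      (m : ℕ) (e : Fin m → R' ⊗[R] S), IsSplit R' (R' ⊗[R] S) e := by
  intro n
  induction n using Nat.strong_induction_on with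
  | _ n ih =>
  intro R S _ _ _ _ _ _ hn
  rcases isEmpty_or_nonempty (S →ₐ[R] Ω) with h0 | ⟨⟨σ⟩⟩
  · obtain ⟨r, hr, hrS⟩ := exists_kill Ω R S h0
    let R' := Localization.Away r
    let ψ : R' →ₐ[R] Ω := IsLocalization.liftAlgHom (M := Submonoid.powers r) (f := Algebra.ofId R Ω)
      fun y => by
        obtain ⟨k, hk⟩ := y.2
        rw [← hk, map_pow]
        exact (isUnit_iff_ne_zero.2 hr).pow k
    have : Subsingleton (R' ⊗[R] S) := subsingleton_iff_zero_eq_one.1 (by
      have h1 : IsUnit (algebraMap R R' r) := IsLocalization.Away.algebraMap_isUnit r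
      have h2 := h1.map (algebraMap R' (R' ⊗[R] S))
      rw [← IsScalarTower.algebraMap_apply,
        ← (Algebra.TensorProduct.includeRight (R := R) (A := R') (B := S)).commutes r] at h2
      rw [hrS, map_zero, isUnit_zero_iff] at h2
      exact h2)
    exact ⟨R', inferInstance, inferInstance, inferInstance, ψ, 0, Fin.elim0,
      ⟨⟨⟨fun i => i.elim0, fun i => i.elim0⟩, Subsingleton.elim _ _⟩, fun j => j.elim0⟩⟩
  let q := RingHom.ker σ.toRingHom
  have : q.IsPrime := RingHom.ker_isPrime _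
  have : Algebra.FormallyUnramified S (Localization.AtPrime q) := .of_isLocalization q.primeCompl
  have : Algebra.IsUnramifiedAt R q := Algebra.FormallyUnramified.comp R S (Localization.AtPrime q)
  obtain ⟨f, hfq, P, φ, hφ⟩ :=
    Algebra.IsUnramifiedAt.exists_hasStandardEtaleSurjectionOn (R := R) q
  let Sf := Localization.Away f
  let σf : Sf →ₐ[R] Ω :=
    { IsLocalization.Away.lift f (g := σ.toRingHom) (isUnit_iff_ne_zero.2 hfq) with
      commutes' := fun r => by
        show IsLocalization.Away.lift f (g := σ.toRingHom) _ (algebraMap R Sf r) = _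
        rw [IsScalarTower.algebraMap_apply R S Sf, IsLocalization.Away.lift_eq]
        exact σ.commutes r }
  have hσf : ∀ s, σf (algebraMap S Sf s) = σ s := fun s => IsLocalization.Away.lift_eq f (isUnit_iff_ne_zero.2 hfq) s
  let R₁ := P.Ring
  letI : Algebra R₁ Sf := φ.toRingHom.toAlgebra
  have : IsScalarTower R R₁ Sf := .of_algebraMap_eq fun r => (φ.commutes r).symm
  letI : Algebra R₁ Ω := (σf.comp φ).toRingHom.toAlgebra
  have : IsScalarTower R R₁ Ω := .of_algebraMap_eq fun r => ((σf.comp φ).commutes r).symm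
  obtain ⟨B, _, _, E, hE⟩ := Groth.Agent.Lib.Unram.EtaleSplit.exists_prod R S R₁ Sf hφ
  let pr : R₁ ⊗[R] S →ₐ[R₁] B := (AlgHom.snd R₁ Sf B).comp E.toAlgHom
  have hpr : Function.Surjective pr := fun b => ⟨E.symm (0, b), by simp [pr]⟩
  have : Module.Finite R₁ B := Module.Finite.of_surjective pr.toLinearMap hpr
  have : Algebra.FormallyUnramified R₁ B := Algebra.FormallyUnramified.of_surjective pr hpr
  let toS : (B →ₐ[R₁] Ω) → (S →ₐ[R] Ω) := fun τ =>
    ((τ.comp pr).restrictScalars R).comp Algebra.TensorProduct.includeRight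
  have hinj : Function.Injective toS := fun τ τ' h => by
    apply AlgHom.ext
    intro b
    obtain ⟨t, rfl⟩ := hpr b
    induction t using TensorProduct.induction_on with
    | zero => simp
    | tmul r s =>
      have hs : τ (pr (1 ⊗ₜ s)) = τ' (pr (1 ⊗ₜ s)) := DFunLike.congr_fun h s
      rw [show (r ⊗ₜ[R] s : R₁ ⊗[R] S) = r • (1 ⊗ₜ[R] s) by rw [TensorProduct.smul_tmul', smul_eq_mul, mul_one],
        map_smul, map_smul, map_smul, hs]
    | add x y hx hy => simp only [map_add, hx, hy]
  have hσ : σ ∉ Set.range toS := by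
    rintro ⟨τ, hτ⟩
    let g₁ : R₁ ⊗[R] S →ₐ[R₁] Ω :=
      (({ σf with commutes' := fun r => rfl } : Sf →ₐ[R₁] Ω).comp (AlgHom.fst R₁ Sf B)).comp E.toAlgHom
    have : g₁ = τ.comp pr := by
      apply AlgHom.ext
      intro t
      induction t using TensorProduct.induction_on with
      | zero => simp
      | tmul r s =>
        have hs : g₁ (1 ⊗ₜ s) = (τ.comp pr) (1 ⊗ₜ s) := by
          have h1 : g₁ (1 ⊗ₜ s) = σ s := by
            show σf (E (1 ⊗ₜ[R] s)).1 = σ s
            rw [hE, hσf]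
          rw [h1, ← hτ]
          rfl
        rw [show (r ⊗ₜ[R] s : R₁ ⊗[R] S) = r • (1 ⊗ₜ[R] s) by rw [TensorProduct.smul_tmul', smul_eq_mul, mul_one],
          map_smul, map_smul, hs]
      | add x y hx hy => simp only [map_add, hx, hy]
    have := DFunLike.congr_fun this (E.symm (1, 0))
    simp [g₁, pr] at this
  have hlt : Nat.card (B →ₐ[R₁] Ω) < n := by
    rw [← hn]
    have := Fintype.ofFinite (S →ₐ[R] Ω)
    have := Fintype.ofInjective toS hinj
    rw [Nat.card_eq_fintype_card, Nat.card_eq_fintype_card]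
    exact Fintype.card_lt_of_injective_of_notMem toS hinj hσ
  obtain ⟨R₂, _, _, _, ψ₂, m, e, he⟩ := ih _ hlt R₁ B rfl
  letI : Algebra R R₂ := Algebra.compHom R₂ (algebraMap R R₁)
  have : IsScalarTower R R₁ R₂ := .of_algebraMap_eq fun r => rfl
  have : Algebra.Etale R R₂ := Algebra.Etale.comp R R₁ R₂
  let Φ : R₂ ⊗[R] S ≃ₐ[R₂] (R₂ ⊗[R₁] Sf) × (R₂ ⊗[R₁] B) :=
    ((Algebra.TensorProduct.cancelBaseChange R R₁ R₂ R₂ S).symm.trans
      (Algebra.TensorProduct.congr AlgEquiv.refl E)).trans (Algebra.TensorProduct.prodRight R₁ R₂ R₂ Sf B)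
  exact ⟨R₂, inferInstance, inferInstance, inferInstance, ψ₂.restrictScalars R, m + 1, _,
    (IsSplit.cons (surjective_baseChange hφ) he).map Φ.symm⟩

end Groth.Agent.Lib.EtSite.UnramSplit
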