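import Groth.Prelude.Def_EtAcyc
import Groth.Prelude.Def_EtBCD
import Groth.Agent.Lib.EtSite.BaseChange
import Groth.Agent.Lib.EtSite.SubDescent
import Groth.Agent.Lib.EtSite.SubSheaf
import Groth.Agent.Lib.EtSite.DisjointCover
import Mathlib.Topology.LocallyConstant.Basic

/-!
Zero-acyclic morphisms preserve connectedness after base change along an integral morphism to an
etale scheme over the base.
-/

set_option autoImplicit false
set_option backward.isDefEq.respectTransparency false
set_option linter.style.haveILetI false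

universe u

open CategoryTheory CategoryTheory.Limits AlgebraicGeometry Opposite

noncomputable section

namespace Groth.Agent.Lib.EtSite.ZeroAcycConn

open Groth.Agent.Lib.EtSite Groth.Agent.Lib.EtSite.Basic Groth.Agent.Lib.EtSite.SubDescent
open Groth.Agent.Lib.EtSite.PushStalk Groth.Agent.Lib.EtSite.DisjointCover

/-- The presheaf of locally constant `Bool`-valued functions. -/
def lcPresheaf (Y : Scheme.{u}) : Y.Etaleᵒᵖ ⥤ Type (u + 1) where
  obj T := ULift.{u + 1} (LocallyConstant T.unop.left Bool)
  map {T T'} a := ↾fun F => ⟨F.down.comap ⟨a.unop.left.base, a.unop.left.continuous⟩⟩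

theorem isSheaf_lcPresheaf (Y : Scheme.{u}) :
    Presheaf.IsSheaf Y.smallEtaleTopology (lcPresheaf Y) := by
  rw [isSheaf_iff_isSheaf_of_type]
  intro U R hR x hx
  classical
  choose V f hf v hv using fun u : U.left => (mem_topology_iff R).1 hR u
  let val : U.left → Bool := fun u => (x (f u) (hf u)).down (v u)
  have key : ∀ {T : Y.Etale} (g : T ⟶ U) (hg : R g) (z : T.left), (x g hg).down z = val (g.left.base z) := by
    intro T g hg z
    let t := g.left.base z
    obtain ⟨W, a, b, w, hab, hw⟩ : ∃ (W : Y.Etale) (a : W ⟶ V t) (b : W ⟶ T) (w : W.left),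
        a ≫ f t = b ≫ g ∧ (a.left.base w = v t ∧ b.left.base w = z) := by
      obtain ⟨w₀, ha, hb⟩ := Scheme.Pullback.exists_preimage_pullback
        (f := (f t).left) (g := g.left) (v t) z (hv t)
      have := Fiber.etale_left g
      have : Etale (V t).hom := (V t).prop
      let W : Y.Etale := MorphismProperty.Over.mk ⊤ (pullback.fst (f t).left g.left ≫ (V t).hom)
        (show Etale _ from inferInstance)
      refine ⟨W, MorphismProperty.Over.homMk (pullback.fst (f t).left g.left) rfl,
        MorphismProperty.Over.homMk (pullback.snd (f t).left g.left)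
          ((_ ≫= (Over.w g.hom :).symm).trans ((Category.assoc _ _ _).symm.trans
            ((congrArg (· ≫ U.hom) pullback.condition.symm).trans ((Category.assoc _ _ _).trans
              (_ ≫= (Over.w (f t).hom :)))))), w₀,
        MorphismProperty.Over.Hom.ext pullback.condition, ha, hb⟩
    have h1 := congrArg (fun F => F.down w) (hx a b (hf t) hg hab)
    change (x (f t) (hf t)).down (a.left.base w) = (x g hg).down (b.left.base w) at h1
    rw [hw.1, hw.2] at h1
    exact h1.symm
  have hlc : IsLocallyConstant val := by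
    refine (IsLocallyConstant.iff_exists_open val).2 fun u => ?_
    haveI := Fiber.etale_left (f u)
    refine ⟨(f u).left.base '' {w | (x (f u) (hf u)).down w = val u},
      (f u).left.isOpenMap _ (((x (f u) (hf u)).down).isLocallyConstant.isOpen_fiber _),
      ⟨v u, rfl, hv u⟩, ?_⟩
    rintro _ ⟨w, hw, rfl⟩
    exact (key (f u) (hf u) w).symm.trans hw
  refine ⟨⟨⟨val, hlc⟩⟩, fun T g hg => ULift.ext _ _ (LocallyConstant.ext fun z => (key g hg z).symm),
    fun y hy => ULift.ext _ _ (LocallyConstant.ext fun u => ?_)⟩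
  refine Eq.trans (congrArg (fun a => y.down a) (hv u).symm) ?_
  exact congrArg (fun F => F.down (v u)) (hy (f u) (hf u))

/-- The sheaf of locally constant `Bool`-valued functions. -/
def lcSheaf (Y : Scheme.{u}) : EtDesc.Sh Y := ⟨lcPresheaf Y, isSheaf_lcPresheaf Y⟩

/-- The constant section. -/
def cst {Y : Scheme.{u}} (U : Y.Etale) (b : Bool) : EtDesc.sect (lcSheaf Y) U :=
  ⟨LocallyConstant.const _ b⟩

theorem germ_eq {Y : Scheme.{u}} {Ω : Type u} [Field Ω] [IsSepClosed Ω]
    (η : Spec (CommRingCat.of Ω) ⟶ Y) {U : Y.Etale} (p : (Scheme.pointSmallEtale η).fiber.obj U)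
    (s t : EtDesc.sect (lcSheaf Y) U) :
    germ η (lcSheaf Y) p s = germ η (lcSheaf Y) p t ↔ s.down (fiberPt p) = t.down (fiberPt p) := by
  constructor
  · intro e
    obtain ⟨W, a, ha, w, hw⟩ := (BaseChange.toPresheafFiber_eq_iff_mem (lcSheaf Y).obj U s t p).1 e
    have h := congrArg (fun F => F.down w) ha
    change s.down (a.left.base w) = t.down (a.left.base w) at h
    rwa [hw] at h
  · intro e
    refine (BaseChange.toPresheafFiber_eq_iff_mem (lcSheaf Y).obj U s t p).2 ?_
    let O : U.left.Opens := ⟨{z | s.down z = s.down (fiberPt p)} ∩ {z | t.down z = t.down (fiberPt p)},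
      (s.down.isLocallyConstant.isOpen_fiber _).inter (t.down.isLocallyConstant.isOpen_fiber _)⟩
    haveI : Etale U.hom := U.prop
    refine ⟨Scheme.Etale.mk (O.ι ≫ U.hom), MorphismProperty.Over.homMk O.ι rfl,
      ULift.ext _ _ (LocallyConstant.ext fun z => ?_), ⟨fiberPt p, rfl, rfl⟩, rfl⟩
    exact z.2.1.trans (e.trans z.2.2.symm)

theorem connectedSpace_of_bijective {Z D : Scheme.{u}} (μ : Z ⟶ D) [ConnectedSpace D]
    (hμ : ∀ F : EtDesc.Sh D, Function.Bijective (unitSh μ F (EtCoh.top D))) : ConnectedSpace Z := by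
  classical
  let F := lcSheaf D
  let G := (EtDesc.pullSh μ).obj F
  have hne : Nonempty Z := by
    by_contra hem
    obtain ⟨d⟩ := (inferInstance : Nonempty D)
    have e : unitSh μ F (EtCoh.top D) (cst _ true) = unitSh μ F (EtCoh.top D) (cst _ false) :=
      Stalk.sections_ext G _ _ fun z => (hem ⟨((EtCoh.bc μ).obj (EtCoh.top D)).hom.base z⟩).elim
    exact Bool.noConfusion (congrArg (fun G : EtDesc.sect F (EtCoh.top D) => G.down (d : D)) ((hμ F).1 e))
  haveI : PreconnectedSpace Z := by
    rw [preconnectedSpace_iff_clopen]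
    intro C hC
    let W : Z.Etale := (EtCoh.bc μ).obj (EtCoh.top D)
    let C' : Bool → Set W.left := fun b => {w | decide (W.hom.base w ∈ C) = b}
    have hC' : ∀ b, IsOpen (C' b) := fun b => by
      cases b
      · have : C' false = W.hom.base ⁻¹' Cᶜ := Set.ext fun w => by simp [C']
        rw [this]; exact hC.1.isOpen_compl.preimage W.hom.continuous
      · have : C' true = W.hom.base ⁻¹' C := Set.ext fun w => by simp [C']
        rw [this]; exact hC.2.preimage W.hom.continuous
    haveI : Etale W.hom := W.prop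
    let O : ULift.{u} Bool → Z.Etale := fun b =>
      Scheme.Etale.mk (Scheme.Opens.ι (X := W.left) ⟨C' b.down, hC' _⟩ ≫ W.hom)
    let o : ∀ b, O b ⟶ W := fun b =>
      MorphismProperty.Over.homMk (Scheme.Opens.ι (X := W.left) ⟨C' b.down, hC' _⟩) rfl
    have hcov : IsDisjointCover O o :=
      ⟨fun b => inferInstanceAs (IsOpenImmersion (Scheme.Opens.ι (X := W.left) ⟨C' b.down, hC' _⟩)),
        fun w => ⟨⟨decide (W.hom.base w ∈ C)⟩, ⟨w, rfl⟩, rfl⟩,
        fun i j x y e => ULift.ext _ _ (x.2.symm.trans ((congrArg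
          (fun w : W.left => decide (W.hom.base w ∈ C)) e).trans y.2))⟩
    obtain ⟨t, ht⟩ := hcov.exists_glue G fun b =>
      G.obj.map (o b).op (unitSh μ F (EtCoh.top D) (cst _ b.down))
    obtain ⟨s, hs⟩ := (hμ F).2 t
    have key : ∀ w : W.left, s.down ((pullback.fst (EtCoh.top D).hom μ).base w) =
        decide (W.hom.base w ∈ C) := by
      intro w
      obtain ⟨Ω, _, _, η, ξ, h, p, hp⟩ := exists_geom μ w
      subst hp
      let b : ULift.{u} Bool := ⟨decide (W.hom.base (fiberPt (liftPt μ h (EtCoh.top D) p)) ∈ C)⟩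
      obtain ⟨q, hq, -⟩ := Fiber.exists_fiber_map ξ (o b) (liftPt μ h (EtCoh.top D) p)
        ⟨fiberPt (liftPt μ h (EtCoh.top D) p), rfl⟩ rfl
      have e1 : germ ξ G (liftPt μ h (EtCoh.top D) p) t =
          germ ξ G (liftPt μ h (EtCoh.top D) p) (unitSh μ F (EtCoh.top D) (cst _ b.down)) := by
        rw [← hq, ← germ_map, ← germ_map]
        exact congrArg (germ ξ G q) (ht b)
      rw [← hs, ← germUnit_germ μ F h p, ← germUnit_germ μ F h p] at e1
      have e2 := (germ_eq η p _ _).1 ((bijective_germUnit μ F h).1 e1)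
      rw [SubSheaf.fiberPt_liftPt]
      exact e2
    have hconst : ∀ z z' : Z, decide (z ∈ C) = decide (z' ∈ C) := by
      intro z z'
      have hiso : Function.Surjective W.hom.base := fun z => by
        haveI : Surjective (EtCoh.top D).hom := inferInstanceAs (Surjective (𝟙 D))
        haveI : Surjective W.hom := MorphismProperty.pullback_snd (P := @Surjective) _ _ ‹_›
        exact W.hom.surjective z
      obtain ⟨w, rfl⟩ := hiso z
      obtain ⟨w', rfl⟩ := hiso z'
      haveI : PreconnectedSpace (EtCoh.top D).left := inferInstanceAs (PreconnectedSpace D)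
      rw [← key w, ← key w']
      exact s.down.apply_eq_of_preconnectedSpace _ _
    by_cases hz : ∃ z, z ∈ C
    · obtain ⟨z₀, hz₀⟩ := hz
      exact Or.inr (Set.eq_univ_of_forall fun z => by simpa [hz₀] using hconst z z₀)
    · exact Or.inl (Set.eq_empty_of_forall_notMem fun z hzC => hz ⟨z, hzC⟩)
  exact { toNonempty := hne }

theorem bijective_unitSh_of_iso {Z D : Scheme.{u}} (μ : Z ⟶ D) (F : EtDesc.Sh D) {U V : D.Etale}
    (i : U ≅ V) (h : Function.Bijective (unitSh μ F V)) : Function.Bijective (unitSh μ F U) := by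
  have e : unitSh μ F U = ((((EtDesc.pullSh μ).obj F).obj.mapIso ((EtCoh.bc μ).mapIso i).op).hom) ∘
      unitSh μ F V ∘ (F.obj.mapIso i.op).inv := funext fun s => by
    refine Eq.trans ?_ (unitSh_map μ F i.hom _)
    refine congrArg (unitSh μ F U) ?_
    exact (ConcreteCategory.congr_hom (F.obj.mapIso i.op).inv_hom_id s).symm
  rw [e]
  refine Function.Bijective.comp ((ConcreteCategory.isIso_iff_bijective _).1 inferInstance)
    (h.comp ((ConcreteCategory.isIso_iff_bijective _).1 inferInstance))

/-- Base change of a connected integral scheme over an etale scheme along a zero-acyclic morphism. -/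
theorem connectedSpace_pullback {X Y : Scheme.{u}} (h : X ⟶ Y) (h0 : EtAcyc.IsZeroAcyclic h)
    (V : Y.Etale) {D : Scheme.{u}} (ν : D ⟶ V.left) [IsIntegralHom ν] [ConnectedSpace D] :
    ConnectedSpace ↥(pullback ν (EtAcyc.prj h V)) := by
  let g := EtAcyc.prj h V
  refine connectedSpace_of_bijective (pullback.fst ν g) fun F => ?_
  have sq : IsPullback (pullback.fst ν g) (pullback.snd ν g) ν g := IsPullback.of_hasPullback ν g
  haveI := BaseChange.isIso_baseChange0Sh sq F
  haveI := h0 V ((EtDesc.pushSh ν).obj F)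
  let T := EtCoh.top V.left
  have hiso : IsIso (((EtDesc.adjSh g).homEquiv _ _)
      (EtBC.baseChange0Sh ν g (pullback.snd ν g) (pullback.fst ν g) sq.w F)) := by
    rw [Adjunction.homEquiv_unit]
    infer_instance
  have hh : ((EtDesc.adjSh g).homEquiv _ _)
      (EtBC.baseChange0Sh ν g (pullback.snd ν g) (pullback.fst ν g) sq.w F) =
      (EtDesc.pushSh ν).map ((EtDesc.adjSh (pullback.fst ν g)).unit.app F) ≫
      (EtDesc.pushCompSh ν (pullback.fst ν g)).hom.app _ ≫
      (EtBC.pushCongrSh sq.w).hom.app _ ≫ (EtDesc.pushCompSh g (pullback.snd ν g)).inv.app _ :=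
    ((EtDesc.adjSh g).homEquiv _ _).apply_symm_apply _
  rw [hh] at hiso
  haveI := hiso
  have happ := NatIso.isIso_app_of_isIso ((sheafToPresheaf _ _).map
    ((EtDesc.pushSh ν).map ((EtDesc.adjSh (pullback.fst ν g)).unit.app F) ≫
      (EtDesc.pushCompSh ν (pullback.fst ν g)).hom.app _ ≫
      (EtBC.pushCongrSh sq.w).hom.app _ ≫ (EtDesc.pushCompSh g (pullback.snd ν g)).inv.app _)) (op T)
  change IsIso (((EtDesc.pushSh ν).map ((EtDesc.adjSh (pullback.fst ν g)).unit.app F) ≫
      (EtDesc.pushCompSh ν (pullback.fst ν g)).hom.app _ ≫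
      (EtBC.pushCongrSh sq.w).hom.app _ ≫ (EtDesc.pushCompSh g (pullback.snd ν g)).inv.app _).hom.app
        (op T)) at happ
  have hc : ((EtDesc.pushSh ν).map ((EtDesc.adjSh (pullback.fst ν g)).unit.app F) ≫
      (EtDesc.pushCompSh ν (pullback.fst ν g)).hom.app _ ≫
      (EtBC.pushCongrSh sq.w).hom.app _ ≫ (EtDesc.pushCompSh g (pullback.snd ν g)).inv.app _).hom.app (op T) =
      ((EtDesc.adjSh (pullback.fst ν g)).unit.app F).hom.app (op ((EtCoh.bc ν).obj T)) ≫
        ((EtDesc.pullSh (pullback.fst ν g)).obj F).obj.map (BaseChange.cmp sq.w T).hom.op := by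
    simp only [EtDesc.pushCompSh, EtBC.pushCongrSh, BaseChange.cmp, op_comp, Functor.map_comp,
      Category.assoc]
    simp
  rw [hc] at happ
  haveI : IsIso (BaseChange.cmp sq.w T).hom := by
    dsimp only [BaseChange.cmp]; infer_instance
  haveI := happ
  have hu : IsIso (((EtDesc.adjSh (pullback.fst ν g)).unit.app F).hom.app (op ((EtCoh.bc ν).obj T))) :=
    IsIso.of_isIso_comp_right _
      (((EtDesc.pullSh (pullback.fst ν g)).obj F).obj.map (BaseChange.cmp sq.w T).hom.op)
  exact bijective_unitSh_of_iso _ F (EtCore.bcTopIso ν).symm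
    ((ConcreteCategory.isIso_iff_bijective _).1 hu)

end Groth.Agent.Lib.EtSite.ZeroAcycConn
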